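import Cfsg.Agent.L0.PcCert
import Cfsg.Agent.L0.Dw
import Cfsg.Agent.L0.HN.ChN

/-! Generated certificate: the `2`-part of a Schur multiplier. -/

set_option autoImplicit false
set_option maxRecDepth 100000

namespace Cfsg.Agent.L0.HNP2

noncomputable def W : List (List ℕ) := [
  dw (nat_lit 3) (nat_lit 7) (nat_lit 9) (nat_lit 0x466d269),
  dw (nat_lit 3) (nat_lit 7) (nat_lit 20) (nat_lit 0x4b489690489489),
  dw (nat_lit 3) (nat_lit 7) (nat_lit 16) (nat_lit 0xa10224b012e0),
  dw (nat_lit 3) (nat_lit 7) (nat_lit 23) (nat_lit 0x88291b1244a42d928),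
  dw (nat_lit 3) (nat_lit 7) (nat_lit 17) (nat_lit 0x3b5a40a699b13),
  dw (nat_lit 3) (nat_lit 7) (nat_lit 13) (nat_lit 0x90582ca5a),
  dw (nat_lit 3) (nat_lit 7) (nat_lit 17) (nat_lit 0x4a4b5b2248c8),
  dw (nat_lit 3) (nat_lit 7) (nat_lit 22) (nat_lit 0x20a513659194ca4e0),
  dw (nat_lit 3) (nat_lit 7) (nat_lit 17) (nat_lit 0x56926924894a4),
  dw (nat_lit 3) (nat_lit 7) (nat_lit 2) (nat_lit 0x0),
  dw (nat_lit 3) (nat_lit 7) (nat_lit 24) (nat_lit 0x20a409701b2c8d1052),
  dw (nat_lit 3) (nat_lit 7) (nat_lit 20) (nat_lit 0x90489112c08a089),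
  dw (nat_lit 3) (nat_lit 7) (nat_lit 15) (nat_lit 0xa0b2225bb45)]

noncomputable def P : PcP := ⟨nat_lit 2, nat_lit 1, nat_lit 9, nat_lit 0x401004010040100401004000080200802008020080200c04010040100601006000080200802c0b020030401306810068080a8390ec280084016042100ec300035c400, nat_lit 10, nat_lit 1023, nat_lit 12, nat_lit 4095, nat_lit 2, nat_lit 73, nat_lit 7, nat_lit 7⟩

noncomputable def fu : Fus := ⟨[nat_lit 706, nat_lit 256, nat_lit 64, nat_lit 16, nat_lit 4, nat_lit 2, nat_lit 1, nat_lit 512, nat_lit 64, nat_lit 32, nat_lit 8, nat_lit 4, nat_lit 2, nat_lit 1, nat_lit 256, nat_lit 4, nat_lit 2, nat_lit 1],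
  [nat_lit 80, nat_lit 126, nat_lit 670, nat_lit 12, nat_lit 4, nat_lit 2, nat_lit 1, nat_lit 121, nat_lit 602, nat_lit 18, nat_lit 3, nat_lit 36, nat_lit 10, nat_lit 1, nat_lit 19, nat_lit 6, nat_lit 2, nat_lit 1],
  [nat_lit 10, nat_lit 10, nat_lit 10, nat_lit 10, nat_lit 10, nat_lit 10, nat_lit 10, nat_lit 11, nat_lit 11, nat_lit 11, nat_lit 11, nat_lit 11, nat_lit 11, nat_lit 11, nat_lit 12, nat_lit 12, nat_lit 12, nat_lit 12]⟩

noncomputable def lam : List ℕ := [nat_lit 0x0,
  nat_lit 0x0,
  nat_lit 0x0,
  nat_lit 0x1000000000,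
  nat_lit 0x1000000001001000000001001001000,
  nat_lit 0x1000000001000000000000000000000,
  nat_lit 0x1000000000000000000000000000000,
  nat_lit 0x1001000001000001001000,
  nat_lit 0x1000000000000000000,
  nat_lit 0x1000000000001000000]

noncomputable def bs : List ℕ := []

noncomputable def mo : List ℕ := []

noncomputable def cv0 : List ℕ := [nat_lit 0x1000000000000000000000000,
  nat_lit 0x1000000000000000000000000000000000000000000000000000000000000000000000000000000000000000000000000000000000000000000000,
  nat_lit 0x1000000000000000000000000000000000000000000000000000000000000000000000000000,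
  nat_lit 0x1000000000000000000000000001000000000000000000000000000000000000000000000000000000000000000000000000000000000000000000000000000000000000000,
  nat_lit 0x1000000000000000000000000000000000000000000000000000000000000000000000000000000000000000000000000000000000000000000,
  nat_lit 0x1000000000000000000000000000000000000000000000000000000000000000000000000000000000000000000000000000000000000000000000000000000000000000000000000,
  nat_lit 0x1000000000000000000000000000000000000000000000000000000000000000000000000000000000000000000000000000000000000000000000000000000,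
  nat_lit 0x1000000000000000000000000000000000000000000000000000000000000000000000000000000000000000000000000000000000000000000000000000000000,
  nat_lit 0x1000000000000000000000000000000000000000000000000000000000000000000000000000000000000000000000000000000000000000000000000000000000000000000000000000000000000000,
  nat_lit 0x1000000000000000000000000000000000000000000000000000000000000000000000000000000,
  nat_lit 0x1000000000000000000000000000000000000000000000000000000000000000000000000000000000000000000000000000000,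
  nat_lit 0x1000000000000000000000000000000000000000000000000000000000000000000000000000000000000000000000000000000000000000000000000000000000000000000000000000000000]

noncomputable def cc0 : List Con := [
  ⟨nat_lit 1, nat_lit 2, nat_lit 2, [nat_lit 128], [], nthN cv0 (nat_lit 0)⟩,
  ⟨nat_lit 1, nat_lit 3, nat_lit 3, [nat_lit 64], [], nthN cv0 (nat_lit 1)⟩,
  ⟨nat_lit 1, nat_lit 4, nat_lit 4, [nat_lit 32], [], nthN cv0 (nat_lit 2)⟩,
  ⟨nat_lit 1, nat_lit 1, nat_lit 1, [nat_lit 256], [], nthN cv0 (nat_lit 3)⟩,
  ⟨nat_lit 0, nat_lit 2, nat_lit 3, [nat_lit 64], [], nthN cv0 (nat_lit 4)⟩,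
  ⟨nat_lit 1, nat_lit 2, nat_lit 2, [nat_lit 1], [], nthN cv0 (nat_lit 5)⟩,
  ⟨nat_lit 1, nat_lit 3, nat_lit 3, [nat_lit 8], [], nthN cv0 (nat_lit 6)⟩,
  ⟨nat_lit 1, nat_lit 3, nat_lit 3, [nat_lit 4], [], nthN cv0 (nat_lit 7)⟩,
  ⟨nat_lit 1, nat_lit 3, nat_lit 3, [nat_lit 1], [], nthN cv0 (nat_lit 8)⟩,
  ⟨nat_lit 1, nat_lit 4, nat_lit 4, [nat_lit 16], [], nthN cv0 (nat_lit 9)⟩,
  ⟨nat_lit 1, nat_lit 4, nat_lit 4, [nat_lit 4], [], nthN cv0 (nat_lit 10)⟩,
  ⟨nat_lit 1, nat_lit 4, nat_lit 4, [nat_lit 1], [], nthN cv0 (nat_lit 11)⟩]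

theorem con0 : allL cc0 (P.conOk fu) = true := by decide +kernel

noncomputable def cv1 : List ℕ := [nat_lit 0x1000000000000000000000000001000000000000000000000000000000000000000000000000000000000000000000000000000000000000000000000000000000000000000000000000000,
  nat_lit 0x1000000000000000000000000001000000000000000000000000000000000000000000000000000000000000000000000000000000000000000000000000000000000000000000000000000000000,
  nat_lit 0x1000000000000000000000001000000000000000000000000000000000000000000000000000000000000000000000000000000000000000000000000000000000000,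
  nat_lit 0x1000000000000000001000000000000000000000000000000000000000000000000000000000000000,
  nat_lit 0x1000000000000000000000000001000000000000000000000000000000000000000000000000000000000000000000000000000000000000000000000000000000000000000000000000,
  nat_lit 0x1000000000000000000000000000000000000000000000000000000000000000000000000000000000000000000000000000000001000000001000000000000000000,
  nat_lit 0x1000000000000000001000000000000000000001000000000000000000000000000000000000000000000000000000000000000000000000000000000000000000000,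
  nat_lit 0x1000000000000000000000000000000000000000000000000000000000000000000000000000000000000000001001000001000000000000000000,
  nat_lit 0x1001000001000000000000000000001000001000000000000000000000000000000000000000000000000000000000000000000000000000000000000000000000000000000000000000000000000000000,
  nat_lit 0x1001000000000000000000000000000000000000000000000000000000000000000000000000000000000000000000000000000,
  nat_lit 0x1001000000000000000000000000000000000000000000000000000000000000000000000000000000000000000000000000000000000000000000000000000,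
  nat_lit 0x1001000000000000000001000000001000000000000000001000000000000000000000000000000000000000001000000000000000000000000000000000000000000000000000000000000000000000000]

noncomputable def cc1 : List Con := [
  ⟨nat_lit 1, nat_lit 5, nat_lit 5, [nat_lit 16], [], nthN cv1 (nat_lit 0)⟩,
  ⟨nat_lit 1, nat_lit 7, nat_lit 7, [nat_lit 4], [], nthN cv1 (nat_lit 1)⟩,
  ⟨nat_lit 1, nat_lit 0, nat_lit 0, [nat_lit 64], [], nthN cv1 (nat_lit 2)⟩,
  ⟨nat_lit 1, nat_lit 0, nat_lit 0, [nat_lit 32], [], nthN cv1 (nat_lit 3)⟩,
  ⟨nat_lit 0, nat_lit 4, nat_lit 5, [nat_lit 16], [], nthN cv1 (nat_lit 4)⟩,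
  ⟨nat_lit 1, nat_lit 0, nat_lit 0, [nat_lit 128], [], nthN cv1 (nat_lit 5)⟩,
  ⟨nat_lit 1, nat_lit 2, nat_lit 2, [nat_lit 4], [], nthN cv1 (nat_lit 6)⟩,
  ⟨nat_lit 0, nat_lit 0, nat_lit 2, [nat_lit 128], [], nthN cv1 (nat_lit 7)⟩,
  ⟨nat_lit 0, nat_lit 1, nat_lit 6, [nat_lit 8], [], nthN cv1 (nat_lit 8)⟩,
  ⟨nat_lit 0, nat_lit 1, nat_lit 3, [nat_lit 4], [], nthN cv1 (nat_lit 9)⟩,
  ⟨nat_lit 0, nat_lit 1, nat_lit 3, [nat_lit 2], [], nthN cv1 (nat_lit 10)⟩,
  ⟨nat_lit 1, nat_lit 2, nat_lit 2, [nat_lit 8], [], nthN cv1 (nat_lit 11)⟩]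

theorem con1 : allL cc1 (P.conOk fu) = true := by decide +kernel

noncomputable def cv2 : List ℕ := [nat_lit 0x1000001000001000000000000000000000000000000000000001000001001000000000000000000000000000000000000000000000000000000000000000000000000,
  nat_lit 0x1001001000000000000000000001000000000000000000000000000000000000000000000000000000000000000000000000000000000000000000000000000000000000,
  nat_lit 0x1000000001001000000000000001000000000000000000000000000000000000000000000000000000000000000000000000000000000000000000000000000000000000000000,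
  nat_lit 0x1000001000000000000000001000000000000000000000000000000000000000000000000000000000000000000000000000000000000000000000000000000,
  nat_lit 0x1000000000000000000000000001000001000000000001000000000000000000000000000000001000000000001000000000000001000000000000000000000000000000000000000000000000000000,
  nat_lit 0x1000000000001001000000000000000000001000000000000000000000000000000000000000000001001001000001000000001001000000000000000000000000000000000000000000000000000000000,
  nat_lit 0x1000000000001000000000000000001000000001000000000001000000000000000000000000000001001000001000000000001000001000000000000000000000000000000000000000000000000000000,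
  nat_lit 0x1001000000001001000000000000001000000001001000000000000000000000000000000000000001001001000000001000001001000000000000000000000000000000000000000000000000000000000,
  nat_lit 0x1001000000000000000000000000000000001001001000001000000000001001001000000000000000000000000000000000000000000000000000000000000000000000000000000000000000000000,
  nat_lit 0x1001000000001000000001000000000000000000000000000000000000000000000000001001000000001000000001000000001000000000001000000000000000000000000000000000000000,
  nat_lit 0x1001000000000000001000000000001000000000000001000000000000000000000000000000000001001000000000001000001000000000001000000000000000000000000000000000000000000000000,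
  nat_lit 0x1000000001000000000000000001001000001001000001000000000000000000000000000000000000000000000001000001000000001000000001000001000000000000000000000000000000000000000]

noncomputable def cc2 : List Con := [
  ⟨nat_lit 0, nat_lit 3, nat_lit 4, [nat_lit 32], [], nthN cv2 (nat_lit 0)⟩,
  ⟨nat_lit 0, nat_lit 0, nat_lit 7, [nat_lit 4], [], nthN cv2 (nat_lit 1)⟩,
  ⟨nat_lit 0, nat_lit 2, nat_lit 7, [nat_lit 4], [], nthN cv2 (nat_lit 2)⟩,
  ⟨nat_lit 0, nat_lit 0, nat_lit 4, [nat_lit 4], [], nthN cv2 (nat_lit 3)⟩,
  ⟨nat_lit 1, nat_lit 2, nat_lit 2, [nat_lit 16], [], nthN cv2 (nat_lit 4)⟩,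
  ⟨nat_lit 0, nat_lit 2, nat_lit 4, [nat_lit 32], [], nthN cv2 (nat_lit 5)⟩,
  ⟨nat_lit 0, nat_lit 1, nat_lit 3, [nat_lit 64], [], nthN cv2 (nat_lit 6)⟩,
  ⟨nat_lit 0, nat_lit 1, nat_lit 4, [nat_lit 32], [], nthN cv2 (nat_lit 7)⟩,
  ⟨nat_lit 0, nat_lit 0, nat_lit 1, [nat_lit 4], [], nthN cv2 (nat_lit 8)⟩,
  ⟨nat_lit 1, nat_lit 2, nat_lit 2, [nat_lit 32], [], nthN cv2 (nat_lit 9)⟩,
  ⟨nat_lit 1, nat_lit 1, nat_lit 1, [nat_lit 64], [], nthN cv2 (nat_lit 10)⟩,
  ⟨nat_lit 0, nat_lit 0, nat_lit 2, [nat_lit 32], [], nthN cv2 (nat_lit 11)⟩]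

theorem con2 : allL cc2 (P.conOk fu) = true := by decide +kernel

noncomputable def cv3 : List ℕ := [nat_lit 0x1000000000000001000000001001000001000001000000000000000000000000000000000000000001001000000000000001001001000000001001001000000001001000000001000000000000000000,
  nat_lit 0x1000000000001000000000000001001001000000001000000000001001000001001001000000000000001000001000000000001001000000000001001001000000001001001000000000000000000000,
  nat_lit 0x1000000000000000001000001001001000001001000000000000001000000000000000000000000000001000000000000000000000001000001000001001000001000001000001000000000000000000000,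
  nat_lit 0x1000000000001000000001000000000001000001000000001001000001001000001000001001001001000001000001001000000000000001001000001000001000001000000000000000000000,
  nat_lit 0x1001000000000001000000001001000001000000000000000000001000001000000000001001000000001000000001000001001001000000000000001000001000001001001000000000000000000,
  nat_lit 0x1001000000000000000000000000000000000000000000000000000000000000000000000000000000000000000000000000000000000000000000000000000000000000000000000000000000000000000000000000000000000000,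
  nat_lit 0x1001000000000000000000000000000000000000000000000000000000000000000000000000001001000000000000000000001000000000000000000001000000000000000000000000000000000000000000000000000000000000,
  nat_lit 0x1001001001001000001000000000000000000000000000000000000000000000000000000000000000000000000000000000000000000000000000000000000000,
  nat_lit 0x1000000000000000001000000000001000000000000000001000000001000001001000001000000000000000000000000000000000000000000000001000001000000000000000000000000001000000001001000001000000001]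

noncomputable def cc3 : List Con := [
  ⟨nat_lit 1, nat_lit 0, nat_lit 0, [nat_lit 256], [], nthN cv3 (nat_lit 0)⟩,
  ⟨nat_lit 0, nat_lit 1, nat_lit 2, [nat_lit 128], [], nthN cv3 (nat_lit 1)⟩,
  ⟨nat_lit 0, nat_lit 0, nat_lit 1, [nat_lit 256], [], nthN cv3 (nat_lit 2)⟩,
  ⟨nat_lit 1, nat_lit 1, nat_lit 1, [nat_lit 128], [], nthN cv3 (nat_lit 3)⟩,
  ⟨nat_lit 0, nat_lit 0, nat_lit 1, [nat_lit 128], [], nthN cv3 (nat_lit 4)⟩,
  ⟨nat_lit 2, nat_lit 10, nat_lit 0, [nat_lit 4, nat_lit 4], [nat_lit 5, nat_lit 6], nthN cv3 (nat_lit 5)⟩,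
  ⟨nat_lit 2, nat_lit 10, nat_lit 0, [nat_lit 3, nat_lit 3], [nat_lit 5, nat_lit 6], nthN cv3 (nat_lit 6)⟩,
  ⟨nat_lit 2, nat_lit 10, nat_lit 0, [nat_lit 5, nat_lit 1], [nat_lit 1, nat_lit 5], nthN cv3 (nat_lit 7)⟩,
  ⟨nat_lit 2, nat_lit 10, nat_lit 0, [nat_lit 0, nat_lit 0], [nat_lit 5], nthN cv3 (nat_lit 8)⟩]

theorem con3 : allL cc3 (P.conOk fu) = true := by decide +kernel

noncomputable def cv4 : List ℕ := [nat_lit 0x1001000000000000000001001000000001001000000000000001001000000001001000000000001001001001001000000000000001000001000000000001001001000000000001001000000000001000000000000000000001000000,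
  nat_lit 0x1000000000000000000001000000000000000000000000000001001001000001001000000000000001000001000000000001001000001001000000000000001001000001000000000000000000000000000000000000000000000,
  nat_lit 0x1001000000000000000000000000000000000000000000000000000000000000000000000000000000000000000000000000000000001000000000000000000000000000000000000000000000000000001000000000000000000000000000000000000000000,
  nat_lit 0x1000000000000000000000000000000000000000000000000000000000000001000000001000000000000000000000000000000000000000000000000000000000000001000000000000000001000000000000000000000000000000000000000000,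
  nat_lit 0x1000001000001001000000000000001001000000000000001001000001001000000000000001000000000000000001000000001000000000000000000000000000000,
  nat_lit 0x1000000000000000000000000000000000000001000000000001000000000000000001000001001000001000000001000000000000000000000000001000000000000000001001000001000000001000000000000000000000000001000000000000000001,
  nat_lit 0x1000001000000001000000000000000001001000000000000000000000000000000000000000000001000001000000000001001001000000000001001000000000001000000000000000000000000001,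
  nat_lit 0x1001000000000000000000000000000000000000000000000000000000000000000000000000000000001001000000000000000000000000000000000000000000000000000000000000000000000000000000000000000000000000000000000000000000000000000000000,
  nat_lit 0x1001000000000000000000000000000000000000000000000000001001000000001000000000000000001000000001000000000000000000000000000000000000000000000000000000000000001000000000000000000000000000000000000000000000000000001000000]

noncomputable def cc4 : List Con := [
  ⟨nat_lit 2, nat_lit 10, nat_lit 0, [nat_lit 1, nat_lit 1], [nat_lit 5, nat_lit 6], nthN cv4 (nat_lit 0)⟩,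
  ⟨nat_lit 2, nat_lit 10, nat_lit 0, [nat_lit 2, nat_lit 0], [nat_lit 0, nat_lit 2, nat_lit 5], nthN cv4 (nat_lit 1)⟩,
  ⟨nat_lit 2, nat_lit 11, nat_lit 0, [nat_lit 11, nat_lit 11], [nat_lit 12, nat_lit 13], nthN cv4 (nat_lit 2)⟩,
  ⟨nat_lit 2, nat_lit 11, nat_lit 0, [nat_lit 9, nat_lit 9], [nat_lit 10], nthN cv4 (nat_lit 3)⟩,
  ⟨nat_lit 2, nat_lit 11, nat_lit 0, [nat_lit 11, nat_lit 8], [nat_lit 8, nat_lit 11], nthN cv4 (nat_lit 4)⟩,
  ⟨nat_lit 2, nat_lit 11, nat_lit 0, [nat_lit 8, nat_lit 8], [nat_lit 12], nthN cv4 (nat_lit 5)⟩,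
  ⟨nat_lit 2, nat_lit 11, nat_lit 0, [nat_lit 7, nat_lit 7], [], nthN cv4 (nat_lit 6)⟩,
  ⟨nat_lit 2, nat_lit 12, nat_lit 0, [nat_lit 15, nat_lit 15], [nat_lit 16, nat_lit 17], nthN cv4 (nat_lit 7)⟩,
  ⟨nat_lit 2, nat_lit 12, nat_lit 0, [nat_lit 14, nat_lit 14], [nat_lit 16, nat_lit 17], nthN cv4 (nat_lit 8)⟩]

theorem con4 : allL cc4 (P.conOk fu) = true := by decide +kernel

noncomputable def CV : List (List ℕ) := [cv0, cv1, cv2, cv3, cv4]

noncomputable def MU : List (List ℕ) := [[nat_lit 0x382c010d9b24e5],
  [nat_lit 0,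
  nat_lit 0],
  [nat_lit 0,
  nat_lit 0,
  nat_lit 0x387c0b1f67a8b4],
  [nat_lit 0,
  nat_lit 0,
  nat_lit 0x1,
  nat_lit 0x80003],
  [nat_lit 0,
  nat_lit 0x2445834020ca,
  nat_lit 0x32090315848203,
  nat_lit 0x302c191111a030,
  nat_lit 0x1820099961],
  [nat_lit 0x302c11034b60a1,
  nat_lit 0x804f90a15f7,
  nat_lit 0x30241b4401a036,
  nat_lit 0x30080041400346,
  nat_lit 0x800790b05d1,
  nat_lit 0x300000001a18c3],
  [nat_lit 0xd908cc4,
  nat_lit 0x300800f4900b92,
  nat_lit 0x3008005cda0ed1,
  nat_lit 0x49a08c3,
  nat_lit 0x4,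
  nat_lit 0x200,
  nat_lit 0xd900cc4],
  [nat_lit 0x322419693aa5e3,
  nat_lit 0x6c53771349c,
  nat_lit 0x32232345a487d4,
  nat_lit 0xe0013,
  nat_lit 0x801002e2553,
  nat_lit 0x200400,
  nat_lit 0x400,
  nat_lit 0x3006000d8a1007],
  [nat_lit 0xa4003,
  nat_lit 0x800084004c2,
  nat_lit 0x10,
  nat_lit 0x2,
  nat_lit 0x8000440,
  nat_lit 0x400040,
  nat_lit 0x40,
  nat_lit 0x80,
  nat_lit 0xa0003],
  [nat_lit 0x2004080,
  nat_lit 0x800084004ca,
  nat_lit 0x40a0093,
  nat_lit 0x20,
  nat_lit 0x8010440,
  nat_lit 0x401040,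
  nat_lit 0x800,
  nat_lit 0x2080,
  nat_lit 0x100,
  nat_lit 0x1a0943]]

noncomputable def lv : List (List (List ℕ) × ℕ × List (ℕ × List ℕ)) := [
  ([[nat_lit 1], [nat_lit 4], [nat_lit 5], [nat_lit 6], [nat_lit 7], [nat_lit 9]], nat_lit 27, [(nat_lit 27, []), (nat_lit 40, [nat_lit 5, nat_lit 4]), (nat_lit 49, [nat_lit 4]), (nat_lit 55, [nat_lit 4, nat_lit 0]), (nat_lit 69, [nat_lit 2, nat_lit 1]), (nat_lit 80, [nat_lit 5]), (nat_lit 86, [nat_lit 0]), (nat_lit 100, [nat_lit 5, nat_lit 4, nat_lit 2, nat_lit 1]), (nat_lit 108, [nat_lit 5, nat_lit 0]), (nat_lit 122, [nat_lit 4, nat_lit 2, nat_lit 1]), (nat_lit 184, [nat_lit 4, nat_lit 2]), (nat_lit 186, [nat_lit 4, nat_lit 3, nat_lit 0, nat_lit 1]), (nat_lit 193, [nat_lit 5, nat_lit 4, nat_lit 0]), (nat_lit 207, [nat_lit 5, nat_lit 2, nat_lit 1]), (nat_lit 269, [nat_lit 2]), (nat_lit 271, [nat_lit 3, nat_lit 0, nat_lit 1]), (nat_lit 328, [nat_lit 5, nat_lit 2]), (nat_lit 330, [nat_lit 2, nat_lit 1, nat_lit 0]), (nat_lit 336, [nat_lit 4, nat_lit 2, nat_lit 0]), (nat_lit 356, [nat_lit 5,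 nat_lit 3]), (nat_lit 357, [nat_lit 4, nat_lit 1, nat_lit 0, nat_lit 3]), (nat_lit 430, [nat_lit 3]), (nat_lit 436, [nat_lit 5, nat_lit 3, nat_lit 1]), (nat_lit 445, [nat_lit 5, nat_lit 0, nat_lit 1, nat_lit 0]), (nat_lit 465, [nat_lit 4, nat_lit 3, nat_lit 2, nat_lit 0]), (nat_lit 520, [nat_lit 5, nat_lit 4, nat_lit 2]), (nat_lit 522, [nat_lit 4, nat_lit 2, nat_lit 1, nat_lit 0]), (nat_lit 526, [nat_lit 2, nat_lit 0]), (nat_lit 545, [nat_lit 4, nat_lit 3]), (nat_lit 546, [nat_lit 1, nat_lit 0, nat_lit 3]), (nat_lit 612, [nat_lit 5, nat_lit 4, nat_lit 3]), (nat_lit 617, [nat_lit 4, nat_lit 3, nat_lit 1]), (nat_lit 625, [nat_lit 4, nat_lit 0, nat_lit 1, nat_lit 0]), (nat_lit 645, [nat_lit 3, nat_lit 2, nat_lit 0]), (nat_lit 647, [nat_lit 5, nat_lit 2, nat_lit 0]), (nat_lit 667, [nat_lit 3, nat_lit 1, nat_lit 0]), (nat_lit 720, [nat_lit 5, nat_lit 4, nat_lit 3, nat_lit 1]), (nat_lit 727, [nat_lit 5, nat_lit 4, nat_lit 0, nat_lit 1, nat_lit 0]), (nat_lit 742, [nat_lit 0, nat_lit 3, nat_lit 2]), (nat_lit 750, [nat_lit 3, nat_lit 2]), (nat_lit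 820, [nat_lit 5, nat_lit 4, nat_lit 2, nat_lit 0]), (nat_lit 863, [nat_lit 5, nat_lit 4, nat_lit 1]), (nat_lit 867, [nat_lit 4, nat_lit 1]), (nat_lit 874, [nat_lit 4, nat_lit 0, nat_lit 3, nat_lit 2]), (nat_lit 917, [nat_lit 4, nat_lit 0, nat_lit 1]), (nat_lit 926, [nat_lit 4, nat_lit 3, nat_lit 1, nat_lit 0]), (nat_lit 960, [nat_lit 5, nat_lit 1, nat_lit 0]), (nat_lit 962, [nat_lit 3, nat_lit 1]), (nat_lit 1013, [nat_lit 0, nat_lit 1, nat_lit 0]), (nat_lit 1026, [nat_lit 5, nat_lit 4, nat_lit 3, nat_lit 2]), (nat_lit 1093, [nat_lit 5, nat_lit 1]), (nat_lit 1097, [nat_lit 1]), (nat_lit 1132, [nat_lit 0, nat_lit 1]), (nat_lit 1162, [nat_lit 4, nat_lit 1, nat_lit 0]), (nat_lit 1165, [nat_lit 4, nat_lit 3, nat_lit 2]), (nat_lit 1206, [nat_lit 5, nat_lit 0, nat_lit 1]), (nat_lit 1217, [nat_lit 5, nat_lit 4, nat_lit 1, nat_lit 0]), (nat_lit 1224, [nat_lit 5, nat_lit 4, nat_lit 0, nat_lit 1]), (nat_lit 1258, [nat_lit 4, nat_lit 0, nat_lit 3]), (nat_lit 1262, [nat_lit 5, nat_lit 3, nat_lit 2]), (nat_lit 1297, [nat_lit 4, nat_lit 3, nat_lit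 0]), (nat_lit 1312, [nat_lit 0, nat_lit 3]), (nat_lit 1331, [nat_lit 3, nat_lit 0]), (nat_lit 1367, [nat_lit 1, nat_lit 0])]),
  ([[nat_lit 2], [nat_lit 3], [nat_lit 8]], nat_lit 2, [(nat_lit 2, []), (nat_lit 79, [nat_lit 2]), (nat_lit 159, [nat_lit 2, nat_lit 1]), (nat_lit 381, [nat_lit 0]), (nat_lit 395, [nat_lit 1]), (nat_lit 409, [nat_lit 2, nat_lit 0]), (nat_lit 416, [nat_lit 1, nat_lit 0]), (nat_lit 772, [nat_lit 2, nat_lit 1, nat_lit 0])]),
  ([[nat_lit 0]], nat_lit 0, [(nat_lit 0, []), (nat_lit 71, [nat_lit 0])])]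

theorem rel0 : P.relRow (dT HNN.T W) HNChN.B 0 = true := by decide +kernel
theorem rel1 : P.relRow (dT HNN.T W) HNChN.B 1 = true := by decide +kernel
theorem rel2 : P.relRow (dT HNN.T W) HNChN.B 2 = true := by decide +kernel
theorem rel3 : P.relRow (dT HNN.T W) HNChN.B 3 = true := by decide +kernel
theorem rel4 : P.relRow (dT HNN.T W) HNChN.B 4 = true := by decide +kernel
theorem rel5 : P.relRow (dT HNN.T W) HNChN.B 5 = true := by decide +kernel
theorem rel6 : P.relRow (dT HNN.T W) HNChN.B 6 = true := by decide +kernel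
theorem rel7 : P.relRow (dT HNN.T W) HNChN.B 7 = true := by decide +kernel
theorem rel8 : P.relRow (dT HNN.T W) HNChN.B 8 = true := by decide +kernel
theorem rel9 : P.relRow (dT HNN.T W) HNChN.B 9 = true := by decide +kernel
theorem fus0 : P.fusOk (dT HNN.T W) HNChN.B fu 0 = true := by decide +kernel
theorem fus1 : P.fusOk (dT HNN.T W) HNChN.B fu 1 = true := by decide +kernel
theorem fus2 : P.fusOk (dT HNN.T W) HNChN.B fu 2 = true := by decide +kernel
theorem fus3 : P.fusOk (dT HNN.T W) HNChN.B fu 3 = true := by decide +kernel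
theorem fus4 : P.fusOk (dT HNN.T W) HNChN.B fu 4 = true := by decide +kernel
theorem fus5 : P.fusOk (dT HNN.T W) HNChN.B fu 5 = true := by decide +kernel
theorem fus6 : P.fusOk (dT HNN.T W) HNChN.B fu 6 = true := by decide +kernel
theorem fus7 : P.fusOk (dT HNN.T W) HNChN.B fu 7 = true := by decide +kernel
theorem fus8 : P.fusOk (dT HNN.T W) HNChN.B fu 8 = true := by decide +kernel
theorem fus9 : P.fusOk (dT HNN.T W) HNChN.B fu 9 = true := by decide +kernel
theorem fus10 : P.fusOk (dT HNN.T W) HNChN.B fu 10 = true := by decide +kernel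
theorem fus11 : P.fusOk (dT HNN.T W) HNChN.B fu 11 = true := by decide +kernel
theorem fus12 : P.fusOk (dT HNN.T W) HNChN.B fu 12 = true := by decide +kernel
theorem fus13 : P.fusOk (dT HNN.T W) HNChN.B fu 13 = true := by decide +kernel
theorem fus14 : P.fusOk (dT HNN.T W) HNChN.B fu 14 = true := by decide +kernel
theorem fus15 : P.fusOk (dT HNN.T W) HNChN.B fu 15 = true := by decide +kernel
theorem fus16 : P.fusOk (dT HNN.T W) HNChN.B fu 16 = true := by decide +kernel
theorem fus17 : P.fusOk (dT HNN.T W) HNChN.B fu 17 = true := by decide +kernel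
theorem fin0 : P.finRow lam (bs :: CV) MU 0 = true := by decide +kernel
theorem fin1 : P.finRow lam (bs :: CV) MU 1 = true := by decide +kernel
theorem fin2 : P.finRow lam (bs :: CV) MU 2 = true := by decide +kernel
theorem fin3 : P.finRow lam (bs :: CV) MU 3 = true := by decide +kernel
theorem fin4 : P.finRow lam (bs :: CV) MU 4 = true := by decide +kernel
theorem fin5 : P.finRow lam (bs :: CV) MU 5 = true := by decide +kernel
theorem fin6 : P.finRow lam (bs :: CV) MU 6 = true := by decide +kernel
theorem fin7 : P.finRow lam (bs :: CV) MU 7 = true := by decide +kernel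
theorem fin8 : P.finRow lam (bs :: CV) MU 8 = true := by decide +kernel
theorem fin9 : P.finRow lam (bs :: CV) MU 9 = true := by decide +kernel

theorem pm {G : Type*} [Group G] [Finite G] {A : RAct G 1408} {g : ℕ → G} (hb : A.IsBase HNChN.B)
    (h : A.Tab g 6 HNN.T) (ho : Nat.card G = 88704000) : PMult G 2 0 0 :=
  pmult_of_tab hb h ho P (show Nat.Prime 2 by norm_num) W fu 0 lam bs mo [cc0, cc1, cc2, cc3, cc4] CV MU lv 18
    (by decide +kernel) (forall_lt_succ' (forall_lt_succ' (forall_lt_succ' (forall_lt_succ' (forall_lt_succ' (forall_lt_succ' (forall_lt_succ' (forall_lt_succ' (forall_lt_succ' (forall_lt_succ' forall_lt_zero' rel0) rel1) rel2) rel3) rel4) rel5) rel6) rel7) rel8) rel9) (by decide +kernel)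
    (forall_lt_succ' (forall_lt_succ' (forall_lt_succ' (forall_lt_succ' (forall_lt_succ' (forall_lt_succ' (forall_lt_succ' (forall_lt_succ' (forall_lt_succ' (forall_lt_succ' (forall_lt_succ' (forall_lt_succ' (forall_lt_succ' (forall_lt_succ' (forall_lt_succ' (forall_lt_succ' (forall_lt_succ' (forall_lt_succ' forall_lt_zero' fus0) fus1) fus2) fus3) fus4) fus5) fus6) fus7) fus8) fus9) fus10) fus11) fus12) fus13) fus14) fus15) fus16) fus17)
    (by decide +kernel) (by decide +kernel) (by decide +kernel) (by decide +kernel)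
    (List.forall_mem_cons.mpr ⟨con0, (List.forall_mem_cons.mpr ⟨con1, (List.forall_mem_cons.mpr ⟨con2, (List.forall_mem_cons.mpr ⟨con3, (List.forall_mem_cons.mpr ⟨con4, (by simp)⟩)⟩)⟩)⟩)⟩)
    (forall_lt_succ' (forall_lt_succ' (forall_lt_succ' (forall_lt_succ' (forall_lt_succ' (forall_lt_succ' (forall_lt_succ' (forall_lt_succ' (forall_lt_succ' (forall_lt_succ' forall_lt_zero' fin0) fin1) fin2) fin3) fin4) fin5) fin6) fin7) fin8) fin9) (by decide +kernel)

end Cfsg.Agent.L0.HNP2
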