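import Cfsg.Agent.L0.PcCert
import Cfsg.Agent.L0.Dw
import Cfsg.Agent.L0.Ly.Ch

/-! Generated certificate: the `2`-part of a Schur multiplier. -/

set_option autoImplicit false
set_option maxRecDepth 100000

namespace Cfsg.Agent.L0.LyP2

noncomputable def W : List (List ℕ) := [
  dw (nat_lit 5) (nat_lit 31) (nat_lit 10) (nat_lit 0x1106104d88e02),
  dw (nat_lit 5) (nat_lit 31) (nat_lit 11) (nat_lit 0xe019da77b080),
  dw (nat_lit 5) (nat_lit 31) (nat_lit 10) (nat_lit 0x4880cc1b124),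
  dw (nat_lit 5) (nat_lit 31) (nat_lit 7) (nat_lit 0x400023424),
  dw (nat_lit 5) (nat_lit 31) (nat_lit 10) (nat_lit 0x2040d0768601),
  dw (nat_lit 5) (nat_lit 31) (nat_lit 10) (nat_lit 0x22540c402c42),
  dw (nat_lit 5) (nat_lit 31) (nat_lit 10) (nat_lit 0x4481e360420),
  dw (nat_lit 5) (nat_lit 31) (nat_lit 9) (nat_lit 0x1088621920c),
  dw (nat_lit 5) (nat_lit 31) (nat_lit 10) (nat_lit 0x1a4120ed20cc0)]

noncomputable def P : PcP := ⟨nat_lit 2, nat_lit 1, nat_lit 5, nat_lit 0x410410410c20c30451c5008200600, nat_lit 6, nat_lit 63, nat_lit 10, nat_lit 1023, nat_lit 2, nat_lit 30, nat_lit 5, nat_lit 5⟩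

noncomputable def fu : Fus := ⟨[nat_lit 32, nat_lit 8, nat_lit 2, nat_lit 1, nat_lit 8, nat_lit 4, nat_lit 1, nat_lit 16, nat_lit 8],
  [nat_lit 14, nat_lit 37, nat_lit 2, nat_lit 1, nat_lit 34, nat_lit 2, nat_lit 1, nat_lit 35, nat_lit 1],
  [nat_lit 6, nat_lit 6, nat_lit 6, nat_lit 6, nat_lit 7, nat_lit 7, nat_lit 7, nat_lit 8, nat_lit 8]⟩

noncomputable def lam : List ℕ := [nat_lit 0x0,
  nat_lit 0x0,
  nat_lit 0x400,
  nat_lit 0x0,
  nat_lit 0x401000000000000000,
  nat_lit 0x1000000000000000]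

noncomputable def bs : List ℕ := []

noncomputable def mo : List ℕ := []

noncomputable def cv0 : List ℕ := [nat_lit 0x1000000000000000000000000000000000000000000000,
  nat_lit 0x400000000000000000000000000000000000000000000000,
  nat_lit 0x4000000000000000000000000000000000000000000,
  nat_lit 0x4010000000000,
  nat_lit 0x4000040000000,
  nat_lit 0x100000000000040000000000000000000000000000000000000,
  nat_lit 0x100000000010000000000000000000000000000000000000000,
  nat_lit 0x100000004000000000000000000000000000000000000000000,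
  nat_lit 0x400000010000100000004000000000000000000000000000,
  nat_lit 0x1000010000100400000000000000000000000000000000,
  nat_lit 0x10040000001000000000000000000000000000000,
  nat_lit 0x10040000001000010000100000000000000000000]

noncomputable def cc0 : List Con := [
  ⟨nat_lit 1, nat_lit 3, nat_lit 3, [nat_lit 4], [], nthN cv0 (nat_lit 0)⟩,
  ⟨nat_lit 1, nat_lit 4, nat_lit 4, [nat_lit 2], [], nthN cv0 (nat_lit 1)⟩,
  ⟨nat_lit 0, nat_lit 2, nat_lit 4, [nat_lit 2], [], nthN cv0 (nat_lit 2)⟩,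
  ⟨nat_lit 0, nat_lit 0, nat_lit 1, [nat_lit 16], [], nthN cv0 (nat_lit 3)⟩,
  ⟨nat_lit 1, nat_lit 0, nat_lit 0, [nat_lit 16], [], nthN cv0 (nat_lit 4)⟩,
  ⟨nat_lit 1, nat_lit 0, nat_lit 0, [nat_lit 4], [], nthN cv0 (nat_lit 5)⟩,
  ⟨nat_lit 1, nat_lit 1, nat_lit 1, [nat_lit 2], [], nthN cv0 (nat_lit 6)⟩,
  ⟨nat_lit 1, nat_lit 2, nat_lit 2, [nat_lit 4], [], nthN cv0 (nat_lit 7)⟩,
  ⟨nat_lit 1, nat_lit 1, nat_lit 1, [nat_lit 4], [], nthN cv0 (nat_lit 8)⟩,
  ⟨nat_lit 0, nat_lit 1, nat_lit 3, [nat_lit 4], [], nthN cv0 (nat_lit 9)⟩,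
  ⟨nat_lit 0, nat_lit 0, nat_lit 1, [nat_lit 2], [], nthN cv0 (nat_lit 10)⟩,
  ⟨nat_lit 0, nat_lit 0, nat_lit 1, [nat_lit 4], [], nthN cv0 (nat_lit 11)⟩]

theorem con0 : allL cc0 (P.conOk fu) = true := by decide +kernel

noncomputable def cv1 : List ℕ := [nat_lit 0x1000000000000000000000000000000000000000000000000000000000000,
  nat_lit 0x40000000000000040000001004000000000001,
  nat_lit 0x100401000000000000401000010000000000000000000000000,
  nat_lit 0x401000000000100401000000040100000004000000000001,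
  nat_lit 0x40000000000000000000000000000000100000000000040000000000000000000000,
  nat_lit 0x100400000000000100000000010000000000004000000000001,
  nat_lit 0x100000000000000000000000000000000000004000000000000,
  nat_lit 0x40100000000010000000000000000000100001]

noncomputable def cc1 : List Con := [
  ⟨nat_lit 2, nat_lit 6, nat_lit 0, [nat_lit 2, nat_lit 2], [nat_lit 3], nthN cv1 (nat_lit 0)⟩,
  ⟨nat_lit 2, nat_lit 6, nat_lit 0, [nat_lit 1, nat_lit 1], [], nthN cv1 (nat_lit 1)⟩,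
  ⟨nat_lit 2, nat_lit 6, nat_lit 0, [nat_lit 2, nat_lit 1], [nat_lit 1, nat_lit 2], nthN cv1 (nat_lit 2)⟩,
  ⟨nat_lit 2, nat_lit 6, nat_lit 0, [nat_lit 0, nat_lit 0], [], nthN cv1 (nat_lit 3)⟩,
  ⟨nat_lit 2, nat_lit 7, nat_lit 0, [nat_lit 5, nat_lit 5], [nat_lit 6], nthN cv1 (nat_lit 4)⟩,
  ⟨nat_lit 2, nat_lit 7, nat_lit 0, [nat_lit 4, nat_lit 4], [], nthN cv1 (nat_lit 5)⟩,
  ⟨nat_lit 2, nat_lit 8, nat_lit 0, [nat_lit 8, nat_lit 8], [], nthN cv1 (nat_lit 6)⟩,
  ⟨nat_lit 2, nat_lit 8, nat_lit 0, [nat_lit 7, nat_lit 7], [], nthN cv1 (nat_lit 7)⟩]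

theorem con1 : allL cc1 (P.conOk fu) = true := by decide +kernel

noncomputable def CV : List (List ℕ) := [cv0, cv1]

noncomputable def MU : List (List ℕ) := [[nat_lit 0x64620],
  [nat_lit 0,
  nat_lit 0xe00a6],
  [nat_lit 0x40094,
  nat_lit 0x4008c,
  nat_lit 0x40084],
  [nat_lit 0,
  nat_lit 0,
  nat_lit 0xa602,
  nat_lit 0x26600],
  [nat_lit 0xaa02,
  nat_lit 0xede6,
  nat_lit 0x460,
  nat_lit 0xeee5,
  nat_lit 0xec20],
  [nat_lit 0xa4,
  nat_lit 0xc4,
  nat_lit 0x4,
  nat_lit 0x1,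
  nat_lit 0x2,
  nat_lit 0x84]]

noncomputable def lv : List (List (List ℕ) × ℕ × List (ℕ × List ℕ)) := [
  ([[nat_lit 3], [nat_lit 4], [nat_lit 5]], nat_lit 317, [(nat_lit 317, []), (nat_lit 452, [nat_lit 1, nat_lit 0]), (nat_lit 609, [nat_lit 2, nat_lit 1]), (nat_lit 1008, [nat_lit 2, nat_lit 0]), (nat_lit 1094, [nat_lit 0]), (nat_lit 1325, [nat_lit 0, nat_lit 1]), (nat_lit 1474, [nat_lit 1]), (nat_lit 3178, [nat_lit 2])]),
  ([[nat_lit 1], [nat_lit 2]], nat_lit 3, [(nat_lit 3, []), (nat_lit 1507, [nat_lit 1, nat_lit 0]), (nat_lit 2941, [nat_lit 0]), (nat_lit 3155, [nat_lit 1])]),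
  ([[nat_lit 0]], nat_lit 0, [(nat_lit 0, []), (nat_lit 2266, [nat_lit 0])])]

theorem rel0 : P.relRow (dT LyAct.T W) LyCh.B 0 = true := by decide +kernel
theorem rel1 : P.relRow (dT LyAct.T W) LyCh.B 1 = true := by decide +kernel
theorem rel2 : P.relRow (dT LyAct.T W) LyCh.B 2 = true := by decide +kernel
theorem rel3 : P.relRow (dT LyAct.T W) LyCh.B 3 = true := by decide +kernel
theorem rel4 : P.relRow (dT LyAct.T W) LyCh.B 4 = true := by decide +kernel
theorem rel5 : P.relRow (dT LyAct.T W) LyCh.B 5 = true := by decide +kernel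
theorem fus0 : P.fusOk (dT LyAct.T W) LyCh.B fu 0 = true := by decide +kernel
theorem fus1 : P.fusOk (dT LyAct.T W) LyCh.B fu 1 = true := by decide +kernel
theorem fus2 : P.fusOk (dT LyAct.T W) LyCh.B fu 2 = true := by decide +kernel
theorem fus3 : P.fusOk (dT LyAct.T W) LyCh.B fu 3 = true := by decide +kernel
theorem fus4 : P.fusOk (dT LyAct.T W) LyCh.B fu 4 = true := by decide +kernel
theorem fus5 : P.fusOk (dT LyAct.T W) LyCh.B fu 5 = true := by decide +kernel
theorem fus6 : P.fusOk (dT LyAct.T W) LyCh.B fu 6 = true := by decide +kernel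
theorem fus7 : P.fusOk (dT LyAct.T W) LyCh.B fu 7 = true := by decide +kernel
theorem fus8 : P.fusOk (dT LyAct.T W) LyCh.B fu 8 = true := by decide +kernel
theorem fin0 : P.finRow lam (bs :: CV) MU 0 = true := by decide +kernel
theorem fin1 : P.finRow lam (bs :: CV) MU 1 = true := by decide +kernel
theorem fin2 : P.finRow lam (bs :: CV) MU 2 = true := by decide +kernel
theorem fin3 : P.finRow lam (bs :: CV) MU 3 = true := by decide +kernel
theorem fin4 : P.finRow lam (bs :: CV) MU 4 = true := by decide +kernel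
theorem fin5 : P.finRow lam (bs :: CV) MU 5 = true := by decide +kernel

theorem pm {G : Type*} [Group G] [Finite G] {A : RAct G 3906} {g : ℕ → G} (hb : A.IsBase LyCh.B)
    (h : A.Tab g 19 LyAct.T) (ho : Nat.card G = 5859000000) : PMult G 2 0 0 :=
  pmult_of_tab hb h ho P (show Nat.Prime 2 by norm_num) W fu 0 lam bs mo [cc0, cc1] CV MU lv 9
    (by decide +kernel) (forall_lt_succ' (forall_lt_succ' (forall_lt_succ' (forall_lt_succ' (forall_lt_succ' (forall_lt_succ' forall_lt_zero' rel0) rel1) rel2) rel3) rel4) rel5) (by decide +kernel)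
    (forall_lt_succ' (forall_lt_succ' (forall_lt_succ' (forall_lt_succ' (forall_lt_succ' (forall_lt_succ' (forall_lt_succ' (forall_lt_succ' (forall_lt_succ' forall_lt_zero' fus0) fus1) fus2) fus3) fus4) fus5) fus6) fus7) fus8)
    (by decide +kernel) (by decide +kernel) (by decide +kernel) (by decide +kernel)
    (List.forall_mem_cons.mpr ⟨con0, (List.forall_mem_cons.mpr ⟨con1, (by simp)⟩)⟩)
    (forall_lt_succ' (forall_lt_succ' (forall_lt_succ' (forall_lt_succ' (forall_lt_succ' (forall_lt_succ' forall_lt_zero' fin0) fin1) fin2) fin3) fin4) fin5) (by decide +kernel)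

end Cfsg.Agent.L0.LyP2
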