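import Cfsg.Agent.L0.PcCert
import Cfsg.Agent.L0.Dw
import Cfsg.Agent.L0.Ly.Ch

/-! Generated certificate: the `5`-part of a Schur multiplier. -/

set_option autoImplicit false
set_option maxRecDepth 100000

namespace Cfsg.Agent.L0.LyP5

noncomputable def W : List (List ℕ) := [
  dw (nat_lit 5) (nat_lit 31) (nat_lit 9) (nat_lit 0x2412038b061),
  dw (nat_lit 5) (nat_lit 31) (nat_lit 9) (nat_lit 0x640c4d8c464),
  dw (nat_lit 5) (nat_lit 31) (nat_lit 8) (nat_lit 0xc62020de1),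
  dw (nat_lit 5) (nat_lit 31) (nat_lit 10) (nat_lit 0x210210d12091),
  dw (nat_lit 5) (nat_lit 31) (nat_lit 9) (nat_lit 0x33b1ec790c3),
  dw (nat_lit 5) (nat_lit 31) (nat_lit 8) (nat_lit 0x2018d928c4),
  dw (nat_lit 5) (nat_lit 31) (nat_lit 10) (nat_lit 0x32408c58d04),
  dw (nat_lit 5) (nat_lit 31) (nat_lit 8) (nat_lit 0x3ae0618024)]

noncomputable def P : PcP := ⟨nat_lit 5, nat_lit 3, nat_lit 5, nat_lit 0x4000100004000100004000000020000800024000800000004100144006000000028100c88000104c300000, nat_lit 18, nat_lit 262143, nat_lit 19, nat_lit 524287, nat_lit 5, nat_lit 33, nat_lit 16, nat_lit 12⟩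

noncomputable def fu : Fus := ⟨[nat_lit 32768, nat_lit 4096, nat_lit 512, nat_lit 64, nat_lit 8, nat_lit 1, nat_lit 32768, nat_lit 4096, nat_lit 512, nat_lit 64, nat_lit 8, nat_lit 1],
  [nat_lit 131852, nat_lit 42595, nat_lit 1540, nat_lit 137, nat_lit 27, nat_lit 1, nat_lit 65737, nat_lit 149792, nat_lit 1570, nat_lit 76, nat_lit 16, nat_lit 3],
  [nat_lit 6, nat_lit 6, nat_lit 6, nat_lit 6, nat_lit 6, nat_lit 6, nat_lit 7, nat_lit 7, nat_lit 7, nat_lit 7, nat_lit 7, nat_lit 7]⟩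

noncomputable def lam : List ℕ := [nat_lit 0x0,
  nat_lit 0x0,
  nat_lit 0x1000020000c000080000,
  nat_lit 0x30000000008000000000,
  nat_lit 0x20000800000000000000,
  nat_lit 0x4000000000]

noncomputable def bs : List ℕ := []

noncomputable def mo : List ℕ := []

noncomputable def cv0 : List ℕ := [nat_lit 0x10000000000000000000000000000000000000000000000000000000000000000000000000000,
  nat_lit 0x2000000000000000000000000000000000000000000000000000000000000000000000000000000000000000000,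
  nat_lit 0xc0000000000000000000000000000000000000000000000000000000000000000000000000000000000000,
  nat_lit 0x20000c0002000000000000000000180000000000000000000000000000000000000000000000000000000000000,
  nat_lit 0x100000000000000000000000000000000000000000000000000000000000000000000000000000000000000000000000,
  nat_lit 0x8000040002000000000000000000000000000000000000000000000000000000000000000000000000000000000,
  nat_lit 0x10000000000000000000000000000000000000000000000000000000000000000000,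
  nat_lit 0x80002000010000000000000080003000000000000000000000000000000000000000000000000000000000,
  nat_lit 0x6000040002000000000200000000080004000000000000000000000000000000000000000000000000000000000,
  nat_lit 0x200000000000000000000000000000000000000000000000000018000000000000000000000000000000000000000000,
  nat_lit 0x400004000000000000000000200000000100004000020000800000000400000000000000000000000000000000000000]

noncomputable def cc0 : List Con := [
  ⟨nat_lit 1, nat_lit 1, nat_lit 1, [nat_lit 4096], [], nthN cv0 (nat_lit 0)⟩,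
  ⟨nat_lit 0, nat_lit 2, nat_lit 3, [nat_lit 8], [], nthN cv0 (nat_lit 1)⟩,
  ⟨nat_lit 0, nat_lit 1, nat_lit 2, [nat_lit 1], [], nthN cv0 (nat_lit 2)⟩,
  ⟨nat_lit 0, nat_lit 1, nat_lit 2, [nat_lit 8], [], nthN cv0 (nat_lit 3)⟩,
  ⟨nat_lit 1, nat_lit 2, nat_lit 2, [nat_lit 64], [], nthN cv0 (nat_lit 4)⟩,
  ⟨nat_lit 0, nat_lit 0, nat_lit 1, [nat_lit 1], [], nthN cv0 (nat_lit 5)⟩,
  ⟨nat_lit 1, nat_lit 0, nat_lit 0, [nat_lit 64], [], nthN cv0 (nat_lit 6)⟩,
  ⟨nat_lit 0, nat_lit 1, nat_lit 2, [nat_lit 64], [], nthN cv0 (nat_lit 7)⟩,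
  ⟨nat_lit 0, nat_lit 0, nat_lit 1, [nat_lit 8], [], nthN cv0 (nat_lit 8)⟩,
  ⟨nat_lit 0, nat_lit 1, nat_lit 2, [nat_lit 512, nat_lit 512, nat_lit 512, nat_lit 512], [], nthN cv0 (nat_lit 9)⟩,
  ⟨nat_lit 0, nat_lit 0, nat_lit 1, [nat_lit 64], [], nthN cv0 (nat_lit 10)⟩]

theorem con0 : allL cc0 (P.conOk fu) = true := by decide +kernel

noncomputable def cv1 : List ℕ := [nat_lit 0x400002000000001800030000200000000180004000020000000000000300002000080000000000000000000000000000]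

noncomputable def cc1 : List Con := [
  ⟨nat_lit 0, nat_lit 0, nat_lit 1, [nat_lit 512], [], nthN cv1 (nat_lit 0)⟩]

theorem con1 : allL cc1 (P.conOk fu) = true := by decide +kernel

noncomputable def cv2 : List ℕ := [nat_lit 0x100002000040000800010000200000000080000000000000000010000000000000000002000000000000000000000000]

noncomputable def cc2 : List Con := [
  ⟨nat_lit 0, nat_lit 0, nat_lit 1, [nat_lit 4096, nat_lit 4096, nat_lit 4096, nat_lit 4096], [], nthN cv2 (nat_lit 0)⟩]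

theorem con2 : allL cc2 (P.conOk fu) = true := by decide +kernel

noncomputable def cv3 : List ℕ := [nat_lit 0x10000000000000000000000000000100004000000002000000000000000000000003000000000000000000000000000000000000000000000000000000000,
  nat_lit 0x2000080001800000000400000000100003000000000400000000000000000000000000000000000000000000000,
  nat_lit 0x80000000000000000000000300002000000000800000000800010000080003000000000800000000200000000080000000000000000000000000000]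

noncomputable def cc3 : List Con := [
  ⟨nat_lit 2, nat_lit 6, nat_lit 0, [nat_lit 3, nat_lit 2], [nat_lit 2, nat_lit 3, nat_lit 5], nthN cv3 (nat_lit 0)⟩,
  ⟨nat_lit 2, nat_lit 6, nat_lit 0, [nat_lit 4, nat_lit 0], [nat_lit 0, nat_lit 4], nthN cv3 (nat_lit 1)⟩,
  ⟨nat_lit 2, nat_lit 6, nat_lit 0, [nat_lit 3, nat_lit 0], [nat_lit 0, nat_lit 3, nat_lit 4, nat_lit 4, nat_lit 4, nat_lit 4], nthN cv3 (nat_lit 2)⟩]

theorem con3 : allL cc3 (P.conOk fu) = true := by decide +kernel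

noncomputable def cv4 : List ℕ := [nat_lit 0x10000000003000000000000000000400004000000002000020000800010000000001000060000000020000300000000000000000000000600000000000000]

noncomputable def cc4 : List Con := [
  ⟨nat_lit 2, nat_lit 6, nat_lit 0, [nat_lit 2, nat_lit 1], [nat_lit 1, nat_lit 2, nat_lit 3, nat_lit 3, nat_lit 5], nthN cv4 (nat_lit 0)⟩]

theorem con4 : allL cc4 (P.conOk fu) = true := by decide +kernel

noncomputable def cv5 : List ℕ := [nat_lit 0x4000200001000080000000000000200002000080000000040000000000000180004000020000800010000100006000100000800020000600000000100000]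

noncomputable def cc5 : List Con := [
  ⟨nat_lit 2, nat_lit 6, nat_lit 0, [nat_lit 1, nat_lit 0], [nat_lit 0, nat_lit 1, nat_lit 2, nat_lit 3, nat_lit 3, nat_lit 3, nat_lit 3, nat_lit 4, nat_lit 5, nat_lit 5, nat_lit 5, nat_lit 5], nthN cv5 (nat_lit 0)⟩]

theorem con5 : allL cc5 (P.conOk fu) = true := by decide +kernel

noncomputable def cv6 : List ℕ := [nat_lit 0x10000000000000000000000000000100006000080001800040000000004000200002000040001000000000200000000000000000000000000004000000001]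

noncomputable def cc6 : List Con := [
  ⟨nat_lit 2, nat_lit 6, nat_lit 0, [nat_lit 1, nat_lit 1, nat_lit 1, nat_lit 1, nat_lit 1], [nat_lit 5], nthN cv6 (nat_lit 0)⟩]

theorem con6 : allL cc6 (P.conOk fu) = true := by decide +kernel

noncomputable def cv7 : List ℕ := [nat_lit 0x200008000100000000000000000004000180000000000000000008000000000000000000800000000000000000000003]

noncomputable def cc7 : List Con := [
  ⟨nat_lit 2, nat_lit 6, nat_lit 0, [nat_lit 0, nat_lit 0, nat_lit 0, nat_lit 0, nat_lit 0], [], nthN cv7 (nat_lit 0)⟩]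

theorem con7 : allL cc7 (P.conOk fu) = true := by decide +kernel

noncomputable def cv8 : List ℕ := [nat_lit 0x4000000000000000000000000000000000000000000000000000000000000080000c0000000000000000000000080003000000000000000000200000000000000000000000000000000000000,
  nat_lit 0x2000000000000000000000000000000000000000000000000000000006000040000000000000600000000080000000000000400000000000000000040000000000000000000000000000]

noncomputable def cc8 : List Con := [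
  ⟨nat_lit 2, nat_lit 7, nat_lit 0, [nat_lit 9, nat_lit 8], [nat_lit 8, nat_lit 9, nat_lit 11], nthN cv8 (nat_lit 0)⟩,
  ⟨nat_lit 2, nat_lit 7, nat_lit 0, [nat_lit 9, nat_lit 6], [nat_lit 6, nat_lit 9, nat_lit 10, nat_lit 10, nat_lit 10, nat_lit 10], nthN cv8 (nat_lit 1)⟩]

theorem con8 : allL cc8 (P.conOk fu) = true := by decide +kernel

noncomputable def cv9 : List ℕ := [nat_lit 0x3000020000400000000000000000000000000000000000000000000004000060000c0001800000000400010000080001000000000000020000000000000080000000000000000000000000000]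

noncomputable def cc9 : List Con := [
  ⟨nat_lit 2, nat_lit 7, nat_lit 0, [nat_lit 8, nat_lit 6], [nat_lit 6, nat_lit 8, nat_lit 9, nat_lit 9, nat_lit 9, nat_lit 9, nat_lit 10, nat_lit 10, nat_lit 10, nat_lit 10, nat_lit 11, nat_lit 11], nthN cv9 (nat_lit 0)⟩]

theorem con9 : allL cc9 (P.conOk fu) = true := by decide +kernel

noncomputable def cv10 : List ℕ := [nat_lit 0x4000000000c000000000000000000000000000000000000000000000030000800000000180003000020000c000200000000080000000020000300006000080000000010000400000000000000]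

noncomputable def cc10 : List Con := [
  ⟨nat_lit 2, nat_lit 7, nat_lit 0, [nat_lit 8, nat_lit 7], [nat_lit 7, nat_lit 8, nat_lit 9, nat_lit 9, nat_lit 11], nthN cv10 (nat_lit 0)⟩]

theorem con10 : allL cc10 (P.conOk fu) = true := by decide +kernel

noncomputable def CV : List (List ℕ) := [cv0, cv1, cv2, cv3, cv4, cv5, cv6, cv7, cv8, cv9, cv10]

noncomputable def MU : List (List ℕ) := [[nat_lit 0x340ad916c08c],
  [nat_lit 0,
  nat_lit 0],
  [nat_lit 0,
  nat_lit 0,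
  nat_lit 0xec68a0b],
  [nat_lit 0x8e4d344437ff41,
  nat_lit 0xc66c3342071169,
  nat_lit 0x37842b94f833,
  nat_lit 0x5971f3],
  [nat_lit 0x5af3cf366,
  nat_lit 0x37870286babe,
  nat_lit 0x3ba7b,
  nat_lit 0x1a40,
  nat_lit 0x3d09],
  [nat_lit 0x1b8408,
  nat_lit 0x4,
  nat_lit 0xc85,
  nat_lit 0x4b,
  nat_lit 0x14,
  nat_lit 0x9c4]]

noncomputable def lv : List (List (List ℕ) × ℕ × List (ℕ × List ℕ)) := [
  ([[nat_lit 1], [nat_lit 2], [nat_lit 5]], nat_lit 20, [(nat_lit 20, []), (nat_lit 22, [nat_lit 2, nat_lit 2, nat_lit 2, nat_lit 2, nat_lit 1, nat_lit 1, nat_lit 1, nat_lit 1]), (nat_lit 39, [nat_lit 2, nat_lit 2, nat_lit 0, nat_lit 1, nat_lit 0]), (nat_lit 69, [nat_lit 0, nat_lit 0]), (nat_lit 89, [nat_lit 0, nat_lit 0, nat_lit 0]), (nat_lit 94, [nat_lit 0, nat_lit 0, nat_lit 0, nat_lit 0, nat_lit 1]), (nat_lit 124, [nat_lit 2, nat_lit 2, nat_lit 2, nat_lit 0]), (nat_lit 143, [nat_lit 1, nat_lit 1, nat_lit 0, nat_lit 1,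 nat_lit 0, nat_lit 0]), (nat_lit 226, [nat_lit 1, nat_lit 1, nat_lit 1, nat_lit 0, nat_lit 0, nat_lit 0]), (nat_lit 250, [nat_lit 0, nat_lit 1, nat_lit 1, nat_lit 0, nat_lit 1]), (nat_lit 258, [nat_lit 0, nat_lit 0, nat_lit 0, nat_lit 1, nat_lit 0]), (nat_lit 274, [nat_lit 2, nat_lit 0]), (nat_lit 281, [nat_lit 2, nat_lit 2, nat_lit 2, nat_lit 1, nat_lit 1]), (nat_lit 300, [nat_lit 2, nat_lit 0, nat_lit 0, nat_lit 0, nat_lit 0]), (nat_lit 397, [nat_lit 2, nat_lit 0, nat_lit 1, nat_lit 0]), (nat_lit 415, [nat_lit 0, nat_lit 1, nat_lit 0]), (nat_lit 431, [nat_lit 2, nat_lit 0, nat_lit 0, nat_lit 1, nat_lit 1]), (nat_lit 467, [nat_lit 0, nat_lit 1, nat_lit 1, nat_lit 1, nat_lit 1, nat_lit 0]), (nat_lit 472, [nat_lit 2, nat_lit 2, nat_lit 1, nat_lit 1, nat_lit 1]), (nat_lit 473, [nat_lit 0, nat_lit 0, nat_lit 1]), (nat_lit 493, [nat_lit 0, nat_lit 1, nat_lit 0, nat_lit 1, nat_lit 0]), (nat_lit 507, [nat_lit 2, nat_lit 2, nat_lit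 1, nat_lit 1, nat_lit 0, nat_lit 1, nat_lit 1]), (nat_lit 533, [nat_lit 2, nat_lit 0, nat_lit 0]), (nat_lit 553, [nat_lit 1, nat_lit 1, nat_lit 1, nat_lit 0, nat_lit 0, nat_lit 1, nat_lit 0]), (nat_lit 716, [nat_lit 1, nat_lit 0, nat_lit 1, nat_lit 0, nat_lit 0]), (nat_lit 729, [nat_lit 1, nat_lit 1, nat_lit 1, nat_lit 1, nat_lit 0, nat_lit 0, nat_lit 0, nat_lit 0]), (nat_lit 737, [nat_lit 2, nat_lit 2, nat_lit 0, nat_lit 0, nat_lit 0, nat_lit 0]), (nat_lit 772, [nat_lit 2]), (nat_lit 790, [nat_lit 0, nat_lit 0, nat_lit 1, nat_lit 0]), (nat_lit 828, [nat_lit 2, nat_lit 1, nat_lit 1]), (nat_lit 835, [nat_lit 1, nat_lit 0, nat_lit 1, nat_lit 1, nat_lit 1, nat_lit 0, nat_lit 0, nat_lit 0]), (nat_lit 836, [nat_lit 2, nat_lit 2, nat_lit 0]), (nat_lit 849, [nat_lit 0, nat_lit 1, nat_lit 1, nat_lit 0, nat_lit 1, nat_lit 0]), (nat_lit 1000, [nat_lit 1, nat_lit 1, nat_lit 0, nat_lit 1, nat_lit 0]), (nat_lit 1027, [nat_lit 1, nat_lit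 1, nat_lit 0, nat_lit 0, nat_lit 1, nat_lit 0]), (nat_lit 1046, [nat_lit 1, nat_lit 1, nat_lit 0, nat_lit 0]), (nat_lit 1052, [nat_lit 1, nat_lit 1, nat_lit 1, nat_lit 1, nat_lit 0, nat_lit 0]), (nat_lit 1092, [nat_lit 1, nat_lit 1, nat_lit 0, nat_lit 0, nat_lit 1, nat_lit 1]), (nat_lit 1171, [nat_lit 1, nat_lit 0, nat_lit 0]), (nat_lit 1201, [nat_lit 1]), (nat_lit 1273, [nat_lit 1, nat_lit 0, nat_lit 1, nat_lit 1, nat_lit 0, nat_lit 1, nat_lit 0]), (nat_lit 1290, [nat_lit 1, nat_lit 1, nat_lit 1, nat_lit 0, nat_lit 1, nat_lit 0]), (nat_lit 1318, [nat_lit 0]), (nat_lit 1341, [nat_lit 0, nat_lit 1, nat_lit 0, nat_lit 0]), (nat_lit 1371, [nat_lit 0, nat_lit 1, nat_lit 1, nat_lit 1, nat_lit 0, nat_lit 0]), (nat_lit 1373, [nat_lit 1, nat_lit 1, nat_lit 1]), (nat_lit 1478, [nat_lit 1, nat_lit 0, nat_lit 0, nat_lit 1, nat_lit 1, nat_lit 1, nat_lit 0, nat_lit 0]), (nat_lit 1516, [nat_lit 2, nat_lit 2, nat_lit 0, nat_lit 0, nat_lit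 0]), (nat_lit 1545, [nat_lit 2, nat_lit 1, nat_lit 1, nat_lit 0, nat_lit 1, nat_lit 1]), (nat_lit 1550, [nat_lit 1, nat_lit 0, nat_lit 1, nat_lit 1]), (nat_lit 1562, [nat_lit 2, nat_lit 1]), (nat_lit 1565, [nat_lit 1, nat_lit 0, nat_lit 0, nat_lit 1, nat_lit 0]), (nat_lit 1598, [nat_lit 2, nat_lit 2, nat_lit 2, nat_lit 0, nat_lit 0, nat_lit 0, nat_lit 0]), (nat_lit 1670, [nat_lit 2, nat_lit 2, nat_lit 2, nat_lit 0, nat_lit 0]), (nat_lit 1677, [nat_lit 2, nat_lit 1, nat_lit 0, nat_lit 1, nat_lit 1]), (nat_lit 1711, [nat_lit 1, nat_lit 0, nat_lit 0, nat_lit 1, nat_lit 1]), (nat_lit 1718, [nat_lit 2, nat_lit 2, nat_lit 2, nat_lit 2, nat_lit 0, nat_lit 0, nat_lit 0, nat_lit 0]), (nat_lit 1740, [nat_lit 2, nat_lit 2, nat_lit 0, nat_lit 0]), (nat_lit 1747, [nat_lit 1, nat_lit 1, nat_lit 1, nat_lit 1]), (nat_lit 1763, [nat_lit 1, nat_lit 1, nat_lit 0]), (nat_lit 1768, [nat_lit 2, nat_lit 2, nat_lit 1, nat_lit 0, nat_lit 1, nat_lit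 1]), (nat_lit 1792, [nat_lit 2, nat_lit 0, nat_lit 0, nat_lit 0]), (nat_lit 1802, [nat_lit 2, nat_lit 1, nat_lit 0]), (nat_lit 1828, [nat_lit 0, nat_lit 1, nat_lit 1]), (nat_lit 1844, [nat_lit 2, nat_lit 1, nat_lit 0, nat_lit 0, nat_lit 1, nat_lit 0]), (nat_lit 1871, [nat_lit 1, nat_lit 1, nat_lit 0, nat_lit 0, nat_lit 0]), (nat_lit 1885, [nat_lit 2, nat_lit 1, nat_lit 1, nat_lit 1, nat_lit 1]), (nat_lit 1923, [nat_lit 1, nat_lit 1, nat_lit 1, nat_lit 0, nat_lit 1, nat_lit 0, nat_lit 0, nat_lit 0]), (nat_lit 1958, [nat_lit 2, nat_lit 2, nat_lit 0, nat_lit 1, nat_lit 1]), (nat_lit 1972, [nat_lit 2, nat_lit 2, nat_lit 2, nat_lit 2, nat_lit 0, nat_lit 0, nat_lit 0]), (nat_lit 1984, [nat_lit 2, nat_lit 2, nat_lit 2, nat_lit 0, nat_lit 0, nat_lit 0]), (nat_lit 2084, [nat_lit 1, nat_lit 0, nat_lit 0, nat_lit 0]), (nat_lit 2096, [nat_lit 2, nat_lit 2, nat_lit 2, nat_lit 1, nat_lit 1, nat_lit 1]), (nat_lit 2135, [nat_lit 1, nat_lit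 0, nat_lit 1, nat_lit 0]), (nat_lit 2153, [nat_lit 0, nat_lit 1, nat_lit 0, nat_lit 0, nat_lit 1, nat_lit 0]), (nat_lit 2160, [nat_lit 2, nat_lit 2, nat_lit 2, nat_lit 2, nat_lit 1, nat_lit 1]), (nat_lit 2177, [nat_lit 0, nat_lit 0, nat_lit 1, nat_lit 0, nat_lit 0]), (nat_lit 2242, [nat_lit 2, nat_lit 0, nat_lit 1, nat_lit 1]), (nat_lit 2295, [nat_lit 1, nat_lit 1, nat_lit 1, nat_lit 0, nat_lit 1]), (nat_lit 2340, [nat_lit 2, nat_lit 2, nat_lit 2, nat_lit 2]), (nat_lit 2375, [nat_lit 1, nat_lit 1, nat_lit 1, nat_lit 0, nat_lit 1, nat_lit 0, nat_lit 0]), (nat_lit 2443, [nat_lit 1, nat_lit 1, nat_lit 0, nat_lit 0, nat_lit 0, nat_lit 0]), (nat_lit 2466, [nat_lit 1, nat_lit 0, nat_lit 0, nat_lit 1, nat_lit 0, nat_lit 0]), (nat_lit 2472, [nat_lit 0, nat_lit 0, nat_lit 1, nat_lit 1, nat_lit 1, nat_lit 0, nat_lit 0]), (nat_lit 2496, [nat_lit 2, nat_lit 2, nat_lit 1]), (nat_lit 2528, [nat_lit 1, nat_lit 1, nat_lit 1, nat_lit 0]),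 (nat_lit 2547, [nat_lit 1, nat_lit 0, nat_lit 1, nat_lit 1, nat_lit 0, nat_lit 1]), (nat_lit 2566, [nat_lit 2, nat_lit 1, nat_lit 1, nat_lit 1]), (nat_lit 2638, [nat_lit 2, nat_lit 2, nat_lit 2, nat_lit 1]), (nat_lit 2646, [nat_lit 1, nat_lit 0]), (nat_lit 2649, [nat_lit 2, nat_lit 2, nat_lit 2, nat_lit 2, nat_lit 0]), (nat_lit 2650, [nat_lit 2, nat_lit 2, nat_lit 2, nat_lit 2, nat_lit 1]), (nat_lit 2688, [nat_lit 1, nat_lit 1, nat_lit 0, nat_lit 0, nat_lit 1]), (nat_lit 2813, [nat_lit 1, nat_lit 0, nat_lit 1, nat_lit 0, nat_lit 0, nat_lit 0]), (nat_lit 2821, [nat_lit 2, nat_lit 0, nat_lit 0, nat_lit 1, nat_lit 0]), (nat_lit 2823, [nat_lit 0, nat_lit 1, nat_lit 1, nat_lit 1, nat_lit 0, nat_lit 0, nat_lit 0]), (nat_lit 2902, [nat_lit 2, nat_lit 2]), (nat_lit 2909, [nat_lit 0, nat_lit 1]), (nat_lit 2940, [nat_lit 2, nat_lit 2, nat_lit 2, nat_lit 1, nat_lit 1, nat_lit 1, nat_lit 1]), (nat_lit 2989, [nat_lit 1, nat_lit 1, nat_lit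 0, nat_lit 1]), (nat_lit 3062, [nat_lit 2, nat_lit 2, nat_lit 1, nat_lit 0]), (nat_lit 3101, [nat_lit 2, nat_lit 2, nat_lit 2]), (nat_lit 3117, [nat_lit 2, nat_lit 2, nat_lit 2, nat_lit 1, nat_lit 0]), (nat_lit 3130, [nat_lit 1, nat_lit 1, nat_lit 1, nat_lit 0, nat_lit 0]), (nat_lit 3145, [nat_lit 1, nat_lit 1, nat_lit 0, nat_lit 1, nat_lit 1]), (nat_lit 3162, [nat_lit 1, nat_lit 1, nat_lit 1, nat_lit 1, nat_lit 0, nat_lit 0, nat_lit 0]), (nat_lit 3222, [nat_lit 0, nat_lit 0, nat_lit 0, nat_lit 0]), (nat_lit 3251, [nat_lit 1, nat_lit 0, nat_lit 0, nat_lit 0, nat_lit 1, nat_lit 0]), (nat_lit 3255, [nat_lit 1, nat_lit 0, nat_lit 1, nat_lit 1, nat_lit 1, nat_lit 0, nat_lit 0]), (nat_lit 3339, [nat_lit 1, nat_lit 0, nat_lit 0, nat_lit 0, nat_lit 0]), (nat_lit 3350, [nat_lit 1, nat_lit 1]), (nat_lit 3364, [nat_lit 0, nat_lit 0, nat_lit 0, nat_lit 1]), (nat_lit 3379, [nat_lit 1, nat_lit 1, nat_lit 1, nat_lit 1, nat_lit 0]), (nat_lit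 3412, [nat_lit 2, nat_lit 2, nat_lit 1, nat_lit 1, nat_lit 1, nat_lit 1]), (nat_lit 3426, [nat_lit 2, nat_lit 2, nat_lit 2, nat_lit 2, nat_lit 1, nat_lit 1, nat_lit 1]), (nat_lit 3441, [nat_lit 0, nat_lit 0, nat_lit 1, nat_lit 1]), (nat_lit 3464, [nat_lit 1, nat_lit 1, nat_lit 1, nat_lit 0, nat_lit 0, nat_lit 0, nat_lit 0]), (nat_lit 3482, [nat_lit 2, nat_lit 2, nat_lit 1, nat_lit 1]), (nat_lit 3498, [nat_lit 0, nat_lit 1, nat_lit 0, nat_lit 0, nat_lit 0]), (nat_lit 3502, [nat_lit 0, nat_lit 1, nat_lit 1, nat_lit 0, nat_lit 1, nat_lit 0, nat_lit 0]), (nat_lit 3510, [nat_lit 1, nat_lit 0, nat_lit 1, nat_lit 1, nat_lit 0, nat_lit 1, nat_lit 0, nat_lit 0]), (nat_lit 3566, [nat_lit 1, nat_lit 1, nat_lit 0, nat_lit 1, nat_lit 0, nat_lit 0, nat_lit 0]), (nat_lit 3682, [nat_lit 1, nat_lit 0, nat_lit 1]), (nat_lit 3707, [nat_lit 1, nat_lit 0, nat_lit 0, nat_lit 1]), (nat_lit 3711, [nat_lit 2, nat_lit 2, nat_lit 2, nat_lit 2, nat_lit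 0, nat_lit 0])]),
  ([[nat_lit 3], [nat_lit 4]], nat_lit 5, [(nat_lit 5, []), (nat_lit 102, [nat_lit 1, nat_lit 1, nat_lit 1, nat_lit 1, nat_lit 0]), (nat_lit 317, [nat_lit 1, nat_lit 1, nat_lit 1, nat_lit 1, nat_lit 0, nat_lit 0, nat_lit 0, nat_lit 0]), (nat_lit 420, [nat_lit 0, nat_lit 0]), (nat_lit 448, [nat_lit 1, nat_lit 0, nat_lit 0, nat_lit 0]), (nat_lit 537, [nat_lit 1, nat_lit 1, nat_lit 1, nat_lit 0, nat_lit 0, nat_lit 0, nat_lit 0]), (nat_lit 977, [nat_lit 1, nat_lit 1, nat_lit 1, nat_lit 0, nat_lit 0]), (nat_lit 1228, [nat_lit 1, nat_lit 1, nat_lit 1, nat_lit 0]), (nat_lit 1527, [nat_lit 1, nat_lit 1, nat_lit 1, nat_lit 0, nat_lit 0, nat_lit 0]), (nat_lit 1534, [nat_lit 1, nat_lit 0, nat_lit 0, nat_lit 0, nat_lit 0]), (nat_lit 1580, [nat_lit 0]), (nat_lit 1660, [nat_lit 0, nat_lit 0, nat_lit 0, nat_lit 0]), (nat_lit 1816, [nat_lit 1, nat_lit 1, nat_lit 1]), (nat_lit 2136, [nat_lit 1, nat_lit 1]), (nat_lit 2385,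 [nat_lit 1, nat_lit 1, nat_lit 1, nat_lit 1, nat_lit 0, nat_lit 0]), (nat_lit 2402, [nat_lit 1, nat_lit 0, nat_lit 0]), (nat_lit 2491, [nat_lit 1, nat_lit 0]), (nat_lit 2565, [nat_lit 1, nat_lit 1, nat_lit 0]), (nat_lit 2602, [nat_lit 0, nat_lit 0, nat_lit 0]), (nat_lit 2806, [nat_lit 1, nat_lit 1, nat_lit 1, nat_lit 1]), (nat_lit 2894, [nat_lit 1, nat_lit 1, nat_lit 0, nat_lit 0]), (nat_lit 3362, [nat_lit 1]), (nat_lit 3418, [nat_lit 1, nat_lit 1, nat_lit 0, nat_lit 0, nat_lit 0, nat_lit 0]), (nat_lit 3618, [nat_lit 1, nat_lit 1, nat_lit 0, nat_lit 0, nat_lit 0]), (nat_lit 3802, [nat_lit 1, nat_lit 1, nat_lit 1, nat_lit 1, nat_lit 0, nat_lit 0, nat_lit 0])]),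
  ([[nat_lit 0]], nat_lit 0, [(nat_lit 0, []), (nat_lit 687, [nat_lit 0]), (nat_lit 1533, [nat_lit 0, nat_lit 0]), (nat_lit 1911, [nat_lit 0, nat_lit 0, nat_lit 0, nat_lit 0]), (nat_lit 1926, [nat_lit 0, nat_lit 0, nat_lit 0])])]

theorem rel0 : P.relRow (dT LyAct.T W) LyCh.B 0 = true := by decide +kernel
theorem rel1 : P.relRow (dT LyAct.T W) LyCh.B 1 = true := by decide +kernel
theorem rel2 : P.relRow (dT LyAct.T W) LyCh.B 2 = true := by decide +kernel
theorem rel3 : P.relRow (dT LyAct.T W) LyCh.B 3 = true := by decide +kernel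
theorem rel4 : P.relRow (dT LyAct.T W) LyCh.B 4 = true := by decide +kernel
theorem rel5 : P.relRow (dT LyAct.T W) LyCh.B 5 = true := by decide +kernel
theorem fus0 : P.fusOk (dT LyAct.T W) LyCh.B fu 0 = true := by decide +kernel
theorem fus1 : P.fusOk (dT LyAct.T W) LyCh.B fu 1 = true := by decide +kernel
theorem fus2 : P.fusOk (dT LyAct.T W) LyCh.B fu 2 = true := by decide +kernel
theorem fus3 : P.fusOk (dT LyAct.T W) LyCh.B fu 3 = true := by decide +kernel
theorem fus4 : P.fusOk (dT LyAct.T W) LyCh.B fu 4 = true := by decide +kernel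
theorem fus5 : P.fusOk (dT LyAct.T W) LyCh.B fu 5 = true := by decide +kernel
theorem fus6 : P.fusOk (dT LyAct.T W) LyCh.B fu 6 = true := by decide +kernel
theorem fus7 : P.fusOk (dT LyAct.T W) LyCh.B fu 7 = true := by decide +kernel
theorem fus8 : P.fusOk (dT LyAct.T W) LyCh.B fu 8 = true := by decide +kernel
theorem fus9 : P.fusOk (dT LyAct.T W) LyCh.B fu 9 = true := by decide +kernel
theorem fus10 : P.fusOk (dT LyAct.T W) LyCh.B fu 10 = true := by decide +kernel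
theorem fus11 : P.fusOk (dT LyAct.T W) LyCh.B fu 11 = true := by decide +kernel
theorem fin0 : P.finRow lam (bs :: CV) MU 0 = true := by decide +kernel
theorem fin1 : P.finRow lam (bs :: CV) MU 1 = true := by decide +kernel
theorem fin2 : P.finRow lam (bs :: CV) MU 2 = true := by decide +kernel
theorem fin3 : P.finRow lam (bs :: CV) MU 3 = true := by decide +kernel
theorem fin4 : P.finRow lam (bs :: CV) MU 4 = true := by decide +kernel
theorem fin5 : P.finRow lam (bs :: CV) MU 5 = true := by decide +kernel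

theorem pm {G : Type*} [Group G] [Finite G] {A : RAct G 3906} {g : ℕ → G} (hb : A.IsBase LyCh.B)
    (h : A.Tab g 19 LyAct.T) (ho : Nat.card G = 5859000000) : PMult G 5 0 0 :=
  pmult_of_tab hb h ho P (show Nat.Prime 5 by norm_num) W fu 0 lam bs mo [cc0, cc1, cc2, cc3, cc4, cc5, cc6, cc7, cc8, cc9, cc10] CV MU lv 12
    (by decide +kernel) (forall_lt_succ' (forall_lt_succ' (forall_lt_succ' (forall_lt_succ' (forall_lt_succ' (forall_lt_succ' forall_lt_zero' rel0) rel1) rel2) rel3) rel4) rel5) (by decide +kernel)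
    (forall_lt_succ' (forall_lt_succ' (forall_lt_succ' (forall_lt_succ' (forall_lt_succ' (forall_lt_succ' (forall_lt_succ' (forall_lt_succ' (forall_lt_succ' (forall_lt_succ' (forall_lt_succ' (forall_lt_succ' forall_lt_zero' fus0) fus1) fus2) fus3) fus4) fus5) fus6) fus7) fus8) fus9) fus10) fus11)
    (by decide +kernel) (by decide +kernel) (by decide +kernel) (by decide +kernel)
    (List.forall_mem_cons.mpr ⟨con0, (List.forall_mem_cons.mpr ⟨con1, (List.forall_mem_cons.mpr ⟨con2, (List.forall_mem_cons.mpr ⟨con3, (List.forall_mem_cons.mpr ⟨con4, (List.forall_mem_cons.mpr ⟨con5, (List.forall_mem_cons.mpr ⟨con6, (List.forall_mem_cons.mpr ⟨con7, (List.forall_mem_cons.mpr ⟨con8, (List.forall_mem_cons.mpr ⟨con9, (List.forall_mem_cons.mpr ⟨con10, (by simp)⟩)⟩)⟩)⟩)⟩)⟩)⟩)⟩)⟩)⟩)⟩)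
    (forall_lt_succ' (forall_lt_succ' (forall_lt_succ' (forall_lt_succ' (forall_lt_succ' (forall_lt_succ' forall_lt_zero' fin0) fin1) fin2) fin3) fin4) fin5) (by decide +kernel)

end Cfsg.Agent.L0.LyP5
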