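import Cfsg.Agent.L0.PcCert
import Cfsg.Agent.L0.Dw
import Cfsg.Agent.L0.Th.ChN

/-! Generated certificate: the `3`-part of a Schur multiplier. -/

set_option autoImplicit false
set_option maxRecDepth 100000

namespace Cfsg.Agent.L0.ThP3

noncomputable def W : List (List ℕ) := [
  dw (nat_lit 3) (nat_lit 7) (nat_lit 21) (nat_lit 0x1a9995a95a8d1566),
  dw (nat_lit 3) (nat_lit 7) (nat_lit 21) (nat_lit 0x355a8d1a846ac72d),
  dw (nat_lit 3) (nat_lit 7) (nat_lit 29) (nat_lit 0x2d8199caa346d42356699c),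
  dw (nat_lit 3) (nat_lit 7) (nat_lit 27) (nat_lit 0x16c4ca81caa3453425ae5),
  dw (nat_lit 3) (nat_lit 7) (nat_lit 22) (nat_lit 0x116a56a34688d472d),
  dw (nat_lit 3) (nat_lit 7) (nat_lit 17) (nat_lit 0x16a346551aae6)]

noncomputable def P : PcP := ⟨nat_lit 3, nat_lit 2, nat_lit 3, nat_lit 0x10101000605001a00, nat_lit 8, nat_lit 255, nat_lit 11, nat_lit 2047, nat_lit 3, nat_lit 15, nat_lit 6, nat_lit 6⟩

noncomputable def fu : Fus := ⟨[nat_lit 64, nat_lit 16, nat_lit 4, nat_lit 1, nat_lit 16],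
  [nat_lit 18, nat_lit 65, nat_lit 9, nat_lit 1, nat_lit 34],
  [nat_lit 4, nat_lit 4, nat_lit 4, nat_lit 4, nat_lit 5]⟩

noncomputable def lam : List ℕ := [nat_lit 0x0,
  nat_lit 0x0,
  nat_lit 0x400001000,
  nat_lit 0x200000000]

noncomputable def bs : List ℕ := []

noncomputable def mo : List ℕ := []

noncomputable def cv0 : List ℕ := [nat_lit 0x8000000000000000000000000,
  nat_lit 0x10000000000000000000000,
  nat_lit 0x20040080000000000000000,
  nat_lit 0x10000080100000000000000,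
  nat_lit 0x40040000000000000000,
  nat_lit 0x8000000000000000000800001,
  nat_lit 0x800000000000020000040000200400000000,
  nat_lit 0x1000000000008010020000000200400000000,
  nat_lit 0x10000000000000000000400000]

noncomputable def cc0 : List Con := [
  ⟨nat_lit 1, nat_lit 0, nat_lit 0, [nat_lit 4], [], nthN cv0 (nat_lit 0)⟩,
  ⟨nat_lit 0, nat_lit 0, nat_lit 1, [nat_lit 1], [], nthN cv0 (nat_lit 1)⟩,
  ⟨nat_lit 0, nat_lit 0, nat_lit 1, [nat_lit 4], [], nthN cv0 (nat_lit 2)⟩,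
  ⟨nat_lit 1, nat_lit 0, nat_lit 0, [nat_lit 16], [], nthN cv0 (nat_lit 3)⟩,
  ⟨nat_lit 2, nat_lit 4, nat_lit 0, [nat_lit 3, nat_lit 1], [nat_lit 1, nat_lit 3], nthN cv0 (nat_lit 4)⟩,
  ⟨nat_lit 2, nat_lit 4, nat_lit 0, [nat_lit 1, nat_lit 1, nat_lit 1], [], nthN cv0 (nat_lit 5)⟩,
  ⟨nat_lit 2, nat_lit 4, nat_lit 0, [nat_lit 2, nat_lit 1], [nat_lit 1, nat_lit 2, nat_lit 3, nat_lit 3], nthN cv0 (nat_lit 6)⟩,
  ⟨nat_lit 2, nat_lit 4, nat_lit 0, [nat_lit 2, nat_lit 0], [nat_lit 0, nat_lit 2, nat_lit 3], nthN cv0 (nat_lit 7)⟩,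
  ⟨nat_lit 2, nat_lit 5, nat_lit 0, [nat_lit 4, nat_lit 4, nat_lit 4], [], nthN cv0 (nat_lit 8)⟩]

theorem con0 : allL cc0 (P.conOk fu) = true := by decide +kernel

noncomputable def CV : List (List ℕ) := [cv0]

noncomputable def MU : List (List ℕ) := [[nat_lit 0x3528],
  [nat_lit 0,
  nat_lit 0x3344],
  [nat_lit 0,
  nat_lit 0x16e1,
  nat_lit 0xc6],
  [nat_lit 0x69,
  nat_lit 0xba,
  nat_lit 0x6,
  nat_lit 0x2]]

noncomputable def lv : List (List (List ℕ) × ℕ × List (ℕ × List ℕ)) := [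
  ([[nat_lit 1], [nat_lit 2], [nat_lit 3]], nat_lit 3, [(nat_lit 3, []), (nat_lit 8, [nat_lit 2, nat_lit 0, nat_lit 1]), (nat_lit 17, [nat_lit 1, nat_lit 0, nat_lit 0]), (nat_lit 43, [nat_lit 1, nat_lit 0, nat_lit 1, nat_lit 0]), (nat_lit 147, [nat_lit 2, nat_lit 2, nat_lit 0]), (nat_lit 163, [nat_lit 2, nat_lit 0, nat_lit 0]), (nat_lit 189, [nat_lit 1, nat_lit 0, nat_lit 1]), (nat_lit 269, [nat_lit 0, nat_lit 1, nat_lit 1, nat_lit 0]), (nat_lit 300, [nat_lit 0, nat_lit 0, nat_lit 1]), (nat_lit 310, [nat_lit 2]), (nat_lit 328, [nat_lit 0, nat_lit 1, nat_lit 0]), (nat_lit 423, [nat_lit 1]), (nat_lit 457, [nat_lit 2, nat_lit 0]), (nat_lit 495, [nat_lit 1, nat_lit 1]), (nat_lit 508, [nat_lit 2, nat_lit 2, nat_lit 0, nat_lit 0]), (nat_lit 517, [nat_lit 0]), (nat_lit 572, [nat_lit 2, nat_lit 2, nat_lit 1, nat_lit 1]), (nat_lit 575, [nat_lit 0, nat_lit 1, nat_lit 1]), (nat_lit 616, [nat_lit 1, nat_lit 1, nat_lit 0]), (nat_lit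 635, [nat_lit 2, nat_lit 2]), (nat_lit 639, [nat_lit 1, nat_lit 0]), (nat_lit 646, [nat_lit 2, nat_lit 1]), (nat_lit 664, [nat_lit 0, nat_lit 1]), (nat_lit 665, [nat_lit 2, nat_lit 2, nat_lit 1]), (nat_lit 730, [nat_lit 1, nat_lit 1, nat_lit 0, nat_lit 0]), (nat_lit 781, [nat_lit 2, nat_lit 1, nat_lit 1]), (nat_lit 800, [nat_lit 0, nat_lit 0])]),
  ([[nat_lit 0]], nat_lit 0, [(nat_lit 0, []), (nat_lit 485, [nat_lit 0]), (nat_lit 736, [nat_lit 0, nat_lit 0])])]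

theorem rel0 : P.relRow (dT ThN.T W) ThChN.B 0 = true := by decide +kernel
theorem rel1 : P.relRow (dT ThN.T W) ThChN.B 1 = true := by decide +kernel
theorem rel2 : P.relRow (dT ThN.T W) ThChN.B 2 = true := by decide +kernel
theorem rel3 : P.relRow (dT ThN.T W) ThChN.B 3 = true := by decide +kernel
theorem fus0 : P.fusOk (dT ThN.T W) ThChN.B fu 0 = true := by decide +kernel
theorem fus1 : P.fusOk (dT ThN.T W) ThChN.B fu 1 = true := by decide +kernel
theorem fus2 : P.fusOk (dT ThN.T W) ThChN.B fu 2 = true := by decide +kernel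
theorem fus3 : P.fusOk (dT ThN.T W) ThChN.B fu 3 = true := by decide +kernel
theorem fus4 : P.fusOk (dT ThN.T W) ThChN.B fu 4 = true := by decide +kernel
theorem fin0 : P.finRow lam (bs :: CV) MU 0 = true := by decide +kernel
theorem fin1 : P.finRow lam (bs :: CV) MU 1 = true := by decide +kernel
theorem fin2 : P.finRow lam (bs :: CV) MU 2 = true := by decide +kernel
theorem fin3 : P.finRow lam (bs :: CV) MU 3 = true := by decide +kernel

theorem pm {G : Type*} [Group G] [Finite G] {A : RAct G 819} {g : ℕ → G} (hb : A.IsBase ThChN.B)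
    (h : A.Tab g 7 ThN.T) (ho : Nat.card G = 211341312) : PMult G 3 0 0 :=
  pmult_of_tab hb h ho P (show Nat.Prime 3 by norm_num) W fu 0 lam bs mo [cc0] CV MU lv 5
    (by decide +kernel) (forall_lt_succ' (forall_lt_succ' (forall_lt_succ' (forall_lt_succ' forall_lt_zero' rel0) rel1) rel2) rel3) (by decide +kernel)
    (forall_lt_succ' (forall_lt_succ' (forall_lt_succ' (forall_lt_succ' (forall_lt_succ' forall_lt_zero' fus0) fus1) fus2) fus3) fus4)
    (by decide +kernel) (by decide +kernel) (by decide +kernel) (by decide +kernel)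
    (List.forall_mem_cons.mpr ⟨con0, (by simp)⟩)
    (forall_lt_succ' (forall_lt_succ' (forall_lt_succ' (forall_lt_succ' forall_lt_zero' fin0) fin1) fin2) fin3) (by decide +kernel)

end Cfsg.Agent.L0.ThP3
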