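import Cfsg.Agent.L0.PcCert
import Cfsg.Agent.L0.Dw
import Cfsg.Agent.L0.J4.Ch0

/-! Generated certificate: the `2`-part of a Schur multiplier. -/

set_option autoImplicit false
set_option maxRecDepth 100000

namespace Cfsg.Agent.L0.J4P2

noncomputable def W : List (List ℕ) := [
  dw (nat_lit 4) (nat_lit 15) (nat_lit 15) (nat_lit 0x42a540367a52020),
  dw (nat_lit 4) (nat_lit 15) (nat_lit 19) (nat_lit 0x85241a6326092838868),
  dw (nat_lit 4) (nat_lit 15) (nat_lit 18) (nat_lit 0x23131a320a10232020),
  dw (nat_lit 4) (nat_lit 15) (nat_lit 15) (nat_lit 0x296023377577471),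
  dw (nat_lit 4) (nat_lit 15) (nat_lit 20) (nat_lit 0x47967096195519032020),
  dw (nat_lit 4) (nat_lit 15) (nat_lit 11) (nat_lit 0x4a023191014),
  dw (nat_lit 4) (nat_lit 15) (nat_lit 19) (nat_lit 0x2714540853375191014),
  dw (nat_lit 4) (nat_lit 15) (nat_lit 17) (nat_lit 0x39138504402a51098),
  dw (nat_lit 4) (nat_lit 15) (nat_lit 15) (nat_lit 0x53177a102670a86),
  dw (nat_lit 4) (nat_lit 15) (nat_lit 18) (nat_lit 0x839726707540a72661),
  dw (nat_lit 4) (nat_lit 15) (nat_lit 19) (nat_lit 0x7a16368a10208302833),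
  dw (nat_lit 4) (nat_lit 15) (nat_lit 21) (nat_lit 0x86320850a268270440817),
  dw (nat_lit 4) (nat_lit 15) (nat_lit 17) (nat_lit 0x7369176808a7a6927),
  dw (nat_lit 4) (nat_lit 15) (nat_lit 15) (nat_lit 0x1328552a1025190)]

noncomputable def P : PcP := ⟨nat_lit 2, nat_lit 1, nat_lit 9, nat_lit 0x4010040100401004010040000802008020080300c030000401005010040100400008020090200b0200004c10050140500208c250b42c0004410040000d42004050000, nat_lit 10, nat_lit 1023, nat_lit 10, nat_lit 1023, nat_lit 2, nat_lit 73, nat_lit 6, nat_lit 5⟩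

noncomputable def fu : Fus := ⟨[nat_lit 832, nat_lit 128, nat_lit 64, nat_lit 8, nat_lit 4, nat_lit 2, nat_lit 1, nat_lit 512, nat_lit 128, nat_lit 32, nat_lit 8, nat_lit 4, nat_lit 1, nat_lit 8, nat_lit 4, nat_lit 256, nat_lit 64, nat_lit 4],
  [nat_lit 64, nat_lit 133, nat_lit 768, nat_lit 60, nat_lit 84, nat_lit 2, nat_lit 1, nat_lit 71, nat_lit 84, nat_lit 547, nat_lit 6, nat_lit 5, nat_lit 1, nat_lit 29, nat_lit 16, nat_lit 320, nat_lit 64, nat_lit 1],
  [nat_lit 10, nat_lit 10, nat_lit 10, nat_lit 10, nat_lit 10, nat_lit 10, nat_lit 10, nat_lit 11, nat_lit 11, nat_lit 11, nat_lit 11, nat_lit 11, nat_lit 11, nat_lit 12, nat_lit 12, nat_lit 13, nat_lit 13, nat_lit 13]⟩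

noncomputable def lam : List ℕ := [nat_lit 0x0,
  nat_lit 0x0,
  nat_lit 0x0,
  nat_lit 0x400,
  nat_lit 0x0,
  nat_lit 0x100000000010000000400,
  nat_lit 0x10000100000000000000000000,
  nat_lit 0x100000000000000000000,
  nat_lit 0x400004010000000000000000000000000,
  nat_lit 0x4010000000000000000000000000]

noncomputable def bs : List ℕ := []

noncomputable def mo : List ℕ := []

noncomputable def cv0 : List ℕ := [nat_lit 0x400000000000000000,
  nat_lit 0x10000000000000000000000000000000000000000000000000000000000000000000000000000000000000000000000000000,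
  nat_lit 0x400000000000000000000000000000000000000000000000000000000000000000000000000000,
  nat_lit 0x1000000000000000000000000000000000000000000000000000000000000000000000000000000000000000000000000000000000000000000000000,
  nat_lit 0x1000000000000000000000000000000000000000000000000000000000000000000000000000000000000000000000000000000000,
  nat_lit 0x4000000000000000000000000000000000000000000000000000000000000000000000000000000000000000000000000000000000000000000000000000000000000,
  nat_lit 0x40000001000000000000000,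
  nat_lit 0x4000040000000000000000000000000000000000000000000000000000000000000000000000000000000000,
  nat_lit 0x4000000000000000010000000000000000000000000000000000000000000000000000000000000000000000,
  nat_lit 0x1004000000000000000000000000000000000000000000000000000000000000000000000000000000000000000000000000000000000000000000000000000000000000,
  nat_lit 0x1000000000000000000000040000000000000000000000000000000000000000000000000000000000000000000000000000000000000000000000000000000000000000,
  nat_lit 0x4000000000400000000000000000000000000000000000000000000000000000000000000000000000000000]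

noncomputable def cc0 : List Con := [
  ⟨nat_lit 1, nat_lit 1, nat_lit 1, [nat_lit 256], [], nthN cv0 (nat_lit 0)⟩,
  ⟨nat_lit 1, nat_lit 4, nat_lit 4, [nat_lit 32], [], nthN cv0 (nat_lit 1)⟩,
  ⟨nat_lit 1, nat_lit 1, nat_lit 1, [nat_lit 4], [], nthN cv0 (nat_lit 2)⟩,
  ⟨nat_lit 1, nat_lit 1, nat_lit 1, [nat_lit 1], [], nthN cv0 (nat_lit 3)⟩,
  ⟨nat_lit 1, nat_lit 4, nat_lit 4, [nat_lit 8], [], nthN cv0 (nat_lit 4)⟩,
  ⟨nat_lit 1, nat_lit 4, nat_lit 4, [nat_lit 1], [], nthN cv0 (nat_lit 5)⟩,
  ⟨nat_lit 1, nat_lit 0, nat_lit 0, [nat_lit 256], [], nthN cv0 (nat_lit 6)⟩,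
  ⟨nat_lit 0, nat_lit 0, nat_lit 5, [nat_lit 16], [], nthN cv0 (nat_lit 7)⟩,
  ⟨nat_lit 1, nat_lit 0, nat_lit 0, [nat_lit 16], [], nthN cv0 (nat_lit 8)⟩,
  ⟨nat_lit 0, nat_lit 0, nat_lit 8, [nat_lit 2], [], nthN cv0 (nat_lit 9)⟩,
  ⟨nat_lit 1, nat_lit 0, nat_lit 0, [nat_lit 2], [], nthN cv0 (nat_lit 10)⟩,
  ⟨nat_lit 0, nat_lit 2, nat_lit 3, [nat_lit 64], [], nthN cv0 (nat_lit 11)⟩]

theorem con0 : allL cc0 (P.conOk fu) = true := by decide +kernel

noncomputable def cv1 : List ℕ := [nat_lit 0x4000000000001000000000000000000000000000000000000000000000000000000000000000000000000000,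
  nat_lit 0x1000000000000000004000000000000000000000000000000000000000000000000000000000000000000000000000000000000000000000000000000000000000000000,
  nat_lit 0x1000000040000000000000000000000000000000000000000000000000000000000000000000000000000000000000000000000000000000000000000000000000000000,
  nat_lit 0x1000010000000000000000000000000000000000000000000000000000000000000000000000000000000000000000000000000000000000000000000000000000000000,
  nat_lit 0x4000000000000004000000000000000000000000001000000000000000000000000000000000000000000000,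
  nat_lit 0x1000000000000000000010000000000000000040000000000000000000000000000000000000000000000000000000000000000000000000000000000000000000000000,
  nat_lit 0x1000000000000400000000000000400000000000000000000000000000000000000000000000000000000000000000000000000000000000000000000000000000000000,
  nat_lit 0x10000000000000000000000000000000000000000000000000000000000000000000000000000000000000,
  nat_lit 0x100000000000000000000000000000000000000000000000000000000000000000000000000000000000000000000000000000000000000000000000000000,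
  nat_lit 0x4010000000000000010040000000000000040000000000000000000000000000000000000000000000000000,
  nat_lit 0x1004000040000000000000000100001000000000000000000000000000000000000000000000000000000000000000000000000000000000000000000000000000000000,
  nat_lit 0x1004000000000001000000000100000000000040000000000000000000000000000000000000000000000000000000000000000000000000000000000000000000000000]

noncomputable def cc1 : List Con := [
  ⟨nat_lit 1, nat_lit 2, nat_lit 2, [nat_lit 64], [], nthN cv1 (nat_lit 0)⟩,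
  ⟨nat_lit 1, nat_lit 2, nat_lit 2, [nat_lit 2], [], nthN cv1 (nat_lit 1)⟩,
  ⟨nat_lit 0, nat_lit 3, nat_lit 6, [nat_lit 8], [], nthN cv1 (nat_lit 2)⟩,
  ⟨nat_lit 0, nat_lit 4, nat_lit 7, [nat_lit 4], [], nthN cv1 (nat_lit 3)⟩,
  ⟨nat_lit 1, nat_lit 1, nat_lit 1, [nat_lit 16], [], nthN cv1 (nat_lit 4)⟩,
  ⟨nat_lit 1, nat_lit 1, nat_lit 1, [nat_lit 2], [], nthN cv1 (nat_lit 5)⟩,
  ⟨nat_lit 1, nat_lit 4, nat_lit 4, [nat_lit 4], [], nthN cv1 (nat_lit 6)⟩,
  ⟨nat_lit 0, nat_lit 0, nat_lit 5, [nat_lit 8], [], nthN cv1 (nat_lit 7)⟩,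
  ⟨nat_lit 0, nat_lit 3, nat_lit 5, [nat_lit 8], [], nthN cv1 (nat_lit 8)⟩,
  ⟨nat_lit 1, nat_lit 0, nat_lit 0, [nat_lit 32], [], nthN cv1 (nat_lit 9)⟩,
  ⟨nat_lit 0, nat_lit 1, nat_lit 6, [nat_lit 8], [], nthN cv1 (nat_lit 10)⟩,
  ⟨nat_lit 1, nat_lit 3, nat_lit 3, [nat_lit 32], [], nthN cv1 (nat_lit 11)⟩]

theorem con1 : allL cc1 (P.conOk fu) = true := by decide +kernel

noncomputable def cv2 : List ℕ := [nat_lit 0x1004000000100000000000000100000004000000000000000000000000000000000000000000000000000000000000000000000000000000000000000000000000000000,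
  nat_lit 0x10000000000000000000000400000000000000000000000000000000000000000000000000000000000000000000000000000000000000000000000000000000000,
  nat_lit 0x1004000000000000000010000100000000000000000400000000000000000000000000000001000000000000000000000000000000000000000000000000000000000000,
  nat_lit 0x1000000000000400000000000000000000000000100000004000000100000000000000000000000000000000000000000000000000000000000000000000000000000000,
  nat_lit 0x401000000000000000000000000100001004000000000000000000040100000000000000000000,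
  nat_lit 0x40000400004000000000000000000000100001000010000000000000000040100400000000000000000,
  nat_lit 0x4000000000001000000040000000000000040000001000000000000000000000000000001000000000000000000000000000000000000000000000000000000000000,
  nat_lit 0x10040000000000000000000000000000000000001004010000100000000000040000400000000000000000000000000000000000000000000000000000000000000,
  nat_lit 0x1004000040000000000010000000400000000000000000004010000000000004000040000000000010000000000000000000000400000000000000000000000000000000,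
  nat_lit 0x10040000000000000040000000000000000000000000010000000001000010000000000004000000000000000000000000000000000000000000000000000000000,
  nat_lit 0x4000040000000000010000000000000000000000001000000040000000000000000100001000000000000000,
  nat_lit 0x1004010000100000004000000000400004000040100000000010000000000000000000100001000000000000000000000000000000000000000000000000000000000000]

noncomputable def cc2 : List Con := [
  ⟨nat_lit 0, nat_lit 4, nat_lit 5, [nat_lit 16], [], nthN cv2 (nat_lit 0)⟩,
  ⟨nat_lit 0, nat_lit 1, nat_lit 6, [nat_lit 4], [], nthN cv2 (nat_lit 1)⟩,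
  ⟨nat_lit 1, nat_lit 1, nat_lit 1, [nat_lit 8], [], nthN cv2 (nat_lit 2)⟩,
  ⟨nat_lit 0, nat_lit 2, nat_lit 4, [nat_lit 32], [], nthN cv2 (nat_lit 3)⟩,
  ⟨nat_lit 0, nat_lit 1, nat_lit 2, [nat_lit 128], [], nthN cv2 (nat_lit 4)⟩,
  ⟨nat_lit 1, nat_lit 1, nat_lit 1, [nat_lit 128], [], nthN cv2 (nat_lit 5)⟩,
  ⟨nat_lit 0, nat_lit 0, nat_lit 1, [nat_lit 8], [], nthN cv2 (nat_lit 6)⟩,
  ⟨nat_lit 0, nat_lit 0, nat_lit 4, [nat_lit 32], [], nthN cv2 (nat_lit 7)⟩,
  ⟨nat_lit 1, nat_lit 1, nat_lit 1, [nat_lit 32], [], nthN cv2 (nat_lit 8)⟩,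
  ⟨nat_lit 0, nat_lit 0, nat_lit 2, [nat_lit 32], [], nthN cv2 (nat_lit 9)⟩,
  ⟨nat_lit 0, nat_lit 0, nat_lit 1, [nat_lit 128], [], nthN cv2 (nat_lit 10)⟩,
  ⟨nat_lit 0, nat_lit 1, nat_lit 2, [nat_lit 8], [], nthN cv2 (nat_lit 11)⟩]

theorem con2 : allL cc2 (P.conOk fu) = true := by decide +kernel

noncomputable def cv3 : List ℕ := [nat_lit 0x10000000000004010000000000004000000000000000000000100001004000000100001004000000000400000000000000400000000000000000000000000000000,
  nat_lit 0x400000000000100401,
  nat_lit 0x40000400000000000000000000000000100001000000000000000000000040000000000000000000000,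
  nat_lit 0x400000000000000000004010000000000000000000000400000000000000000000000000000000000000000000000000000000000000000000000000000000000000000000000000000000000,
  nat_lit 0x1000010040000000000000000100000004000000000000004010040100000000000000100400000000000100400000000000100000000000000000000000000000000000,
  nat_lit 0x4000000000000000010000100001000010040000000000000000000000004000000000000004010000000000000000000100001000000000000000000000040100000000010040000000,
  nat_lit 0x10040100400000000000000000000000000000000004010000100001000000000000000000000000000000004000000000001000000000000000000000000000000,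
  nat_lit 0x1000000000000000004000040100001000000000000401004000040000000000000000000400000000000000000000010040000001000000000000400000000000000000000000000000000,
  nat_lit 0x400000000000000000000000000100000000000000000000000000000000000000000000000000004010040000001000000040000000000010040000000004010000000000000000000000000,
  nat_lit 0x100400000000000000000004000000000000000000040000000000000000000000000000000000000000000000000000000000000000000,
  nat_lit 0x4000040000400000000000000000000000000100001000000000000000000000040000000004000000000000,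
  nat_lit 0x1004010000000001000000000100400000000040000000004000000000400000000000000000000000000000000000000000000000000000040000000000000000000001]

noncomputable def cc3 : List Con := [
  ⟨nat_lit 0, nat_lit 1, nat_lit 2, [nat_lit 32], [], nthN cv3 (nat_lit 0)⟩,
  ⟨nat_lit 2, nat_lit 10, nat_lit 0, [nat_lit 2, nat_lit 2], [], nthN cv3 (nat_lit 1)⟩,
  ⟨nat_lit 2, nat_lit 10, nat_lit 0, [nat_lit 4, nat_lit 4], [], nthN cv3 (nat_lit 2)⟩,
  ⟨nat_lit 2, nat_lit 10, nat_lit 0, [nat_lit 5, nat_lit 1], [nat_lit 1, nat_lit 5, nat_lit 6], nthN cv3 (nat_lit 3)⟩,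
  ⟨nat_lit 2, nat_lit 10, nat_lit 0, [nat_lit 3, nat_lit 3], [], nthN cv3 (nat_lit 4)⟩,
  ⟨nat_lit 2, nat_lit 10, nat_lit 0, [nat_lit 2, nat_lit 1], [nat_lit 1, nat_lit 2, nat_lit 4], nthN cv3 (nat_lit 5)⟩,
  ⟨nat_lit 2, nat_lit 10, nat_lit 0, [nat_lit 3, nat_lit 1], [nat_lit 1, nat_lit 3], nthN cv3 (nat_lit 6)⟩,
  ⟨nat_lit 2, nat_lit 10, nat_lit 0, [nat_lit 3, nat_lit 0], [nat_lit 0, nat_lit 3, nat_lit 5], nthN cv3 (nat_lit 7)⟩,
  ⟨nat_lit 2, nat_lit 10, nat_lit 0, [nat_lit 3, nat_lit 2], [nat_lit 2, nat_lit 3, nat_lit 6], nthN cv3 (nat_lit 8)⟩,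
  ⟨nat_lit 2, nat_lit 11, nat_lit 0, [nat_lit 10, nat_lit 10], [], nthN cv3 (nat_lit 9)⟩,
  ⟨nat_lit 2, nat_lit 11, nat_lit 0, [nat_lit 8, nat_lit 8], [], nthN cv3 (nat_lit 10)⟩,
  ⟨nat_lit 2, nat_lit 11, nat_lit 0, [nat_lit 7, nat_lit 7], [], nthN cv3 (nat_lit 11)⟩]

theorem con3 : allL cc3 (P.conOk fu) = true := by decide +kernel

noncomputable def cv4 : List ℕ := [nat_lit 0x400000000000000000000000000000000000010000000400000000040000400000000000000000000000000000000000010000000000000000000000000000000000000000000000000000000000000000000000,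
  nat_lit 0x10000100001000000000000400004000040000000000000040000000000000000000000000000000000001000000000000000000000000000000000000040000000,
  nat_lit 0x4000000000000000000000000000000000000100000000000000000000000000000000000000000000000000,
  nat_lit 0x100000000000000000000000000000000000000010040000000000000000100000000000000000000000000000000000000000000000000000000000000000,
  nat_lit 0x4000000000000000000000000000000000000000000000000000000000000000000000000000000000000000000000000000000000000000000000000000000000000000000000000000000000040000400000000000000000,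
  nat_lit 0x1000010000000000000000000000000000000000000000004000000000000000000000000000000000000000000000000000000000000000000000000]

noncomputable def cc4 : List Con := [
  ⟨nat_lit 2, nat_lit 11, nat_lit 0, [nat_lit 11, nat_lit 9], [nat_lit 9, nat_lit 11, nat_lit 12], nthN cv4 (nat_lit 0)⟩,
  ⟨nat_lit 2, nat_lit 11, nat_lit 0, [nat_lit 8, nat_lit 7], [nat_lit 7, nat_lit 8], nthN cv4 (nat_lit 1)⟩,
  ⟨nat_lit 2, nat_lit 12, nat_lit 0, [nat_lit 14, nat_lit 14], [], nthN cv4 (nat_lit 2)⟩,
  ⟨nat_lit 2, nat_lit 12, nat_lit 0, [nat_lit 14, nat_lit 13], [nat_lit 13, nat_lit 14], nthN cv4 (nat_lit 3)⟩,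
  ⟨nat_lit 2, nat_lit 13, nat_lit 0, [nat_lit 15, nat_lit 15], [nat_lit 16], nthN cv4 (nat_lit 4)⟩,
  ⟨nat_lit 2, nat_lit 13, nat_lit 0, [nat_lit 17, nat_lit 15], [nat_lit 15, nat_lit 17], nthN cv4 (nat_lit 5)⟩]

theorem con4 : allL cc4 (P.conOk fu) = true := by decide +kernel

noncomputable def CV : List (List ℕ) := [cv0, cv1, cv2, cv3, cv4]

noncomputable def MU : List (List ℕ) := [[nat_lit 0x24804002434090],
  [nat_lit 0,
  nat_lit 0x24806002434091],
  [nat_lit 0x22000003434090,
  nat_lit 0,
  nat_lit 0x404000000804],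
  [nat_lit 0x24004000c348d0,
  nat_lit 0x1,
  nat_lit 0,
  nat_lit 0x24004000c34890],
  [nat_lit 0,
  nat_lit 0,
  nat_lit 0xc14cc39b0e36d,
  nat_lit 0,
  nat_lit 0x28319ee9640075],
  [nat_lit 0x4004400000940,
  nat_lit 0x20004020c24011,
  nat_lit 0x4010001080,
  nat_lit 0x20000000c34814,
  nat_lit 0x20001a08d48710,
  nat_lit 0x4000000000804],
  [nat_lit 0x20000268cb14,
  nat_lit 0x20200100480018,
  nat_lit 0x20008d720,
  nat_lit 0x4108422380165,
  nat_lit 0x82008cb1ce4a8,
  nat_lit 0x8000000180884,
  nat_lit 0x20000240ca14],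
  [nat_lit 0x904,
  nat_lit 0x20000000c24010,
  nat_lit 0x1804,
  nat_lit 0x4,
  nat_lit 0xc108c2baca3ed,
  nat_lit 0x884,
  nat_lit 0x80000,
  nat_lit 0x804],
  [nat_lit 0x4108462f84555,
  nat_lit 0x4108426ba034d,
  nat_lit 0xc108c21a829c9,
  nat_lit 0xc04238,
  nat_lit 0x2,
  nat_lit 0x1504230,
  nat_lit 0x10,
  nat_lit 0x2008220,
  nat_lit 0x404030],
  [nat_lit 0x620,
  nat_lit 0xc24018,
  nat_lit 0x2220,
  nat_lit 0x8,
  nat_lit 0x2048000,
  nat_lit 0x100000,
  nat_lit 0x4220,
  nat_lit 0x8220,
  nat_lit 0x20,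
  nat_lit 0x220]]

noncomputable def lv : List (List (List ℕ) × ℕ × List (ℕ × List ℕ)) := [
  ([[nat_lit 4], [nat_lit 6], [nat_lit 8], [nat_lit 9]], nat_lit 0, [(nat_lit 0, []), (nat_lit 3, [nat_lit 2]), (nat_lit 4, [nat_lit 3, nat_lit 2]), (nat_lit 5, [nat_lit 3, nat_lit 0]), (nat_lit 6, [nat_lit 3, nat_lit 2, nat_lit 1, nat_lit 0]), (nat_lit 7, [nat_lit 1]), (nat_lit 8, [nat_lit 3]), (nat_lit 10, [nat_lit 0]), (nat_lit 11, [nat_lit 3, nat_lit 1, nat_lit 0]), (nat_lit 12, [nat_lit 1, nat_lit 0]), (nat_lit 13, [nat_lit 3, nat_lit 1]), (nat_lit 14, [nat_lit 3, nat_lit 2, nat_lit 0]), (nat_lit 15, [nat_lit 2, nat_lit 1, nat_lit 0]), (nat_lit 16, [nat_lit 2, nat_lit 1]), (nat_lit 19, [nat_lit 2, nat_lit 0]), (nat_lit 20, [nat_lit 3, nat_lit 2, nat_lit 1])]),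
  ([[nat_lit 2], [nat_lit 5], [nat_lit 7]], nat_lit 1, [(nat_lit 1, []), (nat_lit 2, [nat_lit 2, nat_lit 0]), (nat_lit 9, [nat_lit 0]), (nat_lit 17, [nat_lit 2]), (nat_lit 18, [nat_lit 2, nat_lit 1]), (nat_lit 21, [nat_lit 1, nat_lit 0]), (nat_lit 22, [nat_lit 1]), (nat_lit 23, [nat_lit 0, nat_lit 1])]),
  ([[nat_lit 1], [nat_lit 3]], nat_lit 2, [(nat_lit 2, []), (nat_lit 9, [nat_lit 1]), (nat_lit 21, [nat_lit 0]), (nat_lit 23, [nat_lit 1, nat_lit 0])]),
  ([[nat_lit 0]], nat_lit 3, [(nat_lit 3, []), (nat_lit 4, [nat_lit 0])])]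

theorem rel0 : P.relRow (dT J4Act0.T W) J4Ch0.B 0 = true := by decide +kernel
theorem rel1 : P.relRow (dT J4Act0.T W) J4Ch0.B 1 = true := by decide +kernel
theorem rel2 : P.relRow (dT J4Act0.T W) J4Ch0.B 2 = true := by decide +kernel
theorem rel3 : P.relRow (dT J4Act0.T W) J4Ch0.B 3 = true := by decide +kernel
theorem rel4 : P.relRow (dT J4Act0.T W) J4Ch0.B 4 = true := by decide +kernel
theorem rel5 : P.relRow (dT J4Act0.T W) J4Ch0.B 5 = true := by decide +kernel
theorem rel6 : P.relRow (dT J4Act0.T W) J4Ch0.B 6 = true := by decide +kernel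
theorem rel7 : P.relRow (dT J4Act0.T W) J4Ch0.B 7 = true := by decide +kernel
theorem rel8 : P.relRow (dT J4Act0.T W) J4Ch0.B 8 = true := by decide +kernel
theorem rel9 : P.relRow (dT J4Act0.T W) J4Ch0.B 9 = true := by decide +kernel
theorem fus0 : P.fusOk (dT J4Act0.T W) J4Ch0.B fu 0 = true := by decide +kernel
theorem fus1 : P.fusOk (dT J4Act0.T W) J4Ch0.B fu 1 = true := by decide +kernel
theorem fus2 : P.fusOk (dT J4Act0.T W) J4Ch0.B fu 2 = true := by decide +kernel
theorem fus3 : P.fusOk (dT J4Act0.T W) J4Ch0.B fu 3 = true := by decide +kernel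
theorem fus4 : P.fusOk (dT J4Act0.T W) J4Ch0.B fu 4 = true := by decide +kernel
theorem fus5 : P.fusOk (dT J4Act0.T W) J4Ch0.B fu 5 = true := by decide +kernel
theorem fus6 : P.fusOk (dT J4Act0.T W) J4Ch0.B fu 6 = true := by decide +kernel
theorem fus7 : P.fusOk (dT J4Act0.T W) J4Ch0.B fu 7 = true := by decide +kernel
theorem fus8 : P.fusOk (dT J4Act0.T W) J4Ch0.B fu 8 = true := by decide +kernel
theorem fus9 : P.fusOk (dT J4Act0.T W) J4Ch0.B fu 9 = true := by decide +kernel
theorem fus10 : P.fusOk (dT J4Act0.T W) J4Ch0.B fu 10 = true := by decide +kernel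
theorem fus11 : P.fusOk (dT J4Act0.T W) J4Ch0.B fu 11 = true := by decide +kernel
theorem fus12 : P.fusOk (dT J4Act0.T W) J4Ch0.B fu 12 = true := by decide +kernel
theorem fus13 : P.fusOk (dT J4Act0.T W) J4Ch0.B fu 13 = true := by decide +kernel
theorem fus14 : P.fusOk (dT J4Act0.T W) J4Ch0.B fu 14 = true := by decide +kernel
theorem fus15 : P.fusOk (dT J4Act0.T W) J4Ch0.B fu 15 = true := by decide +kernel
theorem fus16 : P.fusOk (dT J4Act0.T W) J4Ch0.B fu 16 = true := by decide +kernel
theorem fus17 : P.fusOk (dT J4Act0.T W) J4Ch0.B fu 17 = true := by decide +kernel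
theorem fin0 : P.finRow lam (bs :: CV) MU 0 = true := by decide +kernel
theorem fin1 : P.finRow lam (bs :: CV) MU 1 = true := by decide +kernel
theorem fin2 : P.finRow lam (bs :: CV) MU 2 = true := by decide +kernel
theorem fin3 : P.finRow lam (bs :: CV) MU 3 = true := by decide +kernel
theorem fin4 : P.finRow lam (bs :: CV) MU 4 = true := by decide +kernel
theorem fin5 : P.finRow lam (bs :: CV) MU 5 = true := by decide +kernel
theorem fin6 : P.finRow lam (bs :: CV) MU 6 = true := by decide +kernel
theorem fin7 : P.finRow lam (bs :: CV) MU 7 = true := by decide +kernel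
theorem fin8 : P.finRow lam (bs :: CV) MU 8 = true := by decide +kernel
theorem fin9 : P.finRow lam (bs :: CV) MU 9 = true := by decide +kernel

theorem pm {G : Type*} [Group G] [Finite G] {A : RAct G 24} {g : ℕ → G} (hb : A.IsBase J4Ch0.B)
    (h : A.Tab g 11 J4Act0.T) (ho : Nat.card G = 244823040) : PMult G 2 0 0 :=
  pmult_of_tab hb h ho P (show Nat.Prime 2 by norm_num) W fu 0 lam bs mo [cc0, cc1, cc2, cc3, cc4] CV MU lv 18
    (by decide +kernel) (forall_lt_succ' (forall_lt_succ' (forall_lt_succ' (forall_lt_succ' (forall_lt_succ' (forall_lt_succ' (forall_lt_succ' (forall_lt_succ' (forall_lt_succ' (forall_lt_succ' forall_lt_zero' rel0) rel1) rel2) rel3) rel4) rel5) rel6) rel7) rel8) rel9) (by decide +kernel)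
    (forall_lt_succ' (forall_lt_succ' (forall_lt_succ' (forall_lt_succ' (forall_lt_succ' (forall_lt_succ' (forall_lt_succ' (forall_lt_succ' (forall_lt_succ' (forall_lt_succ' (forall_lt_succ' (forall_lt_succ' (forall_lt_succ' (forall_lt_succ' (forall_lt_succ' (forall_lt_succ' (forall_lt_succ' (forall_lt_succ' forall_lt_zero' fus0) fus1) fus2) fus3) fus4) fus5) fus6) fus7) fus8) fus9) fus10) fus11) fus12) fus13) fus14) fus15) fus16) fus17)
    (by decide +kernel) (by decide +kernel) (by decide +kernel) (by decide +kernel)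
    (List.forall_mem_cons.mpr ⟨con0, (List.forall_mem_cons.mpr ⟨con1, (List.forall_mem_cons.mpr ⟨con2, (List.forall_mem_cons.mpr ⟨con3, (List.forall_mem_cons.mpr ⟨con4, (by simp)⟩)⟩)⟩)⟩)⟩)
    (forall_lt_succ' (forall_lt_succ' (forall_lt_succ' (forall_lt_succ' (forall_lt_succ' (forall_lt_succ' (forall_lt_succ' (forall_lt_succ' (forall_lt_succ' (forall_lt_succ' forall_lt_zero' fin0) fin1) fin2) fin3) fin4) fin5) fin6) fin7) fin8) fin9) (by decide +kernel)

end Cfsg.Agent.L0.J4P2
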