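import Cfsg.Agent.L0.PcCert
import Cfsg.Agent.L0.Dw
import Cfsg.Agent.H9.OutCo1D

/-! Generated certificate: the `3`-part of a Schur multiplier. -/

set_option autoImplicit false
set_option maxRecDepth 100000

namespace Cfsg.Agent.L0.Co1P3

noncomputable def W : List (List ℕ) := [
  dw (nat_lit 3) (nat_lit 7) (nat_lit 71) (nat_lit 0x710352d4f3cda6513da720e0073fb3df3f9c7135af30e45e7fe24),
  dw (nat_lit 3) (nat_lit 7) (nat_lit 65) (nat_lit 0x5e32d27b1c7b69863a039c435710c8625eda625eda625eda6),
  dw (nat_lit 3) (nat_lit 7) (nat_lit 69) (nat_lit 0x597bd67897b698bcced31006b6d968f6d36d100f3ce4978e389),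
  dw (nat_lit 3) (nat_lit 7) (nat_lit 67) (nat_lit 0xe61a208229a9c28993b699c8cac123e79eeda62081d2492ffc),
  dw (nat_lit 3) (nat_lit 7) (nat_lit 74) (nat_lit 0x49a5ba8400db49e702b5e61c809289f34978e3892f41cf3ff25eda6),
  dw (nat_lit 3) (nat_lit 7) (nat_lit 75) (nat_lit 0xb03d21d0b69b68039fd9ee78e5163ca27b4e41c4bdb4e09e25b6cb47),
  dw (nat_lit 3) (nat_lit 7) (nat_lit 72) (nat_lit 0x2dc428000db49e703f04f13b93cf369801cfecf6b048f9e7b6d36d),
  dw (nat_lit 3) (nat_lit 7) (nat_lit 70) (nat_lit 0x313c95fa3c14d1071271cc93ffe7f38e2466ce91e3ff136d6db6e),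
  dw (nat_lit 3) (nat_lit 7) (nat_lit 75) (nat_lit 0x135b398da6db6d36d1a0da66dbc7b3c6d4838e3a058247cf3de7fe24),
  dw (nat_lit 3) (nat_lit 7) (nat_lit 73) (nat_lit 0x628fe8858683699b65e67698811c7b699d35e345979ff890403cf39),
  dw (nat_lit 3) (nat_lit 7) (nat_lit 74) (nat_lit 0x33b303ae039ffb2473ff120d06d336fc83ce402f41cf3ff036d279c0),
  dw (nat_lit 3) (nat_lit 7) (nat_lit 67) (nat_lit 0x1dafe70101cffd920403cf3958e3a33fbd069c5b4db64f3cda6)]

noncomputable def P : PcP := ⟨nat_lit 3, nat_lit 2, nat_lit 8, nat_lit 0x40001000040001000040001000040001000000004000100004000100005000100004000000010000400010000500010000400000001040040001000048001000000004100180004600186000000484010900400000041164041100000120600000, nat_lit 18, nat_lit 262143, nat_lit 15, nat_lit 32767, nat_lit 3, nat_lit 68, nat_lit 11, nat_lit 9⟩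

noncomputable def fu : Fus := ⟨[nat_lit 65536, nat_lit 16384, nat_lit 4096, nat_lit 1024, nat_lit 256, nat_lit 64, nat_lit 16, nat_lit 4, nat_lit 1, nat_lit 65536, nat_lit 16384, nat_lit 4096, nat_lit 1024, nat_lit 256, nat_lit 64, nat_lit 16, nat_lit 4, nat_lit 1, nat_lit 65536, nat_lit 4096, nat_lit 16, nat_lit 4, nat_lit 1],
  [nat_lit 67658, nat_lit 34468, nat_lit 6544, nat_lit 2185, nat_lit 534, nat_lit 132, nat_lit 25, nat_lit 6, nat_lit 1, nat_lit 67716, nat_lit 16424, nat_lit 76118, nat_lit 1040, nat_lit 1542, nat_lit 136, nat_lit 20, nat_lit 8, nat_lit 1, nat_lit 132229, nat_lit 136800, nat_lit 38, nat_lit 9, nat_lit 2],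
  [nat_lit 9, nat_lit 9, nat_lit 9, nat_lit 9, nat_lit 9, nat_lit 9, nat_lit 9, nat_lit 9, nat_lit 9, nat_lit 10, nat_lit 10, nat_lit 10, nat_lit 10, nat_lit 10, nat_lit 10, nat_lit 10, nat_lit 10, nat_lit 10, nat_lit 11, nat_lit 11, nat_lit 11, nat_lit 11, nat_lit 11]⟩

noncomputable def lam : List ℕ := [nat_lit 0x0,
  nat_lit 0x0,
  nat_lit 0x0,
  nat_lit 0x400000000000000000000010000,
  nat_lit 0x2000400000000001000200000000000,
  nat_lit 0x1000000000000000000400000000000,
  nat_lit 0x2000400000000000000400000000000,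
  nat_lit 0x2000000000000000000400000000000,
  nat_lit 0x8000000000000000000]

noncomputable def bs : List ℕ := []

noncomputable def mo : List ℕ := []

noncomputable def cv0 : List ℕ := [nat_lit 0x40000000000000000000000000000000000000000000000000000000000000000000000000000000000000000000000000000000000000000000000000000000000000000000000,
  nat_lit 0x8000000000000000000000000000000000000000000000000000000000000000000000000000000000000000000000000000000000000000000000000000000000000000000000000000000000,
  nat_lit 0x10000000000000000000000000000000000000000000000000000000000000000000000000000000000000000000000000000000000000000000000000000,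
  nat_lit 0x400000000000000000000000000000000000000000000000000000000000000000000000000000000000000000000000000000000000000000000000000000000000000000000000000000000000000000,
  nat_lit 0x40000000000000000000000000000000000000000000000000000000000000000000000000000000000000000000000000000000000000000000000000000000,
  nat_lit 0x40000000000000000000000000000000000000000000000000000000000000000000000000000000000000000000000000000000000000000000000000000000000000000000000000000000000000,
  nat_lit 0x200000000000000000000000000000000000000000000000000000000000000000000000000000000000000000000000000000000000000000000000000000000000,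
  nat_lit 0x1000000000000000000000000000000000000000000000000000000000000000000000000000000000000000000000000000000000000000000000000000000000000000000000000000000000000000000000,
  nat_lit 0x400000000000000200000000000000000000008000000000000000000000000000000000000000000000000000000000000000000000000000000000000000000000000000000000000000000000000000,
  nat_lit 0x40010000000000000000001000000080000000000000000000000000000000000000000000000000000000000000000000000000000000000000000000000000,
  nat_lit 0x400000010000000000000000001000000000010000000000000000000000000000000000000000000000000000000000000000000000000000000000000000000000000000000000000000000000000000,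
  nat_lit 0x8002000000000000000000000040000000000000000000000000000000000000000000000000000000000000000000000000000000000000000000000000,
  nat_lit 0x8002000000000000000000000000008000000000000000000000000000000000000000000000000000000000000000000000000000000000000000000000000000000000000000000000000000,
  nat_lit 0x80000000000000000000000000000000000001000000000000000000000000000000000000000000000000000000000000000000000000000000000000000000,
  nat_lit 0x80000000000200000000000000000000000000000000000000000000000000000000000000000000000000000000000000000000000000000000000000000000,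
  nat_lit 0x1000000000000000000000000000000000000000000000000000000000000000000000000002000000000000000000000000000000000000000000000000000000000000000000000000000,
  nat_lit 0x80000000000000000000000000000040000000000000000000000000000040000000000000000000000000000000000000000000000000000000000000000000000000000000000000000000000000,
  nat_lit 0x200000000000000000000000000000400000000000000000000000000000000000000000000000000000000000000000000000000000000000000000000000000000,
  nat_lit 0x8000000200000000001000000000000000000000000000000000000040000000000400000000000000000000000000000000000000000000000000000000,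
  nat_lit 0x80010002000000000008000000000080010000000000000000000000000000000000000000000000000000000000000000000000000000000000000000000000,
  nat_lit 0x400000000000000200000000000000000000008000000400000000001000000000000000000000000000000000000040000000000000000000000000000000000000000000000000000000000000000000,
  nat_lit 0x400040010002000000000008000000000040010002000000000000000000000000000000000000000000000000000000000000000000000000000000000000000000000000000000000000000000000000,
  nat_lit 0x1000000000000000000000000010000000000000000000000000000000000000000000000000000000000000000000000000000000,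
  nat_lit 0x2000000000000001000000000000000000000080010001000000040000000000000080000000000000000000000000400000000000000000000000000000000000000000000000000000000000000000000000,
  nat_lit 0x400000010000000000040000000000000000010001000000080000000000000000000000000000000000000000200000008000000400000000000000000000000000000000000000000000000000000000,
  nat_lit 0x400000000000000000000000000000200000000000000000000000000000000000000000000000000000000000000000010000000000000000000000000000000000,
  nat_lit 0x200000008000000000000000002000000080000000000000000000000000000000000000000000000008000000000000000000000000000000000,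
  nat_lit 0x2000400080000001000000000000000000200040010001000000040000000000000080008000000400000000000000400000000002000000000000000000000000000000000000000000000000000000000000,
  nat_lit 0x2000200080010002000000000000000000200040010002000200080008000000000000008002000200000000000000200040000002000000000008000000000000000000000000000000000000000000000000,
  nat_lit 0x1000000000000001000000080008000000200040008001000000040000000000200000000000000000000000000000400000008000000000080000000000000000000000000000000000000000000000000000,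
  nat_lit 0x2000200080010002000000000000000000000000000000000200080010001000000080008002000200000010002000400040000002000200000008000000000040000002000000000000000000000000000000,
  nat_lit 0x10000000000000000000000000000000000000000000000000000000080000000000000040010001000400000000000000000000000000000000000000000000000000000000000000000000000000000000000000000000000000000000000000000000,
  nat_lit 0x2000000000000000000000000000000000000000000000000000040000000000000000000000000000080000000000000080008002000000000000000000000000000000000000000000000000000000000000000000000000000000000000000000,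
  nat_lit 0x80000002000000000000000000000040000001000000000000000000000000008000000000000000000000000000000000000000000000000000000000000000000000000000000000000000000000,
  nat_lit 0x200000000000000200000000001000000000008000000000000000002000000000000000000000000000000000000080000000000400000000000000000000000000000000040000000000000000000000,
  nat_lit 0x2000000040000000000000000000000000200000010000000000040000000000400080000001000400080000000000000000000001000000000000000000000040010000000000000008000000000000000001000000000000000000000000000000,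
  nat_lit 0x40000000000000000000000000000040000000000200080000000000200040008002000000040000000000000000010002000200000000000000400080000000000000000008001000000000000000000000000000000000000000000000,
  nat_lit 0x1000400000000000000000000000000000400040010002000400000008000000400040008001000000000000000000200040010002000000040000000000400000000000000000000010000000000000000000000000000000000000000000000000,
  nat_lit 0x2000400080008002000200000010000000000080010002000200000008000000400000008000000000040000002000000000000000000000080000000000000000008000000000000000000000000040000000,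
  nat_lit 0x10000000000000000000000000000000000000000000000000000000000000000000400080000000000400000000000000000000000001000200000000000000000000008002000000000000000000000000000000000000000008000000000000000000000000000000000000000000000000]

noncomputable def cc0 : List Con := [
  ⟨nat_lit 1, nat_lit 2, nat_lit 2, [nat_lit 4096], [], nthN cv0 (nat_lit 0)⟩,
  ⟨nat_lit 1, nat_lit 2, nat_lit 2, [nat_lit 64], [], nthN cv0 (nat_lit 1)⟩,
  ⟨nat_lit 0, nat_lit 2, nat_lit 5, [nat_lit 16], [], nthN cv0 (nat_lit 2)⟩,
  ⟨nat_lit 0, nat_lit 2, nat_lit 6, [nat_lit 1], [], nthN cv0 (nat_lit 3)⟩,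
  ⟨nat_lit 0, nat_lit 3, nat_lit 4, [nat_lit 16], [], nthN cv0 (nat_lit 4)⟩,
  ⟨nat_lit 0, nat_lit 4, nat_lit 5, [nat_lit 16], [], nthN cv0 (nat_lit 5)⟩,
  ⟨nat_lit 1, nat_lit 3, nat_lit 3, [nat_lit 256], [], nthN cv0 (nat_lit 6)⟩,
  ⟨nat_lit 1, nat_lit 4, nat_lit 4, [nat_lit 64], [], nthN cv0 (nat_lit 7)⟩,
  ⟨nat_lit 0, nat_lit 3, nat_lit 4, [nat_lit 64], [], nthN cv0 (nat_lit 8)⟩,
  ⟨nat_lit 0, nat_lit 0, nat_lit 2, [nat_lit 16], [], nthN cv0 (nat_lit 9)⟩,
  ⟨nat_lit 0, nat_lit 0, nat_lit 2, [nat_lit 4], [], nthN cv0 (nat_lit 10)⟩,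
  ⟨nat_lit 0, nat_lit 2, nat_lit 4, [nat_lit 16], [], nthN cv0 (nat_lit 11)⟩,
  ⟨nat_lit 0, nat_lit 2, nat_lit 4, [nat_lit 4], [], nthN cv0 (nat_lit 12)⟩,
  ⟨nat_lit 0, nat_lit 0, nat_lit 1, [nat_lit 16], [], nthN cv0 (nat_lit 13)⟩,
  ⟨nat_lit 0, nat_lit 0, nat_lit 1, [nat_lit 4], [], nthN cv0 (nat_lit 14)⟩,
  ⟨nat_lit 1, nat_lit 2, nat_lit 2, [nat_lit 256], [], nthN cv0 (nat_lit 15)⟩,
  ⟨nat_lit 0, nat_lit 0, nat_lit 4, [nat_lit 16], [], nthN cv0 (nat_lit 16)⟩,
  ⟨nat_lit 1, nat_lit 1, nat_lit 1, [nat_lit 1024], [], nthN cv0 (nat_lit 17)⟩,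
  ⟨nat_lit 0, nat_lit 0, nat_lit 2, [nat_lit 1024], [], nthN cv0 (nat_lit 18)⟩,
  ⟨nat_lit 0, nat_lit 1, nat_lit 2, [nat_lit 16], [], nthN cv0 (nat_lit 19)⟩,
  ⟨nat_lit 0, nat_lit 0, nat_lit 3, [nat_lit 256], [], nthN cv0 (nat_lit 20)⟩,
  ⟨nat_lit 0, nat_lit 1, nat_lit 2, [nat_lit 4], [], nthN cv0 (nat_lit 21)⟩,
  ⟨nat_lit 0, nat_lit 0, nat_lit 1, [nat_lit 1024], [], nthN cv0 (nat_lit 22)⟩,
  ⟨nat_lit 0, nat_lit 1, nat_lit 2, [nat_lit 64], [], nthN cv0 (nat_lit 23)⟩,
  ⟨nat_lit 0, nat_lit 0, nat_lit 2, [nat_lit 256], [], nthN cv0 (nat_lit 24)⟩,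
  ⟨nat_lit 1, nat_lit 0, nat_lit 0, [nat_lit 16384], [], nthN cv0 (nat_lit 25)⟩,
  ⟨nat_lit 0, nat_lit 0, nat_lit 1, [nat_lit 16384, nat_lit 16384], [], nthN cv0 (nat_lit 26)⟩,
  ⟨nat_lit 0, nat_lit 1, nat_lit 2, [nat_lit 256], [], nthN cv0 (nat_lit 27)⟩,
  ⟨nat_lit 0, nat_lit 1, nat_lit 2, [nat_lit 1024], [], nthN cv0 (nat_lit 28)⟩,
  ⟨nat_lit 0, nat_lit 1, nat_lit 2, [nat_lit 4096, nat_lit 4096], [], nthN cv0 (nat_lit 29)⟩,
  ⟨nat_lit 0, nat_lit 0, nat_lit 1, [nat_lit 4096], [], nthN cv0 (nat_lit 30)⟩,
  ⟨nat_lit 2, nat_lit 9, nat_lit 0, [nat_lit 7, nat_lit 2], [nat_lit 2, nat_lit 7, nat_lit 8], nthN cv0 (nat_lit 31)⟩,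
  ⟨nat_lit 2, nat_lit 9, nat_lit 0, [nat_lit 6, nat_lit 2], [nat_lit 2, nat_lit 6, nat_lit 7], nthN cv0 (nat_lit 32)⟩,
  ⟨nat_lit 2, nat_lit 9, nat_lit 0, [nat_lit 6, nat_lit 4], [nat_lit 4, nat_lit 6], nthN cv0 (nat_lit 33)⟩,
  ⟨nat_lit 2, nat_lit 9, nat_lit 0, [nat_lit 3, nat_lit 0], [nat_lit 0, nat_lit 3], nthN cv0 (nat_lit 34)⟩,
  ⟨nat_lit 2, nat_lit 9, nat_lit 0, [nat_lit 3, nat_lit 2], [nat_lit 2, nat_lit 3, nat_lit 5, nat_lit 5, nat_lit 7], nthN cv0 (nat_lit 35)⟩,
  ⟨nat_lit 2, nat_lit 9, nat_lit 0, [nat_lit 4, nat_lit 2], [nat_lit 2, nat_lit 4, nat_lit 5, nat_lit 5], nthN cv0 (nat_lit 36)⟩,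
  ⟨nat_lit 2, nat_lit 9, nat_lit 0, [nat_lit 4, nat_lit 1], [nat_lit 1, nat_lit 4, nat_lit 6, nat_lit 7, nat_lit 7], nthN cv0 (nat_lit 37)⟩,
  ⟨nat_lit 2, nat_lit 9, nat_lit 0, [nat_lit 1, nat_lit 1, nat_lit 1], [], nthN cv0 (nat_lit 38)⟩,
  ⟨nat_lit 2, nat_lit 10, nat_lit 0, [nat_lit 13, nat_lit 12], [nat_lit 12, nat_lit 13, nat_lit 16], nthN cv0 (nat_lit 39)⟩]

theorem con0 : allL cc0 (P.conOk fu) = true := by decide +kernel

noncomputable def cv1 : List ℕ := [nat_lit 0x10001000000000000000000000000000000000000000000000000000000000000000000000000000000000000000000000400080000000000200000000000000000000000001000000040000000000000000000000000000000000000000000000000000000000000000000000000000000000,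
  nat_lit 0x80000000000000000000000000000000000000000000000000000000000000000001000400040008001000400080000000000000080010002000200000000002000000000000000000000000000000000000000000000000000000000000000000000000000000000000000000000000000000000,
  nat_lit 0x8002000000000000000000000000000000000000000000000000000000000000000000080000000000000000010000000000040000000000200000008000000200000008001000000000000000000000000000000000000000000000000200000000000000200000000000000000000000000,
  nat_lit 0x8002000000000008000000000000000000000000000000000000000000000000000000000000000000000000000000000000000010000000200000010002000200040000000000000000010000000000080000001000000000000000000000000000000000200000000000000000000000000,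
  nat_lit 0x40010000000200000000000000000000000000000000000000000000000000000000000000000010000000200000000002000000000010001000200000000001000000000000000000000000000000000200000000000000000000008000000000040000000000000040000000000000000000000,
  nat_lit 0x10000000400000000000000000000000000000000000000000000000000000001000000000010000000400080000002000400000010000000200000000000000000000000002000000000008001000200080010000000400000010000000000040000002000000000000000000200000000000,
  nat_lit 0x10001000400080000000000000000000000000000000000000000000000000002000200000000000000200080010000000000080008002000400000008001000400000010000000400040008001000400000000001000000000000001000200000010002000400000000001000000000010000,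
  nat_lit 0x80000000000000000000000000000000000000000000000000000000000000000002000400000008002000400000000000000000040000002000400080000002000200000000000000000000000000000000080000000000200040000000000000000010000000000000008000000000000000001,
  nat_lit 0x400000000000000000000000000000000000000000000000000000000000000000000000000000000000000000200000000000000000040000002000000040010001000400040000001000000000000000000000000000000000000000000000000000000000000000000000000000000000000000000000000000000000,
  nat_lit 0x80000000000000000000000000000000000000000000000000000000000000000000000000000000000000400000000000000000080000001000000040000000000000040000002000000080008002000200000008000000000000000000000000000000000000000000000000000000000000000000000000000000,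
  nat_lit 0x1000000000000000000000000000000000200000000000000000000000000000000000000000000000000000002000000000000000000000000000000000000000008000000000000000000000000000000001]

noncomputable def cc1 : List Con := [
  ⟨nat_lit 2, nat_lit 10, nat_lit 0, [nat_lit 12, nat_lit 10], [nat_lit 10, nat_lit 12, nat_lit 15, nat_lit 15, nat_lit 16], nthN cv1 (nat_lit 0)⟩,
  ⟨nat_lit 2, nat_lit 10, nat_lit 0, [nat_lit 16, nat_lit 11], [nat_lit 11, nat_lit 16, nat_lit 17], nthN cv1 (nat_lit 1)⟩,
  ⟨nat_lit 2, nat_lit 10, nat_lit 0, [nat_lit 13, nat_lit 10], [nat_lit 10, nat_lit 13, nat_lit 15, nat_lit 16, nat_lit 16], nthN cv1 (nat_lit 2)⟩,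
  ⟨nat_lit 2, nat_lit 10, nat_lit 0, [nat_lit 10, nat_lit 9], [nat_lit 9, nat_lit 10, nat_lit 12, nat_lit 12, nat_lit 15, nat_lit 16, nat_lit 16], nthN cv1 (nat_lit 3)⟩,
  ⟨nat_lit 2, nat_lit 10, nat_lit 0, [nat_lit 13, nat_lit 9], [nat_lit 9, nat_lit 13, nat_lit 14, nat_lit 14, nat_lit 16, nat_lit 17, nat_lit 17], nthN cv1 (nat_lit 4)⟩,
  ⟨nat_lit 2, nat_lit 10, nat_lit 0, [nat_lit 11, nat_lit 9], [nat_lit 9, nat_lit 11, nat_lit 14, nat_lit 16], nthN cv1 (nat_lit 5)⟩,
  ⟨nat_lit 2, nat_lit 10, nat_lit 0, [nat_lit 11, nat_lit 10], [nat_lit 10, nat_lit 11, nat_lit 13, nat_lit 14, nat_lit 15, nat_lit 15, nat_lit 16], nthN cv1 (nat_lit 6)⟩,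
  ⟨nat_lit 2, nat_lit 10, nat_lit 0, [nat_lit 11, nat_lit 11, nat_lit 11], [nat_lit 17], nthN cv1 (nat_lit 7)⟩,
  ⟨nat_lit 2, nat_lit 11, nat_lit 0, [nat_lit 21, nat_lit 19], [nat_lit 19, nat_lit 21, nat_lit 22], nthN cv1 (nat_lit 8)⟩,
  ⟨nat_lit 2, nat_lit 11, nat_lit 0, [nat_lit 20, nat_lit 19], [nat_lit 19, nat_lit 20, nat_lit 21], nthN cv1 (nat_lit 9)⟩,
  ⟨nat_lit 2, nat_lit 11, nat_lit 0, [nat_lit 18, nat_lit 18, nat_lit 18], [], nthN cv1 (nat_lit 10)⟩]

theorem con1 : allL cc1 (P.conOk fu) = true := by decide +kernel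

noncomputable def CV : List (List ℕ) := [cv0, cv1]

noncomputable def MU : List (List ℕ) := [[nat_lit 0x1300aa7e1b7ea3e30422d],
  [nat_lit 0,
  nat_lit 0x257ea56421e29f77],
  [nat_lit 0,
  nat_lit 0,
  nat_lit 0],
  [nat_lit 0x767f9ecd0cf898,
  nat_lit 0,
  nat_lit 0,
  nat_lit 0xc54e08b066],
  [nat_lit 0xa34a1209b5f6ebc0f84c,
  nat_lit 0xd2e6e1c9ada8de2c6,
  nat_lit 0xd7c1b42413731a500e,
  nat_lit 0x1af78bc187655f508df,
  nat_lit 0x3f0b53b6f9ec],
  [nat_lit 0x1b708dddf,
  nat_lit 0xd7bcb70438706d082f,
  nat_lit 0xb114a3f5c2,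
  nat_lit 0x1a2cb6cde,
  nat_lit 0x135affe22aa187eeeb442,
  nat_lit 0xe30e6b],
  [nat_lit 0x7539742f2,
  nat_lit 0x2782f4fe22259f,
  nat_lit 0x1af78a87b1f7ea3cc85,
  nat_lit 0x30a848,
  nat_lit 0x277fdf4f53d234,
  nat_lit 0x521b0b9,
  nat_lit 0x7b28b75],
  [nat_lit 0x5224ad9,
  nat_lit 0x277fdfdc6caa8b,
  nat_lit 0x135affe22aa0293a562ed,
  nat_lit 0x91f794,
  nat_lit 0x52464bd,
  nat_lit 0x9,
  nat_lit 0xa2,
  nat_lit 0x5b2],
  [nat_lit 0x1cd7c,
  nat_lit 0x4e4252494,
  nat_lit 0x2,
  nat_lit 0x336f,
  nat_lit 0x81c00,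
  nat_lit 0x6,
  nat_lit 0x1e6,
  nat_lit 0x1b,
  nat_lit 0x1116]]

noncomputable def lv : List (List (List ℕ) × ℕ × List (ℕ × List ℕ)) := [
  ([[nat_lit 2], [nat_lit 4], [nat_lit 5], [nat_lit 8]], nat_lit 751, [(nat_lit 751, []), (nat_lit 916, [nat_lit 1, nat_lit 0, nat_lit 1, nat_lit 2]), (nat_lit 1314, [nat_lit 0, nat_lit 1, nat_lit 0]), (nat_lit 3580, [nat_lit 3, nat_lit 3, nat_lit 2, nat_lit 0, nat_lit 0]), (nat_lit 4658, [nat_lit 0, nat_lit 1, nat_lit 1]), (nat_lit 4686, [nat_lit 2, nat_lit 1, nat_lit 0, nat_lit 1]), (nat_lit 6305, [nat_lit 0, nat_lit 1]), (nat_lit 8085, [nat_lit 1, nat_lit 1]), (nat_lit 8671, [nat_lit 3, nat_lit 3, nat_lit 0]), (nat_lit 9623, [nat_lit 2, nat_lit 1, nat_lit 0, nat_lit 1, nat_lit 0]), (nat_lit 11547, [nat_lit 2, nat_lit 2, nat_lit 1, nat_lit 0, nat_lit 0]), (nat_lit 11752, [nat_lit 3, nat_lit 1, nat_lit 0, nat_lit 0]), (nat_lit 15282, [nat_lit 2, nat_lit 1, nat_lit 2, nat_lit 1]), (nat_lit 18630, [nat_lit 3, nat_lit 2, nat_lit 1, nat_lit 0, nat_lit 0]), (nat_lit 18717, [nat_lit 2, nat_lit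 1, nat_lit 0, nat_lit 0]), (nat_lit 18866, [nat_lit 0, nat_lit 0, nat_lit 1, nat_lit 1]), (nat_lit 20242, [nat_lit 3, nat_lit 0, nat_lit 0]), (nat_lit 20714, [nat_lit 1, nat_lit 0]), (nat_lit 21128, [nat_lit 2, nat_lit 0]), (nat_lit 21595, [nat_lit 3, nat_lit 3, nat_lit 2, nat_lit 2]), (nat_lit 22974, [nat_lit 2, nat_lit 1]), (nat_lit 23397, [nat_lit 3, nat_lit 3, nat_lit 1, nat_lit 1]), (nat_lit 23475, [nat_lit 3, nat_lit 1]), (nat_lit 26683, [nat_lit 3, nat_lit 1, nat_lit 1]), (nat_lit 29420, [nat_lit 1, nat_lit 2, nat_lit 1]), (nat_lit 34717, [nat_lit 3, nat_lit 1, nat_lit 1, nat_lit 0]), (nat_lit 34927, [nat_lit 1, nat_lit 0, nat_lit 1]), (nat_lit 39560, [nat_lit 1, nat_lit 0, nat_lit 0, nat_lit 1]), (nat_lit 40724, [nat_lit 3, nat_lit 2, nat_lit 0]), (nat_lit 40768, [nat_lit 3, nat_lit 1, nat_lit 0]), (nat_lit 41131, [nat_lit 2, nat_lit 2, nat_lit 0]), (nat_lit 41158, [nat_lit 2, nat_lit 2, nat_lit 1, nat_lit 0]), (nat_lit 41233, [nat_lit 0, nat_lit 1, nat_lit 1, nat_lit 0]), (nat_lit 41278, [nat_lit 0, nat_lit 0]),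 (nat_lit 41376, [nat_lit 3, nat_lit 2, nat_lit 2, nat_lit 0, nat_lit 0]), (nat_lit 41400, [nat_lit 3, nat_lit 2]), (nat_lit 42893, [nat_lit 3, nat_lit 3, nat_lit 2, nat_lit 0]), (nat_lit 43395, [nat_lit 3, nat_lit 3, nat_lit 1, nat_lit 0]), (nat_lit 43637, [nat_lit 1, nat_lit 2, nat_lit 1, nat_lit 0]), (nat_lit 43651, [nat_lit 0, nat_lit 1, nat_lit 2, nat_lit 1]), (nat_lit 45029, [nat_lit 2, nat_lit 2, nat_lit 1]), (nat_lit 45358, [nat_lit 3, nat_lit 3, nat_lit 2]), (nat_lit 45378, [nat_lit 3, nat_lit 2, nat_lit 2]), (nat_lit 45961, [nat_lit 3, nat_lit 3, nat_lit 0, nat_lit 0]), (nat_lit 46943, [nat_lit 1, nat_lit 1, nat_lit 0, nat_lit 0]), (nat_lit 47865, [nat_lit 2]), (nat_lit 48241, [nat_lit 1]), (nat_lit 50467, [nat_lit 2, nat_lit 1, nat_lit 2]), (nat_lit 51854, [nat_lit 1, nat_lit 0, nat_lit 0]), (nat_lit 52189, [nat_lit 0, nat_lit 1, nat_lit 2]), (nat_lit 52940, [nat_lit 3, nat_lit 2, nat_lit 2, nat_lit 0]), (nat_lit 55352, [nat_lit 3, nat_lit 3, nat_lit 1, nat_lit 0, nat_lit 0]), (nat_lit 57990, [nat_lit 1, nat_lit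 2]), (nat_lit 61804, [nat_lit 1, nat_lit 1, nat_lit 2]), (nat_lit 62589, [nat_lit 2, nat_lit 0, nat_lit 1, nat_lit 0]), (nat_lit 63860, [nat_lit 0, nat_lit 0, nat_lit 1]), (nat_lit 64604, [nat_lit 2, nat_lit 2, nat_lit 0, nat_lit 0]), (nat_lit 64948, [nat_lit 0, nat_lit 1, nat_lit 2, nat_lit 1, nat_lit 0]), (nat_lit 69489, [nat_lit 3, nat_lit 3]), (nat_lit 69636, [nat_lit 3]), (nat_lit 72449, [nat_lit 3, nat_lit 3, nat_lit 1]), (nat_lit 77118, [nat_lit 3, nat_lit 3, nat_lit 2, nat_lit 2, nat_lit 0, nat_lit 0]), (nat_lit 82181, [nat_lit 1, nat_lit 2, nat_lit 1, nat_lit 0, nat_lit 0]), (nat_lit 82389, [nat_lit 3, nat_lit 0]), (nat_lit 83409, [nat_lit 1, nat_lit 2, nat_lit 2, nat_lit 1]), (nat_lit 83492, [nat_lit 3, nat_lit 2, nat_lit 1]), (nat_lit 83831, [nat_lit 3, nat_lit 2, nat_lit 1, nat_lit 0]), (nat_lit 86373, [nat_lit 2, nat_lit 2]), (nat_lit 86444, [nat_lit 0]), (nat_lit 86643, [nat_lit 2, nat_lit 1, nat_lit 0]), (nat_lit 90180, [nat_lit 3, nat_lit 3, nat_lit 2, nat_lit 2, nat_lit 0]), (nat_lit 90193, [nat_lit 2, nat_lit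 0, nat_lit 1]), (nat_lit 91191, [nat_lit 2, nat_lit 1, nat_lit 1, nat_lit 0]), (nat_lit 92253, [nat_lit 0, nat_lit 1, nat_lit 0, nat_lit 1]), (nat_lit 92960, [nat_lit 1, nat_lit 1, nat_lit 0]), (nat_lit 93578, [nat_lit 2, nat_lit 2, nat_lit 1, nat_lit 1]), (nat_lit 96310, [nat_lit 3, nat_lit 2, nat_lit 0, nat_lit 0]), (nat_lit 97406, [nat_lit 2, nat_lit 0, nat_lit 0]), (nat_lit 97639, [nat_lit 1, nat_lit 0, nat_lit 1, nat_lit 0]), (nat_lit 97871, [nat_lit 2, nat_lit 1, nat_lit 1]), (nat_lit 98020, [nat_lit 1, nat_lit 2, nat_lit 2])]),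
  ([[nat_lit 1], [nat_lit 7]], nat_lit 4489, [(nat_lit 4489, []), (nat_lit 7344, [nat_lit 1, nat_lit 0]), (nat_lit 7607, [nat_lit 1, nat_lit 0, nat_lit 0]), (nat_lit 21574, [nat_lit 1]), (nat_lit 43137, [nat_lit 0, nat_lit 0]), (nat_lit 43477, [nat_lit 0]), (nat_lit 55042, [nat_lit 1, nat_lit 1]), (nat_lit 89323, [nat_lit 1, nat_lit 1, nat_lit 0]), (nat_lit 89525, [nat_lit 1, nat_lit 1, nat_lit 0, nat_lit 0])]),
  ([[nat_lit 6]], nat_lit 54, [(nat_lit 54, []), (nat_lit 21791, [nat_lit 0]), (nat_lit 75388, [nat_lit 0, nat_lit 0])]),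
  ([[nat_lit 3]], nat_lit 39, [(nat_lit 39, []), (nat_lit 77625, [nat_lit 0, nat_lit 0]), (nat_lit 91693, [nat_lit 0])]),
  ([[nat_lit 0]], nat_lit 0, [(nat_lit 0, []), (nat_lit 12271, [nat_lit 0, nat_lit 0]), (nat_lit 63253, [nat_lit 0])])]

theorem rel0 : P.relRow (dT H9.OutCo1.T W) H9.OutCo1.B 0 = true := by decide +kernel
theorem rel1 : P.relRow (dT H9.OutCo1.T W) H9.OutCo1.B 1 = true := by decide +kernel
theorem rel2 : P.relRow (dT H9.OutCo1.T W) H9.OutCo1.B 2 = true := by decide +kernel
theorem rel3 : P.relRow (dT H9.OutCo1.T W) H9.OutCo1.B 3 = true := by decide +kernel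
theorem rel4 : P.relRow (dT H9.OutCo1.T W) H9.OutCo1.B 4 = true := by decide +kernel
theorem rel5 : P.relRow (dT H9.OutCo1.T W) H9.OutCo1.B 5 = true := by decide +kernel
theorem rel6 : P.relRow (dT H9.OutCo1.T W) H9.OutCo1.B 6 = true := by decide +kernel
theorem rel7 : P.relRow (dT H9.OutCo1.T W) H9.OutCo1.B 7 = true := by decide +kernel
theorem rel8 : P.relRow (dT H9.OutCo1.T W) H9.OutCo1.B 8 = true := by decide +kernel
theorem fus0 : P.fusOk (dT H9.OutCo1.T W) H9.OutCo1.B fu 0 = true := by decide +kernel
theorem fus1 : P.fusOk (dT H9.OutCo1.T W) H9.OutCo1.B fu 1 = true := by decide +kernel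
theorem fus2 : P.fusOk (dT H9.OutCo1.T W) H9.OutCo1.B fu 2 = true := by decide +kernel
theorem fus3 : P.fusOk (dT H9.OutCo1.T W) H9.OutCo1.B fu 3 = true := by decide +kernel
theorem fus4 : P.fusOk (dT H9.OutCo1.T W) H9.OutCo1.B fu 4 = true := by decide +kernel
theorem fus5 : P.fusOk (dT H9.OutCo1.T W) H9.OutCo1.B fu 5 = true := by decide +kernel
theorem fus6 : P.fusOk (dT H9.OutCo1.T W) H9.OutCo1.B fu 6 = true := by decide +kernel
theorem fus7 : P.fusOk (dT H9.OutCo1.T W) H9.OutCo1.B fu 7 = true := by decide +kernel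
theorem fus8 : P.fusOk (dT H9.OutCo1.T W) H9.OutCo1.B fu 8 = true := by decide +kernel
theorem fus9 : P.fusOk (dT H9.OutCo1.T W) H9.OutCo1.B fu 9 = true := by decide +kernel
theorem fus10 : P.fusOk (dT H9.OutCo1.T W) H9.OutCo1.B fu 10 = true := by decide +kernel
theorem fus11 : P.fusOk (dT H9.OutCo1.T W) H9.OutCo1.B fu 11 = true := by decide +kernel
theorem fus12 : P.fusOk (dT H9.OutCo1.T W) H9.OutCo1.B fu 12 = true := by decide +kernel
theorem fus13 : P.fusOk (dT H9.OutCo1.T W) H9.OutCo1.B fu 13 = true := by decide +kernel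
theorem fus14 : P.fusOk (dT H9.OutCo1.T W) H9.OutCo1.B fu 14 = true := by decide +kernel
theorem fus15 : P.fusOk (dT H9.OutCo1.T W) H9.OutCo1.B fu 15 = true := by decide +kernel
theorem fus16 : P.fusOk (dT H9.OutCo1.T W) H9.OutCo1.B fu 16 = true := by decide +kernel
theorem fus17 : P.fusOk (dT H9.OutCo1.T W) H9.OutCo1.B fu 17 = true := by decide +kernel
theorem fus18 : P.fusOk (dT H9.OutCo1.T W) H9.OutCo1.B fu 18 = true := by decide +kernel
theorem fus19 : P.fusOk (dT H9.OutCo1.T W) H9.OutCo1.B fu 19 = true := by decide +kernel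
theorem fus20 : P.fusOk (dT H9.OutCo1.T W) H9.OutCo1.B fu 20 = true := by decide +kernel
theorem fus21 : P.fusOk (dT H9.OutCo1.T W) H9.OutCo1.B fu 21 = true := by decide +kernel
theorem fus22 : P.fusOk (dT H9.OutCo1.T W) H9.OutCo1.B fu 22 = true := by decide +kernel
theorem fin0 : P.finRow lam (bs :: CV) MU 0 = true := by decide +kernel
theorem fin1 : P.finRow lam (bs :: CV) MU 1 = true := by decide +kernel
theorem fin2 : P.finRow lam (bs :: CV) MU 2 = true := by decide +kernel
theorem fin3 : P.finRow lam (bs :: CV) MU 3 = true := by decide +kernel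
theorem fin4 : P.finRow lam (bs :: CV) MU 4 = true := by decide +kernel
theorem fin5 : P.finRow lam (bs :: CV) MU 5 = true := by decide +kernel
theorem fin6 : P.finRow lam (bs :: CV) MU 6 = true := by decide +kernel
theorem fin7 : P.finRow lam (bs :: CV) MU 7 = true := by decide +kernel
theorem fin8 : P.finRow lam (bs :: CV) MU 8 = true := by decide +kernel

theorem pm {G : Type*} [Group G] [Finite G] {A : RAct G 98280} {g : ℕ → G} (hb : A.IsBase H9.OutCo1.B)
    (h : A.Tab g 8 H9.OutCo1.T) (ho : Nat.card G = 4157776806543360000) : PMult G 3 0 0 :=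
  pmult_of_tab hb h ho P (show Nat.Prime 3 by norm_num) W fu 0 lam bs mo [cc0, cc1] CV MU lv 23
    (by decide +kernel) (forall_lt_succ' (forall_lt_succ' (forall_lt_succ' (forall_lt_succ' (forall_lt_succ' (forall_lt_succ' (forall_lt_succ' (forall_lt_succ' (forall_lt_succ' forall_lt_zero' rel0) rel1) rel2) rel3) rel4) rel5) rel6) rel7) rel8) (by decide +kernel)
    (forall_lt_succ' (forall_lt_succ' (forall_lt_succ' (forall_lt_succ' (forall_lt_succ' (forall_lt_succ' (forall_lt_succ' (forall_lt_succ' (forall_lt_succ' (forall_lt_succ' (forall_lt_succ' (forall_lt_succ' (forall_lt_succ' (forall_lt_succ' (forall_lt_succ' (forall_lt_succ' (forall_lt_succ' (forall_lt_succ' (forall_lt_succ' (forall_lt_succ' (forall_lt_succ' (forall_lt_succ' (forall_lt_succ' forall_lt_zero' fus0) fus1) fus2) fus3) fus4) fus5) fus6) fus7) fus8) fus9) fus10) fus11) fus12) fus13) fus14) fus15) fus16) fus17) fus18) fus19) fus20) fus21) fus22)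
    (by decide +kernel) (by decide +kernel) (by decide +kernel) (by decide +kernel)
    (List.forall_mem_cons.mpr ⟨con0, (List.forall_mem_cons.mpr ⟨con1, (by simp)⟩)⟩)
    (forall_lt_succ' (forall_lt_succ' (forall_lt_succ' (forall_lt_succ' (forall_lt_succ' (forall_lt_succ' (forall_lt_succ' (forall_lt_succ' (forall_lt_succ' forall_lt_zero' fin0) fin1) fin2) fin3) fin4) fin5) fin6) fin7) fin8) (by decide +kernel)

end Cfsg.Agent.L0.Co1P3
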