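import Cfsg.Agent.L0.PcCert
import Cfsg.Agent.L0.Dw
import Cfsg.Agent.H9.OutCo1D

/-! Generated certificate: the `5`-part of a Schur multiplier. -/

set_option autoImplicit false
set_option maxRecDepth 100000

namespace Cfsg.Agent.L0.Co1P5

noncomputable def W : List (List ℕ) := [
  dw (nat_lit 3) (nat_lit 7) (nat_lit 65) (nat_lit 0x45c0b312a638e2dc9e79b4ca614db5d24eda6920513da720e),
  dw (nat_lit 3) (nat_lit 7) (nat_lit 80) (nat_lit 0x14ce47cdb4db46b6d968e41c71d0216d36d7624a24b829a20e2f1ecf1b5),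
  dw (nat_lit 3) (nat_lit 7) (nat_lit 72) (nat_lit 0xb3883f8d0494490031d01ce3c7b3c6d46b6d968e4bdb4c341b4cdb),
  dw (nat_lit 3) (nat_lit 7) (nat_lit 61) (nat_lit 0x9fa1335d2492ffc494494c71c76d30124f1ca2c67fe24),
  dw (nat_lit 3) (nat_lit 7) (nat_lit 78) (nat_lit 0x38bf83804928935e61c8bf82789df053441c79fce38925e38e24838e3a0)]

noncomputable def P : PcP := ⟨nat_lit 5, nat_lit 3, nat_lit 3, nat_lit 0x100100100000a008000058000, nat_lit 12, nat_lit 4095, nat_lit 15, nat_lit 32767, nat_lit 5, nat_lit 14, nat_lit 10, nat_lit 9⟩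

noncomputable def fu : Fus := ⟨[nat_lit 512, nat_lit 64, nat_lit 8, nat_lit 1],
  [nat_lit 2076, nat_lit 1152, nat_lit 28, nat_lit 1],
  [nat_lit 4, nat_lit 4, nat_lit 4, nat_lit 4]⟩

noncomputable def lam : List ℕ := [nat_lit 0x0,
  nat_lit 0x0,
  nat_lit 0x10000,
  nat_lit 0x3000000000000000]

noncomputable def bs : List ℕ := []

noncomputable def mo : List ℕ := []

noncomputable def cv0 : List ℕ := [nat_lit 0x2000000000000000000000000000000,
  nat_lit 0x4000000080000000000000000000000,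
  nat_lit 0x10000000000000000000000000000000000,
  nat_lit 0x18000000000000000000,
  nat_lit 0x200080000000000000000000000,
  nat_lit 0x180000000000000100020008000c0000000000200000000000,
  nat_lit 0x40000000000200000000000,
  nat_lit 0x20000000000000018000000000000000003,
  nat_lit 0x20000000000000020002000c0018001000000000010000,
  nat_lit 0x8004000000000010000000000040000002]

noncomputable def cc0 : List Con := [
  ⟨nat_lit 0, nat_lit 0, nat_lit 1, [nat_lit 1], [], nthN cv0 (nat_lit 0)⟩,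
  ⟨nat_lit 0, nat_lit 0, nat_lit 1, [nat_lit 8], [], nthN cv0 (nat_lit 1)⟩,
  ⟨nat_lit 1, nat_lit 1, nat_lit 1, [nat_lit 8], [], nthN cv0 (nat_lit 2)⟩,
  ⟨nat_lit 1, nat_lit 0, nat_lit 0, [nat_lit 64], [], nthN cv0 (nat_lit 3)⟩,
  ⟨nat_lit 2, nat_lit 4, nat_lit 0, [nat_lit 3, nat_lit 1], [nat_lit 1, nat_lit 3], nthN cv0 (nat_lit 4)⟩,
  ⟨nat_lit 2, nat_lit 4, nat_lit 0, [nat_lit 2, nat_lit 1], [nat_lit 1, nat_lit 2, nat_lit 3, nat_lit 3], nthN cv0 (nat_lit 5)⟩,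
  ⟨nat_lit 2, nat_lit 4, nat_lit 0, [nat_lit 2, nat_lit 0], [nat_lit 0, nat_lit 2], nthN cv0 (nat_lit 6)⟩,
  ⟨nat_lit 2, nat_lit 4, nat_lit 0, [nat_lit 0, nat_lit 0, nat_lit 0, nat_lit 0, nat_lit 0], [], nthN cv0 (nat_lit 7)⟩,
  ⟨nat_lit 2, nat_lit 4, nat_lit 0, [nat_lit 1, nat_lit 0], [nat_lit 0, nat_lit 1, nat_lit 2, nat_lit 2, nat_lit 2], nthN cv0 (nat_lit 8)⟩,
  ⟨nat_lit 2, nat_lit 4, nat_lit 0, [nat_lit 1, nat_lit 1, nat_lit 1, nat_lit 1, nat_lit 1], [], nthN cv0 (nat_lit 9)⟩]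

theorem con0 : allL cc0 (P.conOk fu) = true := by decide +kernel

noncomputable def CV : List (List ℕ) := [cv0]

noncomputable def MU : List (List ℕ) := [[nat_lit 0x394e5],
  [nat_lit 0,
  nat_lit 0x7bfa4a],
  [nat_lit 0xf437,
  nat_lit 0,
  nat_lit 0x177],
  [nat_lit 0xb,
  nat_lit 0x9cc,
  nat_lit 0x2,
  nat_lit 0x32]]

noncomputable def lv : List (List (List ℕ) × ℕ × List (ℕ × List ℕ)) := [
  ([[nat_lit 1], [nat_lit 3]], nat_lit 3665, [(nat_lit 3665, []), (nat_lit 8217, [nat_lit 1, nat_lit 1, nat_lit 1, nat_lit 0, nat_lit 0, nat_lit 0]), (nat_lit 14581, [nat_lit 1, nat_lit 0, nat_lit 0]), (nat_lit 15155, [nat_lit 1, nat_lit 0, nat_lit 0, nat_lit 0, nat_lit 0]), (nat_lit 16887, [nat_lit 1, nat_lit 1, nat_lit 1, nat_lit 1, nat_lit 0]), (nat_lit 21033, [nat_lit 1, nat_lit 0]), (nat_lit 21737, [nat_lit 1]), (nat_lit 25098, [nat_lit 1, nat_lit 1]), (nat_lit 26404, [nat_lit 1, nat_lit 1, nat_lit 0, nat_lit 0,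 nat_lit 0]), (nat_lit 28533, [nat_lit 1, nat_lit 1, nat_lit 1, nat_lit 1, nat_lit 0, nat_lit 0, nat_lit 0, nat_lit 0]), (nat_lit 31109, [nat_lit 0, nat_lit 0, nat_lit 0]), (nat_lit 37192, [nat_lit 1, nat_lit 1, nat_lit 0]), (nat_lit 41943, [nat_lit 1, nat_lit 1, nat_lit 1, nat_lit 1, nat_lit 0, nat_lit 0]), (nat_lit 47611, [nat_lit 1, nat_lit 1, nat_lit 1, nat_lit 0, nat_lit 0]), (nat_lit 49325, [nat_lit 1, nat_lit 0, nat_lit 0, nat_lit 0]), (nat_lit 52041, [nat_lit 1, nat_lit 1, nat_lit 1, nat_lit 1, nat_lit 0, nat_lit 0, nat_lit 0]), (nat_lit 53496, [nat_lit 0, nat_lit 0, nat_lit 0, nat_lit 0]), (nat_lit 67936, [nat_lit 1, nat_lit 1, nat_lit 1, nat_lit 0]), (nat_lit 74606, [nat_lit 1, nat_lit 1, nat_lit 0, nat_lit 0, nat_lit 0, nat_lit 0]), (nat_lit 75792, [nat_lit 0, nat_lit 0]), (nat_lit 79317, [nat_lit 0]), (nat_lit 85515, [nat_lit 1, nat_lit 1, nat_lit 1, nat_lit 0, nat_lit 0, nat_lit 0, nat_lit 0]),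 (nat_lit 93990, [nat_lit 1, nat_lit 1, nat_lit 1, nat_lit 1]), (nat_lit 94897, [nat_lit 1, nat_lit 1, nat_lit 0, nat_lit 0]), (nat_lit 97647, [nat_lit 1, nat_lit 1, nat_lit 1])]),
  ([[nat_lit 2]], nat_lit 632, [(nat_lit 632, []), (nat_lit 16936, [nat_lit 0, nat_lit 0, nat_lit 0]), (nat_lit 68057, [nat_lit 0, nat_lit 0]), (nat_lit 82339, [nat_lit 0, nat_lit 0, nat_lit 0, nat_lit 0]), (nat_lit 89388, [nat_lit 0])]),
  ([[nat_lit 0]], nat_lit 0, [(nat_lit 0, []), (nat_lit 1016, [nat_lit 0]), (nat_lit 9781, [nat_lit 0, nat_lit 0, nat_lit 0, nat_lit 0]), (nat_lit 17403, [nat_lit 0, nat_lit 0]), (nat_lit 73087, [nat_lit 0, nat_lit 0, nat_lit 0])])]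

theorem rel0 : P.relRow (dT H9.OutCo1.T W) H9.OutCo1.B 0 = true := by decide +kernel
theorem rel1 : P.relRow (dT H9.OutCo1.T W) H9.OutCo1.B 1 = true := by decide +kernel
theorem rel2 : P.relRow (dT H9.OutCo1.T W) H9.OutCo1.B 2 = true := by decide +kernel
theorem rel3 : P.relRow (dT H9.OutCo1.T W) H9.OutCo1.B 3 = true := by decide +kernel
theorem fus0 : P.fusOk (dT H9.OutCo1.T W) H9.OutCo1.B fu 0 = true := by decide +kernel
theorem fus1 : P.fusOk (dT H9.OutCo1.T W) H9.OutCo1.B fu 1 = true := by decide +kernel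
theorem fus2 : P.fusOk (dT H9.OutCo1.T W) H9.OutCo1.B fu 2 = true := by decide +kernel
theorem fus3 : P.fusOk (dT H9.OutCo1.T W) H9.OutCo1.B fu 3 = true := by decide +kernel
theorem fin0 : P.finRow lam (bs :: CV) MU 0 = true := by decide +kernel
theorem fin1 : P.finRow lam (bs :: CV) MU 1 = true := by decide +kernel
theorem fin2 : P.finRow lam (bs :: CV) MU 2 = true := by decide +kernel
theorem fin3 : P.finRow lam (bs :: CV) MU 3 = true := by decide +kernel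

theorem pm {G : Type*} [Group G] [Finite G] {A : RAct G 98280} {g : ℕ → G} (hb : A.IsBase H9.OutCo1.B)
    (h : A.Tab g 8 H9.OutCo1.T) (ho : Nat.card G = 4157776806543360000) : PMult G 5 0 0 :=
  pmult_of_tab hb h ho P (show Nat.Prime 5 by norm_num) W fu 0 lam bs mo [cc0] CV MU lv 4
    (by decide +kernel) (forall_lt_succ' (forall_lt_succ' (forall_lt_succ' (forall_lt_succ' forall_lt_zero' rel0) rel1) rel2) rel3) (by decide +kernel)
    (forall_lt_succ' (forall_lt_succ' (forall_lt_succ' (forall_lt_succ' forall_lt_zero' fus0) fus1) fus2) fus3)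
    (by decide +kernel) (by decide +kernel) (by decide +kernel) (by decide +kernel)
    (List.forall_mem_cons.mpr ⟨con0, (by simp)⟩)
    (forall_lt_succ' (forall_lt_succ' (forall_lt_succ' (forall_lt_succ' forall_lt_zero' fin0) fin1) fin2) fin3) (by decide +kernel)

end Cfsg.Agent.L0.Co1P5
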