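import Cfsg.Agent.L0.PcCert
import Cfsg.Agent.L0.Dw
import Cfsg.Agent.H9.OutCo1D

/-! Generated certificate: the `7`-part of a Schur multiplier. -/

set_option autoImplicit false
set_option maxRecDepth 100000

namespace Cfsg.Agent.L0.Co1P7

noncomputable def W : List (List ℕ) := [
  dw (nat_lit 3) (nat_lit 7) (nat_lit 73) (nat_lit 0x5bdf286bf82789e01e79ca4a24a4f3cda6ad798722f3ff124c71c5b),
  dw (nat_lit 3) (nat_lit 7) (nat_lit 73) (nat_lit 0x596e5e3a579e7240be41e720143cf3c7624a2480db4c049c14d1071),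
  dw (nat_lit 3) (nat_lit 7) (nat_lit 70) (nat_lit 0x6bb6d3bb6d968140e7fec9039e1238e36d36d25eda647c83cee9),
  dw (nat_lit 3) (nat_lit 7) (nat_lit 66) (nat_lit 0x3283af4f25eda6b69b6f3ff076d349012f6d382789dcc71c5b)]

noncomputable def P : PcP := ⟨nat_lit 7, nat_lit 3, nat_lit 1, nat_lit 0x40, nat_lit 6, nat_lit 63, nat_lit 14, nat_lit 16383, nat_lit 7, nat_lit 6, nat_lit 7, nat_lit 8⟩

noncomputable def fu : Fus := ⟨[nat_lit 8, nat_lit 1, nat_lit 1],
  [nat_lit 34, nat_lit 1, nat_lit 4],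
  [nat_lit 2, nat_lit 2, nat_lit 3]⟩

noncomputable def lam : List ℕ := [nat_lit 0x0,
  nat_lit 0x0]

noncomputable def bs : List ℕ := []

noncomputable def mo : List ℕ := []

noncomputable def cv0 : List ℕ := [nat_lit 0xc000,
  nat_lit 0x20000003,
  nat_lit 0x30000000]

noncomputable def cc0 : List Con := [
  ⟨nat_lit 2, nat_lit 2, nat_lit 0, [nat_lit 1, nat_lit 0], [nat_lit 0, nat_lit 1], nthN cv0 (nat_lit 0)⟩,
  ⟨nat_lit 2, nat_lit 2, nat_lit 0, [nat_lit 0, nat_lit 0, nat_lit 0, nat_lit 0, nat_lit 0, nat_lit 0, nat_lit 0], [], nthN cv0 (nat_lit 1)⟩,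
  ⟨nat_lit 2, nat_lit 3, nat_lit 0, [nat_lit 2, nat_lit 2, nat_lit 2, nat_lit 2, nat_lit 2, nat_lit 2, nat_lit 2], [], nthN cv0 (nat_lit 2)⟩]

theorem con0 : allL cc0 (P.conOk fu) = true := by decide +kernel

noncomputable def CV : List (List ℕ) := [cv0]

noncomputable def MU : List (List ℕ) := [[nat_lit 0x3f],
  [nat_lit 0x2,
  nat_lit 0x62]]

noncomputable def lv : List (List (List ℕ) × ℕ × List (ℕ × List ℕ)) := [
  ([[nat_lit 1]], nat_lit 187, [(nat_lit 187, []), (nat_lit 25297, [nat_lit 0, nat_lit 0, nat_lit 0, nat_lit 0, nat_lit 0]), (nat_lit 38642, [nat_lit 0, nat_lit 0, nat_lit 0]), (nat_lit 42701, [nat_lit 0, nat_lit 0]), (nat_lit 50428, [nat_lit 0, nat_lit 0, nat_lit 0, nat_lit 0, nat_lit 0, nat_lit 0]), (nat_lit 68948, [nat_lit 0]), (nat_lit 98278, [nat_lit 0, nat_lit 0, nat_lit 0, nat_lit 0])]),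
  ([[nat_lit 0]], nat_lit 0, [(nat_lit 0, []), (nat_lit 7680, [nat_lit 0, nat_lit 0, nat_lit 0, nat_lit 0]), (nat_lit 12106, [nat_lit 0, nat_lit 0, nat_lit 0, nat_lit 0, nat_lit 0, nat_lit 0]), (nat_lit 12192, [nat_lit 0]), (nat_lit 30704, [nat_lit 0, nat_lit 0, nat_lit 0, nat_lit 0, nat_lit 0]), (nat_lit 31626, [nat_lit 0, nat_lit 0, nat_lit 0]), (nat_lit 96530, [nat_lit 0, nat_lit 0])])]

theorem rel0 : P.relRow (dT H9.OutCo1.T W) H9.OutCo1.B 0 = true := by decide +kernel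
theorem rel1 : P.relRow (dT H9.OutCo1.T W) H9.OutCo1.B 1 = true := by decide +kernel
theorem fus0 : P.fusOk (dT H9.OutCo1.T W) H9.OutCo1.B fu 0 = true := by decide +kernel
theorem fus1 : P.fusOk (dT H9.OutCo1.T W) H9.OutCo1.B fu 1 = true := by decide +kernel
theorem fus2 : P.fusOk (dT H9.OutCo1.T W) H9.OutCo1.B fu 2 = true := by decide +kernel
theorem fin0 : P.finRow lam (bs :: CV) MU 0 = true := by decide +kernel
theorem fin1 : P.finRow lam (bs :: CV) MU 1 = true := by decide +kernel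

theorem pm {G : Type*} [Group G] [Finite G] {A : RAct G 98280} {g : ℕ → G} (hb : A.IsBase H9.OutCo1.B)
    (h : A.Tab g 8 H9.OutCo1.T) (ho : Nat.card G = 4157776806543360000) : PMult G 7 0 0 :=
  pmult_of_tab hb h ho P (show Nat.Prime 7 by norm_num) W fu 0 lam bs mo [cc0] CV MU lv 3
    (by decide +kernel) (forall_lt_succ' (forall_lt_succ' forall_lt_zero' rel0) rel1) (by decide +kernel)
    (forall_lt_succ' (forall_lt_succ' (forall_lt_succ' forall_lt_zero' fus0) fus1) fus2)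
    (by decide +kernel) (by decide +kernel) (by decide +kernel) (by decide +kernel)
    (List.forall_mem_cons.mpr ⟨con0, (by simp)⟩)
    (forall_lt_succ' (forall_lt_succ' forall_lt_zero' fin0) fin1) (by decide +kernel)

end Cfsg.Agent.L0.Co1P7
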