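import Cfsg.Agent.L0.PcCert
import Cfsg.Agent.L0.Dw
import Cfsg.Agent.H9.OutCo2

/-! Generated certificate: the `3`-part of a Schur multiplier. -/

set_option autoImplicit false
set_option maxRecDepth 100000

namespace Cfsg.Agent.L0.Co2P3

noncomputable def W : List (List ℕ) := [
  dw (nat_lit 6) (nat_lit 63) (nat_lit 11) (nat_lit 0x3892b87251455651),
  dw (nat_lit 6) (nat_lit 63) (nat_lit 10) (nat_lit 0xe76b64c4d2516),
  dw (nat_lit 6) (nat_lit 63) (nat_lit 11) (nat_lit 0x137eb908355551693),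
  dw (nat_lit 6) (nat_lit 63) (nat_lit 12) (nat_lit 0x40256e3c051449a4db),
  dw (nat_lit 6) (nat_lit 63) (nat_lit 12) (nat_lit 0x1da9d0ac7553558496),
  dw (nat_lit 6) (nat_lit 63) (nat_lit 11) (nat_lit 0xcb2c2b1298491595),
  dw (nat_lit 6) (nat_lit 63) (nat_lit 11) (nat_lit 0xd44cc83112457453),
  dw (nat_lit 6) (nat_lit 63) (nat_lit 10) (nat_lit 0xb285e5b854d645b),
  dw (nat_lit 6) (nat_lit 63) (nat_lit 10) (nat_lit 0xe37d93d3516691),
  dw (nat_lit 6) (nat_lit 63) (nat_lit 11) (nat_lit 0xb9030101516524da)]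

noncomputable def P : PcP := ⟨nat_lit 3, nat_lit 2, nat_lit 5, nat_lit 0x100100100100100000500500400500001001601100004404000216a000, nat_lit 12, nat_lit 4095, nat_lit 12, nat_lit 4095, nat_lit 3, nat_lit 40, nat_lit 9, nat_lit 7⟩

noncomputable def fu : Fus := ⟨[nat_lit 1024, nat_lit 256, nat_lit 64, nat_lit 16, nat_lit 4, nat_lit 1, nat_lit 1024, nat_lit 256, nat_lit 16, nat_lit 4, nat_lit 1, nat_lit 1024, nat_lit 64, nat_lit 4, nat_lit 1, nat_lit 1024, nat_lit 256, nat_lit 16, nat_lit 1],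
  [nat_lit 2176, nat_lit 2473, nat_lit 169, nat_lit 24, nat_lit 5, nat_lit 1, nat_lit 2048, nat_lit 2321, nat_lit 33, nat_lit 8, nat_lit 1, nat_lit 1046, nat_lit 1160, nat_lit 146, nat_lit 1, nat_lit 1056, nat_lit 576, nat_lit 2082, nat_lit 1],
  [nat_lit 6, nat_lit 6, nat_lit 6, nat_lit 6, nat_lit 6, nat_lit 6, nat_lit 7, nat_lit 7, nat_lit 7, nat_lit 7, nat_lit 7, nat_lit 8, nat_lit 8, nat_lit 8, nat_lit 8, nat_lit 9, nat_lit 9, nat_lit 9, nat_lit 9]⟩

noncomputable def lam : List ℕ := [nat_lit 0x0,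
  nat_lit 0x0,
  nat_lit 0x1000002001000,
  nat_lit 0x0,
  nat_lit 0x1000000000000,
  nat_lit 0x2000000]

noncomputable def bs : List ℕ := []

noncomputable def mo : List ℕ := []

noncomputable def cv0 : List ℕ := [nat_lit 0x2000000000000000000000000000000000000000000000000,
  nat_lit 0x2000000000000000000000000000000000000000000000000000000000,
  nat_lit 0x2000000000000000000000000000000000000000000000000000,
  nat_lit 0x1000000000000000000000000000000000000000000000000000000000000,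
  nat_lit 0x2000001000000000000000000000000000000000000000000000,
  nat_lit 0x2001000000000000000000000000000000000000000000000000000,
  nat_lit 0x2001000002000000002000000000000000000000000000000000000000000,
  nat_lit 0x1000001000000000001002000000000000000000000000000000000000,
  nat_lit 0x2000002000000000001001000001000002000000000000000000000000,
  nat_lit 0x2000002002000001002000000000000002000000000001000000000000000,
  nat_lit 0x2000000000000001,
  nat_lit 0x2000000000000000000001001000000000000000000000000000000000000000000000000000000,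
  nat_lit 0x2000000000000000001000000001000000000000002000001000000000000000000000000000000,
  nat_lit 0x2000000000000000000002000002000000000000001000001000002000001000000000000000000,
  nat_lit 0x1002000000000000001001000001000000000001000002001000002000002000000000000000000,
  nat_lit 0x2000000000000002001001001000000001001000002001000000002001000001001000000000,
  nat_lit 0x1,
  nat_lit 0x2000000000000000000000000000000001000002000000001000000000000000000000000000000000000000000000,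
  nat_lit 0x2001001000001002000002000001001000000000000000000000000000000,
  nat_lit 0x2000000000000000000000000000000000000000000002000002001000002000002001000002000001000001000000002000000000,
  nat_lit 0x2002000000001000002001000001000001000002000000001000000000,
  nat_lit 0x2000000000000000000000000000000000000000000000000000000002000002000000000000000000000000000000000000000000000000000000,
  nat_lit 0x1000000000000000000000000000000000000000000000000000000002002000001002000002000001001000000000000000001000000001000000]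

noncomputable def cc0 : List Con := [
  ⟨nat_lit 1, nat_lit 1, nat_lit 1, [nat_lit 256], [], nthN cv0 (nat_lit 0)⟩,
  ⟨nat_lit 1, nat_lit 1, nat_lit 1, [nat_lit 4], [], nthN cv0 (nat_lit 1)⟩,
  ⟨nat_lit 0, nat_lit 0, nat_lit 2, [nat_lit 16], [], nthN cv0 (nat_lit 2)⟩,
  ⟨nat_lit 1, nat_lit 0, nat_lit 0, [nat_lit 16], [], nthN cv0 (nat_lit 3)⟩,
  ⟨nat_lit 0, nat_lit 0, nat_lit 2, [nat_lit 4], [], nthN cv0 (nat_lit 4)⟩,
  ⟨nat_lit 0, nat_lit 2, nat_lit 3, [nat_lit 4], [], nthN cv0 (nat_lit 5)⟩,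
  ⟨nat_lit 0, nat_lit 1, nat_lit 2, [nat_lit 64, nat_lit 64], [], nthN cv0 (nat_lit 6)⟩,
  ⟨nat_lit 0, nat_lit 1, nat_lit 2, [nat_lit 16], [], nthN cv0 (nat_lit 7)⟩,
  ⟨nat_lit 0, nat_lit 0, nat_lit 1, [nat_lit 64], [], nthN cv0 (nat_lit 8)⟩,
  ⟨nat_lit 1, nat_lit 0, nat_lit 0, [nat_lit 256], [], nthN cv0 (nat_lit 9)⟩,
  ⟨nat_lit 2, nat_lit 6, nat_lit 0, [nat_lit 0, nat_lit 0, nat_lit 0], [], nthN cv0 (nat_lit 10)⟩,
  ⟨nat_lit 2, nat_lit 6, nat_lit 0, [nat_lit 4, nat_lit 3], [nat_lit 3, nat_lit 4, nat_lit 5], nthN cv0 (nat_lit 11)⟩,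
  ⟨nat_lit 2, nat_lit 6, nat_lit 0, [nat_lit 4, nat_lit 0], [nat_lit 0, nat_lit 4, nat_lit 5], nthN cv0 (nat_lit 12)⟩,
  ⟨nat_lit 2, nat_lit 6, nat_lit 0, [nat_lit 3, nat_lit 0], [nat_lit 0, nat_lit 3, nat_lit 5], nthN cv0 (nat_lit 13)⟩,
  ⟨nat_lit 2, nat_lit 6, nat_lit 0, [nat_lit 3, nat_lit 1], [nat_lit 1, nat_lit 3, nat_lit 4, nat_lit 5, nat_lit 5], nthN cv0 (nat_lit 14)⟩,
  ⟨nat_lit 2, nat_lit 6, nat_lit 0, [nat_lit 2, nat_lit 1], [nat_lit 1, nat_lit 2, nat_lit 4], nthN cv0 (nat_lit 15)⟩,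
  ⟨nat_lit 2, nat_lit 7, nat_lit 0, [nat_lit 6, nat_lit 6, nat_lit 6], [], nthN cv0 (nat_lit 16)⟩,
  ⟨nat_lit 2, nat_lit 7, nat_lit 0, [nat_lit 8, nat_lit 6], [nat_lit 6, nat_lit 8, nat_lit 10], nthN cv0 (nat_lit 17)⟩,
  ⟨nat_lit 2, nat_lit 7, nat_lit 0, [nat_lit 9, nat_lit 7], [nat_lit 7, nat_lit 9], nthN cv0 (nat_lit 18)⟩,
  ⟨nat_lit 2, nat_lit 8, nat_lit 0, [nat_lit 13, nat_lit 11], [nat_lit 11, nat_lit 13, nat_lit 14], nthN cv0 (nat_lit 19)⟩,
  ⟨nat_lit 2, nat_lit 8, nat_lit 0, [nat_lit 12, nat_lit 11], [nat_lit 11, nat_lit 12], nthN cv0 (nat_lit 20)⟩,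
  ⟨nat_lit 2, nat_lit 9, nat_lit 0, [nat_lit 17, nat_lit 15], [nat_lit 15, nat_lit 17, nat_lit 18], nthN cv0 (nat_lit 21)⟩,
  ⟨nat_lit 2, nat_lit 9, nat_lit 0, [nat_lit 16, nat_lit 16, nat_lit 16], [nat_lit 18, nat_lit 18], nthN cv0 (nat_lit 22)⟩]

theorem con0 : allL cc0 (P.conOk fu) = true := by decide +kernel

noncomputable def CV : List (List ℕ) := [cv0]

noncomputable def MU : List (List ℕ) := [[nat_lit 0x521ae82],
  [nat_lit 0,
  nat_lit 0],
  [nat_lit 0x19fee902b,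
  nat_lit 0,
  nat_lit 0x522952b],
  [nat_lit 0x1395d330d3,
  nat_lit 0xb9268639a,
  nat_lit 0x1317b1,
  nat_lit 0x522ea4e],
  [nat_lit 0x13959a5c3b,
  nat_lit 0x2e3cb953,
  nat_lit 0x13959fc329,
  nat_lit 0x13959fbaad,
  nat_lit 0x309],
  [nat_lit 0xab,
  nat_lit 0x1,
  nat_lit 0x9,
  nat_lit 0xfc,
  nat_lit 0x3,
  nat_lit 0x36]]

noncomputable def lv : List (List (List ℕ) × ℕ × List (ℕ × List ℕ)) := [
  ([[nat_lit 1], [nat_lit 3], [nat_lit 4], [nat_lit 5]], nat_lit 0, [(nat_lit 0, []), (nat_lit 3, [nat_lit 3, nat_lit 1, nat_lit 1, nat_lit 0, nat_lit 0]), (nat_lit 9, [nat_lit 3, nat_lit 3, nat_lit 2, nat_lit 2, nat_lit 0]), (nat_lit 11, [nat_lit 1, nat_lit 2, nat_lit 2]), (nat_lit 14, [nat_lit 0]), (nat_lit 53, [nat_lit 1, nat_lit 2, nat_lit 2, nat_lit 1]), (nat_lit 56, [nat_lit 3, nat_lit 2]), (nat_lit 63, [nat_lit 3, nat_lit 1, nat_lit 1, nat_lit 0]), (nat_lit 70, [nat_lit 3, nat_lit 1]), (nat_lit 84, [nat_lit 2,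 nat_lit 2, nat_lit 0, nat_lit 0]), (nat_lit 116, [nat_lit 0, nat_lit 1, nat_lit 0]), (nat_lit 131, [nat_lit 2, nat_lit 0, nat_lit 1, nat_lit 0]), (nat_lit 182, [nat_lit 0, nat_lit 0]), (nat_lit 196, [nat_lit 0, nat_lit 1]), (nat_lit 199, [nat_lit 3, nat_lit 2, nat_lit 2]), (nat_lit 204, [nat_lit 3, nat_lit 2, nat_lit 0]), (nat_lit 227, [nat_lit 1, nat_lit 1, nat_lit 2, nat_lit 0]), (nat_lit 243, [nat_lit 1, nat_lit 0, nat_lit 1, nat_lit 0]), (nat_lit 324, [nat_lit 1, nat_lit 2, nat_lit 0]), (nat_lit 329, [nat_lit 1, nat_lit 2, nat_lit 1]), (nat_lit 355, [nat_lit 1, nat_lit 0]), (nat_lit 366, [nat_lit 0, nat_lit 0, nat_lit 1]), (nat_lit 392, [nat_lit 1, nat_lit 2]), (nat_lit 435, [nat_lit 1, nat_lit 0, nat_lit 0, nat_lit 1]), (nat_lit 440, [nat_lit 1, nat_lit 0, nat_lit 0]), (nat_lit 470, [nat_lit 3, nat_lit 3, nat_lit 2, nat_lit 2]), (nat_lit 480, [nat_lit 2, nat_lit 0, nat_lit 1, nat_lit 1]), (nat_lit 531, [nat_lit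 3, nat_lit 2, nat_lit 0, nat_lit 0]), (nat_lit 566, [nat_lit 3, nat_lit 3, nat_lit 2, nat_lit 0, nat_lit 0]), (nat_lit 580, [nat_lit 3, nat_lit 1, nat_lit 0, nat_lit 1]), (nat_lit 600, [nat_lit 3, nat_lit 3, nat_lit 1, nat_lit 1]), (nat_lit 606, [nat_lit 1, nat_lit 2, nat_lit 2, nat_lit 0]), (nat_lit 629, [nat_lit 0, nat_lit 1, nat_lit 1, nat_lit 0]), (nat_lit 669, [nat_lit 3, nat_lit 2, nat_lit 1, nat_lit 0]), (nat_lit 691, [nat_lit 2, nat_lit 1, nat_lit 1]), (nat_lit 692, [nat_lit 1, nat_lit 2, nat_lit 0, nat_lit 0]), (nat_lit 752, [nat_lit 1, nat_lit 0, nat_lit 0, nat_lit 1, nat_lit 1]), (nat_lit 774, [nat_lit 2]), (nat_lit 824, [nat_lit 3, nat_lit 0, nat_lit 1, nat_lit 0]), (nat_lit 839, [nat_lit 1, nat_lit 1]), (nat_lit 853, [nat_lit 0, nat_lit 0, nat_lit 1, nat_lit 1]), (nat_lit 868, [nat_lit 3, nat_lit 3, nat_lit 2, nat_lit 0]), (nat_lit 900, [nat_lit 3, nat_lit 3, nat_lit 0, nat_lit 0]), (nat_lit 950, [nat_lit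 2, nat_lit 1]), (nat_lit 953, [nat_lit 3, nat_lit 3, nat_lit 1]), (nat_lit 959, [nat_lit 3, nat_lit 1, nat_lit 0]), (nat_lit 968, [nat_lit 2, nat_lit 1, nat_lit 2, nat_lit 1]), (nat_lit 997, [nat_lit 1, nat_lit 2, nat_lit 0, nat_lit 1]), (nat_lit 1013, [nat_lit 0, nat_lit 1, nat_lit 0, nat_lit 1]), (nat_lit 1020, [nat_lit 2, nat_lit 1, nat_lit 1, nat_lit 0]), (nat_lit 1059, [nat_lit 1, nat_lit 1, nat_lit 0, nat_lit 0]), (nat_lit 1075, [nat_lit 1, nat_lit 1, nat_lit 2, nat_lit 0, nat_lit 0]), (nat_lit 1077, [nat_lit 3, nat_lit 3]), (nat_lit 1087, [nat_lit 2, nat_lit 2, nat_lit 1, nat_lit 1]), (nat_lit 1097, [nat_lit 1]), (nat_lit 1124, [nat_lit 1, nat_lit 0, nat_lit 1]), (nat_lit 1129, [nat_lit 1, nat_lit 1, nat_lit 0]), (nat_lit 1156, [nat_lit 2, nat_lit 1, nat_lit 0, nat_lit 0]), (nat_lit 1195, [nat_lit 1, nat_lit 1, nat_lit 2]), (nat_lit 1214, [nat_lit 3, nat_lit 0, nat_lit 0]), (nat_lit 1235, [nat_lit 3, nat_lit 3,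 nat_lit 0]), (nat_lit 1278, [nat_lit 2, nat_lit 2, nat_lit 1]), (nat_lit 1290, [nat_lit 2, nat_lit 0, nat_lit 1, nat_lit 1, nat_lit 0]), (nat_lit 1314, [nat_lit 2, nat_lit 0, nat_lit 0]), (nat_lit 1371, [nat_lit 2, nat_lit 0]), (nat_lit 1392, [nat_lit 3, nat_lit 0]), (nat_lit 1434, [nat_lit 2, nat_lit 1, nat_lit 2]), (nat_lit 1482, [nat_lit 3]), (nat_lit 1557, [nat_lit 2, nat_lit 0, nat_lit 0, nat_lit 1]), (nat_lit 1674, [nat_lit 0, nat_lit 1, nat_lit 1]), (nat_lit 1697, [nat_lit 2, nat_lit 1, nat_lit 0]), (nat_lit 1746, [nat_lit 2, nat_lit 0, nat_lit 1]), (nat_lit 1753, [nat_lit 3, nat_lit 0, nat_lit 1]), (nat_lit 1839, [nat_lit 3, nat_lit 2, nat_lit 2, nat_lit 0, nat_lit 0]), (nat_lit 1856, [nat_lit 3, nat_lit 2, nat_lit 1]), (nat_lit 1883, [nat_lit 3, nat_lit 3, nat_lit 2]), (nat_lit 2070, [nat_lit 3, nat_lit 2, nat_lit 2, nat_lit 0]), (nat_lit 2073, [nat_lit 3, nat_lit 1, nat_lit 0, nat_lit 0]), (nat_lit 2144, [nat_lit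 2, nat_lit 2, nat_lit 0]), (nat_lit 2204, [nat_lit 3, nat_lit 1, nat_lit 1]), (nat_lit 2211, [nat_lit 2, nat_lit 2])]),
  ([[nat_lit 0], [nat_lit 2]], nat_lit 21, [(nat_lit 21, []), (nat_lit 209, [nat_lit 1, nat_lit 0, nat_lit 0]), (nat_lit 321, [nat_lit 1, nat_lit 0]), (nat_lit 867, [nat_lit 1]), (nat_lit 1176, [nat_lit 0]), (nat_lit 1188, [nat_lit 0, nat_lit 0]), (nat_lit 1662, [nat_lit 1, nat_lit 1]), (nat_lit 1739, [nat_lit 1, nat_lit 1, nat_lit 0, nat_lit 0]), (nat_lit 2063, [nat_lit 1, nat_lit 1, nat_lit 0])])]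

theorem rel0 : P.relRow (dT H9.OutCo2.T W) H9.OutCo2.B 0 = true := by decide +kernel
theorem rel1 : P.relRow (dT H9.OutCo2.T W) H9.OutCo2.B 1 = true := by decide +kernel
theorem rel2 : P.relRow (dT H9.OutCo2.T W) H9.OutCo2.B 2 = true := by decide +kernel
theorem rel3 : P.relRow (dT H9.OutCo2.T W) H9.OutCo2.B 3 = true := by decide +kernel
theorem rel4 : P.relRow (dT H9.OutCo2.T W) H9.OutCo2.B 4 = true := by decide +kernel
theorem rel5 : P.relRow (dT H9.OutCo2.T W) H9.OutCo2.B 5 = true := by decide +kernel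
theorem fus0 : P.fusOk (dT H9.OutCo2.T W) H9.OutCo2.B fu 0 = true := by decide +kernel
theorem fus1 : P.fusOk (dT H9.OutCo2.T W) H9.OutCo2.B fu 1 = true := by decide +kernel
theorem fus2 : P.fusOk (dT H9.OutCo2.T W) H9.OutCo2.B fu 2 = true := by decide +kernel
theorem fus3 : P.fusOk (dT H9.OutCo2.T W) H9.OutCo2.B fu 3 = true := by decide +kernel
theorem fus4 : P.fusOk (dT H9.OutCo2.T W) H9.OutCo2.B fu 4 = true := by decide +kernel
theorem fus5 : P.fusOk (dT H9.OutCo2.T W) H9.OutCo2.B fu 5 = true := by decide +kernel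
theorem fus6 : P.fusOk (dT H9.OutCo2.T W) H9.OutCo2.B fu 6 = true := by decide +kernel
theorem fus7 : P.fusOk (dT H9.OutCo2.T W) H9.OutCo2.B fu 7 = true := by decide +kernel
theorem fus8 : P.fusOk (dT H9.OutCo2.T W) H9.OutCo2.B fu 8 = true := by decide +kernel
theorem fus9 : P.fusOk (dT H9.OutCo2.T W) H9.OutCo2.B fu 9 = true := by decide +kernel
theorem fus10 : P.fusOk (dT H9.OutCo2.T W) H9.OutCo2.B fu 10 = true := by decide +kernel
theorem fus11 : P.fusOk (dT H9.OutCo2.T W) H9.OutCo2.B fu 11 = true := by decide +kernel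
theorem fus12 : P.fusOk (dT H9.OutCo2.T W) H9.OutCo2.B fu 12 = true := by decide +kernel
theorem fus13 : P.fusOk (dT H9.OutCo2.T W) H9.OutCo2.B fu 13 = true := by decide +kernel
theorem fus14 : P.fusOk (dT H9.OutCo2.T W) H9.OutCo2.B fu 14 = true := by decide +kernel
theorem fus15 : P.fusOk (dT H9.OutCo2.T W) H9.OutCo2.B fu 15 = true := by decide +kernel
theorem fus16 : P.fusOk (dT H9.OutCo2.T W) H9.OutCo2.B fu 16 = true := by decide +kernel
theorem fus17 : P.fusOk (dT H9.OutCo2.T W) H9.OutCo2.B fu 17 = true := by decide +kernel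
theorem fus18 : P.fusOk (dT H9.OutCo2.T W) H9.OutCo2.B fu 18 = true := by decide +kernel
theorem fin0 : P.finRow lam (bs :: CV) MU 0 = true := by decide +kernel
theorem fin1 : P.finRow lam (bs :: CV) MU 1 = true := by decide +kernel
theorem fin2 : P.finRow lam (bs :: CV) MU 2 = true := by decide +kernel
theorem fin3 : P.finRow lam (bs :: CV) MU 3 = true := by decide +kernel
theorem fin4 : P.finRow lam (bs :: CV) MU 4 = true := by decide +kernel
theorem fin5 : P.finRow lam (bs :: CV) MU 5 = true := by decide +kernel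

theorem pm {G : Type*} [Group G] [Finite G] {A : RAct G 2300} {g : ℕ → G} (hb : A.IsBase H9.OutCo2.B)
    (h : A.Tab g 51 H9.OutCo2.T) (ho : Nat.card G = 42305421312000) : PMult G 3 0 0 :=
  pmult_of_tab hb h ho P (show Nat.Prime 3 by norm_num) W fu 0 lam bs mo [cc0] CV MU lv 19
    (by decide +kernel) (forall_lt_succ' (forall_lt_succ' (forall_lt_succ' (forall_lt_succ' (forall_lt_succ' (forall_lt_succ' forall_lt_zero' rel0) rel1) rel2) rel3) rel4) rel5) (by decide +kernel)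
    (forall_lt_succ' (forall_lt_succ' (forall_lt_succ' (forall_lt_succ' (forall_lt_succ' (forall_lt_succ' (forall_lt_succ' (forall_lt_succ' (forall_lt_succ' (forall_lt_succ' (forall_lt_succ' (forall_lt_succ' (forall_lt_succ' (forall_lt_succ' (forall_lt_succ' (forall_lt_succ' (forall_lt_succ' (forall_lt_succ' (forall_lt_succ' forall_lt_zero' fus0) fus1) fus2) fus3) fus4) fus5) fus6) fus7) fus8) fus9) fus10) fus11) fus12) fus13) fus14) fus15) fus16) fus17) fus18)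
    (by decide +kernel) (by decide +kernel) (by decide +kernel) (by decide +kernel)
    (List.forall_mem_cons.mpr ⟨con0, (by simp)⟩)
    (forall_lt_succ' (forall_lt_succ' (forall_lt_succ' (forall_lt_succ' (forall_lt_succ' (forall_lt_succ' forall_lt_zero' fin0) fin1) fin2) fin3) fin4) fin5) (by decide +kernel)

end Cfsg.Agent.L0.Co2P3
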