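import Cfsg.Agent.L0.PcCert
import Cfsg.Agent.L0.Dw
import Cfsg.Agent.H9.OutCo2

/-! Generated certificate: the `5`-part of a Schur multiplier. -/

set_option autoImplicit false
set_option maxRecDepth 100000

namespace Cfsg.Agent.L0.Co2P5

noncomputable def W : List (List ℕ) := [
  dw (nat_lit 6) (nat_lit 63) (nat_lit 10) (nat_lit 0x2d709d5c55d5556),
  dw (nat_lit 6) (nat_lit 63) (nat_lit 10) (nat_lit 0x5825314c499456),
  dw (nat_lit 6) (nat_lit 63) (nat_lit 11) (nat_lit 0x177651e12984db4d8),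
  dw (nat_lit 6) (nat_lit 63) (nat_lit 9) (nat_lit 0x3261ed01a591)]

noncomputable def P : PcP := ⟨nat_lit 5, nat_lit 3, nat_lit 2, nat_lit 0x1008001400, nat_lit 9, nat_lit 511, nat_lit 14, nat_lit 16383, nat_lit 5, nat_lit 9, nat_lit 8, nat_lit 8⟩

noncomputable def fu : Fus := ⟨[nat_lit 64, nat_lit 8, nat_lit 1],
  [nat_lit 156, nat_lit 25, nat_lit 1],
  [nat_lit 3, nat_lit 3, nat_lit 3]⟩

noncomputable def lam : List ℕ := [nat_lit 0x0,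
  nat_lit 0x0,
  nat_lit 0xc000]

noncomputable def bs : List ℕ := []

noncomputable def mo : List ℕ := []

noncomputable def cv0 : List ℕ := [nat_lit 0x800000000000000000,
  nat_lit 0x200000000000000,
  nat_lit 0x300040000000000,
  nat_lit 0x400000000020000000,
  nat_lit 0x300000000008004000c0000000000,
  nat_lit 0x800000000030000001]

noncomputable def cc0 : List Con := [
  ⟨nat_lit 1, nat_lit 0, nat_lit 0, [nat_lit 8], [], nthN cv0 (nat_lit 0)⟩,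
  ⟨nat_lit 2, nat_lit 3, nat_lit 0, [nat_lit 2, nat_lit 1], [nat_lit 1, nat_lit 2], nthN cv0 (nat_lit 1)⟩,
  ⟨nat_lit 2, nat_lit 3, nat_lit 0, [nat_lit 2, nat_lit 0], [nat_lit 0, nat_lit 2], nthN cv0 (nat_lit 2)⟩,
  ⟨nat_lit 2, nat_lit 3, nat_lit 0, [nat_lit 1, nat_lit 1, nat_lit 1, nat_lit 1, nat_lit 1], [], nthN cv0 (nat_lit 3)⟩,
  ⟨nat_lit 2, nat_lit 3, nat_lit 0, [nat_lit 1, nat_lit 0], [nat_lit 0, nat_lit 1, nat_lit 2, nat_lit 2], nthN cv0 (nat_lit 4)⟩,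
  ⟨nat_lit 2, nat_lit 3, nat_lit 0, [nat_lit 0, nat_lit 0, nat_lit 0, nat_lit 0, nat_lit 0], [], nthN cv0 (nat_lit 5)⟩]

theorem con0 : allL cc0 (P.conOk fu) = true := by decide +kernel

noncomputable def CV : List (List ℕ) := [cv0]

noncomputable def MU : List (List ℕ) := [[nat_lit 0x32cc],
  [nat_lit 0,
  nat_lit 0xfe],
  [nat_lit 0x78,
  nat_lit 0xa,
  nat_lit 0x2]]

noncomputable def lv : List (List (List ℕ) × ℕ × List (ℕ × List ℕ)) := [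
  ([[nat_lit 0], [nat_lit 1], [nat_lit 2]], nat_lit 0, [(nat_lit 0, []), (nat_lit 3, [nat_lit 0, nat_lit 0, nat_lit 1, nat_lit 0, nat_lit 0]), (nat_lit 8, [nat_lit 1, nat_lit 0]), (nat_lit 18, [nat_lit 1, nat_lit 1, nat_lit 0, nat_lit 1, nat_lit 1, nat_lit 0]), (nat_lit 20, [nat_lit 2, nat_lit 1, nat_lit 0, nat_lit 1, nat_lit 1]), (nat_lit 23, [nat_lit 0, nat_lit 1, nat_lit 1, nat_lit 1, nat_lit 0, nat_lit 0, nat_lit 0]), (nat_lit 24, [nat_lit 1, nat_lit 1, nat_lit 0, nat_lit 1, nat_lit 1]), (nat_lit 27, [nat_lit 2, nat_lit 2, nat_lit 2, nat_lit 1, nat_lit 1]), (nat_lit 34, [nat_lit 0, nat_lit 1, nat_lit 1, nat_lit 1, nat_lit 1, nat_lit 0, nat_lit 0]), (nat_lit 37, [nat_lit 1, nat_lit 1, nat_lit 0, nat_lit 0, nat_lit 0]), (nat_lit 38, [nat_lit 2, nat_lit 0, nat_lit 0, nat_lit 0]), (nat_lit 84, [nat_lit 1, nat_lit 0, nat_lit 1, nat_lit 0, nat_lit 0, nat_lit 0]),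 (nat_lit 104, [nat_lit 1, nat_lit 1, nat_lit 1, nat_lit 0, nat_lit 0]), (nat_lit 180, [nat_lit 2, nat_lit 2, nat_lit 0]), (nat_lit 214, [nat_lit 1, nat_lit 0, nat_lit 0]), (nat_lit 228, [nat_lit 2, nat_lit 2, nat_lit 1]), (nat_lit 229, [nat_lit 1, nat_lit 1, nat_lit 1, nat_lit 0, nat_lit 0, nat_lit 0]), (nat_lit 232, [nat_lit 0, nat_lit 1, nat_lit 0, nat_lit 1]), (nat_lit 292, [nat_lit 2, nat_lit 2, nat_lit 2, nat_lit 0, nat_lit 0]), (nat_lit 346, [nat_lit 2]), (nat_lit 420, [nat_lit 0, nat_lit 0, nat_lit 0, nat_lit 1]), (nat_lit 435, [nat_lit 1, nat_lit 1, nat_lit 1, nat_lit 1, nat_lit 0, nat_lit 0]), (nat_lit 440, [nat_lit 1, nat_lit 0, nat_lit 0, nat_lit 0]), (nat_lit 452, [nat_lit 2, nat_lit 1, nat_lit 1, nat_lit 1]), (nat_lit 468, [nat_lit 1, nat_lit 1, nat_lit 1, nat_lit 0, nat_lit 0, nat_lit 0, nat_lit 0]), (nat_lit 470, [nat_lit 2, nat_lit 0, nat_lit 1,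 nat_lit 1]), (nat_lit 484, [nat_lit 2, nat_lit 1, nat_lit 1, nat_lit 1, nat_lit 1]), (nat_lit 487, [nat_lit 2, nat_lit 0, nat_lit 0, nat_lit 0, nat_lit 0]), (nat_lit 536, [nat_lit 1, nat_lit 1, nat_lit 1, nat_lit 0, nat_lit 1, nat_lit 0, nat_lit 0, nat_lit 0]), (nat_lit 551, [nat_lit 1, nat_lit 0, nat_lit 1]), (nat_lit 566, [nat_lit 2, nat_lit 1]), (nat_lit 581, [nat_lit 0, nat_lit 1, nat_lit 1]), (nat_lit 585, [nat_lit 2, nat_lit 2, nat_lit 2, nat_lit 0, nat_lit 0, nat_lit 0]), (nat_lit 604, [nat_lit 2, nat_lit 2, nat_lit 2, nat_lit 2, nat_lit 1, nat_lit 1, nat_lit 1]), (nat_lit 612, [nat_lit 0, nat_lit 1, nat_lit 1, nat_lit 1]), (nat_lit 613, [nat_lit 1, nat_lit 1, nat_lit 1, nat_lit 1, nat_lit 0, nat_lit 0, nat_lit 0, nat_lit 0]), (nat_lit 703, [nat_lit 2, nat_lit 2, nat_lit 2, nat_lit 2, nat_lit 0, nat_lit 0, nat_lit 0, nat_lit 0]), (nat_lit 711, [nat_lit 1,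 nat_lit 0, nat_lit 1, nat_lit 1, nat_lit 1, nat_lit 0, nat_lit 0]), (nat_lit 732, [nat_lit 2, nat_lit 0, nat_lit 0]), (nat_lit 742, [nat_lit 0, nat_lit 1, nat_lit 0, nat_lit 0]), (nat_lit 746, [nat_lit 1, nat_lit 1, nat_lit 1, nat_lit 0, nat_lit 1]), (nat_lit 749, [nat_lit 1, nat_lit 1, nat_lit 0, nat_lit 1, nat_lit 0]), (nat_lit 772, [nat_lit 0, nat_lit 0, nat_lit 1, nat_lit 1, nat_lit 0, nat_lit 0]), (nat_lit 773, [nat_lit 0, nat_lit 1, nat_lit 1, nat_lit 0]), (nat_lit 791, [nat_lit 2, nat_lit 2, nat_lit 2, nat_lit 1, nat_lit 1, nat_lit 1, nat_lit 1]), (nat_lit 807, [nat_lit 1, nat_lit 0, nat_lit 1, nat_lit 1, nat_lit 1, nat_lit 0]), (nat_lit 808, [nat_lit 2, nat_lit 0, nat_lit 0, nat_lit 1]), (nat_lit 821, [nat_lit 2, nat_lit 2, nat_lit 2, nat_lit 0, nat_lit 0, nat_lit 0, nat_lit 0]), (nat_lit 837, [nat_lit 2, nat_lit 0, nat_lit 1, nat_lit 0]), (nat_lit 839,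 [nat_lit 0, nat_lit 1, nat_lit 1, nat_lit 1, nat_lit 0]), (nat_lit 847, [nat_lit 2, nat_lit 2, nat_lit 2, nat_lit 2, nat_lit 1, nat_lit 1]), (nat_lit 852, [nat_lit 2, nat_lit 2, nat_lit 0, nat_lit 0]), (nat_lit 861, [nat_lit 0, nat_lit 1, nat_lit 0]), (nat_lit 865, [nat_lit 0, nat_lit 0, nat_lit 0, nat_lit 0, nat_lit 1]), (nat_lit 868, [nat_lit 1, nat_lit 1, nat_lit 0, nat_lit 1, nat_lit 0, nat_lit 0, nat_lit 0]), (nat_lit 870, [nat_lit 2, nat_lit 0]), (nat_lit 875, [nat_lit 1, nat_lit 1, nat_lit 1, nat_lit 1]), (nat_lit 900, [nat_lit 1, nat_lit 1, nat_lit 1, nat_lit 1, nat_lit 0]), (nat_lit 905, [nat_lit 0, nat_lit 1, nat_lit 0, nat_lit 1, nat_lit 0]), (nat_lit 908, [nat_lit 2, nat_lit 2, nat_lit 0, nat_lit 0, nat_lit 0]), (nat_lit 925, [nat_lit 1, nat_lit 1, nat_lit 0, nat_lit 1, nat_lit 0, nat_lit 0]), (nat_lit 937, [nat_lit 2, nat_lit 2, nat_lit 2, nat_lit 2,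 nat_lit 0]), (nat_lit 938, [nat_lit 1, nat_lit 0, nat_lit 1, nat_lit 0]), (nat_lit 940, [nat_lit 2, nat_lit 2, nat_lit 1, nat_lit 1, nat_lit 1, nat_lit 1]), (nat_lit 941, [nat_lit 1, nat_lit 1, nat_lit 0, nat_lit 1]), (nat_lit 955, [nat_lit 0, nat_lit 1, nat_lit 1, nat_lit 1, nat_lit 0, nat_lit 0]), (nat_lit 957, [nat_lit 1]), (nat_lit 962, [nat_lit 1, nat_lit 0, nat_lit 1, nat_lit 1, nat_lit 1, nat_lit 0, nat_lit 0, nat_lit 0]), (nat_lit 968, [nat_lit 1, nat_lit 1, nat_lit 0, nat_lit 1, nat_lit 1, nat_lit 0, nat_lit 0]), (nat_lit 971, [nat_lit 0, nat_lit 0]), (nat_lit 973, [nat_lit 0, nat_lit 0, nat_lit 1, nat_lit 1]), (nat_lit 974, [nat_lit 0, nat_lit 1, nat_lit 1, nat_lit 0, nat_lit 0, nat_lit 0]), (nat_lit 977, [nat_lit 2, nat_lit 1, nat_lit 0, nat_lit 1]), (nat_lit 989, [nat_lit 0, nat_lit 1]), (nat_lit 991, [nat_lit 0, nat_lit 0, nat_lit 1, nat_lit 0]), (nat_lit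 993, [nat_lit 0]), (nat_lit 997, [nat_lit 0, nat_lit 1, nat_lit 1, nat_lit 0, nat_lit 1, nat_lit 0]), (nat_lit 1000, [nat_lit 2, nat_lit 2, nat_lit 2, nat_lit 1, nat_lit 1, nat_lit 1]), (nat_lit 1001, [nat_lit 1, nat_lit 1, nat_lit 0, nat_lit 0, nat_lit 0, nat_lit 0]), (nat_lit 1013, [nat_lit 1, nat_lit 0, nat_lit 0, nat_lit 0, nat_lit 0]), (nat_lit 1029, [nat_lit 2, nat_lit 2, nat_lit 2, nat_lit 2]), (nat_lit 1043, [nat_lit 2, nat_lit 2, nat_lit 1, nat_lit 1, nat_lit 1]), (nat_lit 1044, [nat_lit 2, nat_lit 0, nat_lit 1]), (nat_lit 1053, [nat_lit 2, nat_lit 2, nat_lit 0, nat_lit 0, nat_lit 0, nat_lit 0]), (nat_lit 1055, [nat_lit 1, nat_lit 0, nat_lit 1, nat_lit 0, nat_lit 0]), (nat_lit 1060, [nat_lit 0, nat_lit 1, nat_lit 1, nat_lit 0, nat_lit 1]), (nat_lit 1062, [nat_lit 2, nat_lit 2, nat_lit 1, nat_lit 1]), (nat_lit 1063, [nat_lit 0, nat_lit 1, nat_lit 1, nat_lit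 1, nat_lit 1, nat_lit 0, nat_lit 0, nat_lit 0]), (nat_lit 1067, [nat_lit 2, nat_lit 2, nat_lit 2, nat_lit 2, nat_lit 1]), (nat_lit 1069, [nat_lit 1, nat_lit 0, nat_lit 1, nat_lit 1, nat_lit 0, nat_lit 0, nat_lit 0]), (nat_lit 1084, [nat_lit 2, nat_lit 1, nat_lit 0]), (nat_lit 1107, [nat_lit 1, nat_lit 0, nat_lit 1, nat_lit 1, nat_lit 0, nat_lit 0]), (nat_lit 1147, [nat_lit 1, nat_lit 1, nat_lit 1, nat_lit 1, nat_lit 0, nat_lit 0, nat_lit 0]), (nat_lit 1182, [nat_lit 1, nat_lit 1, nat_lit 1]), (nat_lit 1229, [nat_lit 2, nat_lit 2, nat_lit 2, nat_lit 2, nat_lit 1, nat_lit 1, nat_lit 1, nat_lit 1]), (nat_lit 1244, [nat_lit 1, nat_lit 1]), (nat_lit 1297, [nat_lit 1, nat_lit 1, nat_lit 1, nat_lit 0]), (nat_lit 1316, [nat_lit 0, nat_lit 1, nat_lit 1, nat_lit 1, nat_lit 1, nat_lit 0]), (nat_lit 1336, [nat_lit 0, nat_lit 1, nat_lit 1, nat_lit 0, nat_lit 0]), (nat_lit 1340,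 [nat_lit 0, nat_lit 0, nat_lit 0, nat_lit 0]), (nat_lit 1396, [nat_lit 1, nat_lit 1, nat_lit 0, nat_lit 1, nat_lit 1, nat_lit 0, nat_lit 0, nat_lit 0]), (nat_lit 1467, [nat_lit 2, nat_lit 2, nat_lit 1, nat_lit 0]), (nat_lit 1507, [nat_lit 0, nat_lit 1, nat_lit 0, nat_lit 0, nat_lit 0]), (nat_lit 1513, [nat_lit 2, nat_lit 2, nat_lit 2, nat_lit 2, nat_lit 0, nat_lit 0, nat_lit 0]), (nat_lit 1557, [nat_lit 2, nat_lit 2, nat_lit 2, nat_lit 0]), (nat_lit 1576, [nat_lit 0, nat_lit 0, nat_lit 1, nat_lit 1, nat_lit 0]), (nat_lit 1602, [nat_lit 0, nat_lit 0, nat_lit 0, nat_lit 1, nat_lit 0]), (nat_lit 1618, [nat_lit 1, nat_lit 0, nat_lit 1, nat_lit 1, nat_lit 1]), (nat_lit 1686, [nat_lit 2, nat_lit 1, nat_lit 1]), (nat_lit 1702, [nat_lit 2, nat_lit 2]), (nat_lit 1724, [nat_lit 2, nat_lit 2, nat_lit 2, nat_lit 2, nat_lit 0, nat_lit 0]), (nat_lit 1752, [nat_lit 1, nat_lit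 1, nat_lit 1, nat_lit 0, nat_lit 1, nat_lit 0, nat_lit 0]), (nat_lit 1760, [nat_lit 0, nat_lit 0, nat_lit 0]), (nat_lit 1774, [nat_lit 0, nat_lit 1, nat_lit 0, nat_lit 1, nat_lit 0, nat_lit 0]), (nat_lit 1809, [nat_lit 2, nat_lit 2, nat_lit 2, nat_lit 1]), (nat_lit 1877, [nat_lit 0, nat_lit 1, nat_lit 1, nat_lit 1, nat_lit 1]), (nat_lit 1888, [nat_lit 1, nat_lit 1, nat_lit 0, nat_lit 0]), (nat_lit 1900, [nat_lit 0, nat_lit 0, nat_lit 1]), (nat_lit 1916, [nat_lit 1, nat_lit 0, nat_lit 1, nat_lit 1]), (nat_lit 1929, [nat_lit 1, nat_lit 0, nat_lit 1, nat_lit 1, nat_lit 0]), (nat_lit 1989, [nat_lit 2, nat_lit 0, nat_lit 0, nat_lit 1, nat_lit 0]), (nat_lit 2056, [nat_lit 1, nat_lit 1, nat_lit 0]), (nat_lit 2080, [nat_lit 2, nat_lit 2, nat_lit 2]), (nat_lit 2164, [nat_lit 0, nat_lit 1, nat_lit 1, nat_lit 0, nat_lit 1, nat_lit 0, nat_lit 0]), (nat_lit 2248, [nat_lit 1,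 nat_lit 1, nat_lit 1, nat_lit 0, nat_lit 1, nat_lit 0])])]

theorem rel0 : P.relRow (dT H9.OutCo2.T W) H9.OutCo2.B 0 = true := by decide +kernel
theorem rel1 : P.relRow (dT H9.OutCo2.T W) H9.OutCo2.B 1 = true := by decide +kernel
theorem rel2 : P.relRow (dT H9.OutCo2.T W) H9.OutCo2.B 2 = true := by decide +kernel
theorem fus0 : P.fusOk (dT H9.OutCo2.T W) H9.OutCo2.B fu 0 = true := by decide +kernel
theorem fus1 : P.fusOk (dT H9.OutCo2.T W) H9.OutCo2.B fu 1 = true := by decide +kernel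
theorem fus2 : P.fusOk (dT H9.OutCo2.T W) H9.OutCo2.B fu 2 = true := by decide +kernel
theorem fin0 : P.finRow lam (bs :: CV) MU 0 = true := by decide +kernel
theorem fin1 : P.finRow lam (bs :: CV) MU 1 = true := by decide +kernel
theorem fin2 : P.finRow lam (bs :: CV) MU 2 = true := by decide +kernel

theorem pm {G : Type*} [Group G] [Finite G] {A : RAct G 2300} {g : ℕ → G} (hb : A.IsBase H9.OutCo2.B)
    (h : A.Tab g 51 H9.OutCo2.T) (ho : Nat.card G = 42305421312000) : PMult G 5 0 0 :=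
  pmult_of_tab hb h ho P (show Nat.Prime 5 by norm_num) W fu 0 lam bs mo [cc0] CV MU lv 3
    (by decide +kernel) (forall_lt_succ' (forall_lt_succ' (forall_lt_succ' forall_lt_zero' rel0) rel1) rel2) (by decide +kernel)
    (forall_lt_succ' (forall_lt_succ' (forall_lt_succ' forall_lt_zero' fus0) fus1) fus2)
    (by decide +kernel) (by decide +kernel) (by decide +kernel) (by decide +kernel)
    (List.forall_mem_cons.mpr ⟨con0, (by simp)⟩)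
    (forall_lt_succ' (forall_lt_succ' (forall_lt_succ' forall_lt_zero' fin0) fin1) fin2) (by decide +kernel)

end Cfsg.Agent.L0.Co2P5
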