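import Cfsg.Agent.L0.PcCert
import Cfsg.Agent.L0.Dw
import Cfsg.Agent.H9.OutCo3

/-! Generated certificate: the `2`-part of a Schur multiplier. -/

set_option autoImplicit false
set_option maxRecDepth 100000

namespace Cfsg.Agent.L0.Co3P2

noncomputable def W : List (List ℕ) := [
  dw (nat_lit 6) (nat_lit 63) (nat_lit 11) (nat_lit 0x631984c792411451),
  dw (nat_lit 6) (nat_lit 63) (nat_lit 11) (nat_lit 0xa34a361393452451),
  dw (nat_lit 6) (nat_lit 63) (nat_lit 10) (nat_lit 0x18f68b3424d3413),
  dw (nat_lit 6) (nat_lit 63) (nat_lit 11) (nat_lit 0x41a4059513451411),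
  dw (nat_lit 6) (nat_lit 63) (nat_lit 11) (nat_lit 0x25052a31134914d1),
  dw (nat_lit 6) (nat_lit 63) (nat_lit 9) (nat_lit 0x1b66775a4d3450),
  dw (nat_lit 6) (nat_lit 63) (nat_lit 11) (nat_lit 0x1519a18b0104d1410),
  dw (nat_lit 6) (nat_lit 63) (nat_lit 11) (nat_lit 0x67972662d0453451),
  dw (nat_lit 6) (nat_lit 63) (nat_lit 10) (nat_lit 0x28c28d311453413),
  dw (nat_lit 6) (nat_lit 63) (nat_lit 10) (nat_lit 0x413310290492491),
  dw (nat_lit 6) (nat_lit 63) (nat_lit 10) (nat_lit 0x3d420151c4d1410),
  dw (nat_lit 6) (nat_lit 63) (nat_lit 10) (nat_lit 0xc66c9108493452),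
  dw (nat_lit 6) (nat_lit 63) (nat_lit 10) (nat_lit 0x52454935e4114d3)]

noncomputable def P : PcP := ⟨nat_lit 2, nat_lit 1, nat_lit 9, nat_lit 0x40100401004010040100401008030080200c0200c02004050100401004014050040802009024080300104411044170440109c260843005c5619840000802000060000, nat_lit 10, nat_lit 1023, nat_lit 12, nat_lit 4095, nat_lit 2, nat_lit 74, nat_lit 7, nat_lit 7⟩

noncomputable def fu : Fus := ⟨[nat_lit 512, nat_lit 256, nat_lit 128, nat_lit 8, nat_lit 4, nat_lit 1, nat_lit 512, nat_lit 128, nat_lit 64, nat_lit 32, nat_lit 16, nat_lit 8, nat_lit 4, nat_lit 2, nat_lit 1, nat_lit 32, nat_lit 16, nat_lit 4, nat_lit 1],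
  [nat_lit 640, nat_lit 60, nat_lit 18, nat_lit 13, nat_lit 4, nat_lit 1, nat_lit 645, nat_lit 517, nat_lit 737, nat_lit 235, nat_lit 5, nat_lit 196, nat_lit 23, nat_lit 3, nat_lit 1, nat_lit 48, nat_lit 32, nat_lit 8, nat_lit 1],
  [nat_lit 10, nat_lit 10, nat_lit 10, nat_lit 10, nat_lit 10, nat_lit 10, nat_lit 11, nat_lit 11, nat_lit 11, nat_lit 11, nat_lit 11, nat_lit 11, nat_lit 11, nat_lit 11, nat_lit 11, nat_lit 12, nat_lit 12, nat_lit 12, nat_lit 12]⟩

noncomputable def lam : List ℕ := [nat_lit 0x0,
  nat_lit 0x0,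
  nat_lit 0x1000,
  nat_lit 0x0,
  nat_lit 0x1000001001000000000000000000000,
  nat_lit 0x1000000000000000000000000000000,
  nat_lit 0x0,
  nat_lit 0x1000000000000000000000000000000000000000000000000000000000000000,
  nat_lit 0x1000000000000000000000000000000001000001000000000000000000000000,
  nat_lit 0x1001000000000000000000000000]

noncomputable def bs : List ℕ := []

noncomputable def mo : List ℕ := []

noncomputable def cv0 : List ℕ := [nat_lit 0x1000000000000000000000000000000000000000000000000000000000000000000000000000000000000000000000000000000000000000000000000000000000000000000000000000,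
  nat_lit 0x1000000000000000000000000000000000000000000000000000000000000000000000000000000000000000000000000000000000000000000000000000000000000000000000000000000,
  nat_lit 0x1000000000000000000000000000000000000000000000000000000000000000000000000000000000000000000000000000000000000000000000000000000000000000000000000000000000,
  nat_lit 0x1000000000000000000000000000000000000000000000000000000000000000000000000000000000000000000000000000000000000000000000000000000000000000000000000000000000000,
  nat_lit 0x1000000000000000000000000000000000000000000000000000000000000000000000000000000000000000000000000000000000000000000000000000000000000000000000000000000000000000,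
  nat_lit 0x1000000000000000000000000000000000000000000000000000000000000000000000000000000000000000000000000000000000000000000000000000000000000000,
  nat_lit 0x1000000000000000000000000000000000000000000000000000000000000000000000000000000000000000000000000000000000000000000000000000000000000000000,
  nat_lit 0x1000000000000000000000000000000000000000000000000000000000000000000000000000000000000000000000000000000000000000000000000000000000000000000000,
  nat_lit 0x1000000000000000000000000000000000000000000000000000000000000000000000000000000000000000000000000000000000000000000000000000000000000000000000000,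
  nat_lit 0x1001000000000000,
  nat_lit 0x1000001000000000,
  nat_lit 0x1000000000000000000000000001000000000000000000000000000000000000000000000000000000000000000000000000000000000000000000000000000000000000000000000000000000000000000,
  nat_lit 0x1000000000000000000000000000000000000000000000000000000000000000000000000000000000000000000000000000001000000000000001000000000000000000000000000000000000000000000,
  nat_lit 0x1000000000000000000000000000000000000000000000000000000001000000000000000000001000000000000000000000000000000000000000000000000000000000000000000000000000000000000,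
  nat_lit 0x1000000000000000000000000000000000000000000000000000000000000000000000000000000000000000000000000000000000000000000000000000,
  nat_lit 0x1000000000001000000000000001000000000000000000000000000000000000000000000000000000000000000000000000001001000000000000000000000000000000000000000000000000000000000,
  nat_lit 0x1000001000000000000000000001000000000000000000000000000001001000000000000000000000000000000000000000000000000000000000000000000000000000000000000000000000000000000,
  nat_lit 0x1000000000000000000000000000000000000000000000000000000000000000000000000000000000000000000000000000000000000000000000000000000000,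
  nat_lit 0x1000001000000000000000000001000000000000000000000000000000000000000000000000000000000000000000000000000000000000000000000000000000000000000000,
  nat_lit 0x1000000000000000000001000000000000000000000000000000000000000000001000000000000000000000000000000000000000000000000000000000000000000000000000000000000000000,
  nat_lit 0x1000000000000000000001000000000000000000000000000000000000000001000000000000000000000000000000000000000000000000000000000000000000000000000000000000000000000,
  nat_lit 0x1001000000000000000001000000000000000000000000000000000000000000000000000000000000000000000000000000,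
  nat_lit 0x1001000000000000000000000000000000000000000000000001000000000000000000000000000000000000000000000000000000000000000000000000000000000000000000000000000,
  nat_lit 0x1000000000000000000000000000001001000000000000001000000001000000000000001000000000000000000000000000000000000000000000000000000000000000000000000000000000000000000,
  nat_lit 0x1001001000000000001000000000000000000000000001000000000000000000000001000000000000000000000000000000000000001000000000000000000000000000000000000000000000000000000,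
  nat_lit 0x1000001000000000000000000001000000000000000000000000001000000000000000000000001000000000000000000000000000000000000001000000000000000000000000000000000000000000000,
  nat_lit 0x1000001000000000000001000000000000000000000000000000000000000000000000001001000000000000000001000000000000000000000000000000000000000000000000000000000000000000000,
  nat_lit 0x1000001000000000000001000000000000000000000000000001000000000000000000000001000000000000000000000000000000000000000000000000000000000000000000000000000000000000000,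
  nat_lit 0x1001000001000000000000000000000000001000000000000000000000001000000000000000000000000000000000000000000000000000000000000000000000000000000000000000000000000000000,
  nat_lit 0x1000000000000000000001000000001001000000001000000000000001000000001000000000000000000000000000000000000000000000000000000000000000000000000000000000000000000000000,
  nat_lit 0x1000001000000001000000000000000001000000000000000000000001000000000000000000000001000000000000000000000000000000000000000000000000000000000000000000000000000000,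
  nat_lit 0x1000000000000000000000000000000000001000000000000001000000001000000000000001000000000000000000000000000000001000000000000000000000000000000000000000000000000000,
  nat_lit 0x1000001000000000000000000000001001000000001000000001000001000000001000000001000000000000000000000000000000000000000000001000000001000000000000000000000000000000000,
  nat_lit 0x1000001000000001000000001000000000001000000000000000000000001000000000000000000000000001000000000000000000000000000000000000000000000000000000000000000000000000000,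
  nat_lit 0x1000000001000000000000001000000000001000000000000001000000001000000000000001000000000000000000000000000001000000000000000000000000000000000000000000000000000000,
  nat_lit 0x1000000000000001001001000001000000001000000001000001000000001000000000000000000000000000000000000001001000000000001000000000000000000000000000000000000,
  nat_lit 0x1000001000000000000000000000001001000000001000001000001001000000001000001000001000000000000000000000000001000000000000000000001000001000001000000000000000000000000,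
  nat_lit 0x1000001001000000001000001001000000000001000001000001000000000001000001000000000000000000000000000000000000001000001001000000000000000000000000000000000000000,
  nat_lit 0x1000000000000000000000000000000000000000000000000000000000000000000000000000000000000000000000000000000000000000000000000000000000000000000000000000000000000000000000000000000000000,
  nat_lit 0x1000000000000000000000000000001000000001000000000000000000000000000000000000000000000000000000000000001000000000000000000000000000000000000000000001000000000000000]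

noncomputable def cc0 : List Con := [
  ⟨nat_lit 1, nat_lit 4, nat_lit 4, [nat_lit 32], [], nthN cv0 (nat_lit 0)⟩,
  ⟨nat_lit 1, nat_lit 5, nat_lit 5, [nat_lit 16], [], nthN cv0 (nat_lit 1)⟩,
  ⟨nat_lit 1, nat_lit 6, nat_lit 6, [nat_lit 8], [], nthN cv0 (nat_lit 2)⟩,
  ⟨nat_lit 1, nat_lit 7, nat_lit 7, [nat_lit 4], [], nthN cv0 (nat_lit 3)⟩,
  ⟨nat_lit 1, nat_lit 8, nat_lit 8, [nat_lit 2], [], nthN cv0 (nat_lit 4)⟩,
  ⟨nat_lit 0, nat_lit 0, nat_lit 8, [nat_lit 2], [], nthN cv0 (nat_lit 5)⟩,
  ⟨nat_lit 0, nat_lit 1, nat_lit 6, [nat_lit 8], [], nthN cv0 (nat_lit 6)⟩,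
  ⟨nat_lit 0, nat_lit 2, nat_lit 7, [nat_lit 4], [], nthN cv0 (nat_lit 7)⟩,
  ⟨nat_lit 0, nat_lit 3, nat_lit 7, [nat_lit 4], [], nthN cv0 (nat_lit 8)⟩,
  ⟨nat_lit 0, nat_lit 0, nat_lit 1, [nat_lit 256], [], nthN cv0 (nat_lit 9)⟩,
  ⟨nat_lit 1, nat_lit 0, nat_lit 0, [nat_lit 256], [], nthN cv0 (nat_lit 10)⟩,
  ⟨nat_lit 1, nat_lit 0, nat_lit 0, [nat_lit 16], [], nthN cv0 (nat_lit 11)⟩,
  ⟨nat_lit 1, nat_lit 0, nat_lit 0, [nat_lit 32], [], nthN cv0 (nat_lit 12)⟩,
  ⟨nat_lit 1, nat_lit 0, nat_lit 0, [nat_lit 8], [], nthN cv0 (nat_lit 13)⟩,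
  ⟨nat_lit 0, nat_lit 0, nat_lit 4, [nat_lit 2], [], nthN cv0 (nat_lit 14)⟩,
  ⟨nat_lit 0, nat_lit 0, nat_lit 4, [nat_lit 32], [], nthN cv0 (nat_lit 15)⟩,
  ⟨nat_lit 0, nat_lit 0, nat_lit 6, [nat_lit 8], [], nthN cv0 (nat_lit 16)⟩,
  ⟨nat_lit 0, nat_lit 2, nat_lit 4, [nat_lit 2], [], nthN cv0 (nat_lit 17)⟩,
  ⟨nat_lit 0, nat_lit 0, nat_lit 1, [nat_lit 2], [], nthN cv0 (nat_lit 18)⟩,
  ⟨nat_lit 0, nat_lit 0, nat_lit 2, [nat_lit 8], [], nthN cv0 (nat_lit 19)⟩,
  ⟨nat_lit 0, nat_lit 0, nat_lit 3, [nat_lit 8], [], nthN cv0 (nat_lit 20)⟩,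
  ⟨nat_lit 0, nat_lit 0, nat_lit 4, [nat_lit 8], [], nthN cv0 (nat_lit 21)⟩,
  ⟨nat_lit 0, nat_lit 0, nat_lit 4, [nat_lit 4], [], nthN cv0 (nat_lit 22)⟩,
  ⟨nat_lit 1, nat_lit 2, nat_lit 2, [nat_lit 32], [], nthN cv0 (nat_lit 23)⟩,
  ⟨nat_lit 1, nat_lit 3, nat_lit 3, [nat_lit 64], [], nthN cv0 (nat_lit 24)⟩,
  ⟨nat_lit 0, nat_lit 0, nat_lit 3, [nat_lit 64], [], nthN cv0 (nat_lit 25)⟩,
  ⟨nat_lit 0, nat_lit 0, nat_lit 1, [nat_lit 8], [], nthN cv0 (nat_lit 26)⟩,
  ⟨nat_lit 0, nat_lit 1, nat_lit 2, [nat_lit 32], [], nthN cv0 (nat_lit 27)⟩,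
  ⟨nat_lit 0, nat_lit 1, nat_lit 5, [nat_lit 8], [], nthN cv0 (nat_lit 28)⟩,
  ⟨nat_lit 0, nat_lit 2, nat_lit 4, [nat_lit 32], [], nthN cv0 (nat_lit 29)⟩,
  ⟨nat_lit 1, nat_lit 3, nat_lit 3, [nat_lit 8], [], nthN cv0 (nat_lit 30)⟩,
  ⟨nat_lit 0, nat_lit 0, nat_lit 2, [nat_lit 32], [], nthN cv0 (nat_lit 31)⟩,
  ⟨nat_lit 1, nat_lit 1, nat_lit 1, [nat_lit 64], [], nthN cv0 (nat_lit 32)⟩,
  ⟨nat_lit 0, nat_lit 1, nat_lit 3, [nat_lit 8], [], nthN cv0 (nat_lit 33)⟩,
  ⟨nat_lit 0, nat_lit 0, nat_lit 3, [nat_lit 32], [], nthN cv0 (nat_lit 34)⟩,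
  ⟨nat_lit 0, nat_lit 0, nat_lit 1, [nat_lit 32], [], nthN cv0 (nat_lit 35)⟩,
  ⟨nat_lit 0, nat_lit 0, nat_lit 1, [nat_lit 64], [], nthN cv0 (nat_lit 36)⟩,
  ⟨nat_lit 0, nat_lit 1, nat_lit 3, [nat_lit 64], [], nthN cv0 (nat_lit 37)⟩,
  ⟨nat_lit 2, nat_lit 10, nat_lit 0, [nat_lit 4, nat_lit 4], [nat_lit 5], nthN cv0 (nat_lit 38)⟩,
  ⟨nat_lit 2, nat_lit 10, nat_lit 0, [nat_lit 2, nat_lit 2], [], nthN cv0 (nat_lit 39)⟩]

theorem con0 : allL cc0 (P.conOk fu) = true := by decide +kernel

noncomputable def cv1 : List ℕ := [nat_lit 0x1000000000000000000000001000000000000000000000000000000000000000000000000000001001001000000001000000000000000000000000000000000000000000000000000000000000000000000000000000000000000,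
  nat_lit 0x1000000000000001000001000000000000001000001000000000000000000000000000000000000000000000000001000000000000001000000000000000000000000000000000000000000000000000000000000000000000,
  nat_lit 0x1000001000001000000000000000000000000000000000000000000001001001001000000000000001001001000000000000001001000000000000001000000000000000000000000000000000001000000,
  nat_lit 0x1001001001000000000000000000000000000000000000000000000001001000000000000000001001000000001000000000000000000000000000000000000000000000000000000000000000000,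
  nat_lit 0x1000000000000000000000000000000000000000000001000001000000000000000000000000000000000000000000000000001000000000000000000000000000000000000000000001000000000000000000000000000000000000000000000000000000000000,
  nat_lit 0x1000000000000000000000000000000000000000000001001000000000000000000000000000000000000000000000000000000000000000000000000000000000000000000000000000000000000000000000000000000000000000000000000000000000000000,
  nat_lit 0x1000000000000000000000000000001000000000000000000001000000000000000000000000000000000000000000000000000000000000000000001000000000000001,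
  nat_lit 0x1000000000000000000000000000000000000000000000000000000000000001001000000000000000000000000000000000000000000000001001000001000000000000001000000000000000000000000000000000000000000000000001000000001000000000,
  nat_lit 0x1000000000000000000000000000000000000000000001001001000001000001000000000001001000001000001000000000000000001000000001000000001000000000000000000001000001000000000000000000000000001001000000001000000000000000,
  nat_lit 0x1000000000000000000000000000000000000000001001000000000001000000000000000000000000000000000000000000000000001000000001000000000000000000001000000000000000000000000000000000000001000001000000001000000000,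
  nat_lit 0x1001000001000000000000000000000000000000001001001000001000000000000000001000000000000000000000000001000000001001001000001000000000000000000000000000000000000000000000000000001000001000001000000001000000000,
  nat_lit 0x1001000000000000000000000000000000000000000000000001001001001001000001001000000001000000000000001000001001001001001000000000001000000000000001000000000000000000000000001000001000000000001000000001000000000,
  nat_lit 0x1000000000000000000000000000000000000000000001000001000001001001001000000001000001000001001001000000000000000000000000000000001000001001001000000001000001000000000000001001000000001001000000001000000000000000,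
  nat_lit 0x1000000000000000000000000000000000000000000000000000000000000000000000000000000000000000000000000000000000000000000000000000000000000000000000000000000000000001000000000000000001000000000000000000000000000000000000000000,
  nat_lit 0x1000000000000000000000000000000000000000000000000000000000000000000000000000000000000000000000000000000000000000001000000000000000000000001000000000000000000000000000000000000000000000000000000000000000000000000000000000,
  nat_lit 0x1000000000000000000000000000000000000000000000000000000001000000000001000000000000000000000000000000000000000000000000000000000000000000000000000000000000000001001000000000000000000000000000000000000000000000000000000000]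

noncomputable def cc1 : List Con := [
  ⟨nat_lit 2, nat_lit 10, nat_lit 0, [nat_lit 4, nat_lit 1], [nat_lit 1, nat_lit 4, nat_lit 5], nthN cv1 (nat_lit 0)⟩,
  ⟨nat_lit 2, nat_lit 10, nat_lit 0, [nat_lit 3, nat_lit 0], [nat_lit 0, nat_lit 3, nat_lit 4], nthN cv1 (nat_lit 1)⟩,
  ⟨nat_lit 2, nat_lit 10, nat_lit 0, [nat_lit 1, nat_lit 1], [], nthN cv1 (nat_lit 2)⟩,
  ⟨nat_lit 2, nat_lit 10, nat_lit 0, [nat_lit 3, nat_lit 1], [nat_lit 1, nat_lit 3], nthN cv1 (nat_lit 3)⟩,
  ⟨nat_lit 2, nat_lit 11, nat_lit 0, [nat_lit 10, nat_lit 10], [nat_lit 14], nthN cv1 (nat_lit 4)⟩,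
  ⟨nat_lit 2, nat_lit 11, nat_lit 0, [nat_lit 13, nat_lit 13], [nat_lit 14], nthN cv1 (nat_lit 5)⟩,
  ⟨nat_lit 2, nat_lit 11, nat_lit 0, [nat_lit 7, nat_lit 7], [], nthN cv1 (nat_lit 6)⟩,
  ⟨nat_lit 2, nat_lit 11, nat_lit 0, [nat_lit 11, nat_lit 7], [nat_lit 7, nat_lit 11, nat_lit 14], nthN cv1 (nat_lit 7)⟩,
  ⟨nat_lit 2, nat_lit 11, nat_lit 0, [nat_lit 11, nat_lit 11], [nat_lit 14], nthN cv1 (nat_lit 8)⟩,
  ⟨nat_lit 2, nat_lit 11, nat_lit 0, [nat_lit 11, nat_lit 6], [nat_lit 6, nat_lit 11, nat_lit 12], nthN cv1 (nat_lit 9)⟩,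
  ⟨nat_lit 2, nat_lit 11, nat_lit 0, [nat_lit 8, nat_lit 7], [nat_lit 7, nat_lit 8, nat_lit 10, nat_lit 12, nat_lit 13], nthN cv1 (nat_lit 10)⟩,
  ⟨nat_lit 2, nat_lit 11, nat_lit 0, [nat_lit 9, nat_lit 7], [nat_lit 7, nat_lit 9, nat_lit 12, nat_lit 13], nthN cv1 (nat_lit 11)⟩,
  ⟨nat_lit 2, nat_lit 11, nat_lit 0, [nat_lit 9, nat_lit 9], [nat_lit 14], nthN cv1 (nat_lit 12)⟩,
  ⟨nat_lit 2, nat_lit 12, nat_lit 0, [nat_lit 16, nat_lit 16], [nat_lit 18], nthN cv1 (nat_lit 13)⟩,
  ⟨nat_lit 2, nat_lit 12, nat_lit 0, [nat_lit 17, nat_lit 17], [nat_lit 18], nthN cv1 (nat_lit 14)⟩,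
  ⟨nat_lit 2, nat_lit 12, nat_lit 0, [nat_lit 15, nat_lit 15], [nat_lit 18], nthN cv1 (nat_lit 15)⟩]

theorem con1 : allL cc1 (P.conOk fu) = true := by decide +kernel

noncomputable def CV : List (List ℕ) := [cv0, cv1]

noncomputable def MU : List (List ℕ) := [[nat_lit 0x7080008e6890],
  [nat_lit 0,
  nat_lit 0x60340210218865],
  [nat_lit 0x3080008e4490,
  nat_lit 0x3080008e4290,
  nat_lit 0x3080008e4090],
  [nat_lit 0x91c054bf6ca0,
  nat_lit 0,
  nat_lit 0,
  nat_lit 0],
  [nat_lit 0,
  nat_lit 0x611081295a0829,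
  nat_lit 0x10220c982a,
  nat_lit 0x6110bcaa1ad973,
  nat_lit 0x611080015a0009],
  [nat_lit 0xc11080015a9809,
  nat_lit 0xc11098a1d60039,
  nat_lit 0xc11080831ad012,
  nat_lit 0xc11084031ad030,
  nat_lit 0xc11080015a082b,
  nat_lit 0xc11080015a8029],
  [nat_lit 0,
  nat_lit 0x80210200052,
  nat_lit 0xc121c055738991,
  nat_lit 0x7011eeac9c01a9,
  nat_lit 0x21000005d,
  nat_lit 0x50000920,
  nat_lit 0x12080015a0011],
  [nat_lit 0xc12080015aa811,
  nat_lit 0xc121c0517b8111,
  nat_lit 0x80028,
  nat_lit 0x100028,
  nat_lit 0x50600923,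
  nat_lit 0x400003,
  nat_lit 0xc12080015b8839,
  nat_lit 0xc12080015a8031],
  [nat_lit 0x300002003810,
  nat_lit 0xc121c0597b89b9,
  nat_lit 0x400a0,
  nat_lit 0xc11084020ad920,
  nat_lit 0x70ec092b,
  nat_lit 0x4000,
  nat_lit 0xc12080115b800d,
  nat_lit 0x20000,
  nat_lit 0xc1208001d48899],
  [nat_lit 0x20,
  nat_lit 0x40,
  nat_lit 0x80,
  nat_lit 0x100,
  nat_lit 0x1,
  nat_lit 0x2,
  nat_lit 0x4,
  nat_lit 0x8,
  nat_lit 0x10,
  nat_lit 0x820]]

noncomputable def lv : List (List (List ℕ) × ℕ × List (ℕ × List ℕ)) := [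
  ([[nat_lit 3], [nat_lit 4], [nat_lit 5], [nat_lit 6], [nat_lit 7], [nat_lit 8], [nat_lit 9]], nat_lit 0, [(nat_lit 0, []), (nat_lit 1, [nat_lit 0, nat_lit 3, nat_lit 0, nat_lit 0]), (nat_lit 2, [nat_lit 4, nat_lit 3, nat_lit 2, nat_lit 1]), (nat_lit 3, [nat_lit 6, nat_lit 5, nat_lit 1]), (nat_lit 5, [nat_lit 5]), (nat_lit 7, [nat_lit 3, nat_lit 0, nat_lit 2]), (nat_lit 10, [nat_lit 3, nat_lit 4, nat_lit 2, nat_lit 1, nat_lit 0]), (nat_lit 18, [nat_lit 6, nat_lit 0, nat_lit 0]), (nat_lit 23, [nat_lit 0, nat_lit 0, nat_lit 1]), (nat_lit 25, [nat_lit 3, nat_lit 1, nat_lit 0, nat_lit 0]), (nat_lit 29, [nat_lit 5, nat_lit 3, nat_lit 2, nat_lit 1]), (nat_lit 33, [nat_lit 3, nat_lit 1, nat_lit 2, nat_lit 0]), (nat_lit 36, [nat_lit 1, nat_lit 0, nat_lit 3]), (nat_lit 38, [nat_lit 0, nat_lit 3, nat_lit 1]), (nat_lit 39, [nat_lit 5, nat_lit 0]), (nat_lit 40, [nat_lit 0, nat_lit 5, nat_lit 0]), (nat_lit 44, [nat_lit 3, nat_lit 5, nat_lit 2, nat_lit 1]), (nat_lit 45, [nat_lit 1, nat_lit 0, nat_lit 1]), (nat_lit 48, [nat_lit 5,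 nat_lit 3]), (nat_lit 50, [nat_lit 3, nat_lit 1, nat_lit 0]), (nat_lit 53, [nat_lit 4, nat_lit 2, nat_lit 1, nat_lit 0]), (nat_lit 58, [nat_lit 4, nat_lit 0, nat_lit 1]), (nat_lit 60, [nat_lit 3, nat_lit 0, nat_lit 0, nat_lit 0]), (nat_lit 61, [nat_lit 4, nat_lit 1, nat_lit 0]), (nat_lit 62, [nat_lit 2, nat_lit 1, nat_lit 0]), (nat_lit 64, [nat_lit 5, nat_lit 4, nat_lit 3, nat_lit 1]), (nat_lit 65, [nat_lit 1, nat_lit 2]), (nat_lit 67, [nat_lit 6]), (nat_lit 68, [nat_lit 5, nat_lit 4, nat_lit 1]), (nat_lit 69, [nat_lit 6, nat_lit 5]), (nat_lit 71, [nat_lit 4, nat_lit 1, nat_lit 2, nat_lit 0]), (nat_lit 72, [nat_lit 5, nat_lit 0, nat_lit 1]), (nat_lit 73, [nat_lit 6, nat_lit 3, nat_lit 2]), (nat_lit 75, [nat_lit 4, nat_lit 3, nat_lit 2]), (nat_lit 77, [nat_lit 1, nat_lit 0, nat_lit 0]), (nat_lit 79, [nat_lit 4, nat_lit 2, nat_lit 0]), (nat_lit 80, [nat_lit 5, nat_lit 3, nat_lit 2, nat_lit 1, nat_lit 0]), (nat_lit 85, [nat_lit 5, nat_lit 1, nat_lit 2]), (nat_lit 86, [nat_lit 6, nat_lit 3, nat_lit 1]), (nat_lit 88, [nat_lit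 5, nat_lit 3, nat_lit 1]), (nat_lit 89, [nat_lit 4, nat_lit 3, nat_lit 2, nat_lit 0]), (nat_lit 90, [nat_lit 5, nat_lit 3, nat_lit 1, nat_lit 0]), (nat_lit 91, [nat_lit 5, nat_lit 2, nat_lit 1, nat_lit 0]), (nat_lit 96, [nat_lit 0, nat_lit 1]), (nat_lit 98, [nat_lit 3, nat_lit 4, nat_lit 2, nat_lit 0]), (nat_lit 99, [nat_lit 5, nat_lit 4, nat_lit 3]), (nat_lit 102, [nat_lit 3, nat_lit 5, nat_lit 2, nat_lit 0]), (nat_lit 107, [nat_lit 4, nat_lit 3, nat_lit 0]), (nat_lit 112, [nat_lit 3, nat_lit 0, nat_lit 2, nat_lit 1]), (nat_lit 113, [nat_lit 3, nat_lit 5, nat_lit 2, nat_lit 1, nat_lit 0]), (nat_lit 117, [nat_lit 3, nat_lit 5, nat_lit 1]), (nat_lit 118, [nat_lit 6, nat_lit 2]), (nat_lit 120, [nat_lit 1, nat_lit 0, nat_lit 3, nat_lit 0]), (nat_lit 124, [nat_lit 5, nat_lit 3, nat_lit 4, nat_lit 1]), (nat_lit 125, [nat_lit 3, nat_lit 4, nat_lit 1]), (nat_lit 130, [nat_lit 4, nat_lit 2]), (nat_lit 133, [nat_lit 3, nat_lit 0, nat_lit 1]), (nat_lit 135, [nat_lit 0, nat_lit 2, nat_lit 0]), (nat_lit 136, [nat_lit 4]), (nat_lit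 137, [nat_lit 3, nat_lit 2, nat_lit 1]), (nat_lit 139, [nat_lit 5, nat_lit 4, nat_lit 3, nat_lit 0]), (nat_lit 140, [nat_lit 4, nat_lit 0, nat_lit 2]), (nat_lit 143, [nat_lit 5, nat_lit 4, nat_lit 0]), (nat_lit 144, [nat_lit 0, nat_lit 0]), (nat_lit 148, [nat_lit 5, nat_lit 1, nat_lit 0]), (nat_lit 149, [nat_lit 2, nat_lit 1, nat_lit 0, nat_lit 0]), (nat_lit 152, [nat_lit 5, nat_lit 3, nat_lit 0]), (nat_lit 157, [nat_lit 3, nat_lit 2, nat_lit 0]), (nat_lit 158, [nat_lit 4, nat_lit 3, nat_lit 2, nat_lit 1, nat_lit 0]), (nat_lit 159, [nat_lit 0, nat_lit 5]), (nat_lit 162, [nat_lit 5, nat_lit 1, nat_lit 2, nat_lit 0]), (nat_lit 163, [nat_lit 4, nat_lit 3, nat_lit 1, nat_lit 0]), (nat_lit 165, [nat_lit 6, nat_lit 1]), (nat_lit 166, [nat_lit 3, nat_lit 0]), (nat_lit 167, [nat_lit 0, nat_lit 2, nat_lit 1]), (nat_lit 168, [nat_lit 5, nat_lit 3, nat_lit 2, nat_lit 0]), (nat_lit 174, [nat_lit 1, nat_lit 0]), (nat_lit 175, [nat_lit 6, nat_lit 5, nat_lit 2]), (nat_lit 176, [nat_lit 0, nat_lit 3]), (nat_lit 179, [nat_lit 3, nat_lit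 5, nat_lit 2]), (nat_lit 180, [nat_lit 3, nat_lit 0, nat_lit 0]), (nat_lit 181, [nat_lit 6, nat_lit 0, nat_lit 1]), (nat_lit 183, [nat_lit 3, nat_lit 1]), (nat_lit 185, [nat_lit 6, nat_lit 0]), (nat_lit 186, [nat_lit 6, nat_lit 0, nat_lit 0, nat_lit 0]), (nat_lit 187, [nat_lit 5, nat_lit 2, nat_lit 1]), (nat_lit 188, [nat_lit 2]), (nat_lit 189, [nat_lit 4, nat_lit 0]), (nat_lit 191, [nat_lit 6, nat_lit 4, nat_lit 1]), (nat_lit 196, [nat_lit 4, nat_lit 1]), (nat_lit 197, [nat_lit 0]), (nat_lit 199, [nat_lit 0, nat_lit 0, nat_lit 0]), (nat_lit 200, [nat_lit 2, nat_lit 0]), (nat_lit 202, [nat_lit 3, nat_lit 2, nat_lit 0, nat_lit 1]), (nat_lit 205, [nat_lit 6, nat_lit 3]), (nat_lit 207, [nat_lit 3, nat_lit 4, nat_lit 0]), (nat_lit 208, [nat_lit 4, nat_lit 1, nat_lit 2]), (nat_lit 209, [nat_lit 3]), (nat_lit 210, [nat_lit 0, nat_lit 3, nat_lit 0]), (nat_lit 212, [nat_lit 5, nat_lit 3, nat_lit 2]), (nat_lit 213, [nat_lit 6, nat_lit 4, nat_lit 0]), (nat_lit 215, [nat_lit 6, nat_lit 1, nat_lit 0]), (nat_lit 218, [nat_lit 6,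 nat_lit 4]), (nat_lit 220, [nat_lit 5, nat_lit 4]), (nat_lit 222, [nat_lit 3, nat_lit 5, nat_lit 0]), (nat_lit 225, [nat_lit 4, nat_lit 3, nat_lit 1]), (nat_lit 232, [nat_lit 4, nat_lit 2, nat_lit 1]), (nat_lit 233, [nat_lit 5, nat_lit 2]), (nat_lit 235, [nat_lit 3, nat_lit 5, nat_lit 1, nat_lit 0]), (nat_lit 238, [nat_lit 2, nat_lit 0, nat_lit 1]), (nat_lit 241, [nat_lit 3, nat_lit 4, nat_lit 1, nat_lit 0]), (nat_lit 242, [nat_lit 0, nat_lit 2]), (nat_lit 246, [nat_lit 1]), (nat_lit 247, [nat_lit 5, nat_lit 3, nat_lit 4]), (nat_lit 248, [nat_lit 5, nat_lit 3, nat_lit 4, nat_lit 0]), (nat_lit 249, [nat_lit 5, nat_lit 2, nat_lit 0]), (nat_lit 252, [nat_lit 3, nat_lit 1, nat_lit 2]), (nat_lit 253, [nat_lit 5, nat_lit 1]), (nat_lit 255, [nat_lit 3, nat_lit 4, nat_lit 2]), (nat_lit 256, [nat_lit 3, nat_lit 2]), (nat_lit 261, [nat_lit 5, nat_lit 0, nat_lit 2]), (nat_lit 264, [nat_lit 3, nat_lit 5]), (nat_lit 265, [nat_lit 3, nat_lit 4, nat_lit 2, nat_lit 1]), (nat_lit 267, [nat_lit 3, nat_lit 2, nat_lit 1, nat_lit 0]), (nat_lit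 268, [nat_lit 3, nat_lit 4]), (nat_lit 269, [nat_lit 2, nat_lit 1]), (nat_lit 270, [nat_lit 1, nat_lit 2, nat_lit 0]), (nat_lit 274, [nat_lit 4, nat_lit 3])]),
  ([[nat_lit 1], [nat_lit 2]], nat_lit 56, [(nat_lit 56, []), (nat_lit 201, [nat_lit 0]), (nat_lit 204, [nat_lit 1]), (nat_lit 262, [nat_lit 1, nat_lit 0])]),
  ([[nat_lit 0]], nat_lit 42, [(nat_lit 42, []), (nat_lit 93, [nat_lit 0])])]

theorem rel0 : P.relRow (dT H9.OutCo3.T W) H9.OutCo3.B 0 = true := by decide +kernel
theorem rel1 : P.relRow (dT H9.OutCo3.T W) H9.OutCo3.B 1 = true := by decide +kernel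
theorem rel2 : P.relRow (dT H9.OutCo3.T W) H9.OutCo3.B 2 = true := by decide +kernel
theorem rel3 : P.relRow (dT H9.OutCo3.T W) H9.OutCo3.B 3 = true := by decide +kernel
theorem rel4 : P.relRow (dT H9.OutCo3.T W) H9.OutCo3.B 4 = true := by decide +kernel
theorem rel5 : P.relRow (dT H9.OutCo3.T W) H9.OutCo3.B 5 = true := by decide +kernel
theorem rel6 : P.relRow (dT H9.OutCo3.T W) H9.OutCo3.B 6 = true := by decide +kernel
theorem rel7 : P.relRow (dT H9.OutCo3.T W) H9.OutCo3.B 7 = true := by decide +kernel
theorem rel8 : P.relRow (dT H9.OutCo3.T W) H9.OutCo3.B 8 = true := by decide +kernel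
theorem rel9 : P.relRow (dT H9.OutCo3.T W) H9.OutCo3.B 9 = true := by decide +kernel
theorem fus0 : P.fusOk (dT H9.OutCo3.T W) H9.OutCo3.B fu 0 = true := by decide +kernel
theorem fus1 : P.fusOk (dT H9.OutCo3.T W) H9.OutCo3.B fu 1 = true := by decide +kernel
theorem fus2 : P.fusOk (dT H9.OutCo3.T W) H9.OutCo3.B fu 2 = true := by decide +kernel
theorem fus3 : P.fusOk (dT H9.OutCo3.T W) H9.OutCo3.B fu 3 = true := by decide +kernel
theorem fus4 : P.fusOk (dT H9.OutCo3.T W) H9.OutCo3.B fu 4 = true := by decide +kernel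
theorem fus5 : P.fusOk (dT H9.OutCo3.T W) H9.OutCo3.B fu 5 = true := by decide +kernel
theorem fus6 : P.fusOk (dT H9.OutCo3.T W) H9.OutCo3.B fu 6 = true := by decide +kernel
theorem fus7 : P.fusOk (dT H9.OutCo3.T W) H9.OutCo3.B fu 7 = true := by decide +kernel
theorem fus8 : P.fusOk (dT H9.OutCo3.T W) H9.OutCo3.B fu 8 = true := by decide +kernel
theorem fus9 : P.fusOk (dT H9.OutCo3.T W) H9.OutCo3.B fu 9 = true := by decide +kernel
theorem fus10 : P.fusOk (dT H9.OutCo3.T W) H9.OutCo3.B fu 10 = true := by decide +kernel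
theorem fus11 : P.fusOk (dT H9.OutCo3.T W) H9.OutCo3.B fu 11 = true := by decide +kernel
theorem fus12 : P.fusOk (dT H9.OutCo3.T W) H9.OutCo3.B fu 12 = true := by decide +kernel
theorem fus13 : P.fusOk (dT H9.OutCo3.T W) H9.OutCo3.B fu 13 = true := by decide +kernel
theorem fus14 : P.fusOk (dT H9.OutCo3.T W) H9.OutCo3.B fu 14 = true := by decide +kernel
theorem fus15 : P.fusOk (dT H9.OutCo3.T W) H9.OutCo3.B fu 15 = true := by decide +kernel
theorem fus16 : P.fusOk (dT H9.OutCo3.T W) H9.OutCo3.B fu 16 = true := by decide +kernel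
theorem fus17 : P.fusOk (dT H9.OutCo3.T W) H9.OutCo3.B fu 17 = true := by decide +kernel
theorem fus18 : P.fusOk (dT H9.OutCo3.T W) H9.OutCo3.B fu 18 = true := by decide +kernel
theorem fin0 : P.finRow lam (bs :: CV) MU 0 = true := by decide +kernel
theorem fin1 : P.finRow lam (bs :: CV) MU 1 = true := by decide +kernel
theorem fin2 : P.finRow lam (bs :: CV) MU 2 = true := by decide +kernel
theorem fin3 : P.finRow lam (bs :: CV) MU 3 = true := by decide +kernel
theorem fin4 : P.finRow lam (bs :: CV) MU 4 = true := by decide +kernel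
theorem fin5 : P.finRow lam (bs :: CV) MU 5 = true := by decide +kernel
theorem fin6 : P.finRow lam (bs :: CV) MU 6 = true := by decide +kernel
theorem fin7 : P.finRow lam (bs :: CV) MU 7 = true := by decide +kernel
theorem fin8 : P.finRow lam (bs :: CV) MU 8 = true := by decide +kernel
theorem fin9 : P.finRow lam (bs :: CV) MU 9 = true := by decide +kernel

theorem pm {G : Type*} [Group G] [Finite G] {A : RAct G 276} {g : ℕ → G} (hb : A.IsBase H9.OutCo3.B)
    (h : A.Tab g 40 H9.OutCo3.T) (ho : Nat.card G = 495766656000) : PMult G 2 0 0 :=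
  pmult_of_tab hb h ho P (show Nat.Prime 2 by norm_num) W fu 0 lam bs mo [cc0, cc1] CV MU lv 19
    (by decide +kernel) (forall_lt_succ' (forall_lt_succ' (forall_lt_succ' (forall_lt_succ' (forall_lt_succ' (forall_lt_succ' (forall_lt_succ' (forall_lt_succ' (forall_lt_succ' (forall_lt_succ' forall_lt_zero' rel0) rel1) rel2) rel3) rel4) rel5) rel6) rel7) rel8) rel9) (by decide +kernel)
    (forall_lt_succ' (forall_lt_succ' (forall_lt_succ' (forall_lt_succ' (forall_lt_succ' (forall_lt_succ' (forall_lt_succ' (forall_lt_succ' (forall_lt_succ' (forall_lt_succ' (forall_lt_succ' (forall_lt_succ' (forall_lt_succ' (forall_lt_succ' (forall_lt_succ' (forall_lt_succ' (forall_lt_succ' (forall_lt_succ' (forall_lt_succ' forall_lt_zero' fus0) fus1) fus2) fus3) fus4) fus5) fus6) fus7) fus8) fus9) fus10) fus11) fus12) fus13) fus14) fus15) fus16) fus17) fus18)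
    (by decide +kernel) (by decide +kernel) (by decide +kernel) (by decide +kernel)
    (List.forall_mem_cons.mpr ⟨con0, (List.forall_mem_cons.mpr ⟨con1, (by simp)⟩)⟩)
    (forall_lt_succ' (forall_lt_succ' (forall_lt_succ' (forall_lt_succ' (forall_lt_succ' (forall_lt_succ' (forall_lt_succ' (forall_lt_succ' (forall_lt_succ' (forall_lt_succ' forall_lt_zero' fin0) fin1) fin2) fin3) fin4) fin5) fin6) fin7) fin8) fin9) (by decide +kernel)

end Cfsg.Agent.L0.Co3P2
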