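import Cfsg.Agent.L0.PcCert
import Cfsg.Agent.L0.Dw
import Cfsg.Agent.H9.OutCo3

/-! Generated certificate: the `3`-part of a Schur multiplier. -/

set_option autoImplicit false
set_option maxRecDepth 100000

namespace Cfsg.Agent.L0.Co3P3

noncomputable def W : List (List ℕ) := [
  dw (nat_lit 6) (nat_lit 63) (nat_lit 11) (nat_lit 0x8845460151412413),
  dw (nat_lit 6) (nat_lit 63) (nat_lit 8) (nat_lit 0x7228de5044d0),
  dw (nat_lit 6) (nat_lit 63) (nat_lit 9) (nat_lit 0x965104b490493),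
  dw (nat_lit 6) (nat_lit 63) (nat_lit 8) (nat_lit 0x14a89630f453),
  dw (nat_lit 6) (nat_lit 63) (nat_lit 12) (nat_lit 0xe63d8544490490453),
  dw (nat_lit 6) (nat_lit 63) (nat_lit 10) (nat_lit 0x20078f7cc4d2450),
  dw (nat_lit 6) (nat_lit 63) (nat_lit 10) (nat_lit 0x2a550c2c6412453),
  dw (nat_lit 6) (nat_lit 63) (nat_lit 10) (nat_lit 0x7d87e11114534d0),
  dw (nat_lit 6) (nat_lit 63) (nat_lit 10) (nat_lit 0x29d8c7241412492),
  dw (nat_lit 6) (nat_lit 63) (nat_lit 10) (nat_lit 0x1127c9549492490)]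

noncomputable def P : PcP := ⟨nat_lit 3, nat_lit 2, nat_lit 6, nat_lit 0x100040010004001000400000100060010006001000000480110040011000006101a4040000412a04500001024000, nat_lit 14, nat_lit 16383, nat_lit 16, nat_lit 65535, nat_lit 3, nat_lit 47, nat_lit 10, nat_lit 10⟩

noncomputable def fu : Fus := ⟨[nat_lit 4096, nat_lit 1024, nat_lit 256, nat_lit 64, nat_lit 16, nat_lit 4, nat_lit 1, nat_lit 4096, nat_lit 1024, nat_lit 256, nat_lit 16, nat_lit 4, nat_lit 1, nat_lit 1024, nat_lit 256, nat_lit 64, nat_lit 16, nat_lit 4, nat_lit 1],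
  [nat_lit 8198, nat_lit 10401, nat_lit 10578, nat_lit 8282, nat_lit 32, nat_lit 4, nat_lit 1, nat_lit 4112, nat_lit 2052, nat_lit 6490, nat_lit 18, nat_lit 9, nat_lit 1, nat_lit 5268, nat_lit 9826, nat_lit 64, nat_lit 5, nat_lit 18, nat_lit 1],
  [nat_lit 7, nat_lit 7, nat_lit 7, nat_lit 7, nat_lit 7, nat_lit 7, nat_lit 7, nat_lit 8, nat_lit 8, nat_lit 8, nat_lit 8, nat_lit 8, nat_lit 8, nat_lit 9, nat_lit 9, nat_lit 9, nat_lit 9, nat_lit 9, nat_lit 9]⟩

noncomputable def lam : List ℕ := [nat_lit 0x0,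
  nat_lit 0x0,
  nat_lit 0x0,
  nat_lit 0x0,
  nat_lit 0x10002000000010000,
  nat_lit 0x20002000000020000,
  nat_lit 0x20002000000000000]

noncomputable def bs : List ℕ := []

noncomputable def mo : List ℕ := []

noncomputable def cv0 : List ℕ := [nat_lit 0x100000000000000000000000000000000000000000000000000000000000000000000000000000000000000000000,
  nat_lit 0x100000000000000000000000000000000000000000000000000000000000000000000000000000000000000000000000000000000,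
  nat_lit 0x20000000000000000000000000000000000000000000000000000000000000000000000000000,
  nat_lit 0x1000000000000000000000000000000000000000000000000000000000000000000000000000000000000000000000000000000000000,
  nat_lit 0x200020000000000000000000000000000000000000000000000000000000000000000000000000000000000000000000000000000,
  nat_lit 0x2000000000000000000000000000000000000000000000000000000000000000000000000000000000000,
  nat_lit 0x2000000000002000000000000000000000000000000000000000000000000000000000000000000000000000000000000,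
  nat_lit 0x100010000000000020000000000020000000000000000000000000000000000000000000000000000000000000000000000000000,
  nat_lit 0x1000000000000000000000000000200000000000000000000000000000000000000000000000000000000000000000000000000000000,
  nat_lit 0x2000000010001000200000000000000000000000000000000000200000000000000000000000000000000000000000000000000000000,
  nat_lit 0x2000100020000000000000001000000020001000000000000000000010000000000020000000000000000000000000000000000000000,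
  nat_lit 0x2000200020001000000000001000000010002000000000002000000000000000000020000000000000000000000000000000000000000,
  nat_lit 0x20000000100000002000000000000000200020002000000000000000200020000000000000000000000000000000000000000,
  nat_lit 0x2000100000002000200010000000000020002000100000000000000020001000200000000000000000000000000000000000000000000,
  nat_lit 0x100000000000000000000000000000000000000000001000000000000000000000000000000000000000000000000000000000000,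
  nat_lit 0x2000000000000000000000000000100000000000000000000000000000000000000000000000000000000000000000000000000000001,
  nat_lit 0x20000000000000000000000000001000100010000000000000002000000010000000000000000000000000000000000000000000000000000000000000000000000000000,
  nat_lit 0x2000100000001000100020000000000010001000000020002000000000000000000000000000000000000000000000000000000000000,
  nat_lit 0x20001000000000001000000020002000000000002000000000000000000020000000000000001000000000000000000000000,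
  nat_lit 0x20001000000000000000000000002000000010002000000020001000200020002000000020002000000000000000000010000000000000001000000000000000000000000,
  nat_lit 0x2000200000000000000000001000200000000000000020001000000020000000100020000000000020000000000000000000000000002000000000001000000010000,
  nat_lit 0x20000000100000000000000000001000000010001000000020000000100020001000100020002000000020002000100020000000000020000000000000001000000020000,
  nat_lit 0x200020002000000000002000000020000000100010002000000000000000000000000000100000002,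
  nat_lit 0x10001000100000000000000000000000200020002000200010000000000010002000100010001000100020002000200020000000100010001000000010002000000000000,
  nat_lit 0x20000000000000000000000000000000000000000000000000000000000000000000000000002000000000000000000000000000000000000000000000000000000000000000000000000000000000000,
  nat_lit 0x200000000000000010000000000020000000000000000000000000000000100000000000000000000000000000000000000000000,
  nat_lit 0x1000200000000000000020000000100000000000000000000000000000000000000000000000000000000000000000000000100000000,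
  nat_lit 0x20001000000000000000000000000000000000000000000000001000100000000000000010000000000020000000000020001000000000000000100000000000000000000000000000000000000010000,
  nat_lit 0x2000200000000000000000000000000000000000000000002000200020001000200020002000100020002000100020002000000000002000100000000000000000001000000000000000000020000,
  nat_lit 0x10001000100000000000000000000000000000000000000000000000200020002000100020000000000010002000100020002000200010000000000000000000000020000000000010000000000010000,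
  nat_lit 0x10000000000000000000000000000000000000000000000000000000000000000000000000000000000000001000000000000000000000001000000000000000000020000000000000000000000000000000000000000000000000000,
  nat_lit 0x20001000100000000000000000000000000000000000000000000000000000000000000000002000200010001000000000000000000020000000000000000000000000000000000000000000000000001000000000000000000000000,
  nat_lit 0x20000000100000000000000000000000000000000000000000000000000000000000000000001000200010001000200000000000000010002000100000000000200010000000000000000000100010002000000000000000000000000,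
  nat_lit 0x20000000000000000000000000000000000000000000000000000000000000000000000000001000100010000000100010001000100000001000000000001000000000002000200010001000000000000000100000000000100000002]

noncomputable def cc0 : List Con := [
  ⟨nat_lit 1, nat_lit 2, nat_lit 2, [nat_lit 256], [], nthN cv0 (nat_lit 0)⟩,
  ⟨nat_lit 1, nat_lit 2, nat_lit 2, [nat_lit 4], [], nthN cv0 (nat_lit 1)⟩,
  ⟨nat_lit 0, nat_lit 0, nat_lit 2, [nat_lit 4], [], nthN cv0 (nat_lit 2)⟩,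
  ⟨nat_lit 1, nat_lit 0, nat_lit 0, [nat_lit 16], [], nthN cv0 (nat_lit 3)⟩,
  ⟨nat_lit 0, nat_lit 0, nat_lit 2, [nat_lit 1], [], nthN cv0 (nat_lit 4)⟩,
  ⟨nat_lit 0, nat_lit 0, nat_lit 3, [nat_lit 4], [], nthN cv0 (nat_lit 5)⟩,
  ⟨nat_lit 0, nat_lit 0, nat_lit 3, [nat_lit 16], [], nthN cv0 (nat_lit 6)⟩,
  ⟨nat_lit 0, nat_lit 0, nat_lit 1, [nat_lit 16], [], nthN cv0 (nat_lit 7)⟩,
  ⟨nat_lit 1, nat_lit 0, nat_lit 0, [nat_lit 1024], [], nthN cv0 (nat_lit 8)⟩,
  ⟨nat_lit 1, nat_lit 2, nat_lit 2, [nat_lit 64], [], nthN cv0 (nat_lit 9)⟩,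
  ⟨nat_lit 0, nat_lit 0, nat_lit 2, [nat_lit 64], [], nthN cv0 (nat_lit 10)⟩,
  ⟨nat_lit 0, nat_lit 0, nat_lit 1, [nat_lit 64], [], nthN cv0 (nat_lit 11)⟩,
  ⟨nat_lit 0, nat_lit 0, nat_lit 1, [nat_lit 256], [], nthN cv0 (nat_lit 12)⟩,
  ⟨nat_lit 0, nat_lit 1, nat_lit 2, [nat_lit 64], [], nthN cv0 (nat_lit 13)⟩,
  ⟨nat_lit 2, nat_lit 7, nat_lit 0, [nat_lit 5, nat_lit 0], [nat_lit 0, nat_lit 5], nthN cv0 (nat_lit 14)⟩,
  ⟨nat_lit 2, nat_lit 7, nat_lit 0, [nat_lit 0, nat_lit 0, nat_lit 0], [], nthN cv0 (nat_lit 15)⟩,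
  ⟨nat_lit 2, nat_lit 7, nat_lit 0, [nat_lit 4, nat_lit 0], [nat_lit 0, nat_lit 4, nat_lit 6], nthN cv0 (nat_lit 16)⟩,
  ⟨nat_lit 2, nat_lit 7, nat_lit 0, [nat_lit 5, nat_lit 2], [nat_lit 2, nat_lit 5], nthN cv0 (nat_lit 17)⟩,
  ⟨nat_lit 2, nat_lit 7, nat_lit 0, [nat_lit 3, nat_lit 0], [nat_lit 0, nat_lit 3], nthN cv0 (nat_lit 18)⟩,
  ⟨nat_lit 2, nat_lit 7, nat_lit 0, [nat_lit 1, nat_lit 0], [nat_lit 0, nat_lit 1, nat_lit 5, nat_lit 5, nat_lit 6], nthN cv0 (nat_lit 19)⟩,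
  ⟨nat_lit 2, nat_lit 7, nat_lit 0, [nat_lit 2, nat_lit 0], [nat_lit 0, nat_lit 2, nat_lit 4, nat_lit 5], nthN cv0 (nat_lit 20)⟩,
  ⟨nat_lit 2, nat_lit 7, nat_lit 0, [nat_lit 3, nat_lit 2], [nat_lit 2, nat_lit 3, nat_lit 4, nat_lit 4, nat_lit 6], nthN cv0 (nat_lit 21)⟩,
  ⟨nat_lit 2, nat_lit 7, nat_lit 0, [nat_lit 1, nat_lit 1, nat_lit 1], [], nthN cv0 (nat_lit 22)⟩,
  ⟨nat_lit 2, nat_lit 7, nat_lit 0, [nat_lit 2, nat_lit 1], [nat_lit 1, nat_lit 2, nat_lit 4, nat_lit 4, nat_lit 5, nat_lit 5, nat_lit 6, nat_lit 6], nthN cv0 (nat_lit 23)⟩,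
  ⟨nat_lit 2, nat_lit 8, nat_lit 0, [nat_lit 10, nat_lit 7], [nat_lit 7, nat_lit 10, nat_lit 12], nthN cv0 (nat_lit 24)⟩,
  ⟨nat_lit 2, nat_lit 8, nat_lit 0, [nat_lit 10, nat_lit 8], [nat_lit 8, nat_lit 10], nthN cv0 (nat_lit 25)⟩,
  ⟨nat_lit 2, nat_lit 8, nat_lit 0, [nat_lit 8, nat_lit 8, nat_lit 8], [], nthN cv0 (nat_lit 26)⟩,
  ⟨nat_lit 2, nat_lit 8, nat_lit 0, [nat_lit 8, nat_lit 7], [nat_lit 7, nat_lit 8, nat_lit 11, nat_lit 11, nat_lit 12], nthN cv0 (nat_lit 27)⟩,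
  ⟨nat_lit 2, nat_lit 8, nat_lit 0, [nat_lit 9, nat_lit 7], [nat_lit 7, nat_lit 9, nat_lit 10, nat_lit 11], nthN cv0 (nat_lit 28)⟩,
  ⟨nat_lit 2, nat_lit 8, nat_lit 0, [nat_lit 9, nat_lit 8], [nat_lit 8, nat_lit 9, nat_lit 10, nat_lit 10, nat_lit 11, nat_lit 11, nat_lit 12, nat_lit 12], nthN cv0 (nat_lit 29)⟩,
  ⟨nat_lit 2, nat_lit 9, nat_lit 0, [nat_lit 16, nat_lit 15], [nat_lit 15, nat_lit 16, nat_lit 18, nat_lit 18], nthN cv0 (nat_lit 30)⟩,
  ⟨nat_lit 2, nat_lit 9, nat_lit 0, [nat_lit 15, nat_lit 13], [nat_lit 13, nat_lit 15, nat_lit 16, nat_lit 16, nat_lit 17, nat_lit 17, nat_lit 18], nthN cv0 (nat_lit 31)⟩,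
  ⟨nat_lit 2, nat_lit 9, nat_lit 0, [nat_lit 15, nat_lit 14], [nat_lit 14, nat_lit 15, nat_lit 16, nat_lit 16, nat_lit 18], nthN cv0 (nat_lit 32)⟩,
  ⟨nat_lit 2, nat_lit 9, nat_lit 0, [nat_lit 14, nat_lit 14, nat_lit 14], [nat_lit 18], nthN cv0 (nat_lit 33)⟩]

theorem con0 : allL cc0 (P.conOk fu) = true := by decide +kernel

noncomputable def CV : List (List ℕ) := [cv0]

noncomputable def MU : List (List ℕ) := [[nat_lit 0x1b61818],
  [nat_lit 0,
  nat_lit 0x49fa6053c3e],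
  [nat_lit 0,
  nat_lit 0,
  nat_lit 0x29a2d0da248dd5],
  [nat_lit 0x2e31d6bd,
  nat_lit 0xa6fe122142f0,
  nat_lit 0xa7e9c5f2785c,
  nat_lit 0x631824b56c5],
  [nat_lit 0xa6fa8a92854b,
  nat_lit 0x18a8cac6716,
  nat_lit 0xa7bfc21212ac,
  nat_lit 0x5382b342352a,
  nat_lit 0x5212],
  [nat_lit 0x91f6f5,
  nat_lit 0x5382baf04b72,
  nat_lit 0xc5565ac5bd,
  nat_lit 0x5382b2f4b3ab,
  nat_lit 0x9,
  nat_lit 0x19d7],
  [nat_lit 0xf3,
  nat_lit 0x8ee,
  nat_lit 0x2,
  nat_lit 0x4bf,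
  nat_lit 0x54,
  nat_lit 0x6,
  nat_lit 0x36]]

noncomputable def lv : List (List (List ℕ) × ℕ × List (ℕ × List ℕ)) := [
  ([[nat_lit 1], [nat_lit 2], [nat_lit 4], [nat_lit 5], [nat_lit 6]], nat_lit 0, [(nat_lit 0, []), (nat_lit 1, [nat_lit 1, nat_lit 0, nat_lit 3, nat_lit 1]), (nat_lit 3, [nat_lit 1, nat_lit 0, nat_lit 1, nat_lit 1, nat_lit 0]), (nat_lit 4, [nat_lit 4, nat_lit 0, nat_lit 3, nat_lit 1]), (nat_lit 5, [nat_lit 1, nat_lit 2, nat_lit 1, nat_lit 0, nat_lit 0]), (nat_lit 6, [nat_lit 3, nat_lit 3, nat_lit 2, nat_lit 1]), (nat_lit 7, [nat_lit 3, nat_lit 1, nat_lit 0, nat_lit 1]), (nat_lit 8, [nat_lit 0, nat_lit 0, nat_lit 3]), (nat_lit 9, [nat_lit 4, nat_lit 0, nat_lit 3, nat_lit 2]), (nat_lit 10, [nat_lit 0, nat_lit 0]), (nat_lit 11, [nat_lit 3, nat_lit 3, nat_lit 2, nat_lit 0]), (nat_lit 12, [nat_lit 4, nat_lit 1]), (nat_lit 13, [nat_lit 3, nat_lit 1, nat_lit 2, nat_lit 1, nat_lit 0]), (nat_lit 14, [nat_lit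 4, nat_lit 1, nat_lit 1, nat_lit 0]), (nat_lit 15, [nat_lit 4, nat_lit 0, nat_lit 1, nat_lit 0]), (nat_lit 16, [nat_lit 1, nat_lit 1, nat_lit 0]), (nat_lit 17, [nat_lit 0, nat_lit 0, nat_lit 1, nat_lit 2]), (nat_lit 19, [nat_lit 4, nat_lit 0, nat_lit 0]), (nat_lit 20, [nat_lit 4, nat_lit 4, nat_lit 1, nat_lit 1, nat_lit 0]), (nat_lit 21, [nat_lit 0, nat_lit 1, nat_lit 1, nat_lit 0]), (nat_lit 22, [nat_lit 3, nat_lit 1, nat_lit 0, nat_lit 3]), (nat_lit 23, [nat_lit 3]), (nat_lit 24, [nat_lit 2, nat_lit 1, nat_lit 1]), (nat_lit 25, [nat_lit 0, nat_lit 1, nat_lit 2, nat_lit 2]), (nat_lit 26, [nat_lit 0, nat_lit 1, nat_lit 2, nat_lit 2, nat_lit 1]), (nat_lit 27, [nat_lit 3, nat_lit 0, nat_lit 1, nat_lit 1]), (nat_lit 28, [nat_lit 4, nat_lit 4, nat_lit 2, nat_lit 2]), (nat_lit 29, [nat_lit 1, nat_lit 0, nat_lit 0, nat_lit 3]), (nat_lit 30, [nat_lit 2, nat_lit 2, nat_lit 1]), (nat_lit 31, [nat_lit 1, nat_lit 2, nat_lit 2]),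 (nat_lit 32, [nat_lit 0, nat_lit 3, nat_lit 2, nat_lit 2]), (nat_lit 33, [nat_lit 3, nat_lit 0, nat_lit 1, nat_lit 0, nat_lit 0]), (nat_lit 34, [nat_lit 1, nat_lit 2, nat_lit 0, nat_lit 0]), (nat_lit 35, [nat_lit 3, nat_lit 2, nat_lit 1, nat_lit 2, nat_lit 1]), (nat_lit 36, [nat_lit 3, nat_lit 0, nat_lit 3, nat_lit 2, nat_lit 0]), (nat_lit 37, [nat_lit 3, nat_lit 2, nat_lit 1]), (nat_lit 38, [nat_lit 3, nat_lit 0, nat_lit 3, nat_lit 2]), (nat_lit 39, [nat_lit 3, nat_lit 2, nat_lit 0, nat_lit 1]), (nat_lit 40, [nat_lit 4, nat_lit 2, nat_lit 1, nat_lit 0, nat_lit 0]), (nat_lit 41, [nat_lit 4, nat_lit 3, nat_lit 1]), (nat_lit 42, [nat_lit 4, nat_lit 4, nat_lit 3, nat_lit 3]), (nat_lit 43, [nat_lit 0, nat_lit 3, nat_lit 2, nat_lit 0]), (nat_lit 44, [nat_lit 3, nat_lit 2, nat_lit 1, nat_lit 0, nat_lit 0]), (nat_lit 45, [nat_lit 1, nat_lit 0, nat_lit 0, nat_lit 3, nat_lit 1]), (nat_lit 46, [nat_lit 3, nat_lit 0, nat_lit 3]),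 (nat_lit 47, [nat_lit 1, nat_lit 2, nat_lit 1, nat_lit 0]), (nat_lit 48, [nat_lit 4, nat_lit 1, nat_lit 0, nat_lit 1, nat_lit 1, nat_lit 0]), (nat_lit 51, [nat_lit 3, nat_lit 3, nat_lit 0]), (nat_lit 52, [nat_lit 1, nat_lit 0, nat_lit 1, nat_lit 2, nat_lit 0]), (nat_lit 55, [nat_lit 2, nat_lit 1, nat_lit 2, nat_lit 0]), (nat_lit 56, [nat_lit 1, nat_lit 2]), (nat_lit 57, [nat_lit 2, nat_lit 1, nat_lit 2]), (nat_lit 58, [nat_lit 4, nat_lit 3]), (nat_lit 59, [nat_lit 1, nat_lit 0, nat_lit 0]), (nat_lit 60, [nat_lit 4, nat_lit 0, nat_lit 3]), (nat_lit 62, [nat_lit 4, nat_lit 2, nat_lit 2]), (nat_lit 63, [nat_lit 3, nat_lit 3, nat_lit 2, nat_lit 1, nat_lit 2]), (nat_lit 64, [nat_lit 0, nat_lit 1, nat_lit 1, nat_lit 0, nat_lit 0]), (nat_lit 65, [nat_lit 0, nat_lit 1, nat_lit 2, nat_lit 0]), (nat_lit 66, [nat_lit 3, nat_lit 1, nat_lit 0, nat_lit 0]), (nat_lit 67, [nat_lit 4, nat_lit 0, nat_lit 1, nat_lit 1]), (nat_lit 69, [nat_lit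 0, nat_lit 1, nat_lit 2]), (nat_lit 70, [nat_lit 0, nat_lit 3, nat_lit 0]), (nat_lit 71, [nat_lit 3, nat_lit 3, nat_lit 1, nat_lit 2]), (nat_lit 72, [nat_lit 0, nat_lit 3, nat_lit 3, nat_lit 2, nat_lit 0]), (nat_lit 74, [nat_lit 4, nat_lit 2]), (nat_lit 75, [nat_lit 1, nat_lit 0, nat_lit 1]), (nat_lit 76, [nat_lit 4, nat_lit 1, nat_lit 0, nat_lit 1, nat_lit 1]), (nat_lit 77, [nat_lit 4, nat_lit 1, nat_lit 0, nat_lit 1]), (nat_lit 78, [nat_lit 2, nat_lit 1, nat_lit 0]), (nat_lit 79, [nat_lit 4, nat_lit 3, nat_lit 3, nat_lit 2, nat_lit 2]), (nat_lit 80, [nat_lit 3, nat_lit 2, nat_lit 0]), (nat_lit 82, [nat_lit 4, nat_lit 4, nat_lit 2, nat_lit 0]), (nat_lit 83, [nat_lit 3, nat_lit 0, nat_lit 3, nat_lit 0]), (nat_lit 86, [nat_lit 2, nat_lit 2, nat_lit 0, nat_lit 0]), (nat_lit 87, [nat_lit 4, nat_lit 1, nat_lit 0, nat_lit 0]), (nat_lit 88, [nat_lit 3, nat_lit 0, nat_lit 1]), (nat_lit 89, [nat_lit 4, nat_lit 4, nat_lit 0,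 nat_lit 0]), (nat_lit 90, [nat_lit 0, nat_lit 3]), (nat_lit 91, [nat_lit 1]), (nat_lit 92, [nat_lit 3, nat_lit 1, nat_lit 1]), (nat_lit 93, [nat_lit 4, nat_lit 4, nat_lit 3, nat_lit 3, nat_lit 2]), (nat_lit 94, [nat_lit 1, nat_lit 1, nat_lit 0, nat_lit 3]), (nat_lit 95, [nat_lit 1, nat_lit 1, nat_lit 0, nat_lit 0]), (nat_lit 96, [nat_lit 0, nat_lit 1, nat_lit 0, nat_lit 1, nat_lit 1, nat_lit 0]), (nat_lit 97, [nat_lit 1, nat_lit 0, nat_lit 3]), (nat_lit 99, [nat_lit 2, nat_lit 2, nat_lit 1, nat_lit 1, nat_lit 0]), (nat_lit 101, [nat_lit 4, nat_lit 4, nat_lit 3, nat_lit 2]), (nat_lit 102, [nat_lit 0, nat_lit 3, nat_lit 1, nat_lit 1]), (nat_lit 103, [nat_lit 1, nat_lit 0]), (nat_lit 104, [nat_lit 4, nat_lit 2, nat_lit 0, nat_lit 1]), (nat_lit 105, [nat_lit 0, nat_lit 1, nat_lit 0, nat_lit 0]), (nat_lit 106, [nat_lit 0, nat_lit 1, nat_lit 0, nat_lit 1, nat_lit 1]), (nat_lit 107, [nat_lit 3, nat_lit 0, nat_lit 1, nat_lit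 0]), (nat_lit 108, [nat_lit 3, nat_lit 0, nat_lit 0, nat_lit 1]), (nat_lit 109, [nat_lit 3, nat_lit 3, nat_lit 2, nat_lit 0, nat_lit 0]), (nat_lit 112, [nat_lit 4, nat_lit 4, nat_lit 1]), (nat_lit 114, [nat_lit 3, nat_lit 1, nat_lit 2]), (nat_lit 115, [nat_lit 0]), (nat_lit 116, [nat_lit 3, nat_lit 0, nat_lit 0]), (nat_lit 117, [nat_lit 4, nat_lit 3, nat_lit 3, nat_lit 1, nat_lit 1]), (nat_lit 118, [nat_lit 4, nat_lit 2, nat_lit 1, nat_lit 0]), (nat_lit 119, [nat_lit 3, nat_lit 2]), (nat_lit 120, [nat_lit 4, nat_lit 0, nat_lit 0, nat_lit 1]), (nat_lit 122, [nat_lit 0, nat_lit 0, nat_lit 1, nat_lit 0]), (nat_lit 123, [nat_lit 4, nat_lit 4, nat_lit 2, nat_lit 2, nat_lit 0]), (nat_lit 124, [nat_lit 0, nat_lit 3, nat_lit 1, nat_lit 0]), (nat_lit 125, [nat_lit 0, nat_lit 1, nat_lit 1]), (nat_lit 127, [nat_lit 3, nat_lit 3]), (nat_lit 128, [nat_lit 2, nat_lit 0]), (nat_lit 129, [nat_lit 4, nat_lit 0, nat_lit 0, nat_lit 1,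 nat_lit 0]), (nat_lit 130, [nat_lit 0, nat_lit 3, nat_lit 2, nat_lit 1]), (nat_lit 131, [nat_lit 3, nat_lit 0, nat_lit 1, nat_lit 0, nat_lit 1]), (nat_lit 133, [nat_lit 0, nat_lit 3, nat_lit 3, nat_lit 2, nat_lit 2]), (nat_lit 134, [nat_lit 4, nat_lit 2, nat_lit 2, nat_lit 0, nat_lit 0]), (nat_lit 135, [nat_lit 2, nat_lit 0, nat_lit 1, nat_lit 0]), (nat_lit 136, [nat_lit 4, nat_lit 4, nat_lit 2, nat_lit 2, nat_lit 0, nat_lit 0]), (nat_lit 137, [nat_lit 3, nat_lit 1, nat_lit 1, nat_lit 0]), (nat_lit 139, [nat_lit 0, nat_lit 3, nat_lit 2, nat_lit 1, nat_lit 0]), (nat_lit 140, [nat_lit 1, nat_lit 0, nat_lit 1, nat_lit 2]), (nat_lit 141, [nat_lit 2, nat_lit 2, nat_lit 0]), (nat_lit 142, [nat_lit 3, nat_lit 3, nat_lit 1, nat_lit 2, nat_lit 1]), (nat_lit 143, [nat_lit 1, nat_lit 1]), (nat_lit 144, [nat_lit 3, nat_lit 2, nat_lit 0, nat_lit 0]), (nat_lit 145, [nat_lit 1, nat_lit 0, nat_lit 3, nat_lit 1, nat_lit 0]), (nat_lit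 147, [nat_lit 3, nat_lit 1]), (nat_lit 148, [nat_lit 4]), (nat_lit 149, [nat_lit 2, nat_lit 0, nat_lit 0]), (nat_lit 150, [nat_lit 3, nat_lit 3, nat_lit 1]), (nat_lit 151, [nat_lit 3, nat_lit 2, nat_lit 1, nat_lit 0, nat_lit 1]), (nat_lit 152, [nat_lit 1, nat_lit 2, nat_lit 2, nat_lit 1]), (nat_lit 153, [nat_lit 4, nat_lit 4, nat_lit 2]), (nat_lit 154, [nat_lit 4, nat_lit 3, nat_lit 2, nat_lit 2]), (nat_lit 155, [nat_lit 4, nat_lit 4, nat_lit 3, nat_lit 1]), (nat_lit 156, [nat_lit 4, nat_lit 0, nat_lit 1]), (nat_lit 157, [nat_lit 3, nat_lit 3, nat_lit 2]), (nat_lit 158, [nat_lit 1, nat_lit 2, nat_lit 1, nat_lit 0, nat_lit 1]), (nat_lit 159, [nat_lit 0, nat_lit 1, nat_lit 2, nat_lit 1, nat_lit 0]), (nat_lit 160, [nat_lit 1, nat_lit 0, nat_lit 3, nat_lit 3]), (nat_lit 161, [nat_lit 0, nat_lit 0, nat_lit 3, nat_lit 2, nat_lit 2]), (nat_lit 162, [nat_lit 0, nat_lit 0, nat_lit 3, nat_lit 2]), (nat_lit 163, [nat_lit 3, nat_lit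 1, nat_lit 2, nat_lit 2]), (nat_lit 164, [nat_lit 4, nat_lit 1, nat_lit 0]), (nat_lit 165, [nat_lit 3, nat_lit 1, nat_lit 2, nat_lit 1]), (nat_lit 166, [nat_lit 3, nat_lit 2, nat_lit 1, nat_lit 0]), (nat_lit 167, [nat_lit 3, nat_lit 2, nat_lit 2]), (nat_lit 168, [nat_lit 2, nat_lit 1, nat_lit 2, nat_lit 0, nat_lit 1]), (nat_lit 169, [nat_lit 2, nat_lit 2, nat_lit 1, nat_lit 0]), (nat_lit 170, [nat_lit 4, nat_lit 0, nat_lit 0, nat_lit 1, nat_lit 1]), (nat_lit 171, [nat_lit 2, nat_lit 0, nat_lit 0, nat_lit 1]), (nat_lit 172, [nat_lit 0, nat_lit 1, nat_lit 2, nat_lit 1]), (nat_lit 173, [nat_lit 0, nat_lit 3, nat_lit 0, nat_lit 1]), (nat_lit 174, [nat_lit 4, nat_lit 0]), (nat_lit 176, [nat_lit 0, nat_lit 1, nat_lit 0, nat_lit 1]), (nat_lit 177, [nat_lit 0, nat_lit 3, nat_lit 0, nat_lit 1, nat_lit 1]), (nat_lit 178, [nat_lit 4, nat_lit 0, nat_lit 1, nat_lit 1, nat_lit 0]), (nat_lit 179, [nat_lit 3, nat_lit 3, nat_lit 1, nat_lit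 1]), (nat_lit 180, [nat_lit 2, nat_lit 1, nat_lit 0, nat_lit 1, nat_lit 0]), (nat_lit 181, [nat_lit 0, nat_lit 0, nat_lit 1, nat_lit 2, nat_lit 0]), (nat_lit 182, [nat_lit 2, nat_lit 1, nat_lit 2, nat_lit 1]), (nat_lit 183, [nat_lit 0, nat_lit 3, nat_lit 2]), (nat_lit 184, [nat_lit 4, nat_lit 3, nat_lit 1, nat_lit 1]), (nat_lit 185, [nat_lit 1, nat_lit 0, nat_lit 3, nat_lit 0]), (nat_lit 186, [nat_lit 0, nat_lit 3, nat_lit 2, nat_lit 2, nat_lit 0]), (nat_lit 187, [nat_lit 4, nat_lit 4, nat_lit 3, nat_lit 2, nat_lit 2]), (nat_lit 188, [nat_lit 0, nat_lit 1]), (nat_lit 189, [nat_lit 3, nat_lit 2, nat_lit 2, nat_lit 1, nat_lit 1]), (nat_lit 191, [nat_lit 2, nat_lit 1, nat_lit 1, nat_lit 0, nat_lit 0]), (nat_lit 193, [nat_lit 4, nat_lit 0, nat_lit 1, nat_lit 1, nat_lit 0, nat_lit 0]), (nat_lit 194, [nat_lit 3, nat_lit 2, nat_lit 1, nat_lit 1]), (nat_lit 195, [nat_lit 3, nat_lit 1, nat_lit 1, nat_lit 0, nat_lit 0]), (nat_lit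 196, [nat_lit 3, nat_lit 1, nat_lit 2, nat_lit 2, nat_lit 1]), (nat_lit 197, [nat_lit 2, nat_lit 0, nat_lit 1]), (nat_lit 198, [nat_lit 3, nat_lit 3, nat_lit 2, nat_lit 1, nat_lit 1]), (nat_lit 200, [nat_lit 0, nat_lit 1, nat_lit 1, nat_lit 2]), (nat_lit 201, [nat_lit 3, nat_lit 3, nat_lit 2, nat_lit 2]), (nat_lit 203, [nat_lit 4, nat_lit 1, nat_lit 1]), (nat_lit 204, [nat_lit 3, nat_lit 0]), (nat_lit 205, [nat_lit 4, nat_lit 1, nat_lit 1, nat_lit 0, nat_lit 0]), (nat_lit 207, [nat_lit 1, nat_lit 2, nat_lit 0]), (nat_lit 208, [nat_lit 2, nat_lit 1, nat_lit 0, nat_lit 0]), (nat_lit 209, [nat_lit 0, nat_lit 0, nat_lit 1, nat_lit 0, nat_lit 1]), (nat_lit 210, [nat_lit 3, nat_lit 1, nat_lit 0]), (nat_lit 211, [nat_lit 2, nat_lit 0, nat_lit 1, nat_lit 1, nat_lit 0]), (nat_lit 212, [nat_lit 0, nat_lit 3, nat_lit 1]), (nat_lit 213, [nat_lit 0, nat_lit 1, nat_lit 0]), (nat_lit 214, [nat_lit 0, nat_lit 0, nat_lit 1]), (nat_lit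 215, [nat_lit 3, nat_lit 2, nat_lit 2, nat_lit 1]), (nat_lit 216, [nat_lit 4, nat_lit 4, nat_lit 1, nat_lit 0, nat_lit 0]), (nat_lit 218, [nat_lit 2, nat_lit 2]), (nat_lit 219, [nat_lit 4, nat_lit 4, nat_lit 3]), (nat_lit 220, [nat_lit 1, nat_lit 0, nat_lit 1, nat_lit 0]), (nat_lit 221, [nat_lit 0, nat_lit 3, nat_lit 3]), (nat_lit 222, [nat_lit 1, nat_lit 2, nat_lit 0, nat_lit 1, nat_lit 0]), (nat_lit 223, [nat_lit 4, nat_lit 4, nat_lit 3, nat_lit 1, nat_lit 1]), (nat_lit 224, [nat_lit 4, nat_lit 3, nat_lit 2]), (nat_lit 225, [nat_lit 0, nat_lit 3, nat_lit 3, nat_lit 2]), (nat_lit 226, [nat_lit 4, nat_lit 2, nat_lit 2, nat_lit 0]), (nat_lit 227, [nat_lit 4, nat_lit 4, nat_lit 2, nat_lit 0, nat_lit 0]), (nat_lit 228, [nat_lit 1, nat_lit 1, nat_lit 2, nat_lit 0, nat_lit 0]), (nat_lit 229, [nat_lit 3, nat_lit 2, nat_lit 1, nat_lit 0, nat_lit 1, nat_lit 0]), (nat_lit 230, [nat_lit 2, nat_lit 1, nat_lit 0, nat_lit 1]), (nat_lit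 231, [nat_lit 0, nat_lit 1, nat_lit 1, nat_lit 2, nat_lit 0, nat_lit 0]), (nat_lit 232, [nat_lit 4, nat_lit 4, nat_lit 1, nat_lit 1]), (nat_lit 233, [nat_lit 2, nat_lit 1, nat_lit 1, nat_lit 0]), (nat_lit 234, [nat_lit 0, nat_lit 3, nat_lit 1, nat_lit 1, nat_lit 0]), (nat_lit 235, [nat_lit 4, nat_lit 3, nat_lit 3, nat_lit 1]), (nat_lit 236, [nat_lit 4, nat_lit 2, nat_lit 0, nat_lit 1, nat_lit 0]), (nat_lit 237, [nat_lit 4, nat_lit 2, nat_lit 0]), (nat_lit 238, [nat_lit 3, nat_lit 2, nat_lit 2, nat_lit 0, nat_lit 0]), (nat_lit 239, [nat_lit 3, nat_lit 3, nat_lit 1, nat_lit 1, nat_lit 2]), (nat_lit 241, [nat_lit 4, nat_lit 3, nat_lit 3, nat_lit 2]), (nat_lit 242, [nat_lit 1, nat_lit 1, nat_lit 2, nat_lit 0]), (nat_lit 243, [nat_lit 1, nat_lit 2, nat_lit 2, nat_lit 0]), (nat_lit 244, [nat_lit 3, nat_lit 3, nat_lit 1, nat_lit 0]), (nat_lit 245, [nat_lit 0, nat_lit 0, nat_lit 3, nat_lit 1]), (nat_lit 246, [nat_lit 2, nat_lit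 2, nat_lit 1, nat_lit 1]), (nat_lit 247, [nat_lit 4, nat_lit 2, nat_lit 0, nat_lit 0]), (nat_lit 248, [nat_lit 3, nat_lit 1, nat_lit 1, nat_lit 2]), (nat_lit 249, [nat_lit 4, nat_lit 4, nat_lit 0]), (nat_lit 250, [nat_lit 4, nat_lit 4]), (nat_lit 251, [nat_lit 3, nat_lit 2, nat_lit 1, nat_lit 2]), (nat_lit 253, [nat_lit 2, nat_lit 0, nat_lit 1, nat_lit 1]), (nat_lit 254, [nat_lit 2]), (nat_lit 255, [nat_lit 1, nat_lit 0, nat_lit 1, nat_lit 1]), (nat_lit 256, [nat_lit 3, nat_lit 2, nat_lit 2, nat_lit 0]), (nat_lit 257, [nat_lit 4, nat_lit 2, nat_lit 1]), (nat_lit 258, [nat_lit 0, nat_lit 1, nat_lit 0, nat_lit 3]), (nat_lit 259, [nat_lit 3, nat_lit 1, nat_lit 0, nat_lit 3, nat_lit 0]), (nat_lit 260, [nat_lit 3, nat_lit 1, nat_lit 0, nat_lit 1, nat_lit 0]), (nat_lit 261, [nat_lit 1, nat_lit 2, nat_lit 0, nat_lit 1]), (nat_lit 262, [nat_lit 2, nat_lit 1]), (nat_lit 263, [nat_lit 4, nat_lit 4, nat_lit 1, nat_lit 0]), (nat_lit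 265, [nat_lit 0, nat_lit 3, nat_lit 3, nat_lit 0]), (nat_lit 266, [nat_lit 1, nat_lit 2, nat_lit 1]), (nat_lit 267, [nat_lit 3, nat_lit 3, nat_lit 0, nat_lit 0]), (nat_lit 268, [nat_lit 0, nat_lit 1, nat_lit 1, nat_lit 2, nat_lit 0]), (nat_lit 269, [nat_lit 0, nat_lit 0, nat_lit 1, nat_lit 1]), (nat_lit 271, [nat_lit 1, nat_lit 1, nat_lit 0, nat_lit 3, nat_lit 0]), (nat_lit 272, [nat_lit 4, nat_lit 3, nat_lit 3]), (nat_lit 273, [nat_lit 3, nat_lit 0, nat_lit 1, nat_lit 2]), (nat_lit 274, [nat_lit 3, nat_lit 0, nat_lit 1, nat_lit 1, nat_lit 0]), (nat_lit 275, [nat_lit 1, nat_lit 1, nat_lit 2])]),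
  ([[nat_lit 0], [nat_lit 3]], nat_lit 2, [(nat_lit 2, []), (nat_lit 53, [nat_lit 1, nat_lit 0, nat_lit 0]), (nat_lit 61, [nat_lit 1, nat_lit 0]), (nat_lit 85, [nat_lit 0, nat_lit 0]), (nat_lit 98, [nat_lit 1, nat_lit 1, nat_lit 0]), (nat_lit 110, [nat_lit 1, nat_lit 1]), (nat_lit 202, [nat_lit 1, nat_lit 1, nat_lit 0, nat_lit 0]), (nat_lit 240, [nat_lit 1]), (nat_lit 270, [nat_lit 0])])]

theorem rel0 : P.relRow (dT H9.OutCo3.T W) H9.OutCo3.B 0 = true := by decide +kernel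
theorem rel1 : P.relRow (dT H9.OutCo3.T W) H9.OutCo3.B 1 = true := by decide +kernel
theorem rel2 : P.relRow (dT H9.OutCo3.T W) H9.OutCo3.B 2 = true := by decide +kernel
theorem rel3 : P.relRow (dT H9.OutCo3.T W) H9.OutCo3.B 3 = true := by decide +kernel
theorem rel4 : P.relRow (dT H9.OutCo3.T W) H9.OutCo3.B 4 = true := by decide +kernel
theorem rel5 : P.relRow (dT H9.OutCo3.T W) H9.OutCo3.B 5 = true := by decide +kernel
theorem rel6 : P.relRow (dT H9.OutCo3.T W) H9.OutCo3.B 6 = true := by decide +kernel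
theorem fus0 : P.fusOk (dT H9.OutCo3.T W) H9.OutCo3.B fu 0 = true := by decide +kernel
theorem fus1 : P.fusOk (dT H9.OutCo3.T W) H9.OutCo3.B fu 1 = true := by decide +kernel
theorem fus2 : P.fusOk (dT H9.OutCo3.T W) H9.OutCo3.B fu 2 = true := by decide +kernel
theorem fus3 : P.fusOk (dT H9.OutCo3.T W) H9.OutCo3.B fu 3 = true := by decide +kernel
theorem fus4 : P.fusOk (dT H9.OutCo3.T W) H9.OutCo3.B fu 4 = true := by decide +kernel
theorem fus5 : P.fusOk (dT H9.OutCo3.T W) H9.OutCo3.B fu 5 = true := by decide +kernel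
theorem fus6 : P.fusOk (dT H9.OutCo3.T W) H9.OutCo3.B fu 6 = true := by decide +kernel
theorem fus7 : P.fusOk (dT H9.OutCo3.T W) H9.OutCo3.B fu 7 = true := by decide +kernel
theorem fus8 : P.fusOk (dT H9.OutCo3.T W) H9.OutCo3.B fu 8 = true := by decide +kernel
theorem fus9 : P.fusOk (dT H9.OutCo3.T W) H9.OutCo3.B fu 9 = true := by decide +kernel
theorem fus10 : P.fusOk (dT H9.OutCo3.T W) H9.OutCo3.B fu 10 = true := by decide +kernel
theorem fus11 : P.fusOk (dT H9.OutCo3.T W) H9.OutCo3.B fu 11 = true := by decide +kernel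
theorem fus12 : P.fusOk (dT H9.OutCo3.T W) H9.OutCo3.B fu 12 = true := by decide +kernel
theorem fus13 : P.fusOk (dT H9.OutCo3.T W) H9.OutCo3.B fu 13 = true := by decide +kernel
theorem fus14 : P.fusOk (dT H9.OutCo3.T W) H9.OutCo3.B fu 14 = true := by decide +kernel
theorem fus15 : P.fusOk (dT H9.OutCo3.T W) H9.OutCo3.B fu 15 = true := by decide +kernel
theorem fus16 : P.fusOk (dT H9.OutCo3.T W) H9.OutCo3.B fu 16 = true := by decide +kernel
theorem fus17 : P.fusOk (dT H9.OutCo3.T W) H9.OutCo3.B fu 17 = true := by decide +kernel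
theorem fus18 : P.fusOk (dT H9.OutCo3.T W) H9.OutCo3.B fu 18 = true := by decide +kernel
theorem fin0 : P.finRow lam (bs :: CV) MU 0 = true := by decide +kernel
theorem fin1 : P.finRow lam (bs :: CV) MU 1 = true := by decide +kernel
theorem fin2 : P.finRow lam (bs :: CV) MU 2 = true := by decide +kernel
theorem fin3 : P.finRow lam (bs :: CV) MU 3 = true := by decide +kernel
theorem fin4 : P.finRow lam (bs :: CV) MU 4 = true := by decide +kernel
theorem fin5 : P.finRow lam (bs :: CV) MU 5 = true := by decide +kernel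
theorem fin6 : P.finRow lam (bs :: CV) MU 6 = true := by decide +kernel

theorem pm {G : Type*} [Group G] [Finite G] {A : RAct G 276} {g : ℕ → G} (hb : A.IsBase H9.OutCo3.B)
    (h : A.Tab g 40 H9.OutCo3.T) (ho : Nat.card G = 495766656000) : PMult G 3 0 0 :=
  pmult_of_tab hb h ho P (show Nat.Prime 3 by norm_num) W fu 0 lam bs mo [cc0] CV MU lv 19
    (by decide +kernel) (forall_lt_succ' (forall_lt_succ' (forall_lt_succ' (forall_lt_succ' (forall_lt_succ' (forall_lt_succ' (forall_lt_succ' forall_lt_zero' rel0) rel1) rel2) rel3) rel4) rel5) rel6) (by decide +kernel)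
    (forall_lt_succ' (forall_lt_succ' (forall_lt_succ' (forall_lt_succ' (forall_lt_succ' (forall_lt_succ' (forall_lt_succ' (forall_lt_succ' (forall_lt_succ' (forall_lt_succ' (forall_lt_succ' (forall_lt_succ' (forall_lt_succ' (forall_lt_succ' (forall_lt_succ' (forall_lt_succ' (forall_lt_succ' (forall_lt_succ' (forall_lt_succ' forall_lt_zero' fus0) fus1) fus2) fus3) fus4) fus5) fus6) fus7) fus8) fus9) fus10) fus11) fus12) fus13) fus14) fus15) fus16) fus17) fus18)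
    (by decide +kernel) (by decide +kernel) (by decide +kernel) (by decide +kernel)
    (List.forall_mem_cons.mpr ⟨con0, (by simp)⟩)
    (forall_lt_succ' (forall_lt_succ' (forall_lt_succ' (forall_lt_succ' (forall_lt_succ' (forall_lt_succ' (forall_lt_succ' forall_lt_zero' fin0) fin1) fin2) fin3) fin4) fin5) fin6) (by decide +kernel)

end Cfsg.Agent.L0.Co3P3
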