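import Cfsg.Agent.L0.PcCert
import Cfsg.Agent.L0.Dw
import Cfsg.Agent.H9.OutFi22

/-! Generated certificate: the `3`-part of a Schur multiplier. -/

set_option autoImplicit false
set_option maxRecDepth 100000

namespace Cfsg.Agent.L0.Fi22P3

noncomputable def W : List (List ℕ) := [
  dw (nat_lit 6) (nat_lit 63) (nat_lit 11) (nat_lit 0x378f996044676617),
  dw (nat_lit 6) (nat_lit 63) (nat_lit 10) (nat_lit 0x35b8a625d599716),
  dw (nat_lit 6) (nat_lit 63) (nat_lit 11) (nat_lit 0x2090bc562046b66dc),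
  dw (nat_lit 6) (nat_lit 63) (nat_lit 10) (nat_lit 0x68a2a379971771d),
  dw (nat_lit 6) (nat_lit 63) (nat_lit 12) (nat_lit 0x3dda926435b661859c),
  dw (nat_lit 6) (nat_lit 63) (nat_lit 10) (nat_lit 0x41fa1bcf661759c),
  dw (nat_lit 6) (nat_lit 63) (nat_lit 12) (nat_lit 0x5ca8d2a8165a65d11c),
  dw (nat_lit 6) (nat_lit 63) (nat_lit 11) (nat_lit 0xd4d1e2d25769d59a),
  dw (nat_lit 6) (nat_lit 63) (nat_lit 10) (nat_lit 0x4ecb08e45d9b744),
  dw (nat_lit 6) (nat_lit 63) (nat_lit 11) (nat_lit 0x150ef4f8259d9965a),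
  dw (nat_lit 6) (nat_lit 63) (nat_lit 12) (nat_lit 0xd93988c4965c5b6117),
  dw (nat_lit 6) (nat_lit 63) (nat_lit 11) (nat_lit 0x63a8c9219969959a)]

noncomputable def P : PcP := ⟨nat_lit 3, nat_lit 2, nat_lit 8, nat_lit 0x4000100004000100004000100004000100000000400010000400010000400010000500000001000048001100068001500064000000108004200100004a00104000000404019a006680199000000410012a0041000000100005aa40000111240084, nat_lit 18, nat_lit 262143, nat_lit 18, nat_lit 262143, nat_lit 9, nat_lit 71, nat_lit 12, nat_lit 11⟩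

noncomputable def fu : Fus := ⟨[nat_lit 65536, nat_lit 16384, nat_lit 4096, nat_lit 1024, nat_lit 256, nat_lit 64, nat_lit 16, nat_lit 4, nat_lit 1, nat_lit 65536, nat_lit 16384, nat_lit 4096, nat_lit 1024, nat_lit 256, nat_lit 64, nat_lit 16, nat_lit 4, nat_lit 1, nat_lit 16384, nat_lit 4096, nat_lit 1024, nat_lit 256, nat_lit 64, nat_lit 16, nat_lit 4, nat_lit 1],
  [nat_lit 139606, nat_lit 17449, nat_lit 5762, nat_lit 2144, nat_lit 514, nat_lit 133, nat_lit 37, nat_lit 8, nat_lit 1, nat_lit 71957, nat_lit 33938, nat_lit 9833, nat_lit 2080, nat_lit 513, nat_lit 69, nat_lit 18, nat_lit 9, nat_lit 2, nat_lit 33813, nat_lit 9745, nat_lit 34821, nat_lit 37529, nat_lit 128, nat_lit 36, nat_lit 1, nat_lit 6],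
  [nat_lit 9, nat_lit 9, nat_lit 9, nat_lit 9, nat_lit 9, nat_lit 9, nat_lit 9, nat_lit 9, nat_lit 9, nat_lit 10, nat_lit 10, nat_lit 10, nat_lit 10, nat_lit 10, nat_lit 10, nat_lit 10, nat_lit 10, nat_lit 10, nat_lit 11, nat_lit 11, nat_lit 11, nat_lit 11, nat_lit 11, nat_lit 11, nat_lit 11, nat_lit 11]⟩

noncomputable def lam : List ℕ := [nat_lit 0x70000000000000000070000000000001c00070002000070000000000000000000001c00080002000080002000080002000000001c00070002000000000000080001c00070002000070000000000001c00000001c00070002000080000000080002000080001c00000000000080000000080000000080002000000001c0000000000000000200008,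
  nat_lit 0x1c00000000000000000000000000000000000000000000000080000000000002000000002000080001c00080000000080000000000002000080002000000001c00070000000070000000070002000000000000070000000080001c00000000000000000000000002000000001c0000000000000000000008000200000,
  nat_lit 0x70000000000000000000000000000000000000000000000000000080002000000001c00000002000000002000000001c00000000000070001c00070000000000002000080002000000000000000001c00080001c00070001c00000000000070000000080000000080002000080001c0007000200000000200000000000000,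
  nat_lit 0x30000000000000000030000000000000c00030001800030000000000000000000000c00060001800060001800060001800000000c00030001800000000000060000c00030001800030000000000000c00000000c00030001800060000000060001800060000c00000000000060000000050000000060000400020000c00000000000000001c0007,
  nat_lit 0x30000000000000000030000000000000c00030001800030000000000000000000000c00060001800060001800060001800000000c00030001800000000000060000c00030001800030000000000000c00000000c00030001800060000000060001800060000c00000000000060000000060000000060001000030000c0000000140000000040001,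
  nat_lit 0x30000000000000000030000000000000c00030001800030000000000000000000000c00060001800060001800060001800000000c00030001800000000000060000c00030001800030000000000000c00000000c00030001800060000000060001800060000c00000000000060000000060000000060000400010000c0000000000000000180007,
  nat_lit 0x1000000000000000000000000000,
  nat_lit 0x60000000000000000060000000000001800060000c00060000000000000000000001800030000c00030000c00030000c00000001800060000c00000000000030001800060000c00060000000000001800000001800060000c00030000000030000c00030001800000000000030000000030000000030001000070001800000000000000000c0002,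
  nat_lit 0x1000000000000200001000000000000000000000000000]

noncomputable def bs : List ℕ := [nat_lit 0x40000000000008000000000000040008000000000000000000000000000]

noncomputable def mo : List ℕ := [nat_lit 0x19fd9626ce7e473a4ef248d6113fdfcbea40dd6ac3]

noncomputable def cv0 : List ℕ := [nat_lit 0x3000000000000000000,
  nat_lit 0xc0000000000000000000000000000000000000000000000000000000000000000000000000000000000000000000000000000000000000000000000000000000000,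
  nat_lit 0xc0000000000000000000000000000000000000000000000000000000000000000000000000000000000000000000000000000000000000000000000000000000000000000000000000000000000000000000000,
  nat_lit 0xc0000000000000000000000000000000000000000000000000000000000000000000000000000,
  nat_lit 0x3000000000000000000000000000000000000000000000000000000000000000000000000000000000000000000000000000000000000000000000000000000000000000,
  nat_lit 0x3000000000000000000000000000000000000000000000000000000000000000000000000000000000000000000000000000000000000000000000000000000000000000000000000000000000000000000000000000,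
  nat_lit 0xc0000000000000000000000000000000000000000000000000000000000000000000000000000000000000000000000000000000000000000000000000000000000000000000,
  nat_lit 0xc0000000000000000000000000000000000000000000000000000000000000000000000000000000000000000000000000000000000000000000000000000000000000000000000000000000000000000000000000000000,
  nat_lit 0x3000000000000000000000000000000000000000000000000000000000000000000000000000000000000000000000000000000000000000000000000000000000000000000000000,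
  nat_lit 0x3000000000000000000000000000000000000000000000000000000000000000000000000000000000000000000000000000000000000000000000000000000000000000000000000000000000000000000000000000000000000,
  nat_lit 0x3000000000000000000000000000000000000000000000000000000000000000000000000000000000000000000000000000000000000000000000,
  nat_lit 0xc0000000000000000000000000000000000000000000000000000000000000000000000000000000000000000000000000000000000000000000000000000000000000000000000000000,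
  nat_lit 0xc0000000000000000000000000000000000000000000000000000000000000000000000000000000000000000000000000000000000000000000000000000000000000000000000000000000000000000000000000000000000000000,
  nat_lit 0x3000000000000000000000000000000000000000000000000000000000000000000000000000000000000000000000000000000000000000000000000000000000000000000000000000000000,
  nat_lit 0x3000000000000000000000000000000000000000000000000000000000000000000000000000000000000000000000000000000000000000000000000000000000000000000000000000000000000000000000000000000000000000000000,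
  nat_lit 0xc0000000000000000000000000000000000000000000000000000000000000000000000000000000000000000000000000000000000000000000000000000000000000000000000000000000000000000000000000000000000000000000000000,
  nat_lit 0x6000000000000000000000000000000000000000000000000000000000000000000000000000000000000000000000000000000000000000000000000000000000000000000000000000000000000000000,
  nat_lit 0x8000000000000000000000000000000000000000000000000000000000000000000000000000000000000000000000000000000000000000000000000000000000000000000000000000000000000000000000000000000000000000000000,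
  nat_lit 0x8000000000000000000000000000000000000000000000000000000000000000000000000000000000000000000000000000000000000000000000000000000000000000000000000000000000,
  nat_lit 0x40000000000000000000000000000000000000000000000000000000000000000000000000000000000000000000000000000000000000000000000000000000000000000000000000000000000000000000000000000000000000000000000000,
  nat_lit 0x2000000001c0000000000000000000003000000000000000000000000000000000000000000000000000000000000000000000000000000000000000000000000000000000000000000000000000000000000000000000000000000000000000000,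
  nat_lit 0x10000000000000000000000c00000000000000000000000000000000000000000000000000000000000000000000000000000000000000000000000000000000000000000000c0000000000000000000000000000000000000000000000000000000000,
  nat_lit 0x10000000000000000000000c0000000000000000000000000000000000000000000000000000000000000000003000000000000000000000000000000000000000000000000000000000000000000000000000000000000000000000000000000000000,
  nat_lit 0x8000000000000180000000000000000000000000000000000000000000000000000000000000000000000000000000000000000000000000000000000000000000180000000000000000000000000000000000000000000000000000000000000000000,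
  nat_lit 0x8000180000000000000000000000000000000000000000000000000000000000000000006000000000000000000000000000000000000000000000000000000000000000000000000000000000000000000000000000000000000000000000000000000,
  nat_lit 0x8000000000000200000000000000000000008000000000000000000000000000000000000000000000000000000000000000000000000000000000000000000000000000000000000000000000000000000000000000000000000000000000,
  nat_lit 0x1000080000000040000000000000000000000000000000000000000000000000000000001000000000000000000000000000000000000000000000000000000000080000000000000000000000000000000000000000000000000000000000000000000,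
  nat_lit 0x20000000000000000000000c0000000000000000000000000000000000000000000000000000000000000000000000000000000000000000000003000000000000000000000000000000000000000000000000000000000000000000000000000000000,
  nat_lit 0x20000000000000000030000000000000000000000000000000000000000000000000000000000000000000000000000000000000000000000c0000000000000000000000000000000000000000000000000000000000000000000000000000000000000,
  nat_lit 0x20000000000000000030000000000000000000000000000000000000000000000000000000000000000000c0000000000000000000000000000000000000000000000000000000000000000000000000000000000000000000000000000000000000000,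
  nat_lit 0x10000000000000000000000000000000000030000000000000400000000000000000000000000000000000000000000000000000000000000000000000000000000c0000000000000000000000000000000000000000000000000000000000000000000,
  nat_lit 0x7000000000000000000000000000000000007000000000000000000000000000000000000000000000000000000000000000000000000000000000000000000000000000000000000000000000000000000000000000,
  nat_lit 0x7000000000000000002000000000000000000000000000000000000000000000000000001000000000000000000000000000000000000000000000000000000000000000000000000000000000000000000000000000000000000000000000,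
  nat_lit 0x8000000007000000000000200000000000000000000000000000000000000000000000000000200000000000006000000000000000000000000000000000000000000000000000000000000000000000000000000006000000000000000000000000000,
  nat_lit 0x200000000000002000000000000000000000000000000000000000000001000000000000000000000000000000000000000000000000000000000000000000000000000000000000000000000000000000000000000000000,
  nat_lit 0x8000000007000000000000200000000000000000000000000000000000000000000000000000200000000000006000000000000000000000000000000000000000000000000000000000000000000000006000000000000000000000000000000000000,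
  nat_lit 0x1000000008000080000000000000000000000000000000000000000000000000000000000000000000000000000000000000000000000000000000000000000000000000000000000000000000000000000000000000000000000000000000,
  nat_lit 0x10000c00000000000000000000000000c00000000400000000000000000000000000c0000000000000000000000000000003000000000000000000000000000000000000000000000000000000000000000000000000000000000000000000000000000,
  nat_lit 0x200000000200000000200000000200000000000000000200000000200000000000000000000000000000000000000000000000000000000000000000000000000000000000000000000000000000000000000000000000000000000000000000000,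
  nat_lit 0x1c00070000000000002000000000000010000000070000000000001c0000000000000000000000000000000000000000000000000000000000000000000000000000000000000000000000000000000000000000000000000000000000000000000]

noncomputable def cc0 : List Con := [
  ⟨nat_lit 1, nat_lit 1, nat_lit 1, [nat_lit 4096], [], nthN cv0 (nat_lit 0)⟩,
  ⟨nat_lit 1, nat_lit 1, nat_lit 1, [nat_lit 4], [], nthN cv0 (nat_lit 1)⟩,
  ⟨nat_lit 1, nat_lit 1, nat_lit 1, [nat_lit 1], [], nthN cv0 (nat_lit 2)⟩,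
  ⟨nat_lit 1, nat_lit 2, nat_lit 2, [nat_lit 64], [], nthN cv0 (nat_lit 3)⟩,
  ⟨nat_lit 1, nat_lit 2, nat_lit 2, [nat_lit 4], [], nthN cv0 (nat_lit 4)⟩,
  ⟨nat_lit 1, nat_lit 2, nat_lit 2, [nat_lit 1], [], nthN cv0 (nat_lit 5)⟩,
  ⟨nat_lit 1, nat_lit 3, nat_lit 3, [nat_lit 4], [], nthN cv0 (nat_lit 6)⟩,
  ⟨nat_lit 1, nat_lit 3, nat_lit 3, [nat_lit 1], [], nthN cv0 (nat_lit 7)⟩,
  ⟨nat_lit 1, nat_lit 4, nat_lit 4, [nat_lit 4], [], nthN cv0 (nat_lit 8)⟩,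
  ⟨nat_lit 1, nat_lit 4, nat_lit 4, [nat_lit 1], [], nthN cv0 (nat_lit 9)⟩,
  ⟨nat_lit 1, nat_lit 5, nat_lit 5, [nat_lit 16], [], nthN cv0 (nat_lit 10)⟩,
  ⟨nat_lit 1, nat_lit 5, nat_lit 5, [nat_lit 4], [], nthN cv0 (nat_lit 11)⟩,
  ⟨nat_lit 1, nat_lit 5, nat_lit 5, [nat_lit 1], [], nthN cv0 (nat_lit 12)⟩,
  ⟨nat_lit 1, nat_lit 6, nat_lit 6, [nat_lit 4], [], nthN cv0 (nat_lit 13)⟩,
  ⟨nat_lit 1, nat_lit 6, nat_lit 6, [nat_lit 1], [], nthN cv0 (nat_lit 14)⟩,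
  ⟨nat_lit 1, nat_lit 7, nat_lit 7, [nat_lit 1], [], nthN cv0 (nat_lit 15)⟩,
  ⟨nat_lit 0, nat_lit 0, nat_lit 8, [nat_lit 1, nat_lit 1], [], nthN cv0 (nat_lit 16)⟩,
  ⟨nat_lit 0, nat_lit 0, nat_lit 3, [nat_lit 1], [], nthN cv0 (nat_lit 17)⟩,
  ⟨nat_lit 0, nat_lit 2, nat_lit 3, [nat_lit 4], [], nthN cv0 (nat_lit 18)⟩,
  ⟨nat_lit 0, nat_lit 3, nat_lit 4, [nat_lit 4], [], nthN cv0 (nat_lit 19)⟩,
  ⟨nat_lit 1, nat_lit 0, nat_lit 0, [nat_lit 1], [], nthN cv0 (nat_lit 20)⟩,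
  ⟨nat_lit 1, nat_lit 3, nat_lit 3, [nat_lit 256], [], nthN cv0 (nat_lit 21)⟩,
  ⟨nat_lit 1, nat_lit 3, nat_lit 3, [nat_lit 16], [], nthN cv0 (nat_lit 22)⟩,
  ⟨nat_lit 0, nat_lit 0, nat_lit 5, [nat_lit 64, nat_lit 64], [], nthN cv0 (nat_lit 23)⟩,
  ⟨nat_lit 0, nat_lit 0, nat_lit 7, [nat_lit 4, nat_lit 4], [], nthN cv0 (nat_lit 24)⟩,
  ⟨nat_lit 0, nat_lit 0, nat_lit 3, [nat_lit 4], [], nthN cv0 (nat_lit 25)⟩,
  ⟨nat_lit 1, nat_lit 0, nat_lit 0, [nat_lit 65536], [], nthN cv0 (nat_lit 26)⟩,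
  ⟨nat_lit 1, nat_lit 3, nat_lit 3, [nat_lit 64], [], nthN cv0 (nat_lit 27)⟩,
  ⟨nat_lit 1, nat_lit 4, nat_lit 4, [nat_lit 64], [], nthN cv0 (nat_lit 28)⟩,
  ⟨nat_lit 1, nat_lit 4, nat_lit 4, [nat_lit 16], [], nthN cv0 (nat_lit 29)⟩,
  ⟨nat_lit 1, nat_lit 0, nat_lit 0, [nat_lit 64], [], nthN cv0 (nat_lit 30)⟩,
  ⟨nat_lit 0, nat_lit 1, nat_lit 2, [nat_lit 64], [], nthN cv0 (nat_lit 31)⟩,
  ⟨nat_lit 0, nat_lit 2, nat_lit 3, [nat_lit 64], [], nthN cv0 (nat_lit 32)⟩,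
  ⟨nat_lit 0, nat_lit 0, nat_lit 3, [nat_lit 1024, nat_lit 1024], [], nthN cv0 (nat_lit 33)⟩,
  ⟨nat_lit 0, nat_lit 0, nat_lit 3, [nat_lit 64], [], nthN cv0 (nat_lit 34)⟩,
  ⟨nat_lit 0, nat_lit 2, nat_lit 3, [nat_lit 1024, nat_lit 1024], [], nthN cv0 (nat_lit 35)⟩,
  ⟨nat_lit 0, nat_lit 3, nat_lit 4, [nat_lit 16], [], nthN cv0 (nat_lit 36)⟩,
  ⟨nat_lit 1, nat_lit 1, nat_lit 1, [nat_lit 16], [], nthN cv0 (nat_lit 37)⟩,
  ⟨nat_lit 0, nat_lit 0, nat_lit 1, [nat_lit 4], [], nthN cv0 (nat_lit 38)⟩,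
  ⟨nat_lit 0, nat_lit 0, nat_lit 3, [nat_lit 16], [], nthN cv0 (nat_lit 39)⟩]

theorem con0 : allL cc0 (P.conOk fu) = true := by decide +kernel

noncomputable def cv1 : List ℕ := [nat_lit 0x80000c00060000000000000000000000000000001c0006000000000000000000000000000000000000000000000000000000000180000000000000000000000000000000000000000000000000000000000000000000000000000000000000000000000,
  nat_lit 0x8000080000000000000000000000000000008000080000000000000000000000000000000000000000000000000000000000000000000000000000000000000000000000000000000000000000000000000000000000,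
  nat_lit 0x20001800000000000000000000000000c00000000800000000000000000000000000c0000000000000000000000000000000000000000000000000000000003000000000000000000000000000000000000000000000000000000000000000000000000,
  nat_lit 0x20001800000000000000000000030000000000000800000000000000000000030000000000000000000000000000000c0000000000000000000000000000000000000000000000000000000000000000000000000000000000000000000000000000000,
  nat_lit 0x2000070001c00070002000080000000000000000070001c0007000200000000000000000000000000000000000000000000000000000000000000000000000000000000000000000000000000000000000000000000000000000000000000000000,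
  nat_lit 0x800010000000000001c00000002000010000000020000000000000000000001c0001000000008000000008000000000000000000000000000000000000000000000000000000000000000000000000000000000000000000000000000000000000,
  nat_lit 0x70001c00070002000070002000080000000000000000000000800000000000000000000000000000020000000000000000000000000000001c0008000000000000000000000000000000000000000000000000000000000000000000000000000000000,
  nat_lit 0x80000c00070000000000000000000000000000002000000000000000000000070000000000000000070000000000001c00010000000000000000000001c0000000000000000000000000000000000000000000000000000000000000000000000000000,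
  nat_lit 0x30002000040000800000000000000000000010000800020000000000000400000000000020000400000000000000000000000000c0000000000002000000000000000000000000000000000000000000000000000003000000000000000000000000000,
  nat_lit 0x80001000080000c00000002000000000000010000000070000000000001c0000000000000000000002000040008000000000000000000000000007000000000000000000000000000000000000000000000000000000000000000000000000000000000,
  nat_lit 0x60000000040001c00000000000000000000000001c00030000c00000001800000000000000001c0003000000006000000000000000007000000006000000000000000000000000000000000000000000000000180000000000000000000000000000000,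
  nat_lit 0x40000c00020000400060000000000000000000001c00060000c0006000000000000000000000200003000180000000000000000000007000180000000000000000000000000000000000000006000000000000000000000000000000000000000000000,
  nat_lit 0x40000c00050001800000000000020000000000001000050001800000000000020000000000000400030000000000000c00000000000020000000000000c0000000000000000000003000000000000000000000000000000000000000000000000000000,
  nat_lit 0x50001800030001400000000000000000800000001400030001400000000000000000800000000400030000000000000000030000000020000000000000000030000000000000000000000c0000000000000000000000000000000000000000000000000,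
  nat_lit 0x10001c0002000180000000000000000000000000040003000100000000080000000000002000000002000000000000000008000080000000000008000000000000080000000000000000000000000000000000000000000000000000000000000000000,
  nat_lit 0x10000800070002000000000000070000800000000400070002000000000000070000800000000000000000000000002000010000000000000000000001c0002000000000000000000000000000000000000000000000000000000000000000000000000,
  nat_lit 0x80001400050000c0007000200000000000000000000000000140005000000000000000000000000005000140000000200000000040000000000002000000000000000000000080000000000000000000000000000000000000000000000000000000000,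
  nat_lit 0x70000800010000000000000800000000000020001000050002000000001800000000400030000400050000000010000000000000400010000000030000000020000c00000000000000000000000000400000000000030000000000000000000000c0000,
  nat_lit 0x80001800080001c00010001c00000002000020002000030000c00020000000000001c0002000000007000000007000000008000040000000040008000000007000080000000200000000000000000000000000000000000000000000000000000000000,
  nat_lit 0x40000400020001800010000400010002000000001400070000c00010000000020001c00000002000060000000010000000070000000070002000080000400070000000000001c00000001c0000000000001000200000000000000000000000000000000,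
  nat_lit 0x10001c00040001400010000c00000000000030001800020000c00050000c00010000000020001000030000800040000000000000c00040002000060000800000001000020001800000000000030000400000000000030000000000000c0000000000000,
  nat_lit 0xc0000000000000000000000000000000000000000000000000000000000000000000000000000000000000000000000000000000000000000000000000000000000000000000000000000000000000000000000000000000000000000000000000000000000000000000000000000000000000000000000,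
  nat_lit 0x3000000000000000000000000000000000000000000000000000000000000000000000000000040000000000000000000000000000000000000000000000000000000000000000000000000000000000000000000000000000000000000000000000000000000000000000000000000000000000000,
  nat_lit 0xc0000000000000000000002000000000000000006000000000000000000000000000000000000000000000000000000000000000000000000000000000000000000000000000000000000000000001000000000000000000000000000000000000000000000000000000000000000,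
  nat_lit 0x30000000000000000000000000010000c0000000180000000000000000000000000040000000180000000000000000000000000000000000000000000000000000000001000000000000000000000000000000000000000000000000000000000000000000000000000000000000000000,
  nat_lit 0xc00000000000000000000000000000010000c0006000000000000000000000000000000040006000000000000000000000000000000040000000000000000000000000000000000000000000000000000000000000000000000000000000000000000000000000000000000000000000000000,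
  nat_lit 0x200000000000000000000000000000000000000001000100006000080000000040000000000000000000002000040000000080000000000000000000002000000003000000000000000000000000000000000000000000000000000000000000000000000000000000000000000000000000000000000000,
  nat_lit 0x200008000000000000000000000000000000000001000080004000000000000000000000040000000000006000000000000000000000040000000000000000000002000000001000000000000000000000000000000000000000000000000000000000000000000000000000000000000000000000000000,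
  nat_lit 0x3000000000000000006000000001000180000000100000000000000000000000000000000000000000000000000000080003000000006000000000000000001000000006000000000000000000000000000000000000000040000000000000000000000000000000000000000,
  nat_lit 0x2000000000000000000000000000000010000800000001000000001c0000000000000000040002000080002000040000000000000000000004000080002000080000000000000000080006000040000000000000000140000000000000000000001000000000000000000000000000000000000,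
  nat_lit 0x30000000070000800040001800000000400000000400000001800080001400000000c00000001000000001000060000000040000000020000000020000000040000000020000000000000000000000000000000400000000c0000000000000000000000000000000,
  nat_lit 0x1c00070002000070000000000000000000000000010001c0000000100000000000000000080000000200002000000007000040000000000000000000003000180002000000000000000000000080001000000000000000000000080000000040000000000000000000000000000000000000000000000000,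
  nat_lit 0x1c0007000200007000000000000000000000000005000040008000080001000000002000000000000200007000100004000040000000000000000000006000140002000000000000000000000000001000000000000000000000080001000000000000000000000000000000000000000000000000000000,
  nat_lit 0xc00000000000030001800080000400050000400040000000000000800020000c00040000400010000000000000800010001400010000000000000000040001000010001000000000000020000c0003000000000000040003000000000000000000000000000000000000,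
  nat_lit 0x2000070000000080000000080000000000000000060001400000000000010001c00020001c00030000800080000c0000000080003000200004000000002000080006000100008000080008000080003000100008000040000000180000000200000000000000000000003000000007000000000000040000,
  nat_lit 0x2000070001c00070001c00080000000000000000030000c0007000140004000000008000000004000080000000000002000000002000000000000040002000100007000040000000080001000140002000200000000100000000140008000000003000000000000000003000000000000040000000000000,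
  nat_lit 0x80000000070000000000000000000000c00040000c00000001000000000000060000000020000400060000000070001c00020000000030000c00000000c00020001c00000000c00040000000050000c00000001000050000c0008000000004000080004000000005000080000000180000000000001,
  nat_lit 0x3000000000000000000000000000000000000000000000000000000000000000000000000000000001000000000000000000000000000000000000000000000000000000000000000000000000000000000000000000000000000000000000000000000000000000000000000000000000000000000000000000000000000000000000000000000000000000,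
  nat_lit 0x3000000000000000000000000000000000000000000000000000000000000000000000002000000003000000000000000000000000000000000000000000000000000000000000000000000000000000000000000000000000000000000000000000000000000000000000000000000000000000000000000000000000000000000000000000000,
  nat_lit 0x3000000000000000000000000000000000000000000000000000000000000001000000000000000006000000000000000000000000000000000000000000000000000000000000000000000000000000000000000000000000000000000000000000001000000000000000000000000000000000000000000000000000000000000000]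

noncomputable def cc1 : List Con := [
  ⟨nat_lit 0, nat_lit 0, nat_lit 6, [nat_lit 16, nat_lit 16], [], nthN cv1 (nat_lit 0)⟩,
  ⟨nat_lit 0, nat_lit 1, nat_lit 2, [nat_lit 16], [], nthN cv1 (nat_lit 1)⟩,
  ⟨nat_lit 1, nat_lit 1, nat_lit 1, [nat_lit 64], [], nthN cv1 (nat_lit 2)⟩,
  ⟨nat_lit 1, nat_lit 2, nat_lit 2, [nat_lit 16], [], nthN cv1 (nat_lit 3)⟩,
  ⟨nat_lit 0, nat_lit 0, nat_lit 2, [nat_lit 4], [], nthN cv1 (nat_lit 4)⟩,
  ⟨nat_lit 0, nat_lit 0, nat_lit 1, [nat_lit 16], [], nthN cv1 (nat_lit 5)⟩,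
  ⟨nat_lit 0, nat_lit 0, nat_lit 2, [nat_lit 64], [], nthN cv1 (nat_lit 6)⟩,
  ⟨nat_lit 0, nat_lit 1, nat_lit 2, [nat_lit 1024], [], nthN cv1 (nat_lit 7)⟩,
  ⟨nat_lit 1, nat_lit 0, nat_lit 0, [nat_lit 1024], [], nthN cv1 (nat_lit 8)⟩,
  ⟨nat_lit 0, nat_lit 0, nat_lit 3, [nat_lit 256], [], nthN cv1 (nat_lit 9)⟩,
  ⟨nat_lit 0, nat_lit 1, nat_lit 3, [nat_lit 1024, nat_lit 1024], [], nthN cv1 (nat_lit 10)⟩,
  ⟨nat_lit 0, nat_lit 0, nat_lit 4, [nat_lit 256, nat_lit 256], [], nthN cv1 (nat_lit 11)⟩,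
  ⟨nat_lit 1, nat_lit 2, nat_lit 2, [nat_lit 256], [], nthN cv1 (nat_lit 12)⟩,
  ⟨nat_lit 1, nat_lit 1, nat_lit 1, [nat_lit 256], [], nthN cv1 (nat_lit 13)⟩,
  ⟨nat_lit 0, nat_lit 0, nat_lit 1, [nat_lit 1024], [], nthN cv1 (nat_lit 14)⟩,
  ⟨nat_lit 0, nat_lit 1, nat_lit 2, [nat_lit 256], [], nthN cv1 (nat_lit 15)⟩,
  ⟨nat_lit 0, nat_lit 0, nat_lit 2, [nat_lit 1024], [], nthN cv1 (nat_lit 16)⟩,
  ⟨nat_lit 1, nat_lit 0, nat_lit 0, [nat_lit 16384], [], nthN cv1 (nat_lit 17)⟩,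
  ⟨nat_lit 0, nat_lit 0, nat_lit 1, [nat_lit 256], [], nthN cv1 (nat_lit 18)⟩,
  ⟨nat_lit 0, nat_lit 0, nat_lit 1, [nat_lit 4096], [], nthN cv1 (nat_lit 19)⟩,
  ⟨nat_lit 1, nat_lit 0, nat_lit 0, [nat_lit 4096], [], nthN cv1 (nat_lit 20)⟩,
  ⟨nat_lit 2, nat_lit 9, nat_lit 0, [nat_lit 8, nat_lit 8, nat_lit 8], [], nthN cv1 (nat_lit 21)⟩,
  ⟨nat_lit 2, nat_lit 9, nat_lit 0, [nat_lit 7, nat_lit 7, nat_lit 7], [], nthN cv1 (nat_lit 22)⟩,
  ⟨nat_lit 2, nat_lit 9, nat_lit 0, [nat_lit 4, nat_lit 4, nat_lit 4], [], nthN cv1 (nat_lit 23)⟩,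
  ⟨nat_lit 2, nat_lit 9, nat_lit 0, [nat_lit 5, nat_lit 5, nat_lit 5], [], nthN cv1 (nat_lit 24)⟩,
  ⟨nat_lit 2, nat_lit 9, nat_lit 0, [nat_lit 6, nat_lit 6, nat_lit 6], [], nthN cv1 (nat_lit 25)⟩,
  ⟨nat_lit 2, nat_lit 9, nat_lit 0, [nat_lit 6, nat_lit 3], [nat_lit 3, nat_lit 6, nat_lit 8], nthN cv1 (nat_lit 26)⟩,
  ⟨nat_lit 2, nat_lit 9, nat_lit 0, [nat_lit 6, nat_lit 1], [nat_lit 1, nat_lit 6, nat_lit 7, nat_lit 8], nthN cv1 (nat_lit 27)⟩,
  ⟨nat_lit 2, nat_lit 9, nat_lit 0, [nat_lit 3, nat_lit 3, nat_lit 3], [], nthN cv1 (nat_lit 28)⟩,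
  ⟨nat_lit 2, nat_lit 9, nat_lit 0, [nat_lit 3, nat_lit 2], [nat_lit 2, nat_lit 3, nat_lit 6], nthN cv1 (nat_lit 29)⟩,
  ⟨nat_lit 2, nat_lit 9, nat_lit 0, [nat_lit 1, nat_lit 1, nat_lit 1], [], nthN cv1 (nat_lit 30)⟩,
  ⟨nat_lit 2, nat_lit 9, nat_lit 0, [nat_lit 4, nat_lit 1], [nat_lit 1, nat_lit 4, nat_lit 5, nat_lit 5, nat_lit 6, nat_lit 7, nat_lit 7, nat_lit 8, nat_lit 8], nthN cv1 (nat_lit 31)⟩,
  ⟨nat_lit 2, nat_lit 9, nat_lit 0, [nat_lit 4, nat_lit 2], [nat_lit 2, nat_lit 4, nat_lit 5, nat_lit 5, nat_lit 6, nat_lit 7, nat_lit 7, nat_lit 8, nat_lit 8], nthN cv1 (nat_lit 32)⟩,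
  ⟨nat_lit 2, nat_lit 9, nat_lit 0, [nat_lit 2, nat_lit 2, nat_lit 2], [], nthN cv1 (nat_lit 33)⟩,
  ⟨nat_lit 2, nat_lit 9, nat_lit 0, [nat_lit 1, nat_lit 0], [nat_lit 0, nat_lit 1, nat_lit 3, nat_lit 5, nat_lit 7, nat_lit 7, nat_lit 8], nthN cv1 (nat_lit 34)⟩,
  ⟨nat_lit 2, nat_lit 9, nat_lit 0, [nat_lit 2, nat_lit 0], [nat_lit 0, nat_lit 2, nat_lit 3, nat_lit 4, nat_lit 4, nat_lit 5, nat_lit 5, nat_lit 6, nat_lit 6, nat_lit 7, nat_lit 7, nat_lit 8], nthN cv1 (nat_lit 35)⟩,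
  ⟨nat_lit 2, nat_lit 9, nat_lit 0, [nat_lit 0, nat_lit 0, nat_lit 0], [nat_lit 5, nat_lit 5, nat_lit 7], nthN cv1 (nat_lit 36)⟩,
  ⟨nat_lit 2, nat_lit 10, nat_lit 0, [nat_lit 17, nat_lit 17, nat_lit 17], [], nthN cv1 (nat_lit 37)⟩,
  ⟨nat_lit 2, nat_lit 10, nat_lit 0, [nat_lit 15, nat_lit 15, nat_lit 15], [], nthN cv1 (nat_lit 38)⟩,
  ⟨nat_lit 2, nat_lit 10, nat_lit 0, [nat_lit 13, nat_lit 13, nat_lit 13], [], nthN cv1 (nat_lit 39)⟩]

theorem con1 : allL cc1 (P.conOk fu) = true := by decide +kernel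

noncomputable def cv2 : List ℕ := [nat_lit 0xc0000000000000000000000000000000000000000000000000000000000000000000000000001000180000000000000000000000000000000000040000000000000000000000000000000000000000000000000000000000000000000000000000000000000000000000000000000000000000000000000000000000000000000000000000000000000,
  nat_lit 0xc00000000000000000000000000000000000000000000000000000000000000000010000c00000000c00000000000000000000000000400000000c0000000000000000000000000000000000000000000000000000000000000000000000000000000000000000000000000000000000000000000000000000000000000000000000000000,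
  nat_lit 0x8000000000000000000000000000000000000000000000000000000000000000000000000000000000000000002000000000000080000000000000000000000000000000000000000000000000000000000000000001000000000000000000000000000000000000000000000000000000000000000000000000000000000000000000000000000000000000,
  nat_lit 0xc0000000000000000000000000000000000000000000000000000000002000000004000000000000140000000000000000000000000000000000000000000000000000080000000000006000000000000000000000000000000000000000000000000000000000000000000040000000000000000000000000000000000000000,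
  nat_lit 0x8000200000000000000000000000000000000000000000000000000000000000000000000000000000000040000000100000000040000000080000000000002000100000000080000000040000000000002000000001000000001000000000000000000000000000000000000000000000000000000000000000000000000000000000000000000000000000,
  nat_lit 0x80000000000000000000000000000000000000000000000000000000000000000000000000001000070000000000002000000000000000000800080000000000001c00010000000000000400000000000000000400000000800000000000000000000000000000000001c0000000000000000000002000000001000000000000000000000000000,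
  nat_lit 0x80000000000000000000000000000000000000000000000000000000000000000000000070002000080001c00020000000020000000000000800050000000000001400010000000000000400000000000070000c0000000000000000000007000000000000000000000140000000000000000000003000000000000000000000000000000000000,
  nat_lit 0x1c00070001c00000000000000000000000000000000000000000000000000000000000000000010001c00030000400000001c00000000800000000800070002000000001000000000000000000800020000000030000000020000000020000000020000000010000000000000000000000000000000000000000c0000000000000000000000000000000,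
  nat_lit 0x80001c00080001c0000000000000000000000000000000000000000000000000000000000000000001000000006000000005000080000000000001000080005000180002000000001000000000000040004000040002000080000000000002000180004000040000000000000000100002000000001000000000000000000000000000000000000000000000,
  nat_lit 0xc0000000000000000000000000000000000000000000000003000000004000140000000000000000180000000200002000000000000180000000100000000140006000000008000000002000000006000000005000000005000000000000000000000000000000040000000180000000000000000000001000000000,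
  nat_lit 0x80001c00000002000000002000000000000000000000000000000000000000000000000000000000010000800010001c00010002000000001c00020001c00060001800070000400010002000000001800040002000000000400080000400060001c00020000000010000800000001800000001c0000000000000000180001000000007000000000000040000,
  nat_lit 0x30000000000000000000000000000000000000000000000000000020000400040002000020000c00060000000000000400030001400060000400050000000000001800050001c00050001800000000000050002000020001000000000000020000c0006000000000000040006000000000000040000000000000000000000,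
  nat_lit 0xc0000000000000000000000000000000000000000000000000000000000000000000000000000000000000000000000000000000000000001000000000000000000000000000000000000000200000000000000000000000000000000000000000000000000000000000000000000000000000000000000000000000000000000000000000000000000000000000000000000000000000000000000,
  nat_lit 0xc0000000000000000000000000000000000000000000000000000000000000000000000000000000000000000000000000000000000000000000000000000000000000000000000000000000000000000000000000000000000000000000000000000000000000000001000000000000000000000000000000000000000000000000000000000000000000000000000000000000000000,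
  nat_lit 0x30000000000000000000000000000000000000000000000000000000000000000000000000000000000000000000000000000000000000000000010000c0000000000000000000000000000000000040000000000000000000000000000000000000000000000000000000000000000000000000000000000000000000000000000000000000000000000000000000000000000000000000000000000000,
  nat_lit 0x3000000000000000000000000000000000000000000000000000000000000000000000000000000000000000000000000000000000000000000000000000000000000000000000000000040006000000000000000000000000000000040000000000000000000000000000000000000000000000000000000000000000000000000000000000000000000000000000000000000000000000000,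
  nat_lit 0x8000200000000000000000000000000000000000000000000000000000000000000000000000000000000000000000000000000000000000000001000140001000000000000040000000080000000040002000000000000080000000040000000000000000000002000000003000000000000000000000000000000000000000000000000000000000000000000000000000000000000000000000000000,
  nat_lit 0x80000000000000000000000000000000000000000000000000000000000000000000000000000000000000000000000000000000000000000000020000c0002000000000000040000000080000000040000000000000000100000000040000000000000000000003000000004000000000000000000000000000000000000000000000000000000000000000000000000000000000000000000000000000,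
  nat_lit 0xc00000000000000000000000000000000000000000000000000000000000000000000000000000000000020000000040002000000000000000001800000000000060001000000001c0000000180000000140006000000008000000002000000004000000005000000005000000000000000000000000000000040000000180000000000000000000001000000000,
  nat_lit 0xc0000000000000000000000000000000000000000000000000000000000000000000000000000000000000000000004000140001000040000000180000000180000000000001000140000000200000000100000000100006000000008000000004000000004000000008000000004000000000000000000000000000000040000000180000000000000000000002000000000,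
  nat_lit 0x1c00070001c00000000000000000000000000000000000000000000000000000000000000000000000000000000000000000000000000000020000800080001000000000000000002000000000000020001c0000000080000000040000000000006000000002000000000000000000000000004000000008000000000000000000000000000000000000000040000000000000000000000000000000,
  nat_lit 0x80000000000000000000000000000000000000000000000000000000000000000000000000000000000000000000000000000000000010001c00000001800080001c00030001c00000001400040001800070000800020002000000001c00010001c00030000800060000000050000c00000000000000000000000001400000001400000000000030001c0000000000005000000000000000000,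
  nat_lit 0x70001c00080001c00000000000000000000000000000000000000000000000000000000000000000000000000000000000000000000000000000040002000000000000040000800000002000000002000070001c00000000000080000800000002000080000800020001c00000000000000000800010002000000000000000000800000000c00000000000080001c0000000000002000000000000000000]

noncomputable def cc2 : List Con := [
  ⟨nat_lit 2, nat_lit 10, nat_lit 0, [nat_lit 16, nat_lit 16, nat_lit 16], [], nthN cv2 (nat_lit 0)⟩,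
  ⟨nat_lit 2, nat_lit 10, nat_lit 0, [nat_lit 14, nat_lit 14, nat_lit 14], [], nthN cv2 (nat_lit 1)⟩,
  ⟨nat_lit 2, nat_lit 10, nat_lit 0, [nat_lit 15, nat_lit 12], [nat_lit 12, nat_lit 15, nat_lit 17], nthN cv2 (nat_lit 2)⟩,
  ⟨nat_lit 2, nat_lit 10, nat_lit 0, [nat_lit 12, nat_lit 12, nat_lit 12], [], nthN cv2 (nat_lit 3)⟩,
  ⟨nat_lit 2, nat_lit 10, nat_lit 0, [nat_lit 15, nat_lit 10], [nat_lit 10, nat_lit 15, nat_lit 16, nat_lit 17], nthN cv2 (nat_lit 4)⟩,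
  ⟨nat_lit 2, nat_lit 10, nat_lit 0, [nat_lit 12, nat_lit 9], [nat_lit 9, nat_lit 12, nat_lit 15], nthN cv2 (nat_lit 5)⟩,
  ⟨nat_lit 2, nat_lit 10, nat_lit 0, [nat_lit 12, nat_lit 11], [nat_lit 11, nat_lit 12, nat_lit 15], nthN cv2 (nat_lit 6)⟩,
  ⟨nat_lit 2, nat_lit 10, nat_lit 0, [nat_lit 12, nat_lit 10], [nat_lit 10, nat_lit 12, nat_lit 14, nat_lit 14, nat_lit 15, nat_lit 15, nat_lit 16, nat_lit 16], nthN cv2 (nat_lit 7)⟩,
  ⟨nat_lit 2, nat_lit 10, nat_lit 0, [nat_lit 13, nat_lit 9], [nat_lit 9, nat_lit 13, nat_lit 14, nat_lit 14, nat_lit 15, nat_lit 16, nat_lit 16, nat_lit 17], nthN cv2 (nat_lit 8)⟩,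
  ⟨nat_lit 2, nat_lit 10, nat_lit 0, [nat_lit 10, nat_lit 10, nat_lit 10], [], nthN cv2 (nat_lit 9)⟩,
  ⟨nat_lit 2, nat_lit 10, nat_lit 0, [nat_lit 10, nat_lit 9], [nat_lit 9, nat_lit 10, nat_lit 12, nat_lit 14, nat_lit 16, nat_lit 16, nat_lit 17], nthN cv2 (nat_lit 10)⟩,
  ⟨nat_lit 2, nat_lit 10, nat_lit 0, [nat_lit 11, nat_lit 11, nat_lit 11], [], nthN cv2 (nat_lit 11)⟩,
  ⟨nat_lit 2, nat_lit 11, nat_lit 0, [nat_lit 24, nat_lit 24, nat_lit 24], [], nthN cv2 (nat_lit 12)⟩,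
  ⟨nat_lit 2, nat_lit 11, nat_lit 0, [nat_lit 22, nat_lit 22, nat_lit 22], [], nthN cv2 (nat_lit 13)⟩,
  ⟨nat_lit 2, nat_lit 11, nat_lit 0, [nat_lit 25, nat_lit 25, nat_lit 25], [], nthN cv2 (nat_lit 14)⟩,
  ⟨nat_lit 2, nat_lit 11, nat_lit 0, [nat_lit 23, nat_lit 23, nat_lit 23], [], nthN cv2 (nat_lit 15)⟩,
  ⟨nat_lit 2, nat_lit 11, nat_lit 0, [nat_lit 23, nat_lit 18], [nat_lit 18, nat_lit 23, nat_lit 24, nat_lit 25], nthN cv2 (nat_lit 16)⟩,
  ⟨nat_lit 2, nat_lit 11, nat_lit 0, [nat_lit 23, nat_lit 20], [nat_lit 20, nat_lit 23, nat_lit 25], nthN cv2 (nat_lit 17)⟩,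
  ⟨nat_lit 2, nat_lit 11, nat_lit 0, [nat_lit 18, nat_lit 18, nat_lit 18], [], nthN cv2 (nat_lit 18)⟩,
  ⟨nat_lit 2, nat_lit 11, nat_lit 0, [nat_lit 20, nat_lit 20, nat_lit 20], [], nthN cv2 (nat_lit 19)⟩,
  ⟨nat_lit 2, nat_lit 11, nat_lit 0, [nat_lit 20, nat_lit 18], [nat_lit 18, nat_lit 20, nat_lit 22, nat_lit 22, nat_lit 23, nat_lit 23, nat_lit 24, nat_lit 24], nthN cv2 (nat_lit 20)⟩,
  ⟨nat_lit 2, nat_lit 11, nat_lit 0, [nat_lit 20, nat_lit 19], [nat_lit 19, nat_lit 20, nat_lit 23], nthN cv2 (nat_lit 21)⟩,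
  ⟨nat_lit 2, nat_lit 11, nat_lit 0, [nat_lit 21, nat_lit 18], [nat_lit 18, nat_lit 21, nat_lit 22, nat_lit 22, nat_lit 23, nat_lit 24, nat_lit 24, nat_lit 25, nat_lit 25], nthN cv2 (nat_lit 22)⟩]

theorem con2 : allL cc2 (P.conOk fu) = true := by decide +kernel

noncomputable def CV : List (List ℕ) := [cv0, cv1, cv2]

noncomputable def MU : List (List ℕ) := [[nat_lit 0],
  [nat_lit 0,
  nat_lit 0x6a0e3433088e72aa90235d129908767de4f2b0eee6763ed06272b48c95ac3b695961e49c],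
  [nat_lit 0,
  nat_lit 0x1fc1d3169bc72225a4f067d7eb65cb7db8b8dc6b7392251b660a4b11cb213a6ad2af08e692e92ad2c4a,
  nat_lit 0x18ec179153b472bd87c9489b5fe98f27c30571e12b04b4f43ea8932cefd3284c58318a6ea0],
  [nat_lit 0,
  nat_lit 0,
  nat_lit 0x6fb1018e71e355debef18843f151bc2811152c5ab6d1b893e1adb84fc70a86c26145bb,
  nat_lit 0x4a71955547d896a50ef31d0b078db66be9d4ee04b3b03687da0c8fd5a20909651c5978e499],
  [nat_lit 0,
  nat_lit 0x1823c1ec8523ff795a841c484c82baf2139e79e7cb2fbbb7751ac4c368c5c20eeb5a1cfc,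
  nat_lit 0x23b8eddee63507e29052c8256b95b2461f1a7bf627db09cefc3da022fb3f6b69e23db8f2,
  nat_lit 0x8,
  nat_lit 0x4a8185e87058002a6f629cb19248437b96affb975941be9b7d75ca767e624771a4fb5949ae],
  [nat_lit 0xc4fdae439c4f34085a1e70f1afa73db88706582c95462ec1b74dd667f56d3a2fc787cd0,
  nat_lit 0x31bca1bd1fb7091ae463ab73a0ddfde460c1b92822604b31be5c536db2ee6ebdb4edf5d93c,
  nat_lit 0x143689680f074afcd18958f252e773f8f22724528fa87978bb29336918432101304f97b2,
  nat_lit 0x893984b67cc2977adf74d8e58bb3974eecd5f447c3c2ca377301085f2e51ca872e6004d,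
  nat_lit 0x17e506d69ad6018bc15b7f972428fd2212bc41ee6c7cdcfd22451a6a132a523c536a1bdf,
  nat_lit 0x4a8d28d98cff3b513ff1e89200b0f0bd0ff3f59042b9e1b1964cf8432feffd71fd5d67cc62],
  [nat_lit 0x31c4886ba38c4b77ec1b4cba8155e38833bded37d7e3fb567cb3610323bbd1f3be40953110,
  nat_lit 0x18f40f14608a43596c732aa95b19703b3be92da643117b80273b8eb16be2d50516356f229d,
  nat_lit 0x31bca1bd1fb7091ae463ab73a0dea5a75b936164994493caa98a55a9348cd0062a64caa4f3,
  nat_lit 0x143689680f074afcd18958f24ac18d89533bcd8534c3f9ba82a51f574fe5853d22e510d7,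
  nat_lit 0x17e506d69ad6018bc15b7f972428fd21c2f58166822d909fdfaca41da1de4dd760068f78,
  nat_lit 0x17e506d69ad6018bc15b7f974515bdb82c9ba2f91dd8c18191978c305d7c5ab6a322b949,
  nat_lit 0x1ba1496f6ccecb54990619180eae403e39832c5253f7687c7eddeb93afdde8776e1cb99a],
  [nat_lit 0x17e506d69ad6018bc15b7f974d56a5f5d0727479b51f07408d5eae328b262af2445cf9e3,
  nat_lit 0x1fcbb55a701859480d42f17a5d189f2c842b357e98a7e572fb2c26ef599a0d97a3702b15,
  nat_lit 0x1fcbb55a701859480d42f17a5d189f2c65558f812e968c83f1ae94ef7d06a2ffc4c84cf4,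
  nat_lit 0x893984b67cc2977adf74d8e305e50574b2493ad15ad25b049255cbfbcb15ba661436660,
  nat_lit 0x1ba1496f6ccecb54990619180eae403dfe1f05a123f658399f3a08d98d8c1a9379146c09,
  nat_lit 0xffe5852c593a48409ba38b3f836c7698e3275c54a8f06e4a519dd27b0812796fff11d3d,
  nat_lit 0x12bf307ae81ffd59,
  nat_lit 0x253908a1e22808c0df71a0c8e401caa038007a42fd24004e11bd035a72b7ef0cbd535d1de9],
  [nat_lit 0xc4fdae439c4f34085a1e70f12b98b9da928e6e300df7527cdb3ace8c528323dcfb5937c,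
  nat_lit 0xc4fdae439c4f34085a1e70f12b98b9de5b6e40b9e2bf633e880387a3135c855f5da5a6d,
  nat_lit 0xc4fdae439c4f34085a1e70f12b98b9da928e6e300dd8d96f4e1e5e5f9d0268d2030d98a,
  nat_lit 0x558309a1b2ab9f31b2361,
  nat_lit 0x270c9f682d7cfa8c77ffd17301d3c2,
  nat_lit 0xffe5852c593a48409ba38b3f836c769cac07313a5d518d0c86981426f6c745e77cd2964,
  nat_lit 0x2153e468b91c6d1,
  nat_lit 0x545c5a29148ff4108,
  nat_lit 0x2012cb06d3f8527526ec6f]]

noncomputable def lv : List (List (List ℕ) × ℕ × List (ℕ × List ℕ)) := [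
  ([[nat_lit 0], [nat_lit 3], [nat_lit 4], [nat_lit 5], [nat_lit 6], [nat_lit 7], [nat_lit 8]], nat_lit 0, [(nat_lit 0, []), (nat_lit 2, [nat_lit 2, nat_lit 4, nat_lit 3, nat_lit 2]), (nat_lit 3, [nat_lit 4, nat_lit 4, nat_lit 3, nat_lit 2, nat_lit 3, nat_lit 2]), (nat_lit 4, [nat_lit 1, nat_lit 2, nat_lit 0, nat_lit 2, nat_lit 1, nat_lit 0]), (nat_lit 6, [nat_lit 5, nat_lit 5, nat_lit 1, nat_lit 4]), (nat_lit 7, [nat_lit 0, nat_lit 4, nat_lit 4, nat_lit 2, nat_lit 2]), (nat_lit 8, [nat_lit 0, nat_lit 5, nat_lit 2, nat_lit 1, nat_lit 1]), (nat_lit 9, [nat_lit 5, nat_lit 5, nat_lit 0, nat_lit 2, nat_lit 1]), (nat_lit 13, [nat_lit 5, nat_lit 2, nat_lit 4, nat_lit 2, nat_lit 0]), (nat_lit 18, [nat_lit 0, nat_lit 4, nat_lit 3, nat_lit 3, nat_lit 0, nat_lit 1]), (nat_lit 19, [nat_lit 1, nat_lit 1, nat_lit 2, nat_lit 0, nat_lit 4]), (nat_lit 20, [nat_lit 6, nat_lit 2, nat_lit 2, nat_lit 0, nat_lit 1, nat_lit 1]), (nat_lit 21, [nat_lit 3, nat_lit 0, nat_lit 0, nat_lit 2]), (nat_lit 23, [nat_lit 0, nat_lit 3, nat_lit 3, nat_lit 1, nat_lit 0, nat_lit 1]), (nat_lit 25, [nat_lit 6, nat_lit 4, nat_lit 1]), (nat_lit 26, [nat_lit 3, nat_lit 3]), (nat_lit 27, [nat_lit 0, nat_lit 0, nat_lit 1, nat_lit 1, nat_lit 2]), (nat_lit 29, [nat_lit 6, nat_lit 5, nat_lit 3]), (nat_lit 31, [nat_lit 0, nat_lit 5, nat_lit 2, nat_lit 1, nat_lit 2, nat_lit 1]), (nat_lit 33, [nat_lit 1, nat_lit 0, nat_lit 2, nat_lit 4, nat_lit 2, nat_lit 0]), (nat_lit 34, [nat_lit 3, nat_lit 1, nat_lit 1]), (nat_lit 35, [nat_lit 4, nat_lit 2, nat_lit 2, nat_lit 0, nat_lit 1, nat_lit 1, nat_lit 0]), (nat_lit 39, [nat_lit 6, nat_lit 5, nat_lit 2, nat_lit 2]), (nat_lit 40, [nat_lit 0, nat_lit 0, nat_lit 1, nat_lit 1, nat_lit 0, nat_lit 0]), (nat_lit 41, [nat_lit 4, nat_lit 4, nat_lit 0, nat_lit 0, nat_lit 3]), (nat_lit 43, [nat_lit 4, nat_lit 1, nat_lit 1, nat_lit 0, nat_lit 0, nat_lit 0]), (nat_lit 45, [nat_lit 0, nat_lit 1, nat_lit 0]), (nat_lit 46, [nat_lit 0, nat_lit 1, nat_lit 0, nat_lit 2, nat_lit 2]), (nat_lit 47, [nat_lit 1, nat_lit 0, nat_lit 1, nat_lit 0, nat_lit 0, nat_lit 0]), (nat_lit 49, [nat_lit 2, nat_lit 3, nat_lit 3, nat_lit 0, nat_lit 1]), (nat_lit 50, [nat_lit 6, nat_lit 6, nat_lit 0, nat_lit 2, nat_lit 2]), (nat_lit 51, [nat_lit 2, nat_lit 2, nat_lit 3, nat_lit 0]), (nat_lit 54, [nat_lit 3, nat_lit 0, nat_lit 4, nat_lit 2, nat_lit 1]), (nat_lit 56, [nat_lit 5, nat_lit 0, nat_lit 2, nat_lit 2, nat_lit 1, nat_lit 0]), (nat_lit 57, [nat_lit 2, nat_lit 1, nat_lit 2, nat_lit 0, nat_lit 0]), (nat_lit 58, [nat_lit 0, nat_lit 1, nat_lit 2]), (nat_lit 59, [nat_lit 3, nat_lit 3, nat_lit 1, nat_lit 0, nat_lit 1]), (nat_lit 63, [nat_lit 2, nat_lit 4, nat_lit 0, nat_lit 1]), (nat_lit 64, [nat_lit 2, nat_lit 3, nat_lit 0, nat_lit 2]), (nat_lit 65, [nat_lit 4, nat_lit 4, nat_lit 2, nat_lit 2, nat_lit 0]), (nat_lit 69, [nat_lit 0, nat_lit 0, nat_lit 4, nat_lit 4, nat_lit 0]), (nat_lit 70, [nat_lit 3, nat_lit 3, nat_lit 0, nat_lit 4, nat_lit 4, nat_lit 0]), (nat_lit 71, [nat_lit 0, nat_lit 3, nat_lit 1, nat_lit 0]), (nat_lit 74, [nat_lit 2, nat_lit 3, nat_lit 1, nat_lit 0]), (nat_lit 76, [nat_lit 5, nat_lit 2, nat_lit 3, nat_lit 2, nat_lit 1]), (nat_lit 77, [nat_lit 0, nat_lit 2, nat_lit 2, nat_lit 1, nat_lit 1, nat_lit 0, nat_lit 0]), (nat_lit 79, [nat_lit 6, nat_lit 5, nat_lit 2, nat_lit 0, nat_lit 2]), (nat_lit 80, [nat_lit 5, nat_lit 0, nat_lit 5, nat_lit 2, nat_lit 2, nat_lit 1]), (nat_lit 81, [nat_lit 5, nat_lit 4, nat_lit 0, nat_lit 2]), (nat_lit 84, [nat_lit 6, nat_lit 6, nat_lit 2, nat_lit 2, nat_lit 0]), (nat_lit 89, [nat_lit 2, nat_lit 4, nat_lit 3, nat_lit 2, nat_lit 0, nat_lit 1]), (nat_lit 91, [nat_lit 6, nat_lit 0, nat_lit 1, nat_lit 1, nat_lit 0, nat_lit 0]), (nat_lit 92, [nat_lit 1, nat_lit 2, nat_lit 1, nat_lit 0, nat_lit 2, nat_lit 0, nat_lit 0]), (nat_lit 94, [nat_lit 6, nat_lit 5, nat_lit 5, nat_lit 3]), (nat_lit 95, [nat_lit 4, nat_lit 2, nat_lit 2, nat_lit 0, nat_lit 1]), (nat_lit 96, [nat_lit 2, nat_lit 2, nat_lit 4, nat_lit 0, nat_lit 1]), (nat_lit 97, [nat_lit 5, nat_lit 2, nat_lit 2, nat_lit 3, nat_lit 1]), (nat_lit 98, [nat_lit 2, nat_lit 0, nat_lit 2, nat_lit 1, nat_lit 0]), (nat_lit 101, [nat_lit 3, nat_lit 3, nat_lit 0, nat_lit 0]), (nat_lit 104, [nat_lit 2, nat_lit 4, nat_lit 4, nat_lit 0]), (nat_lit 107, [nat_lit 0, nat_lit 4, nat_lit 3, nat_lit 2, nat_lit 2, nat_lit 0]), (nat_lit 109, [nat_lit 5, nat_lit 4, nat_lit 3, nat_lit 1, nat_lit 1]), (nat_lit 110, [nat_lit 2, nat_lit 1, nat_lit 2, nat_lit 0, nat_lit 0, nat_lit 2]), (nat_lit 111, [nat_lit 0, nat_lit 4, nat_lit 0, nat_lit 1]), (nat_lit 114, [nat_lit 6, nat_lit 2, nat_lit 1, nat_lit 0]), (nat_lit 115, [nat_lit 5, nat_lit 4, nat_lit 4, nat_lit 0, nat_lit 0]), (nat_lit 116, [nat_lit 4, nat_lit 0, nat_lit 2, nat_lit 4, nat_lit 0]), (nat_lit 117, [nat_lit 0, nat_lit 0, nat_lit 2, nat_lit 2, nat_lit 0, nat_lit 1]), (nat_lit 118, [nat_lit 2, nat_lit 2, nat_lit 3, nat_lit 1]), (nat_lit 119, [nat_lit 6, nat_lit 5, nat_lit 5, nat_lit 4, nat_lit 1]), (nat_lit 121, [nat_lit 6, nat_lit 6, nat_lit 5, nat_lit 1, nat_lit 1]), (nat_lit 122, [nat_lit 0, nat_lit 0]), (nat_lit 123, [nat_lit 6, nat_lit 6, nat_lit 0, nat_lit 2, nat_lit 0]), (nat_lit 124, [nat_lit 4, nat_lit 3, nat_lit 3]), (nat_lit 129, [nat_lit 4, nat_lit 2, nat_lit 4, nat_lit 2, nat_lit 0, nat_lit 1]), (nat_lit 130, [nat_lit 1, nat_lit 2, nat_lit 2, nat_lit 1, nat_lit 0, nat_lit 1]), (nat_lit 131, [nat_lit 2, nat_lit 0, nat_lit 5, nat_lit 1, nat_lit 2, nat_lit 1]), (nat_lit 132, [nat_lit 2, nat_lit 2, nat_lit 3, nat_lit 1, nat_lit 0]), (nat_lit 133, [nat_lit 5, nat_lit 5, nat_lit 4, nat_lit 2, nat_lit 2]), (nat_lit 135, [nat_lit 5, nat_lit 1, nat_lit 4, nat_lit 4, nat_lit 1]), (nat_lit 137, [nat_lit 3, nat_lit 1, nat_lit 0, nat_lit 2]), (nat_lit 138, [nat_lit 4, nat_lit 0, nat_lit 4, nat_lit 0, nat_lit 3]), (nat_lit 142, [nat_lit 1, nat_lit 1, nat_lit 2, nat_lit 0, nat_lit 0, nat_lit 0]), (nat_lit 143, [nat_lit 2, nat_lit 1, nat_lit 2]), (nat_lit 148, [nat_lit 0, nat_lit 0, nat_lit 5, nat_lit 0, nat_lit 0]), (nat_lit 150, [nat_lit 2, nat_lit 3, nat_lit 2]), (nat_lit 151, [nat_lit 0, nat_lit 5, nat_lit 1, nat_lit 2, nat_lit 1]), (nat_lit 152, [nat_lit 6, nat_lit 2, nat_lit 0, nat_lit 1]), (nat_lit 153, [nat_lit 1, nat_lit 0, nat_lit 1, nat_lit 2, nat_lit 0]), (nat_lit 155, [nat_lit 5, nat_lit 2, nat_lit 1, nat_lit 1]), (nat_lit 156, [nat_lit 6, nat_lit 6, nat_lit 5]), (nat_lit 158, [nat_lit 1, nat_lit 0, nat_lit 4, nat_lit 0, nat_lit 0]), (nat_lit 159, [nat_lit 5, nat_lit 1, nat_lit 3, nat_lit 1, nat_lit 0, nat_lit 2]), (nat_lit 160, [nat_lit 1, nat_lit 1, nat_lit 4]), (nat_lit 162, [nat_lit 0, nat_lit 4, nat_lit 3, nat_lit 2, nat_lit 2, nat_lit 0, nat_lit 0]), (nat_lit 165, [nat_lit 4, nat_lit 2, nat_lit 2, nat_lit 0, nat_lit 1, nat_lit 0]), (nat_lit 166, [nat_lit 4, nat_lit 4, nat_lit 0, nat_lit 0, nat_lit 2]), (nat_lit 168, [nat_lit 2, nat_lit 2, nat_lit 4, nat_lit 0, nat_lit 1, nat_lit 0]), (nat_lit 169, [nat_lit 3, nat_lit 2, nat_lit 2, nat_lit 0]), (nat_lit 171, [nat_lit 4, nat_lit 2, nat_lit 2, nat_lit 0]), (nat_lit 175, [nat_lit 5, nat_lit 5, nat_lit 0, nat_lit 2, nat_lit 2, nat_lit 1]), (nat_lit 177, [nat_lit 2, nat_lit 3, nat_lit 3, nat_lit 2, nat_lit 0]), (nat_lit 178, [nat_lit 1, nat_lit 0, nat_lit 1, nat_lit 2, nat_lit 2, nat_lit 0]), (nat_lit 179, [nat_lit 0, nat_lit 3, nat_lit 0, nat_lit 1]), (nat_lit 180, [nat_lit 4, nat_lit 4, nat_lit 2, nat_lit 3, nat_lit 3, nat_lit 2]), (nat_lit 181, [nat_lit 6, nat_lit 0, nat_lit 2, nat_lit 1]), (nat_lit 182, [nat_lit 4, nat_lit 3, nat_lit 3, nat_lit 0, nat_lit 1, nat_lit 1]), (nat_lit 183, [nat_lit 4, nat_lit 4, nat_lit 0, nat_lit 0]), (nat_lit 184, [nat_lit 6, nat_lit 1, nat_lit 0, nat_lit 2]), (nat_lit 185, [nat_lit 2, nat_lit 0, nat_lit 4, nat_lit 2]), (nat_lit 186, [nat_lit 2, nat_lit 4, nat_lit 1, nat_lit 0]), (nat_lit 187, [nat_lit 2, nat_lit 3, nat_lit 0, nat_lit 2, nat_lit 0, nat_lit 0]), (nat_lit 188, [nat_lit 2, nat_lit 4, nat_lit 0, nat_lit 1, nat_lit 0]), (nat_lit 190, [nat_lit 2, nat_lit 0, nat_lit 2, nat_lit 4]), (nat_lit 191, [nat_lit 5, nat_lit 1, nat_lit 1, nat_lit 0, nat_lit 0]), (nat_lit 192, [nat_lit 0, nat_lit 0, nat_lit 0, nat_lit 1, nat_lit 1, nat_lit 0, nat_lit 0]), (nat_lit 196, [nat_lit 0, nat_lit 1, nat_lit 2, nat_lit 2]), (nat_lit 197, [nat_lit 5, nat_lit 3, nat_lit 1, nat_lit 3]), (nat_lit 199, [nat_lit 0, nat_lit 5, nat_lit 0, nat_lit 2, nat_lit 1, nat_lit 1]), (nat_lit 200, [nat_lit 2, nat_lit 0, nat_lit 2]), (nat_lit 204, [nat_lit 6, nat_lit 6, nat_lit 0, nat_lit 2]), (nat_lit 205, [nat_lit 2, nat_lit 4, nat_lit 0, nat_lit 4, nat_lit 0, nat_lit 0]), (nat_lit 208, [nat_lit 3, nat_lit 1, nat_lit 4, nat_lit 1, nat_lit 0]), (nat_lit 210, [nat_lit 0, nat_lit 1, nat_lit 2, nat_lit 2, nat_lit 1, nat_lit 0, nat_lit 0]), (nat_lit 212, [nat_lit 2, nat_lit 0, nat_lit 4, nat_lit 3, nat_lit 0]), (nat_lit 215, [nat_lit 2, nat_lit 0, nat_lit 2, nat_lit 0, nat_lit 5]), (nat_lit 217, [nat_lit 5, nat_lit 4, nat_lit 1]), (nat_lit 219, [nat_lit 6, nat_lit 6, nat_lit 2, nat_lit 2]), (nat_lit 220, [nat_lit 0, nat_lit 4, nat_lit 0, nat_lit 1, nat_lit 0]), (nat_lit 222, [nat_lit 6, nat_lit 5, nat_lit 5, nat_lit 1, nat_lit 1]), (nat_lit 223, [nat_lit 6, nat_lit 4, nat_lit 4, nat_lit 3, nat_lit 0]), (nat_lit 229, [nat_lit 1, nat_lit 0, nat_lit 2, nat_lit 1, nat_lit 0]), (nat_lit 233, [nat_lit 2, nat_lit 3, nat_lit 1, nat_lit 1, nat_lit 0, nat_lit 2, nat_lit 0]), (nat_lit 236, [nat_lit 0, nat_lit 2, nat_lit 4, nat_lit 2, nat_lit 1]), (nat_lit 237, [nat_lit 3, nat_lit 0, nat_lit 4, nat_lit 4, nat_lit 3, nat_lit 0]), (nat_lit 238, [nat_lit 2, nat_lit 0, nat_lit 5, nat_lit 2, nat_lit 1, nat_lit 0]), (nat_lit 239, [nat_lit 6, nat_lit 2, nat_lit 0, nat_lit 1, nat_lit 1, nat_lit 0]), (nat_lit 241, [nat_lit 3, nat_lit 1, nat_lit 0, nat_lit 1, nat_lit 2]), (nat_lit 243, [nat_lit 5, nat_lit 0, nat_lit 3, nat_lit 1, nat_lit 1, nat_lit 0]), (nat_lit 244, [nat_lit 0, nat_lit 5, nat_lit 2, nat_lit 2, nat_lit 1, nat_lit 0]), (nat_lit 245, [nat_lit 0, nat_lit 5, nat_lit 1, nat_lit 0]), (nat_lit 246, [nat_lit 5, nat_lit 0, nat_lit 3, nat_lit 3, nat_lit 1, nat_lit 0]), (nat_lit 247, [nat_lit 4, nat_lit 2, nat_lit 3, nat_lit 2, nat_lit 0, nat_lit 1]), (nat_lit 248, [nat_lit 5, nat_lit 2, nat_lit 1, nat_lit 1, nat_lit 0, nat_lit 0]), (nat_lit 250, [nat_lit 0, nat_lit 5, nat_lit 4, nat_lit 3, nat_lit 2]), (nat_lit 253, [nat_lit 1, nat_lit 2, nat_lit 0, nat_lit 0, nat_lit 1, nat_lit 2]), (nat_lit 256, [nat_lit 2, nat_lit 2, nat_lit 1, nat_lit 0, nat_lit 0, nat_lit 1, nat_lit 0]), (nat_lit 257, [nat_lit 6, nat_lit 2, nat_lit 0, nat_lit 1, nat_lit 1]), (nat_lit 258, [nat_lit 5, nat_lit 5, nat_lit 1, nat_lit 3, nat_lit 0]), (nat_lit 261, [nat_lit 0, nat_lit 0, nat_lit 2, nat_lit 2, nat_lit 1, nat_lit 1]), (nat_lit 262, [nat_lit 5, nat_lit 1, nat_lit 0, nat_lit 2, nat_lit 2]), (nat_lit 263, [nat_lit 3, nat_lit 2, nat_lit 0, nat_lit 2, nat_lit 1, nat_lit 1]), (nat_lit 264, [nat_lit 6, nat_lit 4, nat_lit 1, nat_lit 0]), (nat_lit 267, [nat_lit 5, nat_lit 0, nat_lit 3, nat_lit 3, nat_lit 0]), (nat_lit 268, [nat_lit 6, nat_lit 4, nat_lit 0]), (nat_lit 269, [nat_lit 0, nat_lit 0, nat_lit 5, nat_lit 1, nat_lit 1]), (nat_lit 270, [nat_lit 0, nat_lit 0, nat_lit 4]), (nat_lit 273, [nat_lit 0, nat_lit 3, nat_lit 1, nat_lit 1]), (nat_lit 274, [nat_lit 4, nat_lit 4, nat_lit 0, nat_lit 0, nat_lit 0]), (nat_lit 275, [nat_lit 4, nat_lit 2, nat_lit 1, nat_lit 0]), (nat_lit 277, [nat_lit 0, nat_lit 0, nat_lit 2, nat_lit 2]), (nat_lit 280, [nat_lit 5, nat_lit 3, nat_lit 1, nat_lit 0, nat_lit 0]), (nat_lit 282, [nat_lit 2, nat_lit 0, nat_lit 4, nat_lit 0]), (nat_lit 285, [nat_lit 1, nat_lit 2, nat_lit 0, nat_lit 5, nat_lit 1]), (nat_lit 287, [nat_lit 5, nat_lit 4, nat_lit 1, nat_lit 3]), (nat_lit 291, [nat_lit 0, nat_lit 2, nat_lit 2, nat_lit 4, nat_lit 1, nat_lit 0]), (nat_lit 292, [nat_lit 4, nat_lit 3, nat_lit 1, nat_lit 0, nat_lit 1]), (nat_lit 294, [nat_lit 1, nat_lit 4, nat_lit 1, nat_lit 0]), (nat_lit 295, [nat_lit 1, nat_lit 3, nat_lit 3, nat_lit 0, nat_lit 1]), (nat_lit 296, [nat_lit 6, nat_lit 0, nat_lit 4]), (nat_lit 297, [nat_lit 4, nat_lit 0, nat_lit 1, nat_lit 0, nat_lit 2]), (nat_lit 298, [nat_lit 1, nat_lit 2, nat_lit 2, nat_lit 0, nat_lit 4, nat_lit 0, nat_lit 0]), (nat_lit 299, [nat_lit 0, nat_lit 0, nat_lit 5, nat_lit 1, nat_lit 0]), (nat_lit 303, [nat_lit 5, nat_lit 3, nat_lit 0, nat_lit 2]), (nat_lit 304, [nat_lit 1, nat_lit 0, nat_lit 0, nat_lit 2, nat_lit 2, nat_lit 0, nat_lit 1]), (nat_lit 305, [nat_lit 0, nat_lit 5, nat_lit 2, nat_lit 1, nat_lit 0]), (nat_lit 308, [nat_lit 1, nat_lit 0, nat_lit 1, nat_lit 2, nat_lit 0, nat_lit 2, nat_lit 0]), (nat_lit 311, [nat_lit 6, nat_lit 6, nat_lit 5, nat_lit 5, nat_lit 3]), (nat_lit 314, [nat_lit 5, nat_lit 5, nat_lit 1, nat_lit 3]), (nat_lit 315, [nat_lit 5, nat_lit 4, nat_lit 1, nat_lit 2]), (nat_lit 316, [nat_lit 5, nat_lit 2, nat_lit 3, nat_lit 1]), (nat_lit 317, [nat_lit 6, nat_lit 5, nat_lit 5, nat_lit 4, nat_lit 4]), (nat_lit 318, [nat_lit 4, nat_lit 3, nat_lit 0, nat_lit 1]), (nat_lit 319, [nat_lit 3, nat_lit 2, nat_lit 3, nat_lit 0, nat_lit 1]), (nat_lit 320, [nat_lit 2, nat_lit 3, nat_lit 1]), (nat_lit 321, [nat_lit 1, nat_lit 3, nat_lit 0, nat_lit 2, nat_lit 0, nat_lit 1]), (nat_lit 322, [nat_lit 2, nat_lit 0, nat_lit 5, nat_lit 5, nat_lit 0]), (nat_lit 323, [nat_lit 5, nat_lit 3, nat_lit 1, nat_lit 4, nat_lit 1]), (nat_lit 325, [nat_lit 2, nat_lit 0, nat_lit 1, nat_lit 1, nat_lit 2]), (nat_lit 327, [nat_lit 1, nat_lit 1, nat_lit 3]), (nat_lit 328, [nat_lit 1, nat_lit 1, nat_lit 0, nat_lit 5, nat_lit 2, nat_lit 2]), (nat_lit 330, [nat_lit 0, nat_lit 4, nat_lit 4, nat_lit 0]), (nat_lit 331, [nat_lit 0, nat_lit 0, nat_lit 4, nat_lit 3, nat_lit 3]), (nat_lit 332, [nat_lit 5, nat_lit 2, nat_lit 2, nat_lit 1, nat_lit 0, nat_lit 0]), (nat_lit 333, [nat_lit 2, nat_lit 1, nat_lit 0, nat_lit 0, nat_lit 2, nat_lit 1]), (nat_lit 335, [nat_lit 5, nat_lit 2, nat_lit 4, nat_lit 3, nat_lit 1, nat_lit 1]), (nat_lit 337, [nat_lit 4, nat_lit 1, nat_lit 2, nat_lit 1]), (nat_lit 338, [nat_lit 5, nat_lit 2, nat_lit 0]), (nat_lit 339, [nat_lit 0, nat_lit 2, nat_lit 1, nat_lit 2, nat_lit 1]), (nat_lit 340, [nat_lit 5, nat_lit 2, nat_lit 0, nat_lit 1, nat_lit 0]), (nat_lit 341, [nat_lit 2, nat_lit 0, nat_lit 0, nat_lit 1, nat_lit 1, nat_lit 0]), (nat_lit 343, [nat_lit 3, nat_lit 2, nat_lit 1, nat_lit 1, nat_lit 0, nat_lit 2]), (nat_lit 344, [nat_lit 3, nat_lit 2, nat_lit 0, nat_lit 2, nat_lit 0, nat_lit 0]), (nat_lit 345, [nat_lit 5, nat_lit 1, nat_lit 1, nat_lit 3, nat_lit 0, nat_lit 2]), (nat_lit 346, [nat_lit 1, nat_lit 2, nat_lit 2, nat_lit 1, nat_lit 0, nat_lit 4]), (nat_lit 347, [nat_lit 0, nat_lit 5, nat_lit 2, nat_lit 2, nat_lit 1, nat_lit 1]), (nat_lit 349, [nat_lit 5, nat_lit 5, nat_lit 2, nat_lit 2, nat_lit 0]), (nat_lit 350, [nat_lit 5, nat_lit 1, nat_lit 2, nat_lit 2, nat_lit 0, nat_lit 0, nat_lit 0]), (nat_lit 351, [nat_lit 4, nat_lit 2, nat_lit 3, nat_lit 3, nat_lit 0]), (nat_lit 352, [nat_lit 0, nat_lit 2, nat_lit 2, nat_lit 0, nat_lit 4]), (nat_lit 355, [nat_lit 4, nat_lit 3, nat_lit 2, nat_lit 2, nat_lit 1, nat_lit 1]), (nat_lit 356, [nat_lit 3, nat_lit 3, nat_lit 0, nat_lit 1, nat_lit 0, nat_lit 1]), (nat_lit 359, [nat_lit 2, nat_lit 0, nat_lit 1, nat_lit 2, nat_lit 0, nat_lit 1]), (nat_lit 360, [nat_lit 6, nat_lit 0, nat_lit 1, nat_lit 0, nat_lit 2, nat_lit 1, nat_lit 0]), (nat_lit 361, [nat_lit 5, nat_lit 3, nat_lit 2, nat_lit 2]), (nat_lit 363, [nat_lit 2, nat_lit 4, nat_lit 3, nat_lit 2, nat_lit 1, nat_lit 1]), (nat_lit 364, [nat_lit 1, nat_lit 0, nat_lit 2, nat_lit 2, nat_lit 1, nat_lit 0]), (nat_lit 365, [nat_lit 4, nat_lit 4, nat_lit 3, nat_lit 1]), (nat_lit 366, [nat_lit 2, nat_lit 0, nat_lit 5, nat_lit 1, nat_lit 0, nat_lit 0]), (nat_lit 367, [nat_lit 4, nat_lit 3, nat_lit 2, nat_lit 3]), (nat_lit 368, [nat_lit 2, nat_lit 2, nat_lit 4, nat_lit 0]), (nat_lit 369, [nat_lit 5, nat_lit 3, nat_lit 0, nat_lit 1, nat_lit 1, nat_lit 0]), (nat_lit 370, [nat_lit 5, nat_lit 1, nat_lit 1, nat_lit 3]), (nat_lit 372, [nat_lit 0, nat_lit 5, nat_lit 3, nat_lit 2]), (nat_lit 373, [nat_lit 6, nat_lit 4, nat_lit 4, nat_lit 0, nat_lit 0]), (nat_lit 374, [nat_lit 2, nat_lit 3, nat_lit 0, nat_lit 1, nat_lit 1, nat_lit 0]), (nat_lit 375, [nat_lit 1, nat_lit 0, nat_lit 0, nat_lit 0, nat_lit 0, nat_lit 1]), (nat_lit 377, [nat_lit 0, nat_lit 0, nat_lit 1, nat_lit 0, nat_lit 0]), (nat_lit 379, [nat_lit 0, nat_lit 3, nat_lit 2, nat_lit 1]), (nat_lit 380, [nat_lit 5, nat_lit 5, nat_lit 4, nat_lit 1, nat_lit 3]), (nat_lit 381, [nat_lit 1, nat_lit 0, nat_lit 0, nat_lit 5, nat_lit 0]), (nat_lit 382, [nat_lit 5, nat_lit 5, nat_lit 4, nat_lit 4, nat_lit 1, nat_lit 1]), (nat_lit 383, [nat_lit 5, nat_lit 0, nat_lit 4]), (nat_lit 384, [nat_lit 4, nat_lit 3, nat_lit 3, nat_lit 0, nat_lit 0]), (nat_lit 385, [nat_lit 3, nat_lit 0, nat_lit 4, nat_lit 0]), (nat_lit 386, [nat_lit 5, nat_lit 1, nat_lit 0, nat_lit 5, nat_lit 1]), (nat_lit 389, [nat_lit 0, nat_lit 5, nat_lit 3, nat_lit 1, nat_lit 0]), (nat_lit 391, [nat_lit 0, nat_lit 4, nat_lit 3, nat_lit 2, nat_lit 0]), (nat_lit 392, [nat_lit 2, nat_lit 2, nat_lit 1, nat_lit 0, nat_lit 1, nat_lit 0]), (nat_lit 393, [nat_lit 3, nat_lit 0, nat_lit 4, nat_lit 2, nat_lit 0]), (nat_lit 394, [nat_lit 3, nat_lit 1, nat_lit 4, nat_lit 1]), (nat_lit 396, [nat_lit 4, nat_lit 2, nat_lit 3, nat_lit 0, nat_lit 1]), (nat_lit 397, [nat_lit 6, nat_lit 1, nat_lit 3, nat_lit 0, nat_lit 1]), (nat_lit 400, [nat_lit 4, nat_lit 2, nat_lit 2]), (nat_lit 402, [nat_lit 3, nat_lit 0, nat_lit 4, nat_lit 2, nat_lit 2, nat_lit 0, nat_lit 0]), (nat_lit 403, [nat_lit 1, nat_lit 4, nat_lit 1]), (nat_lit 405, [nat_lit 4, nat_lit 0, nat_lit 2, nat_lit 2]), (nat_lit 406, [nat_lit 2, nat_lit 2, nat_lit 0, nat_lit 5, nat_lit 1, nat_lit 0, nat_lit 0]), (nat_lit 407, [nat_lit 2, nat_lit 2, nat_lit 0, nat_lit 5, nat_lit 1]), (nat_lit 409, [nat_lit 5, nat_lit 0, nat_lit 2, nat_lit 4, nat_lit 2, nat_lit 1]), (nat_lit 410, [nat_lit 1, nat_lit 2, nat_lit 2, nat_lit 1, nat_lit 0]), (nat_lit 411, [nat_lit 1, nat_lit 4, nat_lit 4, nat_lit 1]), (nat_lit 413, [nat_lit 4, nat_lit 2, nat_lit 4, nat_lit 3, nat_lit 2]), (nat_lit 414, [nat_lit 0, nat_lit 1, nat_lit 0, nat_lit 5]), (nat_lit 416, [nat_lit 2, nat_lit 1, nat_lit 1, nat_lit 0, nat_lit 0]), (nat_lit 417, [nat_lit 5, nat_lit 2, nat_lit 0, nat_lit 5, nat_lit 1]), (nat_lit 422, [nat_lit 5, nat_lit 1, nat_lit 3, nat_lit 0, nat_lit 1]), (nat_lit 423, [nat_lit 5, nat_lit 2, nat_lit 0, nat_lit 5, nat_lit 2]), (nat_lit 426, [nat_lit 1, nat_lit 0, nat_lit 0, nat_lit 0, nat_lit 1]), (nat_lit 427, [nat_lit 2, nat_lit 2]), (nat_lit 430, [nat_lit 1, nat_lit 2, nat_lit 0, nat_lit 1, nat_lit 0, nat_lit 2]), (nat_lit 431, [nat_lit 5, nat_lit 1, nat_lit 0, nat_lit 1, nat_lit 0, nat_lit 0]), (nat_lit 435, [nat_lit 2, nat_lit 3, nat_lit 3, nat_lit 1, nat_lit 0, nat_lit 1]), (nat_lit 436, [nat_lit 6, nat_lit 5, nat_lit 5, nat_lit 1, nat_lit 3]), (nat_lit 437, [nat_lit 4, nat_lit 2, nat_lit 2, nat_lit 0, nat_lit 0, nat_lit 1, nat_lit 0]), (nat_lit 440, [nat_lit 1, nat_lit 2, nat_lit 2, nat_lit 0, nat_lit 1, nat_lit 0]), (nat_lit 441, [nat_lit 0, nat_lit 2, nat_lit 1, nat_lit 1]), (nat_lit 444, [nat_lit 6, nat_lit 3, nat_lit 0, nat_lit 2]), (nat_lit 445, [nat_lit 3, nat_lit 0, nat_lit 4, nat_lit 4, nat_lit 0]), (nat_lit 446, [nat_lit 1, nat_lit 2, nat_lit 0, nat_lit 5, nat_lit 0]), (nat_lit 447, [nat_lit 6, nat_lit 0, nat_lit 2, nat_lit 0]), (nat_lit 448, [nat_lit 5, nat_lit 5, nat_lit 1, nat_lit 2]), (nat_lit 449, [nat_lit 6, nat_lit 3, nat_lit 0, nat_lit 1, nat_lit 0]), (nat_lit 450, [nat_lit 1, nat_lit 0, nat_lit 1, nat_lit 0, nat_lit 2]), (nat_lit 452, [nat_lit 5, nat_lit 4, nat_lit 2, nat_lit 1, nat_lit 1]), (nat_lit 453, [nat_lit 5, nat_lit 5, nat_lit 3, nat_lit 1, nat_lit 2]), (nat_lit 454, [nat_lit 5, nat_lit 3, nat_lit 2, nat_lit 1]), (nat_lit 456, [nat_lit 5, nat_lit 5, nat_lit 2, nat_lit 0, nat_lit 1, nat_lit 0, nat_lit 0]), (nat_lit 457, [nat_lit 4, nat_lit 1, nat_lit 3, nat_lit 1]), (nat_lit 459, [nat_lit 3, nat_lit 2, nat_lit 0, nat_lit 1]), (nat_lit 461, [nat_lit 2, nat_lit 3, nat_lit 3, nat_lit 0, nat_lit 1, nat_lit 1]), (nat_lit 463, [nat_lit 0, nat_lit 0, nat_lit 5, nat_lit 4]), (nat_lit 467, [nat_lit 4, nat_lit 2, nat_lit 1, nat_lit 0, nat_lit 0]), (nat_lit 468, [nat_lit 3, nat_lit 1, nat_lit 0, nat_lit 0, nat_lit 1]), (nat_lit 471, [nat_lit 0, nat_lit 2, nat_lit 1, nat_lit 0, nat_lit 2, nat_lit 0]), (nat_lit 474, [nat_lit 5, nat_lit 4, nat_lit 4, nat_lit 1, nat_lit 1]), (nat_lit 476, [nat_lit 2, nat_lit 4, nat_lit 4, nat_lit 2, nat_lit 1]), (nat_lit 477, [nat_lit 4, nat_lit 3, nat_lit 3, nat_lit 2, nat_lit 2]), (nat_lit 480, [nat_lit 3, nat_lit 2, nat_lit 2, nat_lit 0, nat_lit 4, nat_lit 0]), (nat_lit 483, [nat_lit 0, nat_lit 1, nat_lit 2, nat_lit 0, nat_lit 2, nat_lit 0, nat_lit 1]), (nat_lit 485, [nat_lit 4, nat_lit 3, nat_lit 0, nat_lit 4, nat_lit 0]), (nat_lit 486, [nat_lit 5, nat_lit 5, nat_lit 2, nat_lit 0, nat_lit 0]), (nat_lit 488, [nat_lit 1, nat_lit 2, nat_lit 0, nat_lit 2, nat_lit 0]), (nat_lit 490, [nat_lit 5, nat_lit 5, nat_lit 4, nat_lit 4, nat_lit 1, nat_lit 3]), (nat_lit 493, [nat_lit 4, nat_lit 0, nat_lit 4, nat_lit 0]), (nat_lit 494, [nat_lit 0, nat_lit 2, nat_lit 1, nat_lit 2, nat_lit 0, nat_lit 1]), (nat_lit 495, [nat_lit 2, nat_lit 1, nat_lit 0, nat_lit 0]), (nat_lit 496, [nat_lit 2, nat_lit 2, nat_lit 0, nat_lit 0, nat_lit 5]), (nat_lit 498, [nat_lit 0, nat_lit 5, nat_lit 1, nat_lit 1, nat_lit 0]), (nat_lit 499, [nat_lit 0, nat_lit 0, nat_lit 1, nat_lit 0, nat_lit 2, nat_lit 0]), (nat_lit 500, [nat_lit 1, nat_lit 0, nat_lit 5, nat_lit 2, nat_lit 1, nat_lit 0]), (nat_lit 501, [nat_lit 0, nat_lit 4, nat_lit 3, nat_lit 3]), (nat_lit 507, [nat_lit 5, nat_lit 5, nat_lit 2, nat_lit 2, nat_lit 0, nat_lit 1]), (nat_lit 508, [nat_lit 0, nat_lit 1, nat_lit 0, nat_lit 0, nat_lit 2, nat_lit 2]), (nat_lit 509, [nat_lit 2, nat_lit 0, nat_lit 5, nat_lit 2, nat_lit 1, nat_lit 1]), (nat_lit 511, [nat_lit 5, nat_lit 3, nat_lit 0, nat_lit 2, nat_lit 0]), (nat_lit 512, [nat_lit 0, nat_lit 2, nat_lit 2, nat_lit 0, nat_lit 1]), (nat_lit 515, [nat_lit 4, nat_lit 3, nat_lit 3, nat_lit 0, nat_lit 1]), (nat_lit 516, [nat_lit 5, nat_lit 2, nat_lit 0, nat_lit 2, nat_lit 1, nat_lit 0]), (nat_lit 519, [nat_lit 4, nat_lit 2, nat_lit 4, nat_lit 0]), (nat_lit 520, [nat_lit 5, nat_lit 5, nat_lit 4, nat_lit 4, nat_lit 1]), (nat_lit 521, [nat_lit 3, nat_lit 1, nat_lit 0, nat_lit 1]), (nat_lit 522, [nat_lit 5, nat_lit 0, nat_lit 5, nat_lit 1, nat_lit 0]), (nat_lit 523, [nat_lit 2, nat_lit 2, nat_lit 1, nat_lit 1, nat_lit 0, nat_lit 0]), (nat_lit 525, [nat_lit 5, nat_lit 4, nat_lit 2]), (nat_lit 529, [nat_lit 1, nat_lit 3, nat_lit 0, nat_lit 4, nat_lit 3]), (nat_lit 530, [nat_lit 5, nat_lit 3, nat_lit 0, nat_lit 4, nat_lit 3]), (nat_lit 532, [nat_lit 4, nat_lit 2, nat_lit 4, nat_lit 2, nat_lit 0]), (nat_lit 535, [nat_lit 4, nat_lit 4, nat_lit 0, nat_lit 1]), (nat_lit 536, [nat_lit 6, nat_lit 0, nat_lit 1, nat_lit 1, nat_lit 0]), (nat_lit 539, [nat_lit 6, nat_lit 0, nat_lit 2, nat_lit 1, nat_lit 0, nat_lit 2, nat_lit 0]), (nat_lit 540, [nat_lit 1, nat_lit 3, nat_lit 1, nat_lit 0, nat_lit 2, nat_lit 0, nat_lit 0]), (nat_lit 542, [nat_lit 5, nat_lit 5, nat_lit 4, nat_lit 2, nat_lit 2, nat_lit 1]), (nat_lit 543, [nat_lit 3, nat_lit 1, nat_lit 2]), (nat_lit 545, [nat_lit 0, nat_lit 3, nat_lit 2, nat_lit 0, nat_lit 1]), (nat_lit 546, [nat_lit 1, nat_lit 3, nat_lit 3, nat_lit 1]), (nat_lit 548, [nat_lit 5, nat_lit 5, nat_lit 2, nat_lit 2, nat_lit 1]), (nat_lit 549, [nat_lit 6, nat_lit 6, nat_lit 5, nat_lit 2, nat_lit 2]), (nat_lit 550, [nat_lit 1, nat_lit 0, nat_lit 2, nat_lit 4, nat_lit 0]), (nat_lit 555, [nat_lit 5, nat_lit 1, nat_lit 1]), (nat_lit 556, [nat_lit 2, nat_lit 0, nat_lit 1, nat_lit 0]), (nat_lit 557, [nat_lit 1, nat_lit 1, nat_lit 2, nat_lit 0, nat_lit 0]), (nat_lit 561, [nat_lit 2, nat_lit 2, nat_lit 1, nat_lit 0, nat_lit 1, nat_lit 0, nat_lit 0]), (nat_lit 562, [nat_lit 0, nat_lit 1, nat_lit 0, nat_lit 5, nat_lit 0]), (nat_lit 563, [nat_lit 2, nat_lit 0, nat_lit 2, nat_lit 1]), (nat_lit 564, [nat_lit 5, nat_lit 5, nat_lit 2, nat_lit 2, nat_lit 3, nat_lit 1, nat_lit 1]), (nat_lit 566, [nat_lit 4, nat_lit 3, nat_lit 1, nat_lit 3, nat_lit 0]), (nat_lit 567, [nat_lit 5, nat_lit 1, nat_lit 2, nat_lit 2, nat_lit 0]), (nat_lit 568, [nat_lit 5, nat_lit 5, nat_lit 2, nat_lit 0, nat_lit 2]), (nat_lit 569, [nat_lit 1, nat_lit 0, nat_lit 5, nat_lit 2, nat_lit 2, nat_lit 0, nat_lit 0]), (nat_lit 570, [nat_lit 4, nat_lit 1, nat_lit 0, nat_lit 1]), (nat_lit 571, [nat_lit 5, nat_lit 1, nat_lit 0, nat_lit 2, nat_lit 0, nat_lit 0]), (nat_lit 572, [nat_lit 2, nat_lit 0, nat_lit 4, nat_lit 0, nat_lit 1, nat_lit 0]), (nat_lit 573, [nat_lit 5, nat_lit 0, nat_lit 4, nat_lit 3]), (nat_lit 574, [nat_lit 1, nat_lit 0, nat_lit 1, nat_lit 0]), (nat_lit 575, [nat_lit 0, nat_lit 1, nat_lit 2, nat_lit 0, nat_lit 2, nat_lit 0]), (nat_lit 576, [nat_lit 0, nat_lit 0, nat_lit 4, nat_lit 0]), (nat_lit 579, [nat_lit 2, nat_lit 3, nat_lit 0, nat_lit 0, nat_lit 2]), (nat_lit 580, [nat_lit 2, nat_lit 0, nat_lit 1, nat_lit 0, nat_lit 2, nat_lit 0]), (nat_lit 581, [nat_lit 4]), (nat_lit 583, [nat_lit 1, nat_lit 1, nat_lit 0, nat_lit 5, nat_lit 0]), (nat_lit 584, [nat_lit 0, nat_lit 5, nat_lit 1, nat_lit 2, nat_lit 0]), (nat_lit 586, [nat_lit 2, nat_lit 0, nat_lit 5, nat_lit 2]), (nat_lit 587, [nat_lit 1, nat_lit 2, nat_lit 0]), (nat_lit 591, [nat_lit 4, nat_lit 0, nat_lit 4, nat_lit 2, nat_lit 2]), (nat_lit 593, [nat_lit 5, nat_lit 4, nat_lit 1, nat_lit 3, nat_lit 1]), (nat_lit 595, [nat_lit 6, nat_lit 2, nat_lit 0, nat_lit 0, nat_lit 2]), (nat_lit 597, [nat_lit 0, nat_lit 2, nat_lit 0, nat_lit 1, nat_lit 2]), (nat_lit 598, [nat_lit 2, nat_lit 3, nat_lit 3]), (nat_lit 603, [nat_lit 0, nat_lit 2, nat_lit 0, nat_lit 1, nat_lit 2, nat_lit 0]), (nat_lit 604, [nat_lit 0, nat_lit 1, nat_lit 1, nat_lit 0, nat_lit 2, nat_lit 0, nat_lit 2]), (nat_lit 605, [nat_lit 2, nat_lit 0, nat_lit 0, nat_lit 2, nat_lit 1]), (nat_lit 606, [nat_lit 4, nat_lit 3]), (nat_lit 607, [nat_lit 4, nat_lit 4, nat_lit 2, nat_lit 1, nat_lit 0, nat_lit 1]), (nat_lit 608, [nat_lit 0, nat_lit 3, nat_lit 2, nat_lit 0, nat_lit 1, nat_lit 1]), (nat_lit 609, [nat_lit 3, nat_lit 0, nat_lit 4, nat_lit 2, nat_lit 0, nat_lit 1]), (nat_lit 611, [nat_lit 3, nat_lit 2, nat_lit 3, nat_lit 1, nat_lit 1, nat_lit 0]), (nat_lit 614, [nat_lit 3, nat_lit 2, nat_lit 0, nat_lit 2]), (nat_lit 618, [nat_lit 4, nat_lit 2, nat_lit 4, nat_lit 2, nat_lit 1]), (nat_lit 619, [nat_lit 2, nat_lit 0, nat_lit 4, nat_lit 3, nat_lit 2, nat_lit 0]), (nat_lit 620, [nat_lit 5, nat_lit 1, nat_lit 0, nat_lit 2]), (nat_lit 621, [nat_lit 3, nat_lit 0, nat_lit 4, nat_lit 3]), (nat_lit 622, [nat_lit 5, nat_lit 2, nat_lit 0, nat_lit 2, nat_lit 1, nat_lit 1]), (nat_lit 623, [nat_lit 3, nat_lit 1, nat_lit 2, nat_lit 0]), (nat_lit 625, [nat_lit 4, nat_lit 0, nat_lit 1, nat_lit 1]), (nat_lit 628, [nat_lit 2, nat_lit 0, nat_lit 0, nat_lit 1, nat_lit 0, nat_lit 0]), (nat_lit 629, [nat_lit 4, nat_lit 3, nat_lit 1, nat_lit 1, nat_lit 0]), (nat_lit 630, [nat_lit 6, nat_lit 5, nat_lit 4, nat_lit 4]), (nat_lit 631, [nat_lit 5, nat_lit 3, nat_lit 1, nat_lit 0, nat_lit 2]), (nat_lit 633, [nat_lit 1, nat_lit 0, nat_lit 2, nat_lit 1, nat_lit 0, nat_lit 2]), (nat_lit 634, [nat_lit 2, nat_lit 2, nat_lit 0, nat_lit 1, nat_lit 1, nat_lit 0, nat_lit 0]), (nat_lit 635, [nat_lit 5, nat_lit 5, nat_lit 3, nat_lit 1]), (nat_lit 636, [nat_lit 6, nat_lit 1, nat_lit 3]), (nat_lit 638, [nat_lit 6, nat_lit 0, nat_lit 1, nat_lit 1]), (nat_lit 644, [nat_lit 4, nat_lit 3, nat_lit 3, nat_lit 2, nat_lit 1, nat_lit 1]), (nat_lit 645, [nat_lit 0, nat_lit 3, nat_lit 2, nat_lit 0, nat_lit 0]), (nat_lit 646, [nat_lit 2, nat_lit 3, nat_lit 1, nat_lit 1]), (nat_lit 647, [nat_lit 4, nat_lit 0, nat_lit 4, nat_lit 0, nat_lit 3, nat_lit 0]), (nat_lit 649, [nat_lit 6, nat_lit 0, nat_lit 0, nat_lit 2]), (nat_lit 652, [nat_lit 6, nat_lit 0, nat_lit 4, nat_lit 4]), (nat_lit 654, [nat_lit 2, nat_lit 1, nat_lit 0, nat_lit 2, nat_lit 4]), (nat_lit 655, [nat_lit 5, nat_lit 5, nat_lit 0, nat_lit 1, nat_lit 0]), (nat_lit 656, [nat_lit 5, nat_lit 5, nat_lit 1, nat_lit 3, nat_lit 0, nat_lit 0]), (nat_lit 657, [nat_lit 5, nat_lit 4, nat_lit 0, nat_lit 0, nat_lit 0]), (nat_lit 658, [nat_lit 0, nat_lit 2, nat_lit 0, nat_lit 2, nat_lit 1, nat_lit 0, nat_lit 1]), (nat_lit 659, [nat_lit 6, nat_lit 6, nat_lit 1]), (nat_lit 660, [nat_lit 6, nat_lit 6, nat_lit 5, nat_lit 1]), (nat_lit 661, [nat_lit 4, nat_lit 1, nat_lit 4, nat_lit 1, nat_lit 0]), (nat_lit 662, [nat_lit 6, nat_lit 5, nat_lit 5, nat_lit 2, nat_lit 4]), (nat_lit 664, [nat_lit 6, nat_lit 6, nat_lit 4, nat_lit 4]), (nat_lit 665, [nat_lit 0, nat_lit 0, nat_lit 2, nat_lit 1, nat_lit 2, nat_lit 1]), (nat_lit 666, [nat_lit 6, nat_lit 2, nat_lit 4]), (nat_lit 667, [nat_lit 3, nat_lit 0, nat_lit 0]), (nat_lit 668, [nat_lit 6, nat_lit 5, nat_lit 4]), (nat_lit 669, [nat_lit 4, nat_lit 1, nat_lit 3, nat_lit 3]), (nat_lit 670, [nat_lit 3, nat_lit 0, nat_lit 4, nat_lit 0, nat_lit 1]), (nat_lit 671, [nat_lit 0, nat_lit 4, nat_lit 0, nat_lit 3, nat_lit 1]), (nat_lit 672, [nat_lit 2, nat_lit 1, nat_lit 2, nat_lit 0, nat_lit 1, nat_lit 0]), (nat_lit 673, [nat_lit 0, nat_lit 0, nat_lit 4, nat_lit 3, nat_lit 2]), (nat_lit 674, [nat_lit 5, nat_lit 5, nat_lit 4, nat_lit 3, nat_lit 1]), (nat_lit 677, [nat_lit 5, nat_lit 2, nat_lit 2, nat_lit 1, nat_lit 1]), (nat_lit 678, [nat_lit 5, nat_lit 3, nat_lit 1, nat_lit 1, nat_lit 0, nat_lit 2]), (nat_lit 679, [nat_lit 5, nat_lit 2, nat_lit 2, nat_lit 4, nat_lit 0, nat_lit 0]), (nat_lit 681, [nat_lit 4, nat_lit 2, nat_lit 0, nat_lit 0]), (nat_lit 682, [nat_lit 5, nat_lit 5, nat_lit 4, nat_lit 3]), (nat_lit 685, [nat_lit 1, nat_lit 2, nat_lit 2, nat_lit 0, nat_lit 0, nat_lit 0]), (nat_lit 686, [nat_lit 5, nat_lit 5, nat_lit 2, nat_lit 1, nat_lit 2, nat_lit 1]), (nat_lit 687, [nat_lit 3, nat_lit 0, nat_lit 4, nat_lit 3, nat_lit 0, nat_lit 1]), (nat_lit 688, [nat_lit 4, nat_lit 0, nat_lit 2, nat_lit 1, nat_lit 1]), (nat_lit 692, [nat_lit 3, nat_lit 2, nat_lit 2, nat_lit 0, nat_lit 4]), (nat_lit 693, [nat_lit 2, nat_lit 1, nat_lit 0, nat_lit 1, nat_lit 0, nat_lit 2]), (nat_lit 694, [nat_lit 2, nat_lit 3, nat_lit 3, nat_lit 1, nat_lit 0]), (nat_lit 695, [nat_lit 2, nat_lit 1, nat_lit 0, nat_lit 1, nat_lit 0]), (nat_lit 697, [nat_lit 1, nat_lit 0, nat_lit 2]), (nat_lit 698, [nat_lit 5, nat_lit 1, nat_lit 1, nat_lit 3, nat_lit 0]), (nat_lit 700, [nat_lit 5, nat_lit 2, nat_lit 1, nat_lit 2, nat_lit 0]), (nat_lit 701, [nat_lit 0, nat_lit 4, nat_lit 0, nat_lit 2, nat_lit 1]), (nat_lit 702, [nat_lit 2, nat_lit 1, nat_lit 0, nat_lit 2, nat_lit 0, nat_lit 1]), (nat_lit 708, [nat_lit 2, nat_lit 0, nat_lit 5, nat_lit 2, nat_lit 1]), (nat_lit 710, [nat_lit 5, nat_lit 2, nat_lit 0, nat_lit 1]), (nat_lit 711, [nat_lit 1, nat_lit 2, nat_lit 1, nat_lit 0, nat_lit 2]), (nat_lit 712, [nat_lit 5, nat_lit 3, nat_lit 1, nat_lit 3, nat_lit 0, nat_lit 0]), (nat_lit 714, [nat_lit 2, nat_lit 2, nat_lit 0, nat_lit 1, nat_lit 1, nat_lit 0]), (nat_lit 716, [nat_lit 5, nat_lit 5, nat_lit 0, nat_lit 2, nat_lit 2, nat_lit 0]), (nat_lit 717, [nat_lit 2, nat_lit 2, nat_lit 4, nat_lit 1, nat_lit 0, nat_lit 1]), (nat_lit 718, [nat_lit 1, nat_lit 0, nat_lit 2, nat_lit 4, nat_lit 2, nat_lit 0, nat_lit 0]), (nat_lit 719, [nat_lit 5, nat_lit 1, nat_lit 1, nat_lit 2, nat_lit 0, nat_lit 2, nat_lit 0]), (nat_lit 720, [nat_lit 5, nat_lit 0, nat_lit 0, nat_lit 0]), (nat_lit 722, [nat_lit 2, nat_lit 2, nat_lit 0, nat_lit 0, nat_lit 1, nat_lit 1, nat_lit 0]), (nat_lit 727, [nat_lit 5, nat_lit 0, nat_lit 2, nat_lit 2]), (nat_lit 728, [nat_lit 4, nat_lit 1, nat_lit 2, nat_lit 1, nat_lit 0]), (nat_lit 729, [nat_lit 0, nat_lit 2, nat_lit 0, nat_lit 0, nat_lit 2]), (nat_lit 731, [nat_lit 2, nat_lit 4, nat_lit 3, nat_lit 2, nat_lit 0]), (nat_lit 732, [nat_lit 0, nat_lit 0, nat_lit 2, nat_lit 1, nat_lit 2, nat_lit 1, nat_lit 0]), (nat_lit 733, [nat_lit 6, nat_lit 4, nat_lit 0, nat_lit 0, nat_lit 2]), (nat_lit 734, [nat_lit 5, nat_lit 1, nat_lit 1, nat_lit 4]), (nat_lit 735, [nat_lit 6, nat_lit 3]), (nat_lit 736, [nat_lit 4, nat_lit 1, nat_lit 1, nat_lit 0]), (nat_lit 739, [nat_lit 5, nat_lit 5, nat_lit 2, nat_lit 1]), (nat_lit 741, [nat_lit 4, nat_lit 2, nat_lit 0, nat_lit 4, nat_lit 0]), (nat_lit 742, [nat_lit 5, nat_lit 5, nat_lit 0, nat_lit 2, nat_lit 0]), (nat_lit 743, [nat_lit 5, nat_lit 0, nat_lit 0, nat_lit 2]), (nat_lit 744, [nat_lit 2, nat_lit 4, nat_lit 0, nat_lit 0]), (nat_lit 745, [nat_lit 3, nat_lit 0, nat_lit 2, nat_lit 0, nat_lit 1]), (nat_lit 746, [nat_lit 3, nat_lit 2, nat_lit 3, nat_lit 2]), (nat_lit 747, [nat_lit 2, nat_lit 0, nat_lit 2, nat_lit 0, nat_lit 1, nat_lit 1]), (nat_lit 748, [nat_lit 5, nat_lit 5, nat_lit 4, nat_lit 2, nat_lit 3, nat_lit 1]), (nat_lit 749, [nat_lit 0, nat_lit 2, nat_lit 2, nat_lit 4, nat_lit 0, nat_lit 1]), (nat_lit 750, [nat_lit 2, nat_lit 0, nat_lit 4, nat_lit 2, nat_lit 0]), (nat_lit 751, [nat_lit 1, nat_lit 1, nat_lit 0, nat_lit 0, nat_lit 5, nat_lit 0]), (nat_lit 752, [nat_lit 2, nat_lit 2, nat_lit 0, nat_lit 5, nat_lit 5]), (nat_lit 753, [nat_lit 0, nat_lit 2, nat_lit 1, nat_lit 0]), (nat_lit 754, [nat_lit 0, nat_lit 5, nat_lit 1, nat_lit 1]), (nat_lit 757, [nat_lit 5, nat_lit 1, nat_lit 4, nat_lit 1]), (nat_lit 758, [nat_lit 2, nat_lit 2, nat_lit 4, nat_lit 0, nat_lit 0]), (nat_lit 759, [nat_lit 5, nat_lit 2, nat_lit 1, nat_lit 2, nat_lit 0, nat_lit 1, nat_lit 0, nat_lit 0]), (nat_lit 763, [nat_lit 4, nat_lit 0, nat_lit 1, nat_lit 0]), (nat_lit 764, [nat_lit 1, nat_lit 0, nat_lit 0, nat_lit 1, nat_lit 0]), (nat_lit 769, [nat_lit 5, nat_lit 2, nat_lit 0, nat_lit 5]), (nat_lit 771, [nat_lit 5, nat_lit 1, nat_lit 0, nat_lit 5, nat_lit 0]), (nat_lit 772, [nat_lit 1, nat_lit 3, nat_lit 1, nat_lit 0, nat_lit 2, nat_lit 0]), (nat_lit 774, [nat_lit 6, nat_lit 5, nat_lit 2, nat_lit 2, nat_lit 0]), (nat_lit 776, [nat_lit 6, nat_lit 6, nat_lit 0, nat_lit 1]), (nat_lit 777, [nat_lit 6, nat_lit 1, nat_lit 1, nat_lit 0]), (nat_lit 779, [nat_lit 5, nat_lit 1, nat_lit 1, nat_lit 0]), (nat_lit 781, [nat_lit 2, nat_lit 2, nat_lit 1]), (nat_lit 783, [nat_lit 1, nat_lit 0, nat_lit 5, nat_lit 1, nat_lit 2, nat_lit 0]), (nat_lit 784, [nat_lit 5, nat_lit 2, nat_lit 2, nat_lit 0, nat_lit 1, nat_lit 1]), (nat_lit 785, [nat_lit 1, nat_lit 2, nat_lit 0, nat_lit 2, nat_lit 0, nat_lit 1]), (nat_lit 786, [nat_lit 5, nat_lit 1, nat_lit 2, nat_lit 2, nat_lit 0, nat_lit 0]), (nat_lit 787, [nat_lit 2, nat_lit 4, nat_lit 1, nat_lit 1, nat_lit 0, nat_lit 0]), (nat_lit 788, [nat_lit 0, nat_lit 0, nat_lit 5, nat_lit 0]), (nat_lit 789, [nat_lit 1, nat_lit 0, nat_lit 5, nat_lit 3, nat_lit 1]), (nat_lit 792, [nat_lit 3]), (nat_lit 795, [nat_lit 4, nat_lit 2, nat_lit 2, nat_lit 1, nat_lit 1]), (nat_lit 796, [nat_lit 5, nat_lit 3, nat_lit 1]), (nat_lit 797, [nat_lit 5, nat_lit 1, nat_lit 3]), (nat_lit 798, [nat_lit 6, nat_lit 4, nat_lit 4, nat_lit 0]), (nat_lit 799, [nat_lit 5, nat_lit 0, nat_lit 1, nat_lit 0, nat_lit 0]), (nat_lit 800, [nat_lit 5, nat_lit 0, nat_lit 3, nat_lit 0]), (nat_lit 801, [nat_lit 1, nat_lit 1, nat_lit 0, nat_lit 5, nat_lit 2]), (nat_lit 804, [nat_lit 0, nat_lit 4, nat_lit 3, nat_lit 2, nat_lit 2]), (nat_lit 806, [nat_lit 6, nat_lit 6, nat_lit 3, nat_lit 3]), (nat_lit 807, [nat_lit 0, nat_lit 0, nat_lit 5, nat_lit 4, nat_lit 2]), (nat_lit 808, [nat_lit 6, nat_lit 6, nat_lit 5, nat_lit 3]), (nat_lit 809, [nat_lit 0, nat_lit 0, nat_lit 0, nat_lit 1]), (nat_lit 811, [nat_lit 2, nat_lit 2, nat_lit 1, nat_lit 1, nat_lit 0]), (nat_lit 812, [nat_lit 3, nat_lit 1, nat_lit 3, nat_lit 1, nat_lit 0, nat_lit 0]), (nat_lit 813, [nat_lit 0, nat_lit 5, nat_lit 5, nat_lit 2, nat_lit 2]), (nat_lit 814, [nat_lit 0, nat_lit 5, nat_lit 4, nat_lit 0]), (nat_lit 819, [nat_lit 5, nat_lit 1, nat_lit 1, nat_lit 0, nat_lit 2, nat_lit 2]), (nat_lit 820, [nat_lit 2, nat_lit 0, nat_lit 2, nat_lit 4, nat_lit 4]), (nat_lit 822, [nat_lit 5, nat_lit 5, nat_lit 1, nat_lit 4, nat_lit 4]), (nat_lit 823, [nat_lit 3, nat_lit 2, nat_lit 3, nat_lit 0, nat_lit 1, nat_lit 1]), (nat_lit 824, [nat_lit 4, nat_lit 2, nat_lit 0, nat_lit 4, nat_lit 0, nat_lit 0]), (nat_lit 825, [nat_lit 2, nat_lit 3]), (nat_lit 826, [nat_lit 4, nat_lit 4, nat_lit 1, nat_lit 3]), (nat_lit 827, [nat_lit 5, nat_lit 5, nat_lit 2, nat_lit 4, nat_lit 2, nat_lit 1]), (nat_lit 828, [nat_lit 5, nat_lit 1, nat_lit 3, nat_lit 1]), (nat_lit 830, [nat_lit 0, nat_lit 1, nat_lit 2, nat_lit 2, nat_lit 1]), (nat_lit 831, [nat_lit 0, nat_lit 5, nat_lit 1, nat_lit 0, nat_lit 0]), (nat_lit 832, [nat_lit 1, nat_lit 0, nat_lit 1, nat_lit 0, nat_lit 0]), (nat_lit 834, [nat_lit 4, nat_lit 3, nat_lit 2, nat_lit 0]), (nat_lit 835, [nat_lit 5, nat_lit 5, nat_lit 4, nat_lit 1, nat_lit 4, nat_lit 1]), (nat_lit 837, [nat_lit 0, nat_lit 0, nat_lit 2, nat_lit 4]), (nat_lit 838, [nat_lit 5, nat_lit 4, nat_lit 2, nat_lit 2, nat_lit 1, nat_lit 1]), (nat_lit 839, [nat_lit 6, nat_lit 1, nat_lit 0, nat_lit 4]), (nat_lit 841, [nat_lit 0, nat_lit 2, nat_lit 2, nat_lit 1, nat_lit 0, nat_lit 1]), (nat_lit 842, [nat_lit 1, nat_lit 2, nat_lit 2, nat_lit 0, nat_lit 4]), (nat_lit 843, [nat_lit 6, nat_lit 6, nat_lit 2, nat_lit 0, nat_lit 2]), (nat_lit 844, [nat_lit 5, nat_lit 2, nat_lit 1, nat_lit 2, nat_lit 1, nat_lit 0]), (nat_lit 845, [nat_lit 0, nat_lit 5, nat_lit 2, nat_lit 1, nat_lit 1, nat_lit 0]), (nat_lit 846, [nat_lit 5, nat_lit 2, nat_lit 2, nat_lit 0, nat_lit 1, nat_lit 0, nat_lit 0]), (nat_lit 847, [nat_lit 1, nat_lit 2, nat_lit 2, nat_lit 0, nat_lit 4, nat_lit 0]), (nat_lit 849, [nat_lit 5, nat_lit 5, nat_lit 3, nat_lit 0, nat_lit 0]), (nat_lit 851, [nat_lit 5, nat_lit 1, nat_lit 1, nat_lit 2]), (nat_lit 854, [nat_lit 4, nat_lit 4, nat_lit 3]), (nat_lit 855, [nat_lit 4, nat_lit 2, nat_lit 4, nat_lit 2, nat_lit 0, nat_lit 0, nat_lit 0]), (nat_lit 857, [nat_lit 5, nat_lit 2, nat_lit 4, nat_lit 0, nat_lit 0, nat_lit 0]), (nat_lit 858, [nat_lit 3, nat_lit 2, nat_lit 3, nat_lit 2, nat_lit 0, nat_lit 1]), (nat_lit 859, [nat_lit 3, nat_lit 3, nat_lit 0, nat_lit 4, nat_lit 0]), (nat_lit 862, [nat_lit 5, nat_lit 1, nat_lit 2, nat_lit 1, nat_lit 0]), (nat_lit 863, [nat_lit 6, nat_lit 1, nat_lit 1, nat_lit 0, nat_lit 0]), (nat_lit 864, [nat_lit 0, nat_lit 5, nat_lit 5, nat_lit 2, nat_lit 0]), (nat_lit 866, [nat_lit 6, nat_lit 0, nat_lit 2]), (nat_lit 867, [nat_lit 5, nat_lit 1, nat_lit 2, nat_lit 0, nat_lit 2, nat_lit 1]), (nat_lit 868, [nat_lit 2, nat_lit 0, nat_lit 5, nat_lit 4]), (nat_lit 869, [nat_lit 1, nat_lit 0, nat_lit 2, nat_lit 2, nat_lit 0]), (nat_lit 871, [nat_lit 0, nat_lit 1, nat_lit 1, nat_lit 3, nat_lit 0]), (nat_lit 874, [nat_lit 6, nat_lit 2]), (nat_lit 875, [nat_lit 2, nat_lit 3, nat_lit 3, nat_lit 2, nat_lit 1, nat_lit 1]), (nat_lit 877, [nat_lit 5, nat_lit 0, nat_lit 5, nat_lit 2, nat_lit 1]), (nat_lit 882, [nat_lit 4, nat_lit 2, nat_lit 3, nat_lit 2, nat_lit 1]), (nat_lit 883, [nat_lit 2, nat_lit 3, nat_lit 0, nat_lit 1, nat_lit 1]), (nat_lit 885, [nat_lit 5, nat_lit 5, nat_lit 4, nat_lit 4, nat_lit 1, nat_lit 3, nat_lit 1]), (nat_lit 888, [nat_lit 2, nat_lit 0, nat_lit 2, nat_lit 4, nat_lit 2, nat_lit 0]), (nat_lit 889, [nat_lit 5, nat_lit 5, nat_lit 3, nat_lit 2, nat_lit 2, nat_lit 1]), (nat_lit 890, [nat_lit 5, nat_lit 0, nat_lit 4, nat_lit 4]), (nat_lit 891, [nat_lit 0, nat_lit 3]), (nat_lit 892, [nat_lit 2, nat_lit 4, nat_lit 1]), (nat_lit 893, [nat_lit 1, nat_lit 0, nat_lit 0, nat_lit 1, nat_lit 2, nat_lit 0]), (nat_lit 895, [nat_lit 0, nat_lit 4, nat_lit 4, nat_lit 3, nat_lit 3]), (nat_lit 896, [nat_lit 5, nat_lit 3, nat_lit 0, nat_lit 1, nat_lit 0]), (nat_lit 897, [nat_lit 4, nat_lit 2, nat_lit 1]), (nat_lit 899, [nat_lit 2, nat_lit 3, nat_lit 1, nat_lit 1, nat_lit 0]), (nat_lit 900, [nat_lit 3, nat_lit 1, nat_lit 0, nat_lit 1, nat_lit 0]), (nat_lit 901, [nat_lit 4, nat_lit 3, nat_lit 3, nat_lit 0, nat_lit 1, nat_lit 0]), (nat_lit 905, [nat_lit 0, nat_lit 0, nat_lit 5]), (nat_lit 907, [nat_lit 1, nat_lit 0, nat_lit 5, nat_lit 1, nat_lit 0, nat_lit 0]), (nat_lit 909, [nat_lit 3, nat_lit 0, nat_lit 3, nat_lit 1, nat_lit 0, nat_lit 1]), (nat_lit 911, [nat_lit 0, nat_lit 4, nat_lit 0, nat_lit 3]), (nat_lit 912, [nat_lit 4, nat_lit 4, nat_lit 2, nat_lit 1]), (nat_lit 913, [nat_lit 0, nat_lit 0, nat_lit 0, nat_lit 1, nat_lit 0, nat_lit 1]), (nat_lit 915, [nat_lit 3, nat_lit 0, nat_lit 4, nat_lit 4]), (nat_lit 916, [nat_lit 1, nat_lit 2, nat_lit 0, nat_lit 5]), (nat_lit 917, [nat_lit 4, nat_lit 2, nat_lit 0, nat_lit 1]), (nat_lit 918, [nat_lit 1, nat_lit 3, nat_lit 3]), (nat_lit 919, [nat_lit 2, nat_lit 0, nat_lit 4, nat_lit 2, nat_lit 2, nat_lit 0]), (nat_lit 921, [nat_lit 5, nat_lit 0, nat_lit 3, nat_lit 2, nat_lit 1]), (nat_lit 923, [nat_lit 2, nat_lit 0, nat_lit 1, nat_lit 2, nat_lit 1]), (nat_lit 924, [nat_lit 0, nat_lit 0, nat_lit 2, nat_lit 2, nat_lit 0, nat_lit 0]), (nat_lit 925, [nat_lit 3, nat_lit 1, nat_lit 0, nat_lit 2, nat_lit 0, nat_lit 0]), (nat_lit 929, [nat_lit 1, nat_lit 0, nat_lit 4, nat_lit 3, nat_lit 3, nat_lit 0]), (nat_lit 930, [nat_lit 1, nat_lit 2, nat_lit 1, nat_lit 0, nat_lit 1]), (nat_lit 931, [nat_lit 5, nat_lit 3, nat_lit 1, nat_lit 3, nat_lit 0]), (nat_lit 932, [nat_lit 0, nat_lit 3, nat_lit 1]), (nat_lit 933, [nat_lit 5, nat_lit 3, nat_lit 0]), (nat_lit 934, [nat_lit 1, nat_lit 1, nat_lit 0, nat_lit 0, nat_lit 2]), (nat_lit 935, [nat_lit 4, nat_lit 2, nat_lit 3, nat_lit 0, nat_lit 1, nat_lit 0]), (nat_lit 936, [nat_lit 0, nat_lit 0, nat_lit 0, nat_lit 2, nat_lit 2]), (nat_lit 937, [nat_lit 5, nat_lit 1, nat_lit 2, nat_lit 0, nat_lit 1, nat_lit 0]), (nat_lit 939, [nat_lit 0, nat_lit 0, nat_lit 5, nat_lit 2, nat_lit 2, nat_lit 1]), (nat_lit 941, [nat_lit 5, nat_lit 5, nat_lit 0, nat_lit 2, nat_lit 2]), (nat_lit 944, [nat_lit 6, nat_lit 5, nat_lit 4, nat_lit 4, nat_lit 3]), (nat_lit 945, [nat_lit 3, nat_lit 1, nat_lit 1, nat_lit 0, nat_lit 2, nat_lit 0]), (nat_lit 946, [nat_lit 1, nat_lit 2, nat_lit 1, nat_lit 0, nat_lit 2, nat_lit 0]), (nat_lit 947, [nat_lit 4, nat_lit 1, nat_lit 2, nat_lit 0]), (nat_lit 949, [nat_lit 2, nat_lit 0, nat_lit 5]), (nat_lit 950, [nat_lit 5, nat_lit 3, nat_lit 0, nat_lit 2, nat_lit 1]), (nat_lit 952, [nat_lit 5, nat_lit 1, nat_lit 0, nat_lit 1]), (nat_lit 955, [nat_lit 6, nat_lit 1, nat_lit 0, nat_lit 2, nat_lit 1, nat_lit 0]), (nat_lit 958, [nat_lit 5, nat_lit 4, nat_lit 0, nat_lit 3]), (nat_lit 959, [nat_lit 5, nat_lit 5, nat_lit 2, nat_lit 4, nat_lit 3]), (nat_lit 961, [nat_lit 0, nat_lit 5, nat_lit 2, nat_lit 2, nat_lit 1]), (nat_lit 962, [nat_lit 4, nat_lit 2, nat_lit 3, nat_lit 1, nat_lit 1]), (nat_lit 963, [nat_lit 2, nat_lit 0, nat_lit 2, nat_lit 1, nat_lit 1]), (nat_lit 964, [nat_lit 3, nat_lit 0, nat_lit 4, nat_lit 2, nat_lit 2]), (nat_lit 965, [nat_lit 5, nat_lit 5, nat_lit 4, nat_lit 1, nat_lit 3, nat_lit 1]), (nat_lit 966, [nat_lit 3, nat_lit 0, nat_lit 4, nat_lit 2]), (nat_lit 967, [nat_lit 5, nat_lit 4, nat_lit 2, nat_lit 1]), (nat_lit 968, [nat_lit 1, nat_lit 2, nat_lit 0, nat_lit 0, nat_lit 0]), (nat_lit 970, [nat_lit 0, nat_lit 0, nat_lit 1, nat_lit 1, nat_lit 0]), (nat_lit 973, [nat_lit 0, nat_lit 2, nat_lit 1, nat_lit 0, nat_lit 2, nat_lit 1]), (nat_lit 976, [nat_lit 2, nat_lit 1, nat_lit 0, nat_lit 4, nat_lit 2]), (nat_lit 977, [nat_lit 0, nat_lit 2, nat_lit 4, nat_lit 0]), (nat_lit 978, [nat_lit 1, nat_lit 2, nat_lit 2, nat_lit 1, nat_lit 0, nat_lit 0]), (nat_lit 980, [nat_lit 4, nat_lit 1, nat_lit 3, nat_lit 3, nat_lit 1]), (nat_lit 982, [nat_lit 5, nat_lit 3, nat_lit 2, nat_lit 2, nat_lit 0, nat_lit 0]), (nat_lit 983, [nat_lit 3, nat_lit 2, nat_lit 2, nat_lit 0, nat_lit 2]), (nat_lit 985, [nat_lit 3, nat_lit 0, nat_lit 4]), (nat_lit 988, [nat_lit 5, nat_lit 5, nat_lit 4, nat_lit 2, nat_lit 1]), (nat_lit 990, [nat_lit 0, nat_lit 4, nat_lit 4, nat_lit 0, nat_lit 0]), (nat_lit 992, [nat_lit 5, nat_lit 5, nat_lit 4, nat_lit 1, nat_lit 2]), (nat_lit 993, [nat_lit 0, nat_lit 0, nat_lit 1, nat_lit 0, nat_lit 2, nat_lit 1]), (nat_lit 996, [nat_lit 2, nat_lit 4, nat_lit 2, nat_lit 0, nat_lit 0, nat_lit 0]), (nat_lit 997, [nat_lit 5, nat_lit 5, nat_lit 2, nat_lit 3, nat_lit 1]), (nat_lit 998, [nat_lit 2, nat_lit 4, nat_lit 4, nat_lit 1, nat_lit 1]), (nat_lit 999, [nat_lit 4, nat_lit 0, nat_lit 2, nat_lit 4, nat_lit 2, nat_lit 0]), (nat_lit 1000, [nat_lit 5, nat_lit 4, nat_lit 2, nat_lit 3]), (nat_lit 1001, [nat_lit 0, nat_lit 1, nat_lit 0, nat_lit 2, nat_lit 0]), (nat_lit 1002, [nat_lit 4, nat_lit 2, nat_lit 2, nat_lit 1]), (nat_lit 1003, [nat_lit 2, nat_lit 2, nat_lit 0, nat_lit 1, nat_lit 0, nat_lit 1]), (nat_lit 1004, [nat_lit 3, nat_lit 3, nat_lit 0, nat_lit 1, nat_lit 1, nat_lit 0]), (nat_lit 1005, [nat_lit 2, nat_lit 0, nat_lit 0, nat_lit 5, nat_lit 2]), (nat_lit 1008, [nat_lit 1, nat_lit 3, nat_lit 0, nat_lit 0]), (nat_lit 1009, [nat_lit 5, nat_lit 0, nat_lit 1, nat_lit 0]), (nat_lit 1010, [nat_lit 0, nat_lit 2, nat_lit 2, nat_lit 0, nat_lit 5, nat_lit 0]), (nat_lit 1011, [nat_lit 0, nat_lit 5, nat_lit 3, nat_lit 1, nat_lit 1, nat_lit 0]), (nat_lit 1013, [nat_lit 5, nat_lit 5, nat_lit 3, nat_lit 1, nat_lit 4, nat_lit 1]), (nat_lit 1017, [nat_lit 5, nat_lit 3, nat_lit 0, nat_lit 2, nat_lit 0, nat_lit 0]), (nat_lit 1023, [nat_lit 0, nat_lit 1, nat_lit 0, nat_lit 1, nat_lit 2, nat_lit 0, nat_lit 2]), (nat_lit 1025, [nat_lit 0, nat_lit 0, nat_lit 1, nat_lit 2, nat_lit 0, nat_lit 1]), (nat_lit 1026, [nat_lit 5, nat_lit 2, nat_lit 4, nat_lit 2, nat_lit 1]), (nat_lit 1027, [nat_lit 6, nat_lit 0, nat_lit 1, nat_lit 0, nat_lit 0]), (nat_lit 1028, [nat_lit 1, nat_lit 3]), (nat_lit 1029, [nat_lit 5, nat_lit 5, nat_lit 1, nat_lit 1, nat_lit 4]), (nat_lit 1030, [nat_lit 6, nat_lit 5, nat_lit 5]), (nat_lit 1034, [nat_lit 2, nat_lit 1, nat_lit 2, nat_lit 0, nat_lit 0, nat_lit 1]), (nat_lit 1037, [nat_lit 5, nat_lit 1, nat_lit 0, nat_lit 2, nat_lit 0]), (nat_lit 1038, [nat_lit 0, nat_lit 2, nat_lit 4, nat_lit 3, nat_lit 0]), (nat_lit 1040, [nat_lit 0, nat_lit 0, nat_lit 3, nat_lit 2]), (nat_lit 1041, [nat_lit 2, nat_lit 3, nat_lit 2, nat_lit 0, nat_lit 1, nat_lit 1]), (nat_lit 1045, [nat_lit 0, nat_lit 3, nat_lit 3, nat_lit 0, nat_lit 1]), (nat_lit 1046, [nat_lit 1, nat_lit 2, nat_lit 2, nat_lit 0, nat_lit 0, nat_lit 1]), (nat_lit 1048, [nat_lit 4, nat_lit 1, nat_lit 1, nat_lit 0, nat_lit 0]), (nat_lit 1049, [nat_lit 4, nat_lit 4, nat_lit 3, nat_lit 2]), (nat_lit 1051, [nat_lit 0, nat_lit 1, nat_lit 0, nat_lit 1, nat_lit 2, nat_lit 0]), (nat_lit 1052, [nat_lit 3, nat_lit 1, nat_lit 2, nat_lit 0, nat_lit 0]), (nat_lit 1053, [nat_lit 1, nat_lit 2, nat_lit 0, nat_lit 0, nat_lit 2, nat_lit 1, nat_lit 0]), (nat_lit 1054, [nat_lit 0, nat_lit 2, nat_lit 2, nat_lit 1, nat_lit 0]), (nat_lit 1055, [nat_lit 2, nat_lit 0, nat_lit 4, nat_lit 2, nat_lit 0, nat_lit 0]), (nat_lit 1057, [nat_lit 5, nat_lit 5, nat_lit 2, nat_lit 2, nat_lit 3, nat_lit 1]), (nat_lit 1058, [nat_lit 4, nat_lit 3, nat_lit 2, nat_lit 2, nat_lit 0, nat_lit 0]), (nat_lit 1059, [nat_lit 4, nat_lit 0, nat_lit 4, nat_lit 3, nat_lit 0]), (nat_lit 1060, [nat_lit 5, nat_lit 4, nat_lit 2, nat_lit 0, nat_lit 0, nat_lit 0]), (nat_lit 1063, [nat_lit 2, nat_lit 0, nat_lit 1, nat_lit 0, nat_lit 2, nat_lit 1, nat_lit 0]), (nat_lit 1064, [nat_lit 5, nat_lit 2, nat_lit 1, nat_lit 2, nat_lit 0, nat_lit 1, nat_lit 0]), (nat_lit 1065, [nat_lit 1, nat_lit 0, nat_lit 5, nat_lit 3, nat_lit 2, nat_lit 1]), (nat_lit 1066, [nat_lit 5, nat_lit 2, nat_lit 2, nat_lit 1, nat_lit 0, nat_lit 1, nat_lit 0, nat_lit 0]), (nat_lit 1068, [nat_lit 2, nat_lit 0, nat_lit 5, nat_lit 2, nat_lit 1, nat_lit 1, nat_lit 0]), (nat_lit 1070, [nat_lit 1, nat_lit 0, nat_lit 2, nat_lit 2, nat_lit 4, nat_lit 0, nat_lit 0]), (nat_lit 1071, [nat_lit 2, nat_lit 0, nat_lit 1, nat_lit 0, nat_lit 1, nat_lit 2]), (nat_lit 1073, [nat_lit 2, nat_lit 4, nat_lit 3, nat_lit 1, nat_lit 1]), (nat_lit 1075, [nat_lit 3, nat_lit 3, nat_lit 1, nat_lit 1, nat_lit 0, nat_lit 0]), (nat_lit 1079, [nat_lit 0, nat_lit 0, nat_lit 1, nat_lit 1]), (nat_lit 1080, [nat_lit 3, nat_lit 1, nat_lit 1, nat_lit 0, nat_lit 0]), (nat_lit 1082, [nat_lit 2, nat_lit 0, nat_lit 5, nat_lit 0, nat_lit 0]), (nat_lit 1084, [nat_lit 6, nat_lit 6, nat_lit 4, nat_lit 4, nat_lit 3]), (nat_lit 1085, [nat_lit 0, nat_lit 0, nat_lit 5, nat_lit 1]), (nat_lit 1086, [nat_lit 4, nat_lit 2, nat_lit 3, nat_lit 2, nat_lit 0]), (nat_lit 1090, [nat_lit 0, nat_lit 4, nat_lit 2, nat_lit 0, nat_lit 0]), (nat_lit 1092, [nat_lit 2, nat_lit 0, nat_lit 1, nat_lit 0, nat_lit 0]), (nat_lit 1094, [nat_lit 1, nat_lit 2, nat_lit 1]), (nat_lit 1096, [nat_lit 2, nat_lit 3, nat_lit 2, nat_lit 1, nat_lit 0]), (nat_lit 1097, [nat_lit 2, nat_lit 1, nat_lit 2, nat_lit 0]), (nat_lit 1099, [nat_lit 6, nat_lit 5, nat_lit 4, nat_lit 1]), (nat_lit 1100, [nat_lit 6, nat_lit 6, nat_lit 0, nat_lit 0, nat_lit 2]), (nat_lit 1104, [nat_lit 2, nat_lit 4]), (nat_lit 1106, [nat_lit 0, nat_lit 0, nat_lit 1, nat_lit 0, nat_lit 0, nat_lit 0]), (nat_lit 1107, [nat_lit 0, nat_lit 2, nat_lit 2]), (nat_lit 1108, [nat_lit 0, nat_lit 5, nat_lit 0, nat_lit 1, nat_lit 0]), (nat_lit 1109, [nat_lit 2, nat_lit 4, nat_lit 2, nat_lit 1]), (nat_lit 1110, [nat_lit 0, nat_lit 1, nat_lit 1, nat_lit 0, nat_lit 0, nat_lit 2, nat_lit 2]), (nat_lit 1111, [nat_lit 0, nat_lit 2, nat_lit 2, nat_lit 0, nat_lit 5]), (nat_lit 1114, [nat_lit 1, nat_lit 4, nat_lit 4, nat_lit 0, nat_lit 1]), (nat_lit 1115, [nat_lit 1, nat_lit 2, nat_lit 2, nat_lit 0, nat_lit 0]), (nat_lit 1116, [nat_lit 4, nat_lit 0, nat_lit 1, nat_lit 1, nat_lit 3]), (nat_lit 1118, [nat_lit 5, nat_lit 5, nat_lit 2, nat_lit 4, nat_lit 1]), (nat_lit 1119, [nat_lit 0, nat_lit 0, nat_lit 2, nat_lit 2, nat_lit 0, nat_lit 1, nat_lit 1]), (nat_lit 1121, [nat_lit 3, nat_lit 3, nat_lit 1, nat_lit 0, nat_lit 0]), (nat_lit 1122, [nat_lit 0, nat_lit 2, nat_lit 4, nat_lit 4, nat_lit 2]), (nat_lit 1123, [nat_lit 3, nat_lit 0, nat_lit 2, nat_lit 1]), (nat_lit 1126, [nat_lit 5, nat_lit 2, nat_lit 0, nat_lit 5, nat_lit 2, nat_lit 1]), (nat_lit 1127, [nat_lit 4, nat_lit 3, nat_lit 1]), (nat_lit 1128, [nat_lit 5, nat_lit 0, nat_lit 2, nat_lit 4]), (nat_lit 1129, [nat_lit 2, nat_lit 0, nat_lit 1, nat_lit 1, nat_lit 0]), (nat_lit 1130, [nat_lit 5, nat_lit 0, nat_lit 3]), (nat_lit 1132, [nat_lit 5, nat_lit 2, nat_lit 0, nat_lit 2, nat_lit 4]), (nat_lit 1133, [nat_lit 6, nat_lit 6]), (nat_lit 1134, [nat_lit 0, nat_lit 2, nat_lit 0, nat_lit 2, nat_lit 1, nat_lit 0]), (nat_lit 1135, [nat_lit 0, nat_lit 3, nat_lit 0]), (nat_lit 1136, [nat_lit 0, nat_lit 5, nat_lit 2, nat_lit 0]), (nat_lit 1137, [nat_lit 0, nat_lit 2, nat_lit 4, nat_lit 2, nat_lit 0, nat_lit 1, nat_lit 1]), (nat_lit 1138, [nat_lit 1, nat_lit 0, nat_lit 0, nat_lit 2, nat_lit 2, nat_lit 0]), (nat_lit 1140, [nat_lit 0, nat_lit 1, nat_lit 0, nat_lit 0, nat_lit 0, nat_lit 0]), (nat_lit 1143, [nat_lit 5, nat_lit 1, nat_lit 1, nat_lit 2, nat_lit 0, nat_lit 0]), (nat_lit 1144, [nat_lit 5, nat_lit 0, nat_lit 2, nat_lit 1, nat_lit 1, nat_lit 0]), (nat_lit 1146, [nat_lit 3, nat_lit 1, nat_lit 1, nat_lit 0, nat_lit 2]), (nat_lit 1147, [nat_lit 3, nat_lit 2, nat_lit 0, nat_lit 2, nat_lit 0]), (nat_lit 1148, [nat_lit 0, nat_lit 1, nat_lit 1, nat_lit 0, nat_lit 0]), (nat_lit 1149, [nat_lit 5, nat_lit 4, nat_lit 4, nat_lit 3, nat_lit 1, nat_lit 1]), (nat_lit 1150, [nat_lit 0, nat_lit 1, nat_lit 1]), (nat_lit 1152, [nat_lit 2, nat_lit 1, nat_lit 0, nat_lit 4, nat_lit 0, nat_lit 0]), (nat_lit 1153, [nat_lit 2, nat_lit 0, nat_lit 4, nat_lit 2, nat_lit 4]), (nat_lit 1154, [nat_lit 6, nat_lit 2, nat_lit 3]), (nat_lit 1156, [nat_lit 4, nat_lit 0, nat_lit 3, nat_lit 0]), (nat_lit 1157, [nat_lit 3, nat_lit 1, nat_lit 2, nat_lit 1, nat_lit 0, nat_lit 0]), (nat_lit 1161, [nat_lit 2, nat_lit 2, nat_lit 3, nat_lit 0, nat_lit 2, nat_lit 0]), (nat_lit 1165, [nat_lit 1, nat_lit 2, nat_lit 2, nat_lit 0, nat_lit 0, nat_lit 1, nat_lit 0]), (nat_lit 1166, [nat_lit 4, nat_lit 0, nat_lit 2]), (nat_lit 1168, [nat_lit 0, nat_lit 2, nat_lit 0, nat_lit 1]), (nat_lit 1169, [nat_lit 2, nat_lit 3, nat_lit 3, nat_lit 2, nat_lit 0, nat_lit 1]), (nat_lit 1173, [nat_lit 1, nat_lit 2, nat_lit 2, nat_lit 0]), (nat_lit 1174, [nat_lit 6, nat_lit 6, nat_lit 4, nat_lit 0]), (nat_lit 1175, [nat_lit 4, nat_lit 4, nat_lit 2, nat_lit 2]), (nat_lit 1176, [nat_lit 6, nat_lit 0, nat_lit 2, nat_lit 0, nat_lit 2, nat_lit 1]), (nat_lit 1181, [nat_lit 1, nat_lit 0, nat_lit 5, nat_lit 4, nat_lit 0]), (nat_lit 1183, [nat_lit 4, nat_lit 0, nat_lit 0, nat_lit 4, nat_lit 0]), (nat_lit 1187, [nat_lit 2, nat_lit 1, nat_lit 2, nat_lit 1, nat_lit 0, nat_lit 0, nat_lit 0]), (nat_lit 1190, [nat_lit 3, nat_lit 2, nat_lit 2, nat_lit 0, nat_lit 1, nat_lit 1]), (nat_lit 1191, [nat_lit 2, nat_lit 3, nat_lit 3, nat_lit 1, nat_lit 1]), (nat_lit 1192, [nat_lit 3, nat_lit 3, nat_lit 2, nat_lit 0]), (nat_lit 1193, [nat_lit 5, nat_lit 4, nat_lit 2, nat_lit 0, nat_lit 0]), (nat_lit 1196, [nat_lit 6, nat_lit 6, nat_lit 2, nat_lit 0, nat_lit 1]), (nat_lit 1198, [nat_lit 5, nat_lit 1, nat_lit 1, nat_lit 3, nat_lit 0, nat_lit 0]), (nat_lit 1199, [nat_lit 3, nat_lit 3, nat_lit 1, nat_lit 1]), (nat_lit 1200, [nat_lit 4, nat_lit 1, nat_lit 1]), (nat_lit 1201, [nat_lit 5, nat_lit 5, nat_lit 1, nat_lit 4, nat_lit 4, nat_lit 3]), (nat_lit 1202, [nat_lit 2, nat_lit 2, nat_lit 3, nat_lit 1, nat_lit 1]), (nat_lit 1203, [nat_lit 4, nat_lit 0, nat_lit 3, nat_lit 1, nat_lit 1]), (nat_lit 1204, [nat_lit 0, nat_lit 1, nat_lit 1, nat_lit 2]), (nat_lit 1206, [nat_lit 2, nat_lit 2, nat_lit 3, nat_lit 0, nat_lit 2]), (nat_lit 1207, [nat_lit 0, nat_lit 2, nat_lit 2, nat_lit 4]), (nat_lit 1208, [nat_lit 5, nat_lit 2, nat_lit 4, nat_lit 2]), (nat_lit 1211, [nat_lit 0, nat_lit 2, nat_lit 1, nat_lit 0, nat_lit 1]), (nat_lit 1212, [nat_lit 2, nat_lit 2, nat_lit 0, nat_lit 0, nat_lit 1]), (nat_lit 1215, [nat_lit 6, nat_lit 2, nat_lit 0, nat_lit 2, nat_lit 1]), (nat_lit 1217, [nat_lit 2, nat_lit 3, nat_lit 2, nat_lit 1, nat_lit 1, nat_lit 0]), (nat_lit 1219, [nat_lit 5, nat_lit 5, nat_lit 1, nat_lit 3, nat_lit 1]), (nat_lit 1221, [nat_lit 3, nat_lit 2, nat_lit 0]), (nat_lit 1224, [nat_lit 5, nat_lit 5, nat_lit 2, nat_lit 0, nat_lit 1]), (nat_lit 1226, [nat_lit 3, nat_lit 3, nat_lit 1, nat_lit 0, nat_lit 0, nat_lit 1]), (nat_lit 1227, [nat_lit 2, nat_lit 2, nat_lit 1, nat_lit 0, nat_lit 1]), (nat_lit 1230, [nat_lit 3, nat_lit 0, nat_lit 1, nat_lit 1]), (nat_lit 1231, [nat_lit 5, nat_lit 5, nat_lit 2, nat_lit 0]), (nat_lit 1233, [nat_lit 5, nat_lit 0, nat_lit 5, nat_lit 3, nat_lit 2]), (nat_lit 1236, [nat_lit 5, nat_lit 1, nat_lit 4, nat_lit 4, nat_lit 3]), (nat_lit 1237, [nat_lit 3, nat_lit 2, nat_lit 2, nat_lit 0, nat_lit 2, nat_lit 0]), (nat_lit 1240, [nat_lit 4, nat_lit 2, nat_lit 2, nat_lit 0, nat_lit 0, nat_lit 1]), (nat_lit 1242, [nat_lit 5, nat_lit 2, nat_lit 2, nat_lit 1, nat_lit 0, nat_lit 0, nat_lit 0]), (nat_lit 1244, [nat_lit 3, nat_lit 3, nat_lit 2, nat_lit 1]), (nat_lit 1245, [nat_lit 0, nat_lit 2, nat_lit 0, nat_lit 2, nat_lit 4]), (nat_lit 1246, [nat_lit 2, nat_lit 4, nat_lit 2, nat_lit 0, nat_lit 1, nat_lit 1]), (nat_lit 1247, [nat_lit 1, nat_lit 0, nat_lit 5, nat_lit 2, nat_lit 1]), (nat_lit 1248, [nat_lit 1, nat_lit 2, nat_lit 0, nat_lit 1, nat_lit 0]), (nat_lit 1249, [nat_lit 2, nat_lit 2, nat_lit 0, nat_lit 5, nat_lit 1, nat_lit 0]), (nat_lit 1250, [nat_lit 6, nat_lit 5, nat_lit 5, nat_lit 2]), (nat_lit 1252, [nat_lit 6, nat_lit 5, nat_lit 2]), (nat_lit 1253, [nat_lit 5, nat_lit 1, nat_lit 2, nat_lit 2, nat_lit 1, nat_lit 0]), (nat_lit 1254, [nat_lit 5, nat_lit 5, nat_lit 1, nat_lit 1, nat_lit 2]), (nat_lit 1256, [nat_lit 5, nat_lit 1, nat_lit 1, nat_lit 2, nat_lit 0]), (nat_lit 1257, [nat_lit 0, nat_lit 4, nat_lit 0, nat_lit 1, nat_lit 0, nat_lit 2]), (nat_lit 1258, [nat_lit 2, nat_lit 3, nat_lit 0, nat_lit 2, nat_lit 1]), (nat_lit 1259, [nat_lit 4, nat_lit 2, nat_lit 2, nat_lit 1, nat_lit 0]), (nat_lit 1260, [nat_lit 4, nat_lit 4, nat_lit 2, nat_lit 3, nat_lit 3]), (nat_lit 1261, [nat_lit 5, nat_lit 5, nat_lit 2, nat_lit 3, nat_lit 2]), (nat_lit 1262, [nat_lit 6, nat_lit 2, nat_lit 1, nat_lit 0, nat_lit 2]), (nat_lit 1263, [nat_lit 5, nat_lit 3, nat_lit 2, nat_lit 1, nat_lit 1]), (nat_lit 1264, [nat_lit 4, nat_lit 0, nat_lit 1, nat_lit 1, nat_lit 3, nat_lit 0]), (nat_lit 1265, [nat_lit 0, nat_lit 1]), (nat_lit 1266, [nat_lit 4, nat_lit 0, nat_lit 3, nat_lit 1, nat_lit 0]), (nat_lit 1267, [nat_lit 2, nat_lit 1, nat_lit 1, nat_lit 0, nat_lit 2, nat_lit 0, nat_lit 0]), (nat_lit 1269, [nat_lit 6, nat_lit 6, nat_lit 0, nat_lit 0]), (nat_lit 1270, [nat_lit 5, nat_lit 2, nat_lit 3, nat_lit 2, nat_lit 1, nat_lit 1]), (nat_lit 1273, [nat_lit 1, nat_lit 0, nat_lit 0, nat_lit 4, nat_lit 2, nat_lit 0]), (nat_lit 1274, [nat_lit 2, nat_lit 1, nat_lit 1, nat_lit 0, nat_lit 0, nat_lit 0]), (nat_lit 1278, [nat_lit 6, nat_lit 1, nat_lit 3, nat_lit 0, nat_lit 1, nat_lit 0]), (nat_lit 1279, [nat_lit 1, nat_lit 0, nat_lit 4, nat_lit 3, nat_lit 2]), (nat_lit 1280, [nat_lit 4, nat_lit 4, nat_lit 2, nat_lit 0, nat_lit 1]), (nat_lit 1282, [nat_lit 5, nat_lit 4, nat_lit 1, nat_lit 1, nat_lit 0]), (nat_lit 1284, [nat_lit 5, nat_lit 0, nat_lit 3, nat_lit 1, nat_lit 1]), (nat_lit 1285, [nat_lit 1, nat_lit 3, nat_lit 1, nat_lit 0, nat_lit 0]), (nat_lit 1286, [nat_lit 0, nat_lit 0, nat_lit 4, nat_lit 2, nat_lit 1]), (nat_lit 1287, [nat_lit 3, nat_lit 1, nat_lit 4, nat_lit 0, nat_lit 1, nat_lit 0]), (nat_lit 1288, [nat_lit 4, nat_lit 1]), (nat_lit 1290, [nat_lit 2, nat_lit 2, nat_lit 3, nat_lit 0, nat_lit 1, nat_lit 0]), (nat_lit 1291, [nat_lit 4, nat_lit 2, nat_lit 0, nat_lit 1, nat_lit 1, nat_lit 0]), (nat_lit 1292, [nat_lit 6, nat_lit 2, nat_lit 1, nat_lit 0, nat_lit 2, nat_lit 0]), (nat_lit 1293, [nat_lit 2, nat_lit 0, nat_lit 5, nat_lit 1]), (nat_lit 1294, [nat_lit 2, nat_lit 0, nat_lit 4, nat_lit 3]), (nat_lit 1295, [nat_lit 2, nat_lit 2, nat_lit 1, nat_lit 0, nat_lit 0, nat_lit 2]), (nat_lit 1298, [nat_lit 6, nat_lit 5]), (nat_lit 1300, [nat_lit 1, nat_lit 3, nat_lit 0, nat_lit 4, nat_lit 2]), (nat_lit 1301, [nat_lit 2, nat_lit 0, nat_lit 4]), (nat_lit 1306, [nat_lit 5, nat_lit 0, nat_lit 4, nat_lit 3, nat_lit 2]), (nat_lit 1309, [nat_lit 6, nat_lit 0, nat_lit 1, nat_lit 0]), (nat_lit 1311, [nat_lit 5, nat_lit 0, nat_lit 3, nat_lit 2]), (nat_lit 1313, [nat_lit 2, nat_lit 1, nat_lit 0, nat_lit 0, nat_lit 2, nat_lit 1, nat_lit 0]), (nat_lit 1315, [nat_lit 4, nat_lit 2, nat_lit 4, nat_lit 0, nat_lit 1]), (nat_lit 1316, [nat_lit 0, nat_lit 5, nat_lit 2, nat_lit 1]), (nat_lit 1317, [nat_lit 5, nat_lit 0, nat_lit 2]), (nat_lit 1319, [nat_lit 6, nat_lit 2, nat_lit 2, nat_lit 0, nat_lit 1]), (nat_lit 1321, [nat_lit 0, nat_lit 5, nat_lit 3, nat_lit 1]), (nat_lit 1322, [nat_lit 0, nat_lit 0, nat_lit 1, nat_lit 2, nat_lit 2]), (nat_lit 1323, [nat_lit 2, nat_lit 0, nat_lit 2, nat_lit 0, nat_lit 0]), (nat_lit 1324, [nat_lit 0, nat_lit 4, nat_lit 2, nat_lit 4, nat_lit 2, nat_lit 0]), (nat_lit 1325, [nat_lit 4, nat_lit 2, nat_lit 0, nat_lit 4, nat_lit 2, nat_lit 0]), (nat_lit 1326, [nat_lit 5, nat_lit 2, nat_lit 1, nat_lit 2]), (nat_lit 1327, [nat_lit 5, nat_lit 5, nat_lit 2, nat_lit 1, nat_lit 1]), (nat_lit 1328, [nat_lit 1, nat_lit 0, nat_lit 4, nat_lit 2, nat_lit 2, nat_lit 0]), (nat_lit 1329, [nat_lit 4, nat_lit 3, nat_lit 3, nat_lit 1, nat_lit 1]), (nat_lit 1330, [nat_lit 2, nat_lit 3, nat_lit 0]), (nat_lit 1331, [nat_lit 6, nat_lit 6, nat_lit 5, nat_lit 5]), (nat_lit 1333, [nat_lit 1, nat_lit 0, nat_lit 1, nat_lit 2]), (nat_lit 1334, [nat_lit 5, nat_lit 2, nat_lit 1, nat_lit 2, nat_lit 0, nat_lit 1]), (nat_lit 1337, [nat_lit 2, nat_lit 2, nat_lit 4, nat_lit 0, nat_lit 1, nat_lit 1]), (nat_lit 1339, [nat_lit 3, nat_lit 2, nat_lit 2, nat_lit 1, nat_lit 1, nat_lit 0]), (nat_lit 1340, [nat_lit 1, nat_lit 0, nat_lit 2, nat_lit 2, nat_lit 4]), (nat_lit 1341, [nat_lit 0]), (nat_lit 1342, [nat_lit 1, nat_lit 0, nat_lit 1, nat_lit 2, nat_lit 2]), (nat_lit 1345, [nat_lit 5, nat_lit 3, nat_lit 2, nat_lit 2, nat_lit 1, nat_lit 1]), (nat_lit 1346, [nat_lit 5, nat_lit 5, nat_lit 2, nat_lit 2, nat_lit 4, nat_lit 1]), (nat_lit 1347, [nat_lit 4, nat_lit 0, nat_lit 2, nat_lit 1, nat_lit 1, nat_lit 0]), (nat_lit 1348, [nat_lit 0, nat_lit 5, nat_lit 0, nat_lit 2]), (nat_lit 1350, [nat_lit 4, nat_lit 4, nat_lit 3, nat_lit 3, nat_lit 2]), (nat_lit 1351, [nat_lit 1, nat_lit 1, nat_lit 3, nat_lit 0, nat_lit 2]), (nat_lit 1352, [nat_lit 5, nat_lit 4, nat_lit 2, nat_lit 3, nat_lit 1]), (nat_lit 1353, [nat_lit 1, nat_lit 0, nat_lit 0, nat_lit 3]), (nat_lit 1355, [nat_lit 0, nat_lit 3, nat_lit 3, nat_lit 1]), (nat_lit 1356, [nat_lit 0, nat_lit 4, nat_lit 3, nat_lit 3, nat_lit 0, nat_lit 0]), (nat_lit 1358, [nat_lit 5, nat_lit 0, nat_lit 2, nat_lit 0]), (nat_lit 1359, [nat_lit 3, nat_lit 2, nat_lit 2, nat_lit 0, nat_lit 0]), (nat_lit 1360, [nat_lit 6, nat_lit 4]), (nat_lit 1361, [nat_lit 6, nat_lit 4, nat_lit 3]), (nat_lit 1362, [nat_lit 5, nat_lit 5, nat_lit 4, nat_lit 4, nat_lit 3, nat_lit 1, nat_lit 1]), (nat_lit 1363, [nat_lit 5, nat_lit 2, nat_lit 2, nat_lit 4, nat_lit 1]), (nat_lit 1364, [nat_lit 5, nat_lit 2, nat_lit 2, nat_lit 0, nat_lit 1, nat_lit 0]), (nat_lit 1367, [nat_lit 4, nat_lit 1, nat_lit 3, nat_lit 0, nat_lit 1]), (nat_lit 1368, [nat_lit 6, nat_lit 6, nat_lit 4, nat_lit 3]), (nat_lit 1369, [nat_lit 0, nat_lit 2, nat_lit 2, nat_lit 0, nat_lit 1, nat_lit 1]), (nat_lit 1370, [nat_lit 1, nat_lit 0, nat_lit 2, nat_lit 1, nat_lit 2, nat_lit 0]), (nat_lit 1372, [nat_lit 6, nat_lit 6, nat_lit 4]), (nat_lit 1373, [nat_lit 1, nat_lit 3, nat_lit 1, nat_lit 0, nat_lit 1]), (nat_lit 1375, [nat_lit 6, nat_lit 4, nat_lit 4, nat_lit 0, nat_lit 0, nat_lit 0]), (nat_lit 1376, [nat_lit 4, nat_lit 0, nat_lit 4, nat_lit 0, nat_lit 0]), (nat_lit 1377, [nat_lit 1, nat_lit 1, nat_lit 0, nat_lit 5]), (nat_lit 1378, [nat_lit 4, nat_lit 0, nat_lit 4, nat_lit 2, nat_lit 2, nat_lit 0]), (nat_lit 1379, [nat_lit 0, nat_lit 2, nat_lit 0, nat_lit 5]), (nat_lit 1380, [nat_lit 5, nat_lit 1, nat_lit 0, nat_lit 2, nat_lit 2, nat_lit 1, nat_lit 0]), (nat_lit 1381, [nat_lit 2, nat_lit 0, nat_lit 2, nat_lit 1, nat_lit 0, nat_lit 1]), (nat_lit 1382, [nat_lit 3, nat_lit 1, nat_lit 0, nat_lit 0]), (nat_lit 1385, [nat_lit 2, nat_lit 3, nat_lit 2, nat_lit 0, nat_lit 0]), (nat_lit 1387, [nat_lit 4, nat_lit 3, nat_lit 2, nat_lit 2]), (nat_lit 1388, [nat_lit 4, nat_lit 0, nat_lit 0, nat_lit 0]), (nat_lit 1390, [nat_lit 4, nat_lit 2, nat_lit 3, nat_lit 3, nat_lit 1]), (nat_lit 1392, [nat_lit 6, nat_lit 2, nat_lit 1, nat_lit 0, nat_lit 1]), (nat_lit 1394, [nat_lit 6, nat_lit 1, nat_lit 0, nat_lit 1, nat_lit 0, nat_lit 0]), (nat_lit 1395, [nat_lit 1, nat_lit 1, nat_lit 0, nat_lit 0, nat_lit 2, nat_lit 2]), (nat_lit 1396, [nat_lit 4, nat_lit 2, nat_lit 0, nat_lit 4]), (nat_lit 1399, [nat_lit 2, nat_lit 2, nat_lit 3]), (nat_lit 1401, [nat_lit 4, nat_lit 3, nat_lit 2, nat_lit 3, nat_lit 0, nat_lit 1]), (nat_lit 1402, [nat_lit 5, nat_lit 1, nat_lit 4, nat_lit 4, nat_lit 3, nat_lit 1]), (nat_lit 1404, [nat_lit 5, nat_lit 0, nat_lit 0, nat_lit 2, nat_lit 2, nat_lit 1]), (nat_lit 1406, [nat_lit 4, nat_lit 1, nat_lit 3, nat_lit 0]), (nat_lit 1408, [nat_lit 2, nat_lit 4, nat_lit 4, nat_lit 0, nat_lit 0, nat_lit 0]), (nat_lit 1409, [nat_lit 3, nat_lit 3, nat_lit 2, nat_lit 0, nat_lit 0]), (nat_lit 1410, [nat_lit 1, nat_lit 1, nat_lit 0, nat_lit 2]), (nat_lit 1412, [nat_lit 0, nat_lit 2, nat_lit 0, nat_lit 0, nat_lit 2, nat_lit 1]), (nat_lit 1413, [nat_lit 0, nat_lit 5, nat_lit 1]), (nat_lit 1416, [nat_lit 4, nat_lit 0, nat_lit 2, nat_lit 4]), (nat_lit 1418, [nat_lit 3, nat_lit 3, nat_lit 2, nat_lit 1, nat_lit 1]), (nat_lit 1420, [nat_lit 5, nat_lit 2, nat_lit 0, nat_lit 1, nat_lit 1]), (nat_lit 1421, [nat_lit 3, nat_lit 3, nat_lit 2, nat_lit 1, nat_lit 0, nat_lit 1]), (nat_lit 1423, [nat_lit 5, nat_lit 0, nat_lit 3, nat_lit 3]), (nat_lit 1424, [nat_lit 2, nat_lit 0, nat_lit 1, nat_lit 0, nat_lit 0, nat_lit 2]), (nat_lit 1425, [nat_lit 4, nat_lit 2, nat_lit 2, nat_lit 0, nat_lit 0, nat_lit 0]), (nat_lit 1426, [nat_lit 2, nat_lit 2, nat_lit 0, nat_lit 0, nat_lit 1, nat_lit 1]), (nat_lit 1430, [nat_lit 5, nat_lit 3, nat_lit 1, nat_lit 1, nat_lit 0]), (nat_lit 1432, [nat_lit 5, nat_lit 0, nat_lit 2, nat_lit 2, nat_lit 0]), (nat_lit 1433, [nat_lit 0, nat_lit 5, nat_lit 0, nat_lit 2, nat_lit 1]), (nat_lit 1435, [nat_lit 2, nat_lit 1, nat_lit 2, nat_lit 0, nat_lit 0, nat_lit 0]), (nat_lit 1436, [nat_lit 6, nat_lit 2, nat_lit 0, nat_lit 2, nat_lit 1, nat_lit 0]), (nat_lit 1438, [nat_lit 4, nat_lit 3, nat_lit 2, nat_lit 3, nat_lit 1]), (nat_lit 1439, [nat_lit 1, nat_lit 3, nat_lit 0, nat_lit 4, nat_lit 0]), (nat_lit 1440, [nat_lit 1, nat_lit 0, nat_lit 0]), (nat_lit 1442, [nat_lit 1, nat_lit 3, nat_lit 3, nat_lit 0, nat_lit 0]), (nat_lit 1443, [nat_lit 4, nat_lit 1, nat_lit 3]), (nat_lit 1444, [nat_lit 6, nat_lit 5, nat_lit 4, nat_lit 3]), (nat_lit 1445, [nat_lit 4, nat_lit 0, nat_lit 1, nat_lit 0, nat_lit 1]), (nat_lit 1446, [nat_lit 2, nat_lit 0, nat_lit 1, nat_lit 1, nat_lit 2, nat_lit 0]), (nat_lit 1447, [nat_lit 4, nat_lit 3, nat_lit 3, nat_lit 0, nat_lit 1, nat_lit 1, nat_lit 0]), (nat_lit 1448, [nat_lit 2, nat_lit 0, nat_lit 2, nat_lit 0, nat_lit 5, nat_lit 0]), (nat_lit 1449, [nat_lit 1, nat_lit 0, nat_lit 2, nat_lit 0, nat_lit 1, nat_lit 2]), (nat_lit 1450, [nat_lit 6, nat_lit 2, nat_lit 2, nat_lit 0, nat_lit 0]), (nat_lit 1454, [nat_lit 5, nat_lit 2, nat_lit 1, nat_lit 0, nat_lit 0, nat_lit 0]), (nat_lit 1457, [nat_lit 3, nat_lit 3, nat_lit 1, nat_lit 0]), (nat_lit 1460, [nat_lit 5, nat_lit 2, nat_lit 2, nat_lit 3, nat_lit 1, nat_lit 1]), (nat_lit 1461, [nat_lit 1, nat_lit 2, nat_lit 2, nat_lit 1, nat_lit 0, nat_lit 0, nat_lit 0]), (nat_lit 1462, [nat_lit 5, nat_lit 4, nat_lit 4, nat_lit 0]), (nat_lit 1463, [nat_lit 6, nat_lit 6, nat_lit 2, nat_lit 0, nat_lit 0]), (nat_lit 1465, [nat_lit 4, nat_lit 2]), (nat_lit 1467, [nat_lit 5, nat_lit 2, nat_lit 1, nat_lit 0, nat_lit 1, nat_lit 0, nat_lit 0]), (nat_lit 1468, [nat_lit 1, nat_lit 3, nat_lit 0, nat_lit 2]), (nat_lit 1469, [nat_lit 2, nat_lit 2, nat_lit 0, nat_lit 2]), (nat_lit 1470, [nat_lit 5, nat_lit 0, nat_lit 2, nat_lit 2, nat_lit 1]), (nat_lit 1471, [nat_lit 3, nat_lit 2, nat_lit 2, nat_lit 1, nat_lit 0, nat_lit 0]), (nat_lit 1472, [nat_lit 2, nat_lit 4, nat_lit 1, nat_lit 0, nat_lit 1]), (nat_lit 1474, [nat_lit 1, nat_lit 0, nat_lit 4, nat_lit 0, nat_lit 1]), (nat_lit 1475, [nat_lit 5, nat_lit 3, nat_lit 1, nat_lit 1]), (nat_lit 1477, [nat_lit 2, nat_lit 2, nat_lit 0, nat_lit 4, nat_lit 4, nat_lit 0]), (nat_lit 1479, [nat_lit 5, nat_lit 1, nat_lit 3, nat_lit 0, nat_lit 2]), (nat_lit 1482, [nat_lit 2, nat_lit 2, nat_lit 3, nat_lit 0, nat_lit 1]), (nat_lit 1486, [nat_lit 5, nat_lit 3, nat_lit 1, nat_lit 2]), (nat_lit 1488, [nat_lit 3, nat_lit 2, nat_lit 3, nat_lit 1, nat_lit 0, nat_lit 1]), (nat_lit 1489, [nat_lit 5, nat_lit 2]), (nat_lit 1491, [nat_lit 2, nat_lit 4, nat_lit 0, nat_lit 1, nat_lit 1]), (nat_lit 1493, [nat_lit 5, nat_lit 1, nat_lit 2, nat_lit 0, nat_lit 1]), (nat_lit 1495, [nat_lit 6, nat_lit 5, nat_lit 2, nat_lit 3]), (nat_lit 1496, [nat_lit 3, nat_lit 3, nat_lit 2, nat_lit 2, nat_lit 0, nat_lit 1]), (nat_lit 1497, [nat_lit 1, nat_lit 0, nat_lit 0, nat_lit 4, nat_lit 3]), (nat_lit 1498, [nat_lit 2, nat_lit 1, nat_lit 0, nat_lit 1, nat_lit 0, nat_lit 0]), (nat_lit 1499, [nat_lit 2, nat_lit 4, nat_lit 4, nat_lit 2, nat_lit 1, nat_lit 0]), (nat_lit 1500, [nat_lit 6, nat_lit 5, nat_lit 0, nat_lit 2, nat_lit 2]), (nat_lit 1501, [nat_lit 4, nat_lit 0, nat_lit 3, nat_lit 1, nat_lit 1, nat_lit 0]), (nat_lit 1502, [nat_lit 2, nat_lit 4, nat_lit 0, nat_lit 1, nat_lit 1, nat_lit 0, nat_lit 0]), (nat_lit 1503, [nat_lit 3, nat_lit 2, nat_lit 1, nat_lit 0, nat_lit 2]), (nat_lit 1506, [nat_lit 4, nat_lit 4, nat_lit 3, nat_lit 3, nat_lit 0, nat_lit 0]), (nat_lit 1508, [nat_lit 2, nat_lit 0, nat_lit 4, nat_lit 3, nat_lit 2]), (nat_lit 1512, [nat_lit 5, nat_lit 1, nat_lit 0, nat_lit 2, nat_lit 2, nat_lit 0, nat_lit 0]), (nat_lit 1514, [nat_lit 4, nat_lit 3, nat_lit 3, nat_lit 1]), (nat_lit 1516, [nat_lit 4, nat_lit 3, nat_lit 2, nat_lit 3, nat_lit 1, nat_lit 1]), (nat_lit 1517, [nat_lit 1, nat_lit 0, nat_lit 2, nat_lit 2, nat_lit 0, nat_lit 1]), (nat_lit 1520, [nat_lit 2, nat_lit 3, nat_lit 1, nat_lit 1, nat_lit 0, nat_lit 0]), (nat_lit 1521, [nat_lit 5, nat_lit 4, nat_lit 4, nat_lit 2, nat_lit 1, nat_lit 1]), (nat_lit 1523, [nat_lit 3, nat_lit 2]), (nat_lit 1524, [nat_lit 2, nat_lit 4, nat_lit 4, nat_lit 2, nat_lit 0, nat_lit 0]), (nat_lit 1526, [nat_lit 1, nat_lit 0, nat_lit 4, nat_lit 0, nat_lit 0, nat_lit 0]), (nat_lit 1527, [nat_lit 2, nat_lit 0, nat_lit 0, nat_lit 5, nat_lit 1]), (nat_lit 1528, [nat_lit 5, nat_lit 4, nat_lit 1, nat_lit 1]), (nat_lit 1529, [nat_lit 0, nat_lit 0, nat_lit 1, nat_lit 2, nat_lit 1]), (nat_lit 1531, [nat_lit 0, nat_lit 0, nat_lit 0, nat_lit 2]), (nat_lit 1532, [nat_lit 5, nat_lit 2, nat_lit 0, nat_lit 0, nat_lit 0]), (nat_lit 1535, [nat_lit 0, nat_lit 0, nat_lit 1]), (nat_lit 1537, [nat_lit 1, nat_lit 2, nat_lit 1, nat_lit 0, nat_lit 0]), (nat_lit 1538, [nat_lit 6, nat_lit 6, nat_lit 0, nat_lit 0, nat_lit 0]), (nat_lit 1542, [nat_lit 4, nat_lit 3, nat_lit 2]), (nat_lit 1543, [nat_lit 5, nat_lit 5, nat_lit 4, nat_lit 1]), (nat_lit 1544, [nat_lit 4, nat_lit 2, nat_lit 0, nat_lit 1, nat_lit 1, nat_lit 0, nat_lit 0]), (nat_lit 1546, [nat_lit 4, nat_lit 1, nat_lit 2]), (nat_lit 1549, [nat_lit 0, nat_lit 4, nat_lit 2, nat_lit 2]), (nat_lit 1552, [nat_lit 5, nat_lit 5, nat_lit 2, nat_lit 0, nat_lit 2, nat_lit 1]), (nat_lit 1553, [nat_lit 3, nat_lit 1, nat_lit 2, nat_lit 0, nat_lit 2]), (nat_lit 1554, [nat_lit 5, nat_lit 3, nat_lit 2, nat_lit 2, nat_lit 1]), (nat_lit 1555, [nat_lit 6, nat_lit 6, nat_lit 5, nat_lit 4, nat_lit 4]), (nat_lit 1557, [nat_lit 5, nat_lit 4, nat_lit 0, nat_lit 4]), (nat_lit 1559, [nat_lit 2, nat_lit 1, nat_lit 0, nat_lit 4, nat_lit 0, nat_lit 1]), (nat_lit 1560, [nat_lit 4, nat_lit 4, nat_lit 3, nat_lit 3, nat_lit 0]), (nat_lit 1562, [nat_lit 5, nat_lit 1, nat_lit 2, nat_lit 0, nat_lit 0]), (nat_lit 1564, [nat_lit 5, nat_lit 3]), (nat_lit 1566, [nat_lit 5, nat_lit 2, nat_lit 1, nat_lit 0, nat_lit 2, nat_lit 1]), (nat_lit 1567, [nat_lit 5, nat_lit 4, nat_lit 2, nat_lit 3, nat_lit 2]), (nat_lit 1568, [nat_lit 3, nat_lit 2, nat_lit 2, nat_lit 0, nat_lit 1]), (nat_lit 1569, [nat_lit 2, nat_lit 0, nat_lit 0, nat_lit 0, nat_lit 1]), (nat_lit 1571, [nat_lit 5, nat_lit 1, nat_lit 1, nat_lit 0, nat_lit 2, nat_lit 0]), (nat_lit 1573, [nat_lit 6, nat_lit 5, nat_lit 1, nat_lit 1]), (nat_lit 1574, [nat_lit 6, nat_lit 4, nat_lit 4, nat_lit 3]), (nat_lit 1575, [nat_lit 5, nat_lit 5, nat_lit 4, nat_lit 1, nat_lit 4]), (nat_lit 1577, [nat_lit 6, nat_lit 3, nat_lit 3]), (nat_lit 1578, [nat_lit 5, nat_lit 1, nat_lit 2, nat_lit 1, nat_lit 0, nat_lit 2]), (nat_lit 1580, [nat_lit 1, nat_lit 0, nat_lit 5, nat_lit 0, nat_lit 0]), (nat_lit 1581, [nat_lit 5, nat_lit 2, nat_lit 4, nat_lit 2, nat_lit 1, nat_lit 1]), (nat_lit 1582, [nat_lit 4, nat_lit 4, nat_lit 2, nat_lit 2, nat_lit 0, nat_lit 0]), (nat_lit 1584, [nat_lit 5, nat_lit 1, nat_lit 2, nat_lit 0, nat_lit 1, nat_lit 0, nat_lit 0]), (nat_lit 1586, [nat_lit 1, nat_lit 0, nat_lit 5, nat_lit 4]), (nat_lit 1587, [nat_lit 4, nat_lit 2, nat_lit 0, nat_lit 4, nat_lit 2]), (nat_lit 1588, [nat_lit 3, nat_lit 1, nat_lit 4, nat_lit 0]), (nat_lit 1589, [nat_lit 2, nat_lit 0, nat_lit 2, nat_lit 0]), (nat_lit 1590, [nat_lit 4, nat_lit 3, nat_lit 2, nat_lit 0, nat_lit 1, nat_lit 0]), (nat_lit 1592, [nat_lit 2, nat_lit 3, nat_lit 3, nat_lit 2]), (nat_lit 1593, [nat_lit 4, nat_lit 3, nat_lit 0, nat_lit 3, nat_lit 1]), (nat_lit 1594, [nat_lit 6, nat_lit 1, nat_lit 3, nat_lit 0]), (nat_lit 1595, [nat_lit 2, nat_lit 0, nat_lit 1, nat_lit 0, nat_lit 2, nat_lit 1]), (nat_lit 1596, [nat_lit 0, nat_lit 1, nat_lit 2, nat_lit 0, nat_lit 1, nat_lit 2, nat_lit 0]), (nat_lit 1598, [nat_lit 0, nat_lit 1, nat_lit 0, nat_lit 0, nat_lit 0]), (nat_lit 1600, [nat_lit 5, nat_lit 0, nat_lit 5, nat_lit 1, nat_lit 0, nat_lit 0]), (nat_lit 1603, [nat_lit 5, nat_lit 5, nat_lit 1, nat_lit 2, nat_lit 2]), (nat_lit 1604, [nat_lit 4, nat_lit 2, nat_lit 3, nat_lit 3, nat_lit 2]), (nat_lit 1605, [nat_lit 2, nat_lit 0, nat_lit 0, nat_lit 0, nat_lit 2]), (nat_lit 1607, [nat_lit 2, nat_lit 3, nat_lit 2, nat_lit 1]), (nat_lit 1608, [nat_lit 1, nat_lit 1, nat_lit 0, nat_lit 5, nat_lit 2, nat_lit 0]), (nat_lit 1610, [nat_lit 5, nat_lit 2, nat_lit 2, nat_lit 1, nat_lit 0, nat_lit 1]), (nat_lit 1611, [nat_lit 0, nat_lit 1, nat_lit 2, nat_lit 0, nat_lit 1]), (nat_lit 1612, [nat_lit 5, nat_lit 3, nat_lit 0, nat_lit 0]), (nat_lit 1614, [nat_lit 3, nat_lit 1, nat_lit 2, nat_lit 1, nat_lit 0, nat_lit 2]), (nat_lit 1615, [nat_lit 3, nat_lit 0, nat_lit 1, nat_lit 0]), (nat_lit 1616, [nat_lit 5, nat_lit 1, nat_lit 4, nat_lit 0]), (nat_lit 1617, [nat_lit 0, nat_lit 3, nat_lit 3, nat_lit 1, nat_lit 1, nat_lit 0]), (nat_lit 1618, [nat_lit 2, nat_lit 1, nat_lit 2, nat_lit 1]), (nat_lit 1619, [nat_lit 1, nat_lit 3, nat_lit 1, nat_lit 0, nat_lit 2]), (nat_lit 1620, [nat_lit 4, nat_lit 2, nat_lit 2, nat_lit 1, nat_lit 1, nat_lit 0]), (nat_lit 1621, [nat_lit 1, nat_lit 0, nat_lit 5, nat_lit 2, nat_lit 2]), (nat_lit 1622, [nat_lit 5, nat_lit 5, nat_lit 2, nat_lit 2]), (nat_lit 1624, [nat_lit 5, nat_lit 2, nat_lit 4, nat_lit 1]), (nat_lit 1625, [nat_lit 5, nat_lit 2, nat_lit 2]), (nat_lit 1626, [nat_lit 5, nat_lit 5, nat_lit 0, nat_lit 3, nat_lit 2]), (nat_lit 1627, [nat_lit 5, nat_lit 5, nat_lit 2, nat_lit 4, nat_lit 2, nat_lit 0]), (nat_lit 1629, [nat_lit 0, nat_lit 2, nat_lit 4, nat_lit 2, nat_lit 0, nat_lit 0]), (nat_lit 1630, [nat_lit 2, nat_lit 3, nat_lit 1, nat_lit 1, nat_lit 0, nat_lit 2]), (nat_lit 1632, [nat_lit 5, nat_lit 3, nat_lit 0, nat_lit 1]), (nat_lit 1634, [nat_lit 5, nat_lit 0, nat_lit 0, nat_lit 2, nat_lit 2]), (nat_lit 1635, [nat_lit 2, nat_lit 2, nat_lit 1, nat_lit 0, nat_lit 4, nat_lit 0, nat_lit 0]), (nat_lit 1636, [nat_lit 2, nat_lit 4, nat_lit 4, nat_lit 2, nat_lit 0]), (nat_lit 1639, [nat_lit 1, nat_lit 0, nat_lit 2, nat_lit 1]), (nat_lit 1640, [nat_lit 1, nat_lit 2, nat_lit 0, nat_lit 1, nat_lit 2]), (nat_lit 1641, [nat_lit 0, nat_lit 5, nat_lit 2]), (nat_lit 1642, [nat_lit 5, nat_lit 5, nat_lit 4, nat_lit 3, nat_lit 2]), (nat_lit 1643, [nat_lit 0, nat_lit 2, nat_lit 1, nat_lit 0, nat_lit 2, nat_lit 1, nat_lit 0]), (nat_lit 1644, [nat_lit 2, nat_lit 4, nat_lit 0, nat_lit 1, nat_lit 1, nat_lit 0]), (nat_lit 1645, [nat_lit 0, nat_lit 3, nat_lit 1, nat_lit 2, nat_lit 1]), (nat_lit 1646, [nat_lit 1, nat_lit 2, nat_lit 0, nat_lit 2]), (nat_lit 1647, [nat_lit 2, nat_lit 1, nat_lit 0, nat_lit 2, nat_lit 0]), (nat_lit 1648, [nat_lit 5, nat_lit 2, nat_lit 2, nat_lit 1, nat_lit 1, nat_lit 0]), (nat_lit 1649, [nat_lit 3, nat_lit 2, nat_lit 1, nat_lit 0, nat_lit 1]), (nat_lit 1650, [nat_lit 2, nat_lit 4, nat_lit 0]), (nat_lit 1651, [nat_lit 2, nat_lit 2, nat_lit 0, nat_lit 5, nat_lit 0, nat_lit 0]), (nat_lit 1652, [nat_lit 4, nat_lit 3, nat_lit 3, nat_lit 2, nat_lit 1]), (nat_lit 1653, [nat_lit 4, nat_lit 4, nat_lit 3, nat_lit 3, nat_lit 2, nat_lit 2]), (nat_lit 1654, [nat_lit 3, nat_lit 2, nat_lit 1, nat_lit 0, nat_lit 2, nat_lit 1]), (nat_lit 1655, [nat_lit 5, nat_lit 1, nat_lit 2, nat_lit 0, nat_lit 0, nat_lit 0]), (nat_lit 1656, [nat_lit 5, nat_lit 0, nat_lit 0, nat_lit 0, nat_lit 0, nat_lit 0]), (nat_lit 1657, [nat_lit 5, nat_lit 2, nat_lit 1, nat_lit 1, nat_lit 0]), (nat_lit 1658, [nat_lit 5, nat_lit 2, nat_lit 2, nat_lit 4, nat_lit 1, nat_lit 1]), (nat_lit 1659, [nat_lit 4, nat_lit 0, nat_lit 4, nat_lit 3, nat_lit 2]), (nat_lit 1660, [nat_lit 2, nat_lit 1, nat_lit 2, nat_lit 0, nat_lit 0, nat_lit 1, nat_lit 0]), (nat_lit 1663, [nat_lit 0, nat_lit 4, nat_lit 3, nat_lit 0]), (nat_lit 1665, [nat_lit 2, nat_lit 1, nat_lit 0, nat_lit 0, nat_lit 1, nat_lit 0]), (nat_lit 1667, [nat_lit 6, nat_lit 4, nat_lit 0, nat_lit 1, nat_lit 0]), (nat_lit 1669, [nat_lit 2, nat_lit 4, nat_lit 1, nat_lit 1]), (nat_lit 1670, [nat_lit 5, nat_lit 2, nat_lit 2, nat_lit 4, nat_lit 0]), (nat_lit 1671, [nat_lit 3, nat_lit 1, nat_lit 0, nat_lit 2, nat_lit 0, nat_lit 1]), (nat_lit 1672, [nat_lit 1, nat_lit 2, nat_lit 0, nat_lit 0, nat_lit 2]), (nat_lit 1673, [nat_lit 5, nat_lit 1, nat_lit 0, nat_lit 0, nat_lit 0]), (nat_lit 1679, [nat_lit 2, nat_lit 2, nat_lit 0, nat_lit 5, nat_lit 1, nat_lit 1]), (nat_lit 1680, [nat_lit 0, nat_lit 0, nat_lit 4, nat_lit 2, nat_lit 0]), (nat_lit 1681, [nat_lit 2, nat_lit 2, nat_lit 0, nat_lit 2, nat_lit 0]), (nat_lit 1686, [nat_lit 6, nat_lit 5, nat_lit 5, nat_lit 4, nat_lit 4, nat_lit 3]), (nat_lit 1689, [nat_lit 5, nat_lit 5, nat_lit 4, nat_lit 2, nat_lit 1, nat_lit 1]), (nat_lit 1692, [nat_lit 0, nat_lit 2, nat_lit 0, nat_lit 2, nat_lit 1]), (nat_lit 1693, [nat_lit 5, nat_lit 5, nat_lit 4, nat_lit 2]), (nat_lit 1695, [nat_lit 2, nat_lit 3, nat_lit 1, nat_lit 0, nat_lit 1]), (nat_lit 1696, [nat_lit 1, nat_lit 1, nat_lit 0, nat_lit 0, nat_lit 2, nat_lit 2, nat_lit 0]), (nat_lit 1698, [nat_lit 2, nat_lit 3, nat_lit 1, nat_lit 0, nat_lit 2, nat_lit 0, nat_lit 0]), (nat_lit 1700, [nat_lit 0, nat_lit 2, nat_lit 4, nat_lit 3, nat_lit 2, nat_lit 0]), (nat_lit 1702, [nat_lit 6, nat_lit 5, nat_lit 0]), (nat_lit 1703, [nat_lit 1, nat_lit 0, nat_lit 0, nat_lit 3, nat_lit 1]), (nat_lit 1704, [nat_lit 6, nat_lit 2, nat_lit 1, nat_lit 0, nat_lit 1, nat_lit 0]), (nat_lit 1705, [nat_lit 5, nat_lit 1, nat_lit 3, nat_lit 1, nat_lit 0]), (nat_lit 1706, [nat_lit 4, nat_lit 4, nat_lit 3, nat_lit 2, nat_lit 3]), (nat_lit 1710, [nat_lit 2, nat_lit 0, nat_lit 1, nat_lit 0, nat_lit 5, nat_lit 0]), (nat_lit 1712, [nat_lit 6, nat_lit 6, nat_lit 2, nat_lit 0]), (nat_lit 1713, [nat_lit 4, nat_lit 2, nat_lit 3, nat_lit 3, nat_lit 0, nat_lit 1]), (nat_lit 1714, [nat_lit 4, nat_lit 0, nat_lit 2, nat_lit 4, nat_lit 3]), (nat_lit 1715, [nat_lit 0, nat_lit 5, nat_lit 4, nat_lit 2]), (nat_lit 1716, [nat_lit 6, nat_lit 6, nat_lit 5, nat_lit 4, nat_lit 3]), (nat_lit 1717, [nat_lit 4, nat_lit 2, nat_lit 4, nat_lit 2, nat_lit 1, nat_lit 1]), (nat_lit 1718, [nat_lit 3, nat_lit 3, nat_lit 1, nat_lit 1, nat_lit 0]), (nat_lit 1720, [nat_lit 2, nat_lit 4, nat_lit 3]), (nat_lit 1722, [nat_lit 2, nat_lit 4, nat_lit 2, nat_lit 0, nat_lit 0]), (nat_lit 1726, [nat_lit 2, nat_lit 0, nat_lit 1, nat_lit 1, nat_lit 0, nat_lit 0]), (nat_lit 1728, [nat_lit 1, nat_lit 0, nat_lit 5, nat_lit 3]), (nat_lit 1730, [nat_lit 3, nat_lit 0, nat_lit 0, nat_lit 1]), (nat_lit 1731, [nat_lit 3, nat_lit 2, nat_lit 3, nat_lit 2, nat_lit 0]), (nat_lit 1734, [nat_lit 2]), (nat_lit 1735, [nat_lit 1, nat_lit 3, nat_lit 0, nat_lit 0, nat_lit 2]), (nat_lit 1737, [nat_lit 1, nat_lit 0, nat_lit 1, nat_lit 2, nat_lit 0, nat_lit 2]), (nat_lit 1738, [nat_lit 0, nat_lit 1, nat_lit 1, nat_lit 4, nat_lit 0]), (nat_lit 1739, [nat_lit 0, nat_lit 5, nat_lit 2, nat_lit 2, nat_lit 0, nat_lit 0]), (nat_lit 1740, [nat_lit 2, nat_lit 2, nat_lit 0, nat_lit 5, nat_lit 0]), (nat_lit 1741, [nat_lit 2, nat_lit 4, nat_lit 4, nat_lit 0, nat_lit 1]), (nat_lit 1742, [nat_lit 5, nat_lit 5, nat_lit 2, nat_lit 4, nat_lit 1, nat_lit 1]), (nat_lit 1743, [nat_lit 2, nat_lit 4, nat_lit 0, nat_lit 4]), (nat_lit 1744, [nat_lit 0, nat_lit 1, nat_lit 0, nat_lit 0, nat_lit 2, nat_lit 1]), (nat_lit 1746, [nat_lit 6, nat_lit 4, nat_lit 0, nat_lit 1]), (nat_lit 1748, [nat_lit 5, nat_lit 5, nat_lit 2, nat_lit 2, nat_lit 0, nat_lit 0]), (nat_lit 1752, [nat_lit 2, nat_lit 4, nat_lit 3, nat_lit 0]), (nat_lit 1754, [nat_lit 4, nat_lit 3, nat_lit 2, nat_lit 3, nat_lit 0]), (nat_lit 1755, [nat_lit 1, nat_lit 1, nat_lit 0, nat_lit 0, nat_lit 0, nat_lit 0, nat_lit 0]), (nat_lit 1758, [nat_lit 3, nat_lit 3, nat_lit 0, nat_lit 1]), (nat_lit 1761, [nat_lit 1, nat_lit 0, nat_lit 5, nat_lit 2]), (nat_lit 1762, [nat_lit 3, nat_lit 2, nat_lit 2, nat_lit 1, nat_lit 0, nat_lit 1, nat_lit 0]), (nat_lit 1763, [nat_lit 6, nat_lit 4, nat_lit 0, nat_lit 0, nat_lit 0]), (nat_lit 1764, [nat_lit 5, nat_lit 5, nat_lit 3, nat_lit 1, nat_lit 2, nat_lit 1]), (nat_lit 1765, [nat_lit 3, nat_lit 1, nat_lit 0, nat_lit 0, nat_lit 4]), (nat_lit 1766, [nat_lit 0, nat_lit 2, nat_lit 2, nat_lit 0, nat_lit 0, nat_lit 1, nat_lit 1]), (nat_lit 1767, [nat_lit 2, nat_lit 0, nat_lit 2, nat_lit 1, nat_lit 1, nat_lit 0]), (nat_lit 1768, [nat_lit 6, nat_lit 6, nat_lit 5, nat_lit 5, nat_lit 1]), (nat_lit 1770, [nat_lit 4, nat_lit 4, nat_lit 3, nat_lit 1, nat_lit 1]), (nat_lit 1771, [nat_lit 3, nat_lit 3, nat_lit 2, nat_lit 2, nat_lit 0, nat_lit 0]), (nat_lit 1772, [nat_lit 4, nat_lit 4, nat_lit 2]), (nat_lit 1773, [nat_lit 0, nat_lit 3, nat_lit 2, nat_lit 1, nat_lit 0]), (nat_lit 1775, [nat_lit 4, nat_lit 0, nat_lit 4, nat_lit 3, nat_lit 3, nat_lit 0, nat_lit 0]), (nat_lit 1777, [nat_lit 6, nat_lit 0, nat_lit 0, nat_lit 1, nat_lit 0]), (nat_lit 1778, [nat_lit 4, nat_lit 4, nat_lit 3, nat_lit 3]), (nat_lit 1781, [nat_lit 6, nat_lit 2, nat_lit 0, nat_lit 0, nat_lit 2, nat_lit 1]), (nat_lit 1783, [nat_lit 5, nat_lit 4, nat_lit 1, nat_lit 2, nat_lit 1]), (nat_lit 1785, [nat_lit 5, nat_lit 5, nat_lit 4]), (nat_lit 1786, [nat_lit 4, nat_lit 3, nat_lit 0]), (nat_lit 1788, [nat_lit 2, nat_lit 3, nat_lit 0, nat_lit 1]), (nat_lit 1789, [nat_lit 1, nat_lit 2, nat_lit 0, nat_lit 4, nat_lit 0, nat_lit 0]), (nat_lit 1793, [nat_lit 5, nat_lit 0, nat_lit 1, nat_lit 0, nat_lit 1]), (nat_lit 1794, [nat_lit 0, nat_lit 2, nat_lit 2, nat_lit 0, nat_lit 0]), (nat_lit 1795, [nat_lit 0, nat_lit 0, nat_lit 2, nat_lit 1, nat_lit 0]), (nat_lit 1796, [nat_lit 6, nat_lit 6, nat_lit 1, nat_lit 1]), (nat_lit 1797, [nat_lit 0, nat_lit 2, nat_lit 4, nat_lit 3, nat_lit 2, nat_lit 0, nat_lit 0]), (nat_lit 1799, [nat_lit 6, nat_lit 0, nat_lit 0, nat_lit 4]), (nat_lit 1803, [nat_lit 4, nat_lit 3, nat_lit 0, nat_lit 3]), (nat_lit 1805, [nat_lit 2, nat_lit 2, nat_lit 4]), (nat_lit 1806, [nat_lit 1, nat_lit 0, nat_lit 5]), (nat_lit 1807, [nat_lit 4, nat_lit 2, nat_lit 4, nat_lit 0, nat_lit 0]), (nat_lit 1808, [nat_lit 1, nat_lit 2, nat_lit 0, nat_lit 0, nat_lit 1, nat_lit 0]), (nat_lit 1809, [nat_lit 4, nat_lit 2, nat_lit 3, nat_lit 3, nat_lit 1, nat_lit 1]), (nat_lit 1810, [nat_lit 0, nat_lit 4, nat_lit 2, nat_lit 2, nat_lit 0, nat_lit 0]), (nat_lit 1812, [nat_lit 0, nat_lit 5, nat_lit 0, nat_lit 1]), (nat_lit 1813, [nat_lit 5, nat_lit 2, nat_lit 0, nat_lit 1, nat_lit 0, nat_lit 0]), (nat_lit 1814, [nat_lit 1, nat_lit 3, nat_lit 0, nat_lit 0, nat_lit 1]), (nat_lit 1816, [nat_lit 5, nat_lit 2, nat_lit 2, nat_lit 4, nat_lit 0, nat_lit 0, nat_lit 0]), (nat_lit 1817, [nat_lit 0, nat_lit 2, nat_lit 2, nat_lit 0, nat_lit 1, nat_lit 0]), (nat_lit 1821, [nat_lit 3, nat_lit 2, nat_lit 1]), (nat_lit 1822, [nat_lit 3, nat_lit 0, nat_lit 3, nat_lit 0, nat_lit 1, nat_lit 1]), (nat_lit 1823, [nat_lit 2, nat_lit 0, nat_lit 4, nat_lit 2, nat_lit 4, nat_lit 0]), (nat_lit 1824, [nat_lit 3, nat_lit 2, nat_lit 0, nat_lit 0, nat_lit 2]), (nat_lit 1826, [nat_lit 2, nat_lit 0, nat_lit 2, nat_lit 2]), (nat_lit 1827, [nat_lit 1, nat_lit 0, nat_lit 1]), (nat_lit 1830, [nat_lit 1, nat_lit 2, nat_lit 0, nat_lit 0, nat_lit 1]), (nat_lit 1832, [nat_lit 5, nat_lit 0, nat_lit 1, nat_lit 1]), (nat_lit 1835, [nat_lit 0, nat_lit 0, nat_lit 5, nat_lit 2, nat_lit 2]), (nat_lit 1836, [nat_lit 2, nat_lit 2, nat_lit 0, nat_lit 0]), (nat_lit 1838, [nat_lit 5, nat_lit 1, nat_lit 0, nat_lit 1, nat_lit 0]), (nat_lit 1839, [nat_lit 0, nat_lit 2, nat_lit 4, nat_lit 0, nat_lit 1, nat_lit 1, nat_lit 0]), (nat_lit 1840, [nat_lit 0, nat_lit 2, nat_lit 2, nat_lit 4, nat_lit 0, nat_lit 0]), (nat_lit 1844, [nat_lit 3, nat_lit 3, nat_lit 0, nat_lit 0, nat_lit 1, nat_lit 1]), (nat_lit 1846, [nat_lit 6, nat_lit 5, nat_lit 1, nat_lit 3]), (nat_lit 1850, [nat_lit 2, nat_lit 0, nat_lit 0, nat_lit 1, nat_lit 2, nat_lit 0]), (nat_lit 1851, [nat_lit 4, nat_lit 3, nat_lit 2, nat_lit 0, nat_lit 1, nat_lit 1]), (nat_lit 1854, [nat_lit 2, nat_lit 1, nat_lit 1, nat_lit 0]), (nat_lit 1856, [nat_lit 5, nat_lit 0, nat_lit 1, nat_lit 1, nat_lit 0]), (nat_lit 1858, [nat_lit 6, nat_lit 0, nat_lit 2, nat_lit 2, nat_lit 0]), (nat_lit 1864, [nat_lit 2, nat_lit 4, nat_lit 2]), (nat_lit 1866, [nat_lit 1, nat_lit 0, nat_lit 4, nat_lit 2, nat_lit 2, nat_lit 0, nat_lit 0]), (nat_lit 1867, [nat_lit 4, nat_lit 1, nat_lit 2, nat_lit 0, nat_lit 0, nat_lit 0]), (nat_lit 1871, [nat_lit 6, nat_lit 1, nat_lit 0, nat_lit 2, nat_lit 0]), (nat_lit 1872, [nat_lit 1, nat_lit 2, nat_lit 2, nat_lit 1]), (nat_lit 1874, [nat_lit 1, nat_lit 3, nat_lit 0, nat_lit 2, nat_lit 0]), (nat_lit 1876, [nat_lit 4, nat_lit 0, nat_lit 2, nat_lit 0]), (nat_lit 1877, [nat_lit 4, nat_lit 0, nat_lit 1, nat_lit 0, nat_lit 1, nat_lit 2, nat_lit 0]), (nat_lit 1878, [nat_lit 5, nat_lit 1, nat_lit 0, nat_lit 2, nat_lit 2, nat_lit 1]), (nat_lit 1880, [nat_lit 0, nat_lit 1, nat_lit 1, nat_lit 0, nat_lit 0, nat_lit 0, nat_lit 0]), (nat_lit 1881, [nat_lit 3, nat_lit 0, nat_lit 3, nat_lit 1, nat_lit 0]), (nat_lit 1885, [nat_lit 4, nat_lit 3, nat_lit 2, nat_lit 0, nat_lit 0]), (nat_lit 1886, [nat_lit 4, nat_lit 0, nat_lit 0, nat_lit 2, nat_lit 1]), (nat_lit 1887, [nat_lit 5, nat_lit 5, nat_lit 2, nat_lit 3]), (nat_lit 1889, [nat_lit 5, nat_lit 3, nat_lit 2, nat_lit 2, nat_lit 0]), (nat_lit 1890, [nat_lit 2, nat_lit 0, nat_lit 4, nat_lit 2, nat_lit 2]), (nat_lit 1892, [nat_lit 0, nat_lit 5, nat_lit 5, nat_lit 1]), (nat_lit 1895, [nat_lit 0, nat_lit 4, nat_lit 0, nat_lit 4]), (nat_lit 1897, [nat_lit 0, nat_lit 1, nat_lit 2, nat_lit 0, nat_lit 1, nat_lit 2]), (nat_lit 1898, [nat_lit 1, nat_lit 0, nat_lit 5, nat_lit 2, nat_lit 2, nat_lit 1]), (nat_lit 1899, [nat_lit 1, nat_lit 3, nat_lit 3, nat_lit 0]), (nat_lit 1900, [nat_lit 0, nat_lit 0, nat_lit 0, nat_lit 0, nat_lit 1, nat_lit 1, nat_lit 0]), (nat_lit 1901, [nat_lit 4, nat_lit 3, nat_lit 1, nat_lit 1]), (nat_lit 1902, [nat_lit 5, nat_lit 3, nat_lit 1, nat_lit 4, nat_lit 0]), (nat_lit 1904, [nat_lit 0, nat_lit 1, nat_lit 0, nat_lit 0, nat_lit 2]), (nat_lit 1905, [nat_lit 3, nat_lit 3, nat_lit 0, nat_lit 0, nat_lit 1]), (nat_lit 1907, [nat_lit 0, nat_lit 4, nat_lit 2, nat_lit 4]), (nat_lit 1908, [nat_lit 0, nat_lit 2, nat_lit 2, nat_lit 4, nat_lit 1]), (nat_lit 1909, [nat_lit 3, nat_lit 0, nat_lit 1, nat_lit 1, nat_lit 0]), (nat_lit 1911, [nat_lit 5, nat_lit 5, nat_lit 1, nat_lit 1, nat_lit 3]), (nat_lit 1913, [nat_lit 2, nat_lit 1, nat_lit 0, nat_lit 4, nat_lit 0]), (nat_lit 1914, [nat_lit 5, nat_lit 0, nat_lit 1, nat_lit 0, nat_lit 2]), (nat_lit 1916, [nat_lit 0, nat_lit 2, nat_lit 4, nat_lit 4, nat_lit 0]), (nat_lit 1917, [nat_lit 5, nat_lit 4, nat_lit 3, nat_lit 2, nat_lit 2]), (nat_lit 1922, [nat_lit 5, nat_lit 1, nat_lit 3, nat_lit 0, nat_lit 2, nat_lit 0]), (nat_lit 1923, [nat_lit 2, nat_lit 2, nat_lit 4, nat_lit 1]), (nat_lit 1924, [nat_lit 1, nat_lit 0, nat_lit 2, nat_lit 0, nat_lit 2, nat_lit 1]), (nat_lit 1927, [nat_lit 0, nat_lit 0, nat_lit 1, nat_lit 1, nat_lit 0, nat_lit 0, nat_lit 0]), (nat_lit 1928, [nat_lit 1, nat_lit 0, nat_lit 4, nat_lit 3, nat_lit 0]), (nat_lit 1929, [nat_lit 2, nat_lit 2, nat_lit 0, nat_lit 1, nat_lit 0, nat_lit 0]), (nat_lit 1930, [nat_lit 0, nat_lit 1, nat_lit 0, nat_lit 2]), (nat_lit 1931, [nat_lit 2, nat_lit 0, nat_lit 2, nat_lit 4, nat_lit 4, nat_lit 0]), (nat_lit 1932, [nat_lit 0, nat_lit 1, nat_lit 0, nat_lit 0, nat_lit 0, nat_lit 1]), (nat_lit 1933, [nat_lit 0, nat_lit 1, nat_lit 0, nat_lit 0]), (nat_lit 1935, [nat_lit 6, nat_lit 0, nat_lit 2, nat_lit 1, nat_lit 0, nat_lit 2]), (nat_lit 1936, [nat_lit 1, nat_lit 0, nat_lit 2, nat_lit 0, nat_lit 1]), (nat_lit 1937, [nat_lit 3, nat_lit 3, nat_lit 0, nat_lit 1, nat_lit 1]), (nat_lit 1938, [nat_lit 4, nat_lit 0, nat_lit 3]), (nat_lit 1939, [nat_lit 0, nat_lit 5, nat_lit 0, nat_lit 2, nat_lit 2]), (nat_lit 1941, [nat_lit 0, nat_lit 1, nat_lit 2, nat_lit 1, nat_lit 0]), (nat_lit 1942, [nat_lit 2, nat_lit 2, nat_lit 1, nat_lit 0, nat_lit 4, nat_lit 0]), (nat_lit 1944, [nat_lit 2, nat_lit 0, nat_lit 2, nat_lit 0, nat_lit 1]), (nat_lit 1945, [nat_lit 5, nat_lit 3, nat_lit 1, nat_lit 2, nat_lit 1]), (nat_lit 1946, [nat_lit 5, nat_lit 4, nat_lit 0, nat_lit 0]), (nat_lit 1947, [nat_lit 3, nat_lit 3, nat_lit 0]), (nat_lit 1949, [nat_lit 4, nat_lit 1, nat_lit 2, nat_lit 0, nat_lit 1]), (nat_lit 1952, [nat_lit 3, nat_lit 0, nat_lit 3, nat_lit 0]), (nat_lit 1954, [nat_lit 2, nat_lit 4, nat_lit 2, nat_lit 0, nat_lit 1]), (nat_lit 1955, [nat_lit 5, nat_lit 2, nat_lit 0, nat_lit 1, nat_lit 1, nat_lit 0]), (nat_lit 1956, [nat_lit 2, nat_lit 2, nat_lit 3, nat_lit 1, nat_lit 1, nat_lit 0]), (nat_lit 1958, [nat_lit 2, nat_lit 3, nat_lit 2, nat_lit 0]), (nat_lit 1959, [nat_lit 0, nat_lit 0, nat_lit 4, nat_lit 4]), (nat_lit 1962, [nat_lit 5, nat_lit 2, nat_lit 4, nat_lit 4]), (nat_lit 1963, [nat_lit 5, nat_lit 5, nat_lit 0]), (nat_lit 1964, [nat_lit 2, nat_lit 0, nat_lit 0]), (nat_lit 1966, [nat_lit 5, nat_lit 5, nat_lit 3, nat_lit 2]), (nat_lit 1967, [nat_lit 5, nat_lit 1, nat_lit 1, nat_lit 0, nat_lit 2, nat_lit 0, nat_lit 0]), (nat_lit 1968, [nat_lit 5, nat_lit 2, nat_lit 1, nat_lit 0, nat_lit 2]), (nat_lit 1969, [nat_lit 5, nat_lit 2, nat_lit 2, nat_lit 0, nat_lit 1]), (nat_lit 1972, [nat_lit 6, nat_lit 6, nat_lit 0]), (nat_lit 1973, [nat_lit 0, nat_lit 4, nat_lit 3]), (nat_lit 1975, [nat_lit 2, nat_lit 3, nat_lit 0, nat_lit 1, nat_lit 0]), (nat_lit 1976, [nat_lit 2, nat_lit 4, nat_lit 3, nat_lit 0, nat_lit 0]), (nat_lit 1977, [nat_lit 4, nat_lit 0, nat_lit 4, nat_lit 2, nat_lit 0]), (nat_lit 1978, [nat_lit 0, nat_lit 0, nat_lit 3, nat_lit 2, nat_lit 1, nat_lit 0]), (nat_lit 1980, [nat_lit 4, nat_lit 4, nat_lit 2, nat_lit 2, nat_lit 0, nat_lit 1]), (nat_lit 1983, [nat_lit 0, nat_lit 2, nat_lit 1, nat_lit 2]), (nat_lit 1984, [nat_lit 0, nat_lit 4]), (nat_lit 1985, [nat_lit 1, nat_lit 1, nat_lit 4, nat_lit 0, nat_lit 0]), (nat_lit 1986, [nat_lit 5, nat_lit 5]), (nat_lit 1987, [nat_lit 5, nat_lit 5, nat_lit 4, nat_lit 1, nat_lit 2, nat_lit 1]), (nat_lit 1989, [nat_lit 5, nat_lit 0, nat_lit 5, nat_lit 2, nat_lit 0]), (nat_lit 1991, [nat_lit 6, nat_lit 2, nat_lit 2, nat_lit 0]), (nat_lit 1994, [nat_lit 0, nat_lit 5, nat_lit 3, nat_lit 1, nat_lit 1]), (nat_lit 1995, [nat_lit 5]), (nat_lit 1998, [nat_lit 2, nat_lit 4, nat_lit 1, nat_lit 0, nat_lit 1, nat_lit 0]), (nat_lit 1999, [nat_lit 6, nat_lit 6, nat_lit 3]), (nat_lit 2000, [nat_lit 3, nat_lit 2, nat_lit 3, nat_lit 0]), (nat_lit 2003, [nat_lit 2, nat_lit 3, nat_lit 1, nat_lit 0, nat_lit 2, nat_lit 1]), (nat_lit 2004, [nat_lit 4, nat_lit 4, nat_lit 1, nat_lit 3, nat_lit 1]), (nat_lit 2006, [nat_lit 2, nat_lit 3, nat_lit 1, nat_lit 0, nat_lit 2, nat_lit 0]), (nat_lit 2007, [nat_lit 4, nat_lit 0, nat_lit 2, nat_lit 0, nat_lit 2, nat_lit 1]), (nat_lit 2009, [nat_lit 5, nat_lit 0, nat_lit 4, nat_lit 2, nat_lit 2]), (nat_lit 2010, [nat_lit 6, nat_lit 0, nat_lit 4, nat_lit 0, nat_lit 0]), (nat_lit 2012, [nat_lit 3, nat_lit 2, nat_lit 3, nat_lit 1]), (nat_lit 2015, [nat_lit 5, nat_lit 0, nat_lit 5]), (nat_lit 2018, [nat_lit 1, nat_lit 1, nat_lit 0, nat_lit 5, nat_lit 0, nat_lit 0]), (nat_lit 2019, [nat_lit 5, nat_lit 4, nat_lit 4]), (nat_lit 2022, [nat_lit 5, nat_lit 5, nat_lit 2, nat_lit 4, nat_lit 3, nat_lit 1]), (nat_lit 2023, [nat_lit 0, nat_lit 3, nat_lit 3, nat_lit 1, nat_lit 1]), (nat_lit 2024, [nat_lit 1, nat_lit 3, nat_lit 3, nat_lit 1, nat_lit 0, nat_lit 0]), (nat_lit 2025, [nat_lit 5, nat_lit 5, nat_lit 3, nat_lit 2, nat_lit 2]), (nat_lit 2026, [nat_lit 2, nat_lit 1]), (nat_lit 2027, [nat_lit 4, nat_lit 0, nat_lit 2, nat_lit 2, nat_lit 0]), (nat_lit 2028, [nat_lit 2, nat_lit 0, nat_lit 4, nat_lit 0, nat_lit 1]), (nat_lit 2030, [nat_lit 4, nat_lit 2, nat_lit 0, nat_lit 0, nat_lit 0]), (nat_lit 2031, [nat_lit 2, nat_lit 0, nat_lit 0, nat_lit 1, nat_lit 1]), (nat_lit 2033, [nat_lit 3, nat_lit 2, nat_lit 2, nat_lit 0, nat_lit 1, nat_lit 0]), (nat_lit 2034, [nat_lit 1, nat_lit 0, nat_lit 5, nat_lit 0, nat_lit 2]), (nat_lit 2036, [nat_lit 3, nat_lit 2, nat_lit 2]), (nat_lit 2037, [nat_lit 0, nat_lit 2, nat_lit 1, nat_lit 2, nat_lit 0]), (nat_lit 2038, [nat_lit 1, nat_lit 1, nat_lit 2]), (nat_lit 2039, [nat_lit 0, nat_lit 1, nat_lit 1, nat_lit 0, nat_lit 2, nat_lit 0]), (nat_lit 2040, [nat_lit 0, nat_lit 4, nat_lit 0]), (nat_lit 2041, [nat_lit 0, nat_lit 1, nat_lit 1, nat_lit 3]), (nat_lit 2043, [nat_lit 4, nat_lit 3, nat_lit 2, nat_lit 1, nat_lit 1]), (nat_lit 2046, [nat_lit 3, nat_lit 3, nat_lit 2, nat_lit 1, nat_lit 1, nat_lit 0]), (nat_lit 2047, [nat_lit 2, nat_lit 0, nat_lit 5, nat_lit 5, nat_lit 2, nat_lit 1]), (nat_lit 2049, [nat_lit 5, nat_lit 4, nat_lit 2, nat_lit 3, nat_lit 2, nat_lit 1]), (nat_lit 2050, [nat_lit 1, nat_lit 0, nat_lit 4, nat_lit 2, nat_lit 2]), (nat_lit 2052, [nat_lit 3, nat_lit 2, nat_lit 3, nat_lit 2, nat_lit 1, nat_lit 1]), (nat_lit 2056, [nat_lit 2, nat_lit 0, nat_lit 1, nat_lit 1]), (nat_lit 2057, [nat_lit 2, nat_lit 4, nat_lit 4, nat_lit 2, nat_lit 0, nat_lit 1]), (nat_lit 2059, [nat_lit 1, nat_lit 3, nat_lit 3, nat_lit 0, nat_lit 0, nat_lit 1]), (nat_lit 2062, [nat_lit 2, nat_lit 1, nat_lit 0, nat_lit 1]), (nat_lit 2063, [nat_lit 5, nat_lit 0, nat_lit 5, nat_lit 3]), (nat_lit 2065, [nat_lit 2, nat_lit 2, nat_lit 0, nat_lit 0, nat_lit 5, nat_lit 0]), (nat_lit 2066, [nat_lit 6, nat_lit 2, nat_lit 4, nat_lit 0, nat_lit 1]), (nat_lit 2067, [nat_lit 0, nat_lit 1, nat_lit 2, nat_lit 0, nat_lit 4, nat_lit 0]), (nat_lit 2069, [nat_lit 3, nat_lit 0, nat_lit 2, nat_lit 1, nat_lit 1, nat_lit 0]), (nat_lit 2071, [nat_lit 2, nat_lit 2, nat_lit 0]), (nat_lit 2073, [nat_lit 1, nat_lit 0, nat_lit 0, nat_lit 0, nat_lit 0, nat_lit 0]), (nat_lit 2075, [nat_lit 2, nat_lit 0, nat_lit 2, nat_lit 4, nat_lit 0, nat_lit 1]), (nat_lit 2076, [nat_lit 4, nat_lit 3, nat_lit 1, nat_lit 3, nat_lit 0, nat_lit 1]), (nat_lit 2078, [nat_lit 5, nat_lit 1, nat_lit 2, nat_lit 0, nat_lit 2, nat_lit 1, nat_lit 0]), (nat_lit 2080, [nat_lit 5, nat_lit 0, nat_lit 1, nat_lit 1, nat_lit 0, nat_lit 2, nat_lit 0]), (nat_lit 2081, [nat_lit 0, nat_lit 2, nat_lit 2, nat_lit 0, nat_lit 0, nat_lit 1]), (nat_lit 2082, [nat_lit 4, nat_lit 0, nat_lit 0, nat_lit 3]), (nat_lit 2083, [nat_lit 0, nat_lit 4, nat_lit 0, nat_lit 4, nat_lit 2]), (nat_lit 2084, [nat_lit 6, nat_lit 1]), (nat_lit 2086, [nat_lit 1, nat_lit 0, nat_lit 0, nat_lit 4]), (nat_lit 2087, [nat_lit 0, nat_lit 2, nat_lit 1, nat_lit 2, nat_lit 1, nat_lit 0, nat_lit 0]), (nat_lit 2088, [nat_lit 5, nat_lit 0, nat_lit 4, nat_lit 3, nat_lit 3]), (nat_lit 2089, [nat_lit 0, nat_lit 4, nat_lit 0, nat_lit 0, nat_lit 0]), (nat_lit 2090, [nat_lit 5, nat_lit 5, nat_lit 3]), (nat_lit 2091, [nat_lit 1, nat_lit 1, nat_lit 0, nat_lit 0, nat_lit 0]), (nat_lit 2094, [nat_lit 2, nat_lit 2, nat_lit 4, nat_lit 1, nat_lit 0, nat_lit 1, nat_lit 0]), (nat_lit 2095, [nat_lit 0, nat_lit 1, nat_lit 2, nat_lit 0, nat_lit 2, nat_lit 1]), (nat_lit 2096, [nat_lit 1, nat_lit 0, nat_lit 2, nat_lit 2, nat_lit 0, nat_lit 0]), (nat_lit 2098, [nat_lit 3, nat_lit 2, nat_lit 3, nat_lit 0, nat_lit 0]), (nat_lit 2101, [nat_lit 0, nat_lit 3, nat_lit 1, nat_lit 2, nat_lit 1, nat_lit 0]), (nat_lit 2102, [nat_lit 3, nat_lit 3, nat_lit 2, nat_lit 1, nat_lit 0]), (nat_lit 2105, [nat_lit 2, nat_lit 0, nat_lit 0, nat_lit 1, nat_lit 2]), (nat_lit 2106, [nat_lit 5, nat_lit 5, nat_lit 1, nat_lit 4, nat_lit 1]), (nat_lit 2107, [nat_lit 1, nat_lit 2, nat_lit 1, nat_lit 0]), (nat_lit 2109, [nat_lit 4, nat_lit 2, nat_lit 2, nat_lit 1, nat_lit 0, nat_lit 1]), (nat_lit 2110, [nat_lit 0, nat_lit 1, nat_lit 1, nat_lit 2, nat_lit 0]), (nat_lit 2111, [nat_lit 2, nat_lit 3, nat_lit 3, nat_lit 0, nat_lit 0]), (nat_lit 2114, [nat_lit 0, nat_lit 1, nat_lit 2, nat_lit 2, nat_lit 1, nat_lit 0]), (nat_lit 2115, [nat_lit 0, nat_lit 5, nat_lit 1, nat_lit 2]), (nat_lit 2116, [nat_lit 5, nat_lit 1, nat_lit 3, nat_lit 1, nat_lit 0, nat_lit 0]), (nat_lit 2117, [nat_lit 0, nat_lit 0, nat_lit 0, nat_lit 0]), (nat_lit 2118, [nat_lit 0, nat_lit 5, nat_lit 2, nat_lit 1, nat_lit 2, nat_lit 0]), (nat_lit 2123, [nat_lit 4, nat_lit 4]), (nat_lit 2124, [nat_lit 1, nat_lit 0, nat_lit 0, nat_lit 0, nat_lit 0]), (nat_lit 2125, [nat_lit 4, nat_lit 4, nat_lit 3, nat_lit 1, nat_lit 3]), (nat_lit 2126, [nat_lit 5, nat_lit 2, nat_lit 0, nat_lit 0]), (nat_lit 2129, [nat_lit 1, nat_lit 4, nat_lit 0]), (nat_lit 2132, [nat_lit 1, nat_lit 0, nat_lit 2, nat_lit 0]), (nat_lit 2136, [nat_lit 0, nat_lit 3, nat_lit 2]), (nat_lit 2137, [nat_lit 2, nat_lit 4, nat_lit 0, nat_lit 4, nat_lit 2, nat_lit 0]), (nat_lit 2138, [nat_lit 4, nat_lit 2, nat_lit 2, nat_lit 1, nat_lit 0, nat_lit 0]), (nat_lit 2139, [nat_lit 1, nat_lit 4, nat_lit 4]), (nat_lit 2140, [nat_lit 6, nat_lit 5, nat_lit 0, nat_lit 4]), (nat_lit 2142, [nat_lit 0, nat_lit 4, nat_lit 0, nat_lit 3, nat_lit 0]), (nat_lit 2143, [nat_lit 5, nat_lit 1, nat_lit 0, nat_lit 2, nat_lit 1]), (nat_lit 2144, [nat_lit 0, nat_lit 0, nat_lit 2, nat_lit 1, nat_lit 2]), (nat_lit 2145, [nat_lit 5, nat_lit 4, nat_lit 2, nat_lit 2, nat_lit 1]), (nat_lit 2146, [nat_lit 5, nat_lit 4, nat_lit 1, nat_lit 4]), (nat_lit 2148, [nat_lit 2, nat_lit 4, nat_lit 0, nat_lit 0, nat_lit 2]), (nat_lit 2149, [nat_lit 2, nat_lit 1, nat_lit 1, nat_lit 0, nat_lit 2]), (nat_lit 2151, [nat_lit 0, nat_lit 4, nat_lit 0, nat_lit 2, nat_lit 2]), (nat_lit 2153, [nat_lit 3, nat_lit 1, nat_lit 3, nat_lit 1, nat_lit 0]), (nat_lit 2160, [nat_lit 0, nat_lit 0, nat_lit 2, nat_lit 1, nat_lit 1]), (nat_lit 2170, [nat_lit 1, nat_lit 3, nat_lit 3, nat_lit 1, nat_lit 0]), (nat_lit 2171, [nat_lit 5, nat_lit 1, nat_lit 0, nat_lit 5]), (nat_lit 2172, [nat_lit 5, nat_lit 0, nat_lit 1, nat_lit 0, nat_lit 0, nat_lit 0]), (nat_lit 2173, [nat_lit 0, nat_lit 4, nat_lit 4, nat_lit 2]), (nat_lit 2175, [nat_lit 1, nat_lit 2, nat_lit 2, nat_lit 0, nat_lit 1]), (nat_lit 2176, [nat_lit 6, nat_lit 0, nat_lit 0, nat_lit 1]), (nat_lit 2178, [nat_lit 6, nat_lit 6, nat_lit 5, nat_lit 5, nat_lit 1, nat_lit 1]), (nat_lit 2181, [nat_lit 5, nat_lit 2, nat_lit 4, nat_lit 0, nat_lit 0]), (nat_lit 2186, [nat_lit 2, nat_lit 4, nat_lit 2, nat_lit 1, nat_lit 0, nat_lit 0]), (nat_lit 2189, [nat_lit 1, nat_lit 0, nat_lit 0, nat_lit 2, nat_lit 4]), (nat_lit 2190, [nat_lit 5, nat_lit 1, nat_lit 2]), (nat_lit 2192, [nat_lit 5, nat_lit 2, nat_lit 1, nat_lit 0, nat_lit 2, nat_lit 0]), (nat_lit 2194, [nat_lit 2, nat_lit 1, nat_lit 0, nat_lit 2, nat_lit 1, nat_lit 0]), (nat_lit 2196, [nat_lit 2, nat_lit 0, nat_lit 5, nat_lit 1, nat_lit 1]), (nat_lit 2197, [nat_lit 0, nat_lit 2, nat_lit 0, nat_lit 4]), (nat_lit 2200, [nat_lit 5, nat_lit 4, nat_lit 0]), (nat_lit 2201, [nat_lit 0, nat_lit 0, nat_lit 2, nat_lit 2, nat_lit 1]), (nat_lit 2203, [nat_lit 2, nat_lit 4, nat_lit 0, nat_lit 1, nat_lit 0, nat_lit 1]), (nat_lit 2204, [nat_lit 1, nat_lit 0, nat_lit 5, nat_lit 2, nat_lit 2, nat_lit 0]), (nat_lit 2208, [nat_lit 0, nat_lit 3, nat_lit 2, nat_lit 0, nat_lit 2]), (nat_lit 2209, [nat_lit 1, nat_lit 4]), (nat_lit 2210, [nat_lit 2, nat_lit 2, nat_lit 0, nat_lit 2, nat_lit 1]), (nat_lit 2211, [nat_lit 1, nat_lit 4, nat_lit 0, nat_lit 1]), (nat_lit 2214, [nat_lit 3, nat_lit 0, nat_lit 2, nat_lit 1, nat_lit 0]), (nat_lit 2215, [nat_lit 2, nat_lit 1, nat_lit 0, nat_lit 4]), (nat_lit 2216, [nat_lit 2, nat_lit 1, nat_lit 0, nat_lit 0, nat_lit 2]), (nat_lit 2217, [nat_lit 5, nat_lit 5, nat_lit 4, nat_lit 2, nat_lit 0]), (nat_lit 2219, [nat_lit 2, nat_lit 0, nat_lit 2, nat_lit 4, nat_lit 0]), (nat_lit 2222, [nat_lit 5, nat_lit 3, nat_lit 0, nat_lit 2, nat_lit 1, nat_lit 1]), (nat_lit 2223, [nat_lit 0, nat_lit 1, nat_lit 2, nat_lit 1]), (nat_lit 2225, [nat_lit 0, nat_lit 5, nat_lit 0, nat_lit 0, nat_lit 0]), (nat_lit 2226, [nat_lit 5, nat_lit 1, nat_lit 4]), (nat_lit 2227, [nat_lit 1, nat_lit 3, nat_lit 1, nat_lit 0]), (nat_lit 2228, [nat_lit 3, nat_lit 0, nat_lit 3, nat_lit 1]), (nat_lit 2229, [nat_lit 5, nat_lit 0, nat_lit 5, nat_lit 1]), (nat_lit 2230, [nat_lit 0, nat_lit 0, nat_lit 3, nat_lit 2, nat_lit 1]), (nat_lit 2231, [nat_lit 3, nat_lit 0, nat_lit 2]), (nat_lit 2232, [nat_lit 0, nat_lit 5, nat_lit 4]), (nat_lit 2234, [nat_lit 5, nat_lit 5, nat_lit 0, nat_lit 3, nat_lit 1]), (nat_lit 2235, [nat_lit 2, nat_lit 2, nat_lit 0, nat_lit 1, nat_lit 2]), (nat_lit 2236, [nat_lit 1, nat_lit 1, nat_lit 0]), (nat_lit 2237, [nat_lit 2, nat_lit 2, nat_lit 1, nat_lit 1]), (nat_lit 2238, [nat_lit 0, nat_lit 4, nat_lit 4, nat_lit 3, nat_lit 0]), (nat_lit 2239, [nat_lit 4, nat_lit 0, nat_lit 0, nat_lit 2, nat_lit 1, nat_lit 2]), (nat_lit 2240, [nat_lit 0, nat_lit 4, nat_lit 2, nat_lit 0, nat_lit 1]), (nat_lit 2241, [nat_lit 4, nat_lit 4, nat_lit 2, nat_lit 1, nat_lit 0]), (nat_lit 2243, [nat_lit 0, nat_lit 4, nat_lit 2]), (nat_lit 2245, [nat_lit 5, nat_lit 3, nat_lit 0, nat_lit 3]), (nat_lit 2246, [nat_lit 2, nat_lit 2, nat_lit 0, nat_lit 1, nat_lit 0]), (nat_lit 2248, [nat_lit 0, nat_lit 5, nat_lit 4, nat_lit 2, nat_lit 0]), (nat_lit 2250, [nat_lit 0, nat_lit 4, nat_lit 4]), (nat_lit 2251, [nat_lit 1, nat_lit 0, nat_lit 0, nat_lit 4, nat_lit 2]), (nat_lit 2255, [nat_lit 6]), (nat_lit 2257, [nat_lit 5, nat_lit 5, nat_lit 4, nat_lit 3, nat_lit 1, nat_lit 1]), (nat_lit 2259, [nat_lit 3, nat_lit 2, nat_lit 2, nat_lit 1, nat_lit 0, nat_lit 1]), (nat_lit 2262, [nat_lit 0, nat_lit 4, nat_lit 2, nat_lit 4, nat_lit 2]), (nat_lit 2263, [nat_lit 1, nat_lit 3, nat_lit 0, nat_lit 4, nat_lit 3, nat_lit 0]), (nat_lit 2265, [nat_lit 4, nat_lit 1, nat_lit 0]), (nat_lit 2266, [nat_lit 4, nat_lit 1, nat_lit 3, nat_lit 1, nat_lit 0]), (nat_lit 2267, [nat_lit 5, nat_lit 1, nat_lit 2, nat_lit 2, nat_lit 0, nat_lit 1]), (nat_lit 2269, [nat_lit 1, nat_lit 1, nat_lit 2, nat_lit 0, nat_lit 2, nat_lit 0]), (nat_lit 2271, [nat_lit 6, nat_lit 5, nat_lit 1, nat_lit 1, nat_lit 0]), (nat_lit 2272, [nat_lit 4, nat_lit 3, nat_lit 3, nat_lit 1, nat_lit 0, nat_lit 1]), (nat_lit 2274, [nat_lit 3, nat_lit 2, nat_lit 0, nat_lit 1, nat_lit 1, nat_lit 0]), (nat_lit 2277, [nat_lit 2, nat_lit 4, nat_lit 4, nat_lit 1]), (nat_lit 2284, [nat_lit 2, nat_lit 3, nat_lit 0, nat_lit 2, nat_lit 1, nat_lit 1]), (nat_lit 2286, [nat_lit 1, nat_lit 0]), (nat_lit 2287, [nat_lit 2, nat_lit 2, nat_lit 0, nat_lit 5]), (nat_lit 2289, [nat_lit 4, nat_lit 4, nat_lit 3, nat_lit 0]), (nat_lit 2291, [nat_lit 1, nat_lit 3, nat_lit 0, nat_lit 1]), (nat_lit 2292, [nat_lit 3, nat_lit 0, nat_lit 1, nat_lit 0, nat_lit 1]), (nat_lit 2293, [nat_lit 0, nat_lit 2, nat_lit 2, nat_lit 1, nat_lit 1]), (nat_lit 2295, [nat_lit 1, nat_lit 0, nat_lit 0, nat_lit 1, nat_lit 2]), (nat_lit 2296, [nat_lit 3, nat_lit 2, nat_lit 3, nat_lit 2, nat_lit 0, nat_lit 0]), (nat_lit 2298, [nat_lit 0, nat_lit 1, nat_lit 2, nat_lit 0, nat_lit 4]), (nat_lit 2301, [nat_lit 2, nat_lit 3, nat_lit 0, nat_lit 2, nat_lit 1, nat_lit 1, nat_lit 0]), (nat_lit 2302, [nat_lit 2, nat_lit 2, nat_lit 3, nat_lit 1, nat_lit 1, nat_lit 0, nat_lit 0]), (nat_lit 2303, [nat_lit 2, nat_lit 0, nat_lit 1, nat_lit 0, nat_lit 1, nat_lit 2, nat_lit 0]), (nat_lit 2305, [nat_lit 1, nat_lit 0, nat_lit 2, nat_lit 2, nat_lit 4, nat_lit 0]), (nat_lit 2309, [nat_lit 4, nat_lit 1, nat_lit 2, nat_lit 0, nat_lit 0]), (nat_lit 2310, [nat_lit 0, nat_lit 5, nat_lit 5, nat_lit 2, nat_lit 1]), (nat_lit 2311, [nat_lit 4, nat_lit 2, nat_lit 0, nat_lit 0, nat_lit 2]), (nat_lit 2312, [nat_lit 5, nat_lit 2, nat_lit 4, nat_lit 4, nat_lit 2]), (nat_lit 2316, [nat_lit 0, nat_lit 2, nat_lit 4, nat_lit 4]), (nat_lit 2317, [nat_lit 5, nat_lit 1, nat_lit 2, nat_lit 0, nat_lit 2, nat_lit 0]), (nat_lit 2319, [nat_lit 0, nat_lit 0, nat_lit 0, nat_lit 0, nat_lit 1, nat_lit 1]), (nat_lit 2324, [nat_lit 4, nat_lit 0, nat_lit 1, nat_lit 1, nat_lit 0]), (nat_lit 2326, [nat_lit 5, nat_lit 2, nat_lit 1, nat_lit 0, nat_lit 0]), (nat_lit 2328, [nat_lit 1, nat_lit 0, nat_lit 0, nat_lit 0, nat_lit 1, nat_lit 0]), (nat_lit 2329, [nat_lit 4, nat_lit 1, nat_lit 4]), (nat_lit 2331, [nat_lit 4, nat_lit 0, nat_lit 1, nat_lit 1, nat_lit 0, nat_lit 0]), (nat_lit 2335, [nat_lit 1, nat_lit 2, nat_lit 2, nat_lit 0, nat_lit 1, nat_lit 0, nat_lit 0]), (nat_lit 2336, [nat_lit 5, nat_lit 2, nat_lit 2, nat_lit 1, nat_lit 0, nat_lit 1, nat_lit 0]), (nat_lit 2337, [nat_lit 0, nat_lit 0, nat_lit 0]), (nat_lit 2338, [nat_lit 2, nat_lit 4, nat_lit 2, nat_lit 0]), (nat_lit 2340, [nat_lit 1, nat_lit 2, nat_lit 0, nat_lit 4, nat_lit 2]), (nat_lit 2342, [nat_lit 5, nat_lit 2, nat_lit 4, nat_lit 3]), (nat_lit 2343, [nat_lit 4, nat_lit 0, nat_lit 4, nat_lit 3]), (nat_lit 2344, [nat_lit 2, nat_lit 2, nat_lit 0, nat_lit 1]), (nat_lit 2345, [nat_lit 2, nat_lit 0, nat_lit 5, nat_lit 1, nat_lit 0]), (nat_lit 2346, [nat_lit 6, nat_lit 5, nat_lit 2, nat_lit 0]), (nat_lit 2348, [nat_lit 0, nat_lit 2, nat_lit 0, nat_lit 5, nat_lit 2]), (nat_lit 2349, [nat_lit 6, nat_lit 1, nat_lit 0]), (nat_lit 2351, [nat_lit 0, nat_lit 1, nat_lit 2, nat_lit 2, nat_lit 0]), (nat_lit 2352, [nat_lit 0, nat_lit 5, nat_lit 0, nat_lit 0, nat_lit 0, nat_lit 0]), (nat_lit 2354, [nat_lit 1, nat_lit 1, nat_lit 0, nat_lit 2, nat_lit 0]), (nat_lit 2358, [nat_lit 1, nat_lit 1]), (nat_lit 2359, [nat_lit 3, nat_lit 2, nat_lit 3]), (nat_lit 2360, [nat_lit 0, nat_lit 0, nat_lit 2, nat_lit 2, nat_lit 1, nat_lit 1, nat_lit 0]), (nat_lit 2361, [nat_lit 0, nat_lit 4, nat_lit 0, nat_lit 0]), (nat_lit 2362, [nat_lit 0, nat_lit 1, nat_lit 1, nat_lit 0, nat_lit 2, nat_lit 2]), (nat_lit 2363, [nat_lit 4, nat_lit 3, nat_lit 2, nat_lit 2, nat_lit 0]), (nat_lit 2364, [nat_lit 0, nat_lit 5, nat_lit 0, nat_lit 0]), (nat_lit 2366, [nat_lit 6, nat_lit 6, nat_lit 5, nat_lit 4]), (nat_lit 2367, [nat_lit 4, nat_lit 4, nat_lit 1, nat_lit 1]), (nat_lit 2368, [nat_lit 3, nat_lit 3, nat_lit 0, nat_lit 4]), (nat_lit 2370, [nat_lit 5, nat_lit 2, nat_lit 2, nat_lit 4]), (nat_lit 2371, [nat_lit 1, nat_lit 4, nat_lit 0, nat_lit 0]), (nat_lit 2373, [nat_lit 0, nat_lit 0, nat_lit 3]), (nat_lit 2374, [nat_lit 1, nat_lit 1, nat_lit 0, nat_lit 2, nat_lit 2, nat_lit 0, nat_lit 0]), (nat_lit 2376, [nat_lit 5, nat_lit 0, nat_lit 4, nat_lit 2, nat_lit 0]), (nat_lit 2378, [nat_lit 5, nat_lit 5, nat_lit 1]), (nat_lit 2380, [nat_lit 6, nat_lit 5, nat_lit 5, nat_lit 1]), (nat_lit 2381, [nat_lit 4, nat_lit 4, nat_lit 2, nat_lit 3]), (nat_lit 2382, [nat_lit 1, nat_lit 0, nat_lit 0, nat_lit 0, nat_lit 1, nat_lit 0, nat_lit 0]), (nat_lit 2383, [nat_lit 5, nat_lit 1]), (nat_lit 2384, [nat_lit 1, nat_lit 0, nat_lit 0, nat_lit 5, nat_lit 2]), (nat_lit 2387, [nat_lit 4, nat_lit 2, nat_lit 1, nat_lit 1, nat_lit 0]), (nat_lit 2389, [nat_lit 5, nat_lit 5, nat_lit 3, nat_lit 0]), (nat_lit 2390, [nat_lit 5, nat_lit 5, nat_lit 3, nat_lit 1, nat_lit 4]), (nat_lit 2392, [nat_lit 5, nat_lit 5, nat_lit 0, nat_lit 0, nat_lit 2]), (nat_lit 2394, [nat_lit 1, nat_lit 1, nat_lit 4, nat_lit 0]), (nat_lit 2395, [nat_lit 1, nat_lit 3, nat_lit 0, nat_lit 1, nat_lit 0]), (nat_lit 2396, [nat_lit 4, nat_lit 1, nat_lit 3, nat_lit 3, nat_lit 1, nat_lit 0]), (nat_lit 2397, [nat_lit 0, nat_lit 4, nat_lit 2, nat_lit 4, nat_lit 0]), (nat_lit 2400, [nat_lit 4, nat_lit 2, nat_lit 4, nat_lit 1, nat_lit 1]), (nat_lit 2401, [nat_lit 5, nat_lit 5, nat_lit 1, nat_lit 2, nat_lit 2, nat_lit 1]), (nat_lit 2404, [nat_lit 0, nat_lit 0, nat_lit 4, nat_lit 3]), (nat_lit 2405, [nat_lit 4, nat_lit 2, nat_lit 4, nat_lit 1]), (nat_lit 2406, [nat_lit 1, nat_lit 2, nat_lit 2, nat_lit 0, nat_lit 0, nat_lit 2]), (nat_lit 2407, [nat_lit 1, nat_lit 2, nat_lit 0, nat_lit 5, nat_lit 2, nat_lit 1, nat_lit 0]), (nat_lit 2412, [nat_lit 1, nat_lit 0, nat_lit 0, nat_lit 5]), (nat_lit 2417, [nat_lit 0, nat_lit 0, nat_lit 3, nat_lit 1]), (nat_lit 2418, [nat_lit 0, nat_lit 0, nat_lit 0, nat_lit 0, nat_lit 0]), (nat_lit 2419, [nat_lit 0, nat_lit 0, nat_lit 5, nat_lit 4, nat_lit 0]), (nat_lit 2421, [nat_lit 3, nat_lit 0, nat_lit 4, nat_lit 3, nat_lit 0]), (nat_lit 2422, [nat_lit 4, nat_lit 3, nat_lit 0, nat_lit 3, nat_lit 0]), (nat_lit 2424, [nat_lit 0, nat_lit 5, nat_lit 0, nat_lit 2, nat_lit 1, nat_lit 0]), (nat_lit 2425, [nat_lit 1, nat_lit 0, nat_lit 2, nat_lit 0, nat_lit 0]), (nat_lit 2426, [nat_lit 5, nat_lit 4, nat_lit 1, nat_lit 4, nat_lit 1]), (nat_lit 2428, [nat_lit 3, nat_lit 1, nat_lit 2, nat_lit 0, nat_lit 1]), (nat_lit 2429, [nat_lit 5, nat_lit 4, nat_lit 4, nat_lit 1, nat_lit 3, nat_lit 1]), (nat_lit 2433, [nat_lit 2, nat_lit 3, nat_lit 3, nat_lit 0]), (nat_lit 2435, [nat_lit 6, nat_lit 0, nat_lit 1]), (nat_lit 2436, [nat_lit 4, nat_lit 3, nat_lit 2, nat_lit 3, nat_lit 2]), (nat_lit 2438, [nat_lit 2, nat_lit 0, nat_lit 2, nat_lit 2, nat_lit 1, nat_lit 0]), (nat_lit 2439, [nat_lit 0, nat_lit 2, nat_lit 0, nat_lit 5, nat_lit 0]), (nat_lit 2440, [nat_lit 3, nat_lit 1, nat_lit 1, nat_lit 0]), (nat_lit 2441, [nat_lit 1, nat_lit 3, nat_lit 0, nat_lit 0, nat_lit 4]), (nat_lit 2443, [nat_lit 6, nat_lit 6, nat_lit 1, nat_lit 0, nat_lit 0]), (nat_lit 2444, [nat_lit 0, nat_lit 0, nat_lit 2, nat_lit 2, nat_lit 0]), (nat_lit 2445, [nat_lit 1, nat_lit 1, nat_lit 2, nat_lit 0]), (nat_lit 2447, [nat_lit 4, nat_lit 3, nat_lit 0, nat_lit 0]), (nat_lit 2448, [nat_lit 1, nat_lit 3, nat_lit 0, nat_lit 2, nat_lit 1, nat_lit 0]), (nat_lit 2450, [nat_lit 0, nat_lit 5, nat_lit 0, nat_lit 1, nat_lit 0, nat_lit 0]), (nat_lit 2451, [nat_lit 1, nat_lit 3, nat_lit 0]), (nat_lit 2456, [nat_lit 1, nat_lit 4, nat_lit 0, nat_lit 0, nat_lit 0]), (nat_lit 2457, [nat_lit 1, nat_lit 0, nat_lit 2, nat_lit 0, nat_lit 4]), (nat_lit 2458, [nat_lit 1, nat_lit 2, nat_lit 0, nat_lit 4]), (nat_lit 2461, [nat_lit 3, nat_lit 1, nat_lit 2, nat_lit 0, nat_lit 1, nat_lit 0]), (nat_lit 2462, [nat_lit 3, nat_lit 3, nat_lit 2, nat_lit 2, nat_lit 0, nat_lit 1, nat_lit 1]), (nat_lit 2463, [nat_lit 6, nat_lit 2, nat_lit 0, nat_lit 1, nat_lit 0]), (nat_lit 2464, [nat_lit 6, nat_lit 2, nat_lit 4, nat_lit 0, nat_lit 0]), (nat_lit 2465, [nat_lit 3, nat_lit 1, nat_lit 2, nat_lit 0, nat_lit 2, nat_lit 1]), (nat_lit 2468, [nat_lit 0, nat_lit 2, nat_lit 0, nat_lit 4, nat_lit 3]), (nat_lit 2470, [nat_lit 5, nat_lit 1, nat_lit 2, nat_lit 0, nat_lit 2]), (nat_lit 2471, [nat_lit 2, nat_lit 4, nat_lit 3, nat_lit 2, nat_lit 1]), (nat_lit 2475, [nat_lit 0, nat_lit 3, nat_lit 0, nat_lit 2]), (nat_lit 2477, [nat_lit 5, nat_lit 2, nat_lit 1, nat_lit 2, nat_lit 1]), (nat_lit 2479, [nat_lit 0, nat_lit 1, nat_lit 1, nat_lit 0, nat_lit 2]), (nat_lit 2480, [nat_lit 2, nat_lit 4, nat_lit 4, nat_lit 2, nat_lit 1, nat_lit 0, nat_lit 1]), (nat_lit 2481, [nat_lit 5, nat_lit 5, nat_lit 4, nat_lit 4, nat_lit 3, nat_lit 1]), (nat_lit 2482, [nat_lit 2, nat_lit 2, nat_lit 0, nat_lit 1, nat_lit 1]), (nat_lit 2485, [nat_lit 3, nat_lit 0, nat_lit 3, nat_lit 0, nat_lit 1]), (nat_lit 2486, [nat_lit 0, nat_lit 2, nat_lit 0, nat_lit 1, nat_lit 1]), (nat_lit 2487, [nat_lit 1, nat_lit 0, nat_lit 4, nat_lit 0]), (nat_lit 2489, [nat_lit 2, nat_lit 2, nat_lit 0, nat_lit 4, nat_lit 4]), (nat_lit 2490, [nat_lit 5, nat_lit 2, nat_lit 4, nat_lit 4, nat_lit 1]), (nat_lit 2491, [nat_lit 1, nat_lit 0, nat_lit 2, nat_lit 4, nat_lit 3]), (nat_lit 2495, [nat_lit 2, nat_lit 2, nat_lit 4, nat_lit 1, nat_lit 1]), (nat_lit 2496, [nat_lit 0, nat_lit 5, nat_lit 4, nat_lit 3]), (nat_lit 2498, [nat_lit 5, nat_lit 1, nat_lit 3, nat_lit 0]), (nat_lit 2501, [nat_lit 0, nat_lit 0, nat_lit 2, nat_lit 1]), (nat_lit 2502, [nat_lit 6, nat_lit 4, nat_lit 0, nat_lit 0]), (nat_lit 2504, [nat_lit 1, nat_lit 0, nat_lit 4]), (nat_lit 2505, [nat_lit 0, nat_lit 2, nat_lit 0, nat_lit 0, nat_lit 0]), (nat_lit 2506, [nat_lit 4, nat_lit 3, nat_lit 2, nat_lit 0, nat_lit 1]), (nat_lit 2507, [nat_lit 1, nat_lit 0, nat_lit 2, nat_lit 4]), (nat_lit 2508, [nat_lit 2, nat_lit 0, nat_lit 2, nat_lit 2, nat_lit 0]), (nat_lit 2509, [nat_lit 0, nat_lit 3, nat_lit 2, nat_lit 1, nat_lit 1]), (nat_lit 2511, [nat_lit 2, nat_lit 0, nat_lit 0, nat_lit 5, nat_lit 1, nat_lit 0]), (nat_lit 2512, [nat_lit 3, nat_lit 2, nat_lit 3, nat_lit 1, nat_lit 1]), (nat_lit 2513, [nat_lit 1, nat_lit 2, nat_lit 0, nat_lit 1]), (nat_lit 2514, [nat_lit 1, nat_lit 2, nat_lit 0, nat_lit 1, nat_lit 0, nat_lit 2, nat_lit 0]), (nat_lit 2515, [nat_lit 6, nat_lit 6, nat_lit 5, nat_lit 4, nat_lit 4, nat_lit 3]), (nat_lit 2516, [nat_lit 0, nat_lit 2, nat_lit 4, nat_lit 4, nat_lit 2, nat_lit 0]), (nat_lit 2517, [nat_lit 5, nat_lit 0, nat_lit 5, nat_lit 3, nat_lit 1]), (nat_lit 2519, [nat_lit 5, nat_lit 4, nat_lit 3, nat_lit 2, nat_lit 3]), (nat_lit 2520, [nat_lit 4, nat_lit 2, nat_lit 4, nat_lit 3, nat_lit 2, nat_lit 1]), (nat_lit 2521, [nat_lit 6, nat_lit 2, nat_lit 2, nat_lit 0, nat_lit 1, nat_lit 1, nat_lit 0]), (nat_lit 2522, [nat_lit 6, nat_lit 4, nat_lit 1, nat_lit 0, nat_lit 1]), (nat_lit 2523, [nat_lit 5, nat_lit 5, nat_lit 1, nat_lit 4, nat_lit 4, nat_lit 3, nat_lit 1]), (nat_lit 2526, [nat_lit 0, nat_lit 5, nat_lit 1, nat_lit 2, nat_lit 1, nat_lit 0]), (nat_lit 2528, [nat_lit 1, nat_lit 0, nat_lit 0, nat_lit 2, nat_lit 4, nat_lit 0]), (nat_lit 2531, [nat_lit 2, nat_lit 2, nat_lit 0, nat_lit 0, nat_lit 1, nat_lit 0]), (nat_lit 2534, [nat_lit 0, nat_lit 3, nat_lit 0, nat_lit 4, nat_lit 3]), (nat_lit 2535, [nat_lit 1, nat_lit 1, nat_lit 3, nat_lit 0]), (nat_lit 2536, [nat_lit 4, nat_lit 1, nat_lit 4, nat_lit 1]), (nat_lit 2539, [nat_lit 1, nat_lit 1, nat_lit 2, nat_lit 0, nat_lit 4, nat_lit 0, nat_lit 0]), (nat_lit 2540, [nat_lit 2, nat_lit 1, nat_lit 0, nat_lit 0, nat_lit 1]), (nat_lit 2543, [nat_lit 1, nat_lit 0, nat_lit 2, nat_lit 0, nat_lit 2]), (nat_lit 2544, [nat_lit 0, nat_lit 1, nat_lit 0, nat_lit 1, nat_lit 2]), (nat_lit 2545, [nat_lit 2, nat_lit 0, nat_lit 1]), (nat_lit 2546, [nat_lit 6, nat_lit 2, nat_lit 4, nat_lit 0]), (nat_lit 2547, [nat_lit 6, nat_lit 6, nat_lit 2]), (nat_lit 2548, [nat_lit 0, nat_lit 1, nat_lit 1, nat_lit 4]), (nat_lit 2549, [nat_lit 5, nat_lit 2, nat_lit 0, nat_lit 2, nat_lit 0]), (nat_lit 2550, [nat_lit 4, nat_lit 1, nat_lit 0, nat_lit 1, nat_lit 0]), (nat_lit 2551, [nat_lit 0, nat_lit 0, nat_lit 5, nat_lit 1, nat_lit 0, nat_lit 0]), (nat_lit 2552, [nat_lit 2, nat_lit 4, nat_lit 0, nat_lit 4, nat_lit 2]), (nat_lit 2553, [nat_lit 5, nat_lit 0, nat_lit 5, nat_lit 2, nat_lit 2]), (nat_lit 2554, [nat_lit 0, nat_lit 5, nat_lit 2, nat_lit 1, nat_lit 2]), (nat_lit 2555, [nat_lit 2, nat_lit 3, nat_lit 0, nat_lit 0]), (nat_lit 2556, [nat_lit 5, nat_lit 2, nat_lit 1, nat_lit 0, nat_lit 1, nat_lit 0]), (nat_lit 2557, [nat_lit 1, nat_lit 2, nat_lit 0, nat_lit 2, nat_lit 1]), (nat_lit 2559, [nat_lit 1, nat_lit 0, nat_lit 5, nat_lit 2, nat_lit 0]), (nat_lit 2560, [nat_lit 5, nat_lit 5, nat_lit 4, nat_lit 4]), (nat_lit 2562, [nat_lit 2, nat_lit 2, nat_lit 4, nat_lit 1, nat_lit 1, nat_lit 0]), (nat_lit 2563, [nat_lit 4, nat_lit 4, nat_lit 3, nat_lit 2, nat_lit 2]), (nat_lit 2564, [nat_lit 0, nat_lit 4, nat_lit 4, nat_lit 3, nat_lit 3, nat_lit 0]), (nat_lit 2566, [nat_lit 1, nat_lit 0, nat_lit 0, nat_lit 5, nat_lit 1]), (nat_lit 2567, [nat_lit 1, nat_lit 0, nat_lit 4, nat_lit 3, nat_lit 3]), (nat_lit 2568, [nat_lit 4, nat_lit 4, nat_lit 2, nat_lit 1, nat_lit 1]), (nat_lit 2570, [nat_lit 5, nat_lit 4, nat_lit 4, nat_lit 0, nat_lit 0, nat_lit 0]), (nat_lit 2571, [nat_lit 1, nat_lit 1, nat_lit 0, nat_lit 0, nat_lit 5]), (nat_lit 2573, [nat_lit 0, nat_lit 3, nat_lit 1, nat_lit 1, nat_lit 0]), (nat_lit 2574, [nat_lit 6, nat_lit 2, nat_lit 2, nat_lit 0, nat_lit 1, nat_lit 0]), (nat_lit 2575, [nat_lit 4, nat_lit 0, nat_lit 0]), (nat_lit 2577, [nat_lit 1, nat_lit 0, nat_lit 4, nat_lit 2]), (nat_lit 2578, [nat_lit 5, nat_lit 4, nat_lit 4, nat_lit 2, nat_lit 1]), (nat_lit 2580, [nat_lit 5, nat_lit 0, nat_lit 5, nat_lit 2]), (nat_lit 2582, [nat_lit 4, nat_lit 3, nat_lit 1, nat_lit 3, nat_lit 1, nat_lit 0]), (nat_lit 2583, [nat_lit 2, nat_lit 2, nat_lit 1, nat_lit 0, nat_lit 0, nat_lit 1]), (nat_lit 2584, [nat_lit 4, nat_lit 2, nat_lit 4, nat_lit 0, nat_lit 0, nat_lit 0]), (nat_lit 2586, [nat_lit 5, nat_lit 0, nat_lit 2, nat_lit 0, nat_lit 0]), (nat_lit 2587, [nat_lit 1, nat_lit 0, nat_lit 4, nat_lit 3]), (nat_lit 2588, [nat_lit 6, nat_lit 6, nat_lit 5, nat_lit 2]), (nat_lit 2589, [nat_lit 1, nat_lit 0, nat_lit 5, nat_lit 1]), (nat_lit 2591, [nat_lit 0, nat_lit 3, nat_lit 3, nat_lit 0, nat_lit 1, nat_lit 1]), (nat_lit 2592, [nat_lit 1, nat_lit 0, nat_lit 5, nat_lit 3, nat_lit 0]), (nat_lit 2595, [nat_lit 1, nat_lit 0, nat_lit 0, nat_lit 5, nat_lit 1, nat_lit 0]), (nat_lit 2598, [nat_lit 6, nat_lit 1, nat_lit 1]), (nat_lit 2600, [nat_lit 5, nat_lit 3, nat_lit 1, nat_lit 2, nat_lit 0]), (nat_lit 2601, [nat_lit 5, nat_lit 3, nat_lit 0, nat_lit 4, nat_lit 2]), (nat_lit 2605, [nat_lit 2, nat_lit 0, nat_lit 5, nat_lit 5, nat_lit 2]), (nat_lit 2607, [nat_lit 5, nat_lit 5, nat_lit 2, nat_lit 2, nat_lit 1, nat_lit 1]), (nat_lit 2608, [nat_lit 3, nat_lit 3, nat_lit 0, nat_lit 1, nat_lit 0]), (nat_lit 2611, [nat_lit 0, nat_lit 2, nat_lit 2, nat_lit 4, nat_lit 0]), (nat_lit 2612, [nat_lit 0, nat_lit 5, nat_lit 2, nat_lit 0, nat_lit 0]), (nat_lit 2614, [nat_lit 1, nat_lit 0, nat_lit 0, nat_lit 3, nat_lit 2]), (nat_lit 2615, [nat_lit 2, nat_lit 4, nat_lit 3, nat_lit 2, nat_lit 0, nat_lit 0]), (nat_lit 2616, [nat_lit 4, nat_lit 4, nat_lit 2, nat_lit 2, nat_lit 0, nat_lit 0, nat_lit 0]), (nat_lit 2617, [nat_lit 5, nat_lit 2, nat_lit 1]), (nat_lit 2618, [nat_lit 3, nat_lit 2, nat_lit 0, nat_lit 1, nat_lit 0]), (nat_lit 2619, [nat_lit 0, nat_lit 0, nat_lit 4, nat_lit 2, nat_lit 0, nat_lit 1]), (nat_lit 2620, [nat_lit 0, nat_lit 0, nat_lit 5, nat_lit 1, nat_lit 1, nat_lit 0]), (nat_lit 2621, [nat_lit 6, nat_lit 0, nat_lit 0, nat_lit 2, nat_lit 1]), (nat_lit 2624, [nat_lit 5, nat_lit 4, nat_lit 4, nat_lit 1]), (nat_lit 2625, [nat_lit 2, nat_lit 4, nat_lit 0, nat_lit 0, nat_lit 0]), (nat_lit 2626, [nat_lit 6, nat_lit 2, nat_lit 1, nat_lit 0, nat_lit 0]), (nat_lit 2629, [nat_lit 3, nat_lit 2, nat_lit 3, nat_lit 1, nat_lit 0]), (nat_lit 2630, [nat_lit 1, nat_lit 0, nat_lit 5, nat_lit 2, nat_lit 1, nat_lit 2, nat_lit 0]), (nat_lit 2631, [nat_lit 5, nat_lit 2, nat_lit 4]), (nat_lit 2632, [nat_lit 0, nat_lit 0, nat_lit 1, nat_lit 0, nat_lit 1]), (nat_lit 2634, [nat_lit 5, nat_lit 5, nat_lit 0, nat_lit 1]), (nat_lit 2635, [nat_lit 3, nat_lit 1, nat_lit 3, nat_lit 0]), (nat_lit 2637, [nat_lit 4, nat_lit 4, nat_lit 3, nat_lit 0, nat_lit 0]), (nat_lit 2638, [nat_lit 5, nat_lit 4, nat_lit 4, nat_lit 1, nat_lit 3]), (nat_lit 2640, [nat_lit 4, nat_lit 3, nat_lit 3, nat_lit 1, nat_lit 0]), (nat_lit 2642, [nat_lit 6, nat_lit 1, nat_lit 0, nat_lit 1, nat_lit 0]), (nat_lit 2643, [nat_lit 4, nat_lit 2, nat_lit 4, nat_lit 3]), (nat_lit 2644, [nat_lit 5, nat_lit 5, nat_lit 2, nat_lit 4]), (nat_lit 2647, [nat_lit 2, nat_lit 0, nat_lit 0, nat_lit 2]), (nat_lit 2649, [nat_lit 4, nat_lit 4, nat_lit 2, nat_lit 0]), (nat_lit 2650, [nat_lit 6, nat_lit 2, nat_lit 4, nat_lit 0, nat_lit 1, nat_lit 1]), (nat_lit 2651, [nat_lit 5, nat_lit 2, nat_lit 1, nat_lit 1, nat_lit 0, nat_lit 0, nat_lit 0]), (nat_lit 2652, [nat_lit 5, nat_lit 2, nat_lit 4, nat_lit 3, nat_lit 1]), (nat_lit 2654, [nat_lit 3, nat_lit 2, nat_lit 0, nat_lit 1, nat_lit 1]), (nat_lit 2656, [nat_lit 2, nat_lit 1, nat_lit 0, nat_lit 1, nat_lit 0, nat_lit 2, nat_lit 0]), (nat_lit 2658, [nat_lit 6, nat_lit 2, nat_lit 0]), (nat_lit 2659, [nat_lit 3, nat_lit 0, nat_lit 4, nat_lit 4, nat_lit 3]), (nat_lit 2660, [nat_lit 5, nat_lit 0, nat_lit 3, nat_lit 1]), (nat_lit 2661, [nat_lit 0, nat_lit 1, nat_lit 0, nat_lit 2, nat_lit 1]), (nat_lit 2663, [nat_lit 3, nat_lit 2, nat_lit 1, nat_lit 1, nat_lit 0]), (nat_lit 2664, [nat_lit 2, nat_lit 2, nat_lit 1, nat_lit 0, nat_lit 0, nat_lit 0]), (nat_lit 2665, [nat_lit 5, nat_lit 5, nat_lit 0, nat_lit 2]), (nat_lit 2666, [nat_lit 1, nat_lit 0, nat_lit 5, nat_lit 3, nat_lit 2]), (nat_lit 2667, [nat_lit 5, nat_lit 5, nat_lit 3, nat_lit 0, nat_lit 1]), (nat_lit 2669, [nat_lit 3, nat_lit 1, nat_lit 2, nat_lit 0, nat_lit 2, nat_lit 0]), (nat_lit 2672, [nat_lit 5, nat_lit 2, nat_lit 1, nat_lit 0, nat_lit 1]), (nat_lit 2673, [nat_lit 3, nat_lit 2, nat_lit 2, nat_lit 1, nat_lit 1]), (nat_lit 2675, [nat_lit 6, nat_lit 6, nat_lit 2, nat_lit 2, nat_lit 0, nat_lit 1]), (nat_lit 2676, [nat_lit 3, nat_lit 1]), (nat_lit 2677, [nat_lit 1, nat_lit 2, nat_lit 0, nat_lit 5, nat_lit 0, nat_lit 0]), (nat_lit 2679, [nat_lit 6, nat_lit 2, nat_lit 1]), (nat_lit 2680, [nat_lit 5, nat_lit 5, nat_lit 1, nat_lit 1]), (nat_lit 2682, [nat_lit 3, nat_lit 3, nat_lit 2, nat_lit 2]), (nat_lit 2683, [nat_lit 2, nat_lit 0, nat_lit 1, nat_lit 0, nat_lit 1]), (nat_lit 2684, [nat_lit 5, nat_lit 2, nat_lit 4, nat_lit 4, nat_lit 1, nat_lit 1]), (nat_lit 2688, [nat_lit 1, nat_lit 4, nat_lit 4, nat_lit 3, nat_lit 1]), (nat_lit 2689, [nat_lit 5, nat_lit 1, nat_lit 1, nat_lit 2, nat_lit 0, nat_lit 2]), (nat_lit 2690, [nat_lit 6, nat_lit 5, nat_lit 1]), (nat_lit 2691, [nat_lit 5, nat_lit 5, nat_lit 4, nat_lit 1, nat_lit 1]), (nat_lit 2694, [nat_lit 1, nat_lit 0, nat_lit 0, nat_lit 2]), (nat_lit 2696, [nat_lit 5, nat_lit 5, nat_lit 2, nat_lit 2, nat_lit 4]), (nat_lit 2697, [nat_lit 0, nat_lit 5, nat_lit 3, nat_lit 2, nat_lit 1, nat_lit 1]), (nat_lit 2699, [nat_lit 2, nat_lit 2, nat_lit 3, nat_lit 0, nat_lit 0]), (nat_lit 2700, [nat_lit 0, nat_lit 2, nat_lit 0, nat_lit 2]), (nat_lit 2701, [nat_lit 4, nat_lit 0, nat_lit 2, nat_lit 2, nat_lit 1]), (nat_lit 2702, [nat_lit 2, nat_lit 3, nat_lit 1, nat_lit 0, nat_lit 0]), (nat_lit 2704, [nat_lit 5, nat_lit 4, nat_lit 2, nat_lit 3, nat_lit 1, nat_lit 1]), (nat_lit 2705, [nat_lit 4, nat_lit 3, nat_lit 3, nat_lit 2]), (nat_lit 2707, [nat_lit 0, nat_lit 4, nat_lit 2, nat_lit 2, nat_lit 0]), (nat_lit 2709, [nat_lit 0, nat_lit 3, nat_lit 3]), (nat_lit 2710, [nat_lit 2, nat_lit 0, nat_lit 1, nat_lit 0, nat_lit 5]), (nat_lit 2712, [nat_lit 3, nat_lit 0, nat_lit 4, nat_lit 2, nat_lit 2, nat_lit 0]), (nat_lit 2714, [nat_lit 6, nat_lit 4, nat_lit 0, nat_lit 4]), (nat_lit 2715, [nat_lit 3, nat_lit 3, nat_lit 1]), (nat_lit 2716, [nat_lit 5, nat_lit 1, nat_lit 2, nat_lit 0]), (nat_lit 2720, [nat_lit 6, nat_lit 5, nat_lit 5, nat_lit 2, nat_lit 1]), (nat_lit 2723, [nat_lit 3, nat_lit 1, nat_lit 2, nat_lit 0, nat_lit 2, nat_lit 0, nat_lit 0]), (nat_lit 2725, [nat_lit 4, nat_lit 3, nat_lit 3, nat_lit 2, nat_lit 0, nat_lit 1]), (nat_lit 2730, [nat_lit 1, nat_lit 1, nat_lit 0, nat_lit 2, nat_lit 2, nat_lit 0]), (nat_lit 2734, [nat_lit 6, nat_lit 5, nat_lit 5, nat_lit 2, nat_lit 2]), (nat_lit 2735, [nat_lit 2, nat_lit 0, nat_lit 1, nat_lit 1, nat_lit 0, nat_lit 0, nat_lit 2]), (nat_lit 2736, [nat_lit 0, nat_lit 1, nat_lit 2, nat_lit 0, nat_lit 2]), (nat_lit 2737, [nat_lit 4, nat_lit 4, nat_lit 2, nat_lit 0, nat_lit 0]), (nat_lit 2738, [nat_lit 0, nat_lit 0, nat_lit 2, nat_lit 4, nat_lit 0]), (nat_lit 2739, [nat_lit 0, nat_lit 0, nat_lit 5, nat_lit 2]), (nat_lit 2740, [nat_lit 3, nat_lit 1, nat_lit 0, nat_lit 0, nat_lit 2]), (nat_lit 2741, [nat_lit 2, nat_lit 4, nat_lit 2, nat_lit 1, nat_lit 1]), (nat_lit 2743, [nat_lit 1, nat_lit 4, nat_lit 0, nat_lit 1, nat_lit 0]), (nat_lit 2744, [nat_lit 3, nat_lit 1, nat_lit 2, nat_lit 1, nat_lit 0]), (nat_lit 2746, [nat_lit 5, nat_lit 3, nat_lit 1, nat_lit 4]), (nat_lit 2748, [nat_lit 2, nat_lit 0, nat_lit 4, nat_lit 0, nat_lit 0]), (nat_lit 2749, [nat_lit 5, nat_lit 2, nat_lit 2, nat_lit 0]), (nat_lit 2751, [nat_lit 4, nat_lit 3, nat_lit 0, nat_lit 0, nat_lit 2]), (nat_lit 2754, [nat_lit 1, nat_lit 0, nat_lit 5, nat_lit 0]), (nat_lit 2755, [nat_lit 5, nat_lit 3, nat_lit 0, nat_lit 3, nat_lit 0]), (nat_lit 2756, [nat_lit 0, nat_lit 2, nat_lit 4, nat_lit 0, nat_lit 1, nat_lit 1]), (nat_lit 2757, [nat_lit 2, nat_lit 4, nat_lit 4, nat_lit 0, nat_lit 0]), (nat_lit 2759, [nat_lit 0, nat_lit 4, nat_lit 4, nat_lit 3, nat_lit 2]), (nat_lit 2760, [nat_lit 5, nat_lit 0, nat_lit 2, nat_lit 1, nat_lit 1]), (nat_lit 2763, [nat_lit 2, nat_lit 0, nat_lit 0, nat_lit 5, nat_lit 0]), (nat_lit 2764, [nat_lit 5, nat_lit 3, nat_lit 2, nat_lit 3]), (nat_lit 2765, [nat_lit 1, nat_lit 0, nat_lit 0, nat_lit 2, nat_lit 1]), (nat_lit 2766, [nat_lit 2, nat_lit 1, nat_lit 2, nat_lit 0, nat_lit 1]), (nat_lit 2767, [nat_lit 6, nat_lit 0, nat_lit 1, nat_lit 0, nat_lit 2]), (nat_lit 2769, [nat_lit 1, nat_lit 2, nat_lit 0, nat_lit 0, nat_lit 2, nat_lit 1]), (nat_lit 2771, [nat_lit 2, nat_lit 3, nat_lit 2, nat_lit 1, nat_lit 0, nat_lit 1]), (nat_lit 2772, [nat_lit 0, nat_lit 1, nat_lit 1, nat_lit 0]), (nat_lit 2773, [nat_lit 3, nat_lit 2, nat_lit 1, nat_lit 0]), (nat_lit 2774, [nat_lit 1, nat_lit 0, nat_lit 2, nat_lit 0, nat_lit 1, nat_lit 2, nat_lit 0]), (nat_lit 2775, [nat_lit 5, nat_lit 0, nat_lit 2, nat_lit 2, nat_lit 1, nat_lit 1]), (nat_lit 2776, [nat_lit 1, nat_lit 0, nat_lit 0, nat_lit 2, nat_lit 1, nat_lit 0]), (nat_lit 2777, [nat_lit 2, nat_lit 1, nat_lit 0, nat_lit 4, nat_lit 0, nat_lit 1, nat_lit 0]), (nat_lit 2778, [nat_lit 5, nat_lit 5, nat_lit 2]), (nat_lit 2779, [nat_lit 4, nat_lit 3, nat_lit 2, nat_lit 2, nat_lit 1]), (nat_lit 2781, [nat_lit 5, nat_lit 4, nat_lit 2, nat_lit 0]), (nat_lit 2782, [nat_lit 3, nat_lit 1, nat_lit 3]), (nat_lit 2784, [nat_lit 1, nat_lit 2, nat_lit 0, nat_lit 2, nat_lit 0, nat_lit 0]), (nat_lit 2785, [nat_lit 4, nat_lit 3, nat_lit 0, nat_lit 3, nat_lit 1, nat_lit 0]), (nat_lit 2786, [nat_lit 4, nat_lit 0, nat_lit 1, nat_lit 0, nat_lit 2, nat_lit 0]), (nat_lit 2787, [nat_lit 3, nat_lit 2, nat_lit 0, nat_lit 2, nat_lit 1]), (nat_lit 2788, [nat_lit 6, nat_lit 2, nat_lit 2]), (nat_lit 2789, [nat_lit 0, nat_lit 5, nat_lit 3, nat_lit 2, nat_lit 1]), (nat_lit 2790, [nat_lit 6, nat_lit 0, nat_lit 1, nat_lit 0, nat_lit 2, nat_lit 1]), (nat_lit 2791, [nat_lit 3, nat_lit 0, nat_lit 4, nat_lit 4, nat_lit 2]), (nat_lit 2792, [nat_lit 5, nat_lit 2, nat_lit 2, nat_lit 3]), (nat_lit 2793, [nat_lit 6, nat_lit 5, nat_lit 1, nat_lit 0]), (nat_lit 2794, [nat_lit 5, nat_lit 1, nat_lit 1, nat_lit 0, nat_lit 0, nat_lit 0]), (nat_lit 2795, [nat_lit 3, nat_lit 0, nat_lit 2, nat_lit 0]), (nat_lit 2799, [nat_lit 0, nat_lit 5, nat_lit 2, nat_lit 0, nat_lit 1]), (nat_lit 2800, [nat_lit 5, nat_lit 5, nat_lit 3, nat_lit 1, nat_lit 1]), (nat_lit 2802, [nat_lit 0, nat_lit 2, nat_lit 2, nat_lit 1]), (nat_lit 2803, [nat_lit 2, nat_lit 0, nat_lit 5, nat_lit 4, nat_lit 2]), (nat_lit 2805, [nat_lit 3, nat_lit 0, nat_lit 2, nat_lit 0, nat_lit 0]), (nat_lit 2808, [nat_lit 1, nat_lit 1, nat_lit 2, nat_lit 0, nat_lit 2, nat_lit 0, nat_lit 0]), (nat_lit 2810, [nat_lit 2, nat_lit 4, nat_lit 3, nat_lit 0, nat_lit 1]), (nat_lit 2811, [nat_lit 6, nat_lit 5, nat_lit 5, nat_lit 4]), (nat_lit 2812, [nat_lit 4, nat_lit 3, nat_lit 0, nat_lit 1, nat_lit 1, nat_lit 0]), (nat_lit 2813, [nat_lit 5, nat_lit 4, nat_lit 3]), (nat_lit 2814, [nat_lit 0, nat_lit 4, nat_lit 2, nat_lit 4, nat_lit 3]), (nat_lit 2816, [nat_lit 2, nat_lit 3, nat_lit 3, nat_lit 1, nat_lit 1, nat_lit 0]), (nat_lit 2817, [nat_lit 0, nat_lit 0, nat_lit 1, nat_lit 0]), (nat_lit 2818, [nat_lit 2, nat_lit 4, nat_lit 1, nat_lit 1, nat_lit 0]), (nat_lit 2819, [nat_lit 5, nat_lit 4, nat_lit 1, nat_lit 2, nat_lit 0]), (nat_lit 2821, [nat_lit 2, nat_lit 4, nat_lit 2, nat_lit 1, nat_lit 0]), (nat_lit 2822, [nat_lit 1, nat_lit 0, nat_lit 4, nat_lit 2, nat_lit 1]), (nat_lit 2824, [nat_lit 5, nat_lit 5, nat_lit 1, nat_lit 4, nat_lit 4, nat_lit 1]), (nat_lit 2825, [nat_lit 2, nat_lit 4, nat_lit 3, nat_lit 0, nat_lit 0, nat_lit 2]), (nat_lit 2828, [nat_lit 2, nat_lit 0, nat_lit 1, nat_lit 2, nat_lit 1, nat_lit 0]), (nat_lit 2830, [nat_lit 6, nat_lit 5, nat_lit 2, nat_lit 1]), (nat_lit 2831, [nat_lit 2, nat_lit 2, nat_lit 3, nat_lit 1, nat_lit 0, nat_lit 1]), (nat_lit 2832, [nat_lit 5, nat_lit 2, nat_lit 2, nat_lit 1, nat_lit 0]), (nat_lit 2833, [nat_lit 1, nat_lit 0, nat_lit 2, nat_lit 2]), (nat_lit 2834, [nat_lit 4, nat_lit 2, nat_lit 3, nat_lit 0, nat_lit 0]), (nat_lit 2835, [nat_lit 4, nat_lit 3, nat_lit 2, nat_lit 1]), (nat_lit 2836, [nat_lit 4, nat_lit 0, nat_lit 2, nat_lit 1, nat_lit 0]), (nat_lit 2839, [nat_lit 1, nat_lit 0, nat_lit 2, nat_lit 2, nat_lit 4, nat_lit 1, nat_lit 0]), (nat_lit 2841, [nat_lit 4, nat_lit 3, nat_lit 2, nat_lit 0, nat_lit 0, nat_lit 2]), (nat_lit 2843, [nat_lit 4, nat_lit 0, nat_lit 3, nat_lit 1]), (nat_lit 2845, [nat_lit 0, nat_lit 5, nat_lit 1, nat_lit 0, nat_lit 2]), (nat_lit 2846, [nat_lit 4, nat_lit 0, nat_lit 0, nat_lit 3, nat_lit 2]), (nat_lit 2847, [nat_lit 4, nat_lit 2, nat_lit 1, nat_lit 0, nat_lit 1, nat_lit 0]), (nat_lit 2848, [nat_lit 1, nat_lit 0, nat_lit 4, nat_lit 2, nat_lit 0]), (nat_lit 2850, [nat_lit 0, nat_lit 2, nat_lit 2, nat_lit 0]), (nat_lit 2851, [nat_lit 4, nat_lit 0, nat_lit 0, nat_lit 2]), (nat_lit 2852, [nat_lit 0, nat_lit 2, nat_lit 4, nat_lit 2, nat_lit 0, nat_lit 1]), (nat_lit 2853, [nat_lit 5, nat_lit 2, nat_lit 2, nat_lit 0, nat_lit 0, nat_lit 0]), (nat_lit 2854, [nat_lit 0, nat_lit 2, nat_lit 1]), (nat_lit 2855, [nat_lit 0, nat_lit 2, nat_lit 4, nat_lit 2, nat_lit 0]), (nat_lit 2856, [nat_lit 6, nat_lit 0, nat_lit 0, nat_lit 0]), (nat_lit 2857, [nat_lit 4, nat_lit 4, nat_lit 3, nat_lit 0, nat_lit 1]), (nat_lit 2858, [nat_lit 3, nat_lit 1, nat_lit 3, nat_lit 0, nat_lit 0]), (nat_lit 2860, [nat_lit 5, nat_lit 5, nat_lit 0, nat_lit 1, nat_lit 0, nat_lit 0]), (nat_lit 2862, [nat_lit 4, nat_lit 3, nat_lit 3, nat_lit 0]), (nat_lit 2863, [nat_lit 0, nat_lit 1, nat_lit 0, nat_lit 1]), (nat_lit 2864, [nat_lit 0, nat_lit 5, nat_lit 0]), (nat_lit 2865, [nat_lit 2, nat_lit 4, nat_lit 4]), (nat_lit 2866, [nat_lit 2, nat_lit 4, nat_lit 3, nat_lit 1]), (nat_lit 2869, [nat_lit 3, nat_lit 2, nat_lit 2, nat_lit 1, nat_lit 0]), (nat_lit 2870, [nat_lit 6, nat_lit 6, nat_lit 0, nat_lit 1, nat_lit 0]), (nat_lit 2871, [nat_lit 0, nat_lit 1, nat_lit 2, nat_lit 0]), (nat_lit 2872, [nat_lit 5, nat_lit 2, nat_lit 2, nat_lit 0, nat_lit 2]), (nat_lit 2874, [nat_lit 0, nat_lit 1, nat_lit 0, nat_lit 0, nat_lit 0, nat_lit 1, nat_lit 0]), (nat_lit 2875, [nat_lit 2, nat_lit 0]), (nat_lit 2877, [nat_lit 4, nat_lit 2, nat_lit 0, nat_lit 1, nat_lit 0, nat_lit 2, nat_lit 0]), (nat_lit 2879, [nat_lit 0, nat_lit 0, nat_lit 0, nat_lit 0, nat_lit 1]), (nat_lit 2880, [nat_lit 0, nat_lit 5, nat_lit 3, nat_lit 0]), (nat_lit 2881, [nat_lit 5, nat_lit 0, nat_lit 5, nat_lit 0]), (nat_lit 2882, [nat_lit 0, nat_lit 4, nat_lit 3, nat_lit 3, nat_lit 0]), (nat_lit 2883, [nat_lit 4, nat_lit 2, nat_lit 0]), (nat_lit 2884, [nat_lit 0, nat_lit 3, nat_lit 1, nat_lit 2]), (nat_lit 2885, [nat_lit 3, nat_lit 3, nat_lit 2, nat_lit 0, nat_lit 1]), (nat_lit 2888, [nat_lit 4, nat_lit 0, nat_lit 4, nat_lit 3, nat_lit 3]), (nat_lit 2889, [nat_lit 5, nat_lit 0, nat_lit 5, nat_lit 0, nat_lit 2]), (nat_lit 2890, [nat_lit 0, nat_lit 0, nat_lit 1, nat_lit 2, nat_lit 2, nat_lit 1]), (nat_lit 2891, [nat_lit 4, nat_lit 3, nat_lit 1, nat_lit 3, nat_lit 1]), (nat_lit 2892, [nat_lit 6, nat_lit 4, nat_lit 4, nat_lit 0, nat_lit 1]), (nat_lit 2896, [nat_lit 0, nat_lit 5, nat_lit 3]), (nat_lit 2897, [nat_lit 3, nat_lit 0, nat_lit 1]), (nat_lit 2898, [nat_lit 5, nat_lit 5, nat_lit 2, nat_lit 3, nat_lit 1, nat_lit 1]), (nat_lit 2899, [nat_lit 4, nat_lit 0, nat_lit 4]), (nat_lit 2900, [nat_lit 0, nat_lit 2, nat_lit 2, nat_lit 1, nat_lit 1, nat_lit 0]), (nat_lit 2902, [nat_lit 5, nat_lit 5, nat_lit 0, nat_lit 0]), (nat_lit 2903, [nat_lit 2, nat_lit 0, nat_lit 5, nat_lit 0]), (nat_lit 2904, [nat_lit 1, nat_lit 3, nat_lit 3, nat_lit 0, nat_lit 1, nat_lit 0]), (nat_lit 2905, [nat_lit 2, nat_lit 0, nat_lit 4, nat_lit 2, nat_lit 0, nat_lit 1]), (nat_lit 2908, [nat_lit 3, nat_lit 1, nat_lit 3, nat_lit 1]), (nat_lit 2909, [nat_lit 5, nat_lit 1, nat_lit 2, nat_lit 2]), (nat_lit 2910, [nat_lit 3, nat_lit 1, nat_lit 2, nat_lit 1, nat_lit 0, nat_lit 2, nat_lit 0]), (nat_lit 2911, [nat_lit 1, nat_lit 1, nat_lit 2, nat_lit 0, nat_lit 4, nat_lit 0]), (nat_lit 2913, [nat_lit 3, nat_lit 1, nat_lit 3, nat_lit 0, nat_lit 1]), (nat_lit 2914, [nat_lit 5, nat_lit 2, nat_lit 0, nat_lit 2, nat_lit 1]), (nat_lit 2915, [nat_lit 2, nat_lit 1, nat_lit 2, nat_lit 0, nat_lit 4]), (nat_lit 2916, [nat_lit 2, nat_lit 1, nat_lit 2, nat_lit 0, nat_lit 4, nat_lit 0, nat_lit 0]), (nat_lit 2917, [nat_lit 0, nat_lit 4, nat_lit 3, nat_lit 0, nat_lit 1]), (nat_lit 2918, [nat_lit 2, nat_lit 4, nat_lit 4, nat_lit 2, nat_lit 0, nat_lit 0, nat_lit 0]), (nat_lit 2919, [nat_lit 0, nat_lit 3, nat_lit 3, nat_lit 1, nat_lit 0]), (nat_lit 2920, [nat_lit 6, nat_lit 6, nat_lit 2, nat_lit 0, nat_lit 2, nat_lit 0]), (nat_lit 2923, [nat_lit 4, nat_lit 3, nat_lit 2, nat_lit 3, nat_lit 2, nat_lit 1]), (nat_lit 2924, [nat_lit 5, nat_lit 2, nat_lit 0, nat_lit 4, nat_lit 2]), (nat_lit 2925, [nat_lit 2, nat_lit 1, nat_lit 2, nat_lit 0, nat_lit 1, nat_lit 0, nat_lit 0]), (nat_lit 2926, [nat_lit 4, nat_lit 2, nat_lit 4, nat_lit 2, nat_lit 0, nat_lit 0]), (nat_lit 2927, [nat_lit 0, nat_lit 2, nat_lit 4, nat_lit 2, nat_lit 1, nat_lit 0]), (nat_lit 2928, [nat_lit 0, nat_lit 2, nat_lit 1, nat_lit 0, nat_lit 2]), (nat_lit 2929, [nat_lit 1, nat_lit 3, nat_lit 0, nat_lit 4]), (nat_lit 2930, [nat_lit 1, nat_lit 2, nat_lit 0, nat_lit 1, nat_lit 2, nat_lit 0]), (nat_lit 2932, [nat_lit 5, nat_lit 2, nat_lit 0, nat_lit 2, nat_lit 0, nat_lit 0]), (nat_lit 2935, [nat_lit 4, nat_lit 3, nat_lit 1, nat_lit 0]), (nat_lit 2937, [nat_lit 2, nat_lit 2, nat_lit 3, nat_lit 0, nat_lit 1, nat_lit 1]), (nat_lit 2939, [nat_lit 5, nat_lit 1, nat_lit 4, nat_lit 4]), (nat_lit 2945, [nat_lit 4, nat_lit 2, nat_lit 4]), (nat_lit 2946, [nat_lit 3, nat_lit 1, nat_lit 4, nat_lit 0, nat_lit 1]), (nat_lit 2948, [nat_lit 5, nat_lit 4, nat_lit 4, nat_lit 2]), (nat_lit 2952, [nat_lit 0, nat_lit 3, nat_lit 3, nat_lit 0]), (nat_lit 2953, [nat_lit 0, nat_lit 0, nat_lit 0, nat_lit 1, nat_lit 1]), (nat_lit 2954, [nat_lit 2, nat_lit 2, nat_lit 0, nat_lit 5, nat_lit 4]), (nat_lit 2955, [nat_lit 1, nat_lit 3, nat_lit 0, nat_lit 2, nat_lit 0, nat_lit 0]), (nat_lit 2956, [nat_lit 6, nat_lit 0, nat_lit 2, nat_lit 2]), (nat_lit 2957, [nat_lit 0, nat_lit 0, nat_lit 1, nat_lit 2, nat_lit 0]), (nat_lit 2963, [nat_lit 0, nat_lit 2, nat_lit 2, nat_lit 0, nat_lit 2]), (nat_lit 2966, [nat_lit 5, nat_lit 2, nat_lit 1, nat_lit 1, nat_lit 0, nat_lit 2]), (nat_lit 2967, [nat_lit 4, nat_lit 2, nat_lit 3, nat_lit 3]), (nat_lit 2968, [nat_lit 2, nat_lit 3, nat_lit 2, nat_lit 0, nat_lit 1]), (nat_lit 2969, [nat_lit 1, nat_lit 0, nat_lit 4, nat_lit 2, nat_lit 1, nat_lit 0]), (nat_lit 2970, [nat_lit 5, nat_lit 2, nat_lit 2, nat_lit 0, nat_lit 5, nat_lit 1]), (nat_lit 2973, [nat_lit 5, nat_lit 2, nat_lit 2, nat_lit 0, nat_lit 4]), (nat_lit 2975, [nat_lit 2, nat_lit 2, nat_lit 3, nat_lit 1, nat_lit 0, nat_lit 0]), (nat_lit 2978, [nat_lit 4, nat_lit 0, nat_lit 2, nat_lit 2, nat_lit 0, nat_lit 0]), (nat_lit 2980, [nat_lit 5, nat_lit 5, nat_lit 0, nat_lit 3]), (nat_lit 2981, [nat_lit 1, nat_lit 0, nat_lit 2, nat_lit 4, nat_lit 2]), (nat_lit 2982, [nat_lit 1, nat_lit 0, nat_lit 0, nat_lit 2, nat_lit 2]), (nat_lit 2985, [nat_lit 2, nat_lit 3, nat_lit 2, nat_lit 1, nat_lit 1]), (nat_lit 2987, [nat_lit 6, nat_lit 1, nat_lit 0, nat_lit 1]), (nat_lit 2989, [nat_lit 2, nat_lit 3, nat_lit 0, nat_lit 2, nat_lit 0]), (nat_lit 2990, [nat_lit 5, nat_lit 5, nat_lit 0, nat_lit 3, nat_lit 0]), (nat_lit 2992, [nat_lit 6, nat_lit 1, nat_lit 0, nat_lit 2, nat_lit 1]), (nat_lit 2993, [nat_lit 2, nat_lit 1, nat_lit 2, nat_lit 0, nat_lit 4, nat_lit 0]), (nat_lit 2998, [nat_lit 0, nat_lit 4, nat_lit 0, nat_lit 2, nat_lit 0]), (nat_lit 3000, [nat_lit 0, nat_lit 2]), (nat_lit 3005, [nat_lit 5, nat_lit 2, nat_lit 4, nat_lit 1, nat_lit 1]), (nat_lit 3006, [nat_lit 0, nat_lit 1, nat_lit 0, nat_lit 2, nat_lit 1, nat_lit 0]), (nat_lit 3007, [nat_lit 4, nat_lit 0, nat_lit 1, nat_lit 0, nat_lit 1, nat_lit 2]), (nat_lit 3008, [nat_lit 5, nat_lit 5, nat_lit 4, nat_lit 2, nat_lit 3]), (nat_lit 3011, [nat_lit 4, nat_lit 2, nat_lit 0, nat_lit 1, nat_lit 0, nat_lit 2]), (nat_lit 3012, [nat_lit 4, nat_lit 0]), (nat_lit 3014, [nat_lit 1, nat_lit 2, nat_lit 0, nat_lit 5, nat_lit 2, nat_lit 1]), (nat_lit 3015, [nat_lit 4, nat_lit 2, nat_lit 0, nat_lit 1, nat_lit 0]), (nat_lit 3016, [nat_lit 1, nat_lit 1, nat_lit 0, nat_lit 0, nat_lit 0, nat_lit 0]), (nat_lit 3017, [nat_lit 0, nat_lit 4, nat_lit 4, nat_lit 2, nat_lit 0]), (nat_lit 3019, [nat_lit 4, nat_lit 3, nat_lit 0, nat_lit 1, nat_lit 0]), (nat_lit 3020, [nat_lit 6, nat_lit 1, nat_lit 0, nat_lit 0]), (nat_lit 3021, [nat_lit 0, nat_lit 4, nat_lit 2, nat_lit 1, nat_lit 0]), (nat_lit 3023, [nat_lit 4, nat_lit 3, nat_lit 1, nat_lit 3]), (nat_lit 3024, [nat_lit 5, nat_lit 0, nat_lit 0]), (nat_lit 3025, [nat_lit 5, nat_lit 4, nat_lit 4, nat_lit 3, nat_lit 1]), (nat_lit 3028, [nat_lit 6, nat_lit 2, nat_lit 0, nat_lit 2, nat_lit 0]), (nat_lit 3029, [nat_lit 0, nat_lit 2, nat_lit 0, nat_lit 2, nat_lit 4, nat_lit 0]), (nat_lit 3031, [nat_lit 3, nat_lit 1, nat_lit 3, nat_lit 0, nat_lit 0, nat_lit 1]), (nat_lit 3033, [nat_lit 5, nat_lit 1, nat_lit 0, nat_lit 0]), (nat_lit 3034, [nat_lit 4, nat_lit 0, nat_lit 1, nat_lit 0, nat_lit 2, nat_lit 1, nat_lit 0]), (nat_lit 3035, [nat_lit 1, nat_lit 2, nat_lit 0, nat_lit 0]), (nat_lit 3037, [nat_lit 1, nat_lit 0, nat_lit 4, nat_lit 0, nat_lit 1, nat_lit 0]), (nat_lit 3042, [nat_lit 5, nat_lit 0, nat_lit 0, nat_lit 0, nat_lit 0]), (nat_lit 3043, [nat_lit 6, nat_lit 5, nat_lit 5, nat_lit 4, nat_lit 3]), (nat_lit 3045, [nat_lit 3, nat_lit 0, nat_lit 3, nat_lit 1, nat_lit 1]), (nat_lit 3047, [nat_lit 5, nat_lit 0, nat_lit 2, nat_lit 1]), (nat_lit 3048, [nat_lit 3, nat_lit 3, nat_lit 2, nat_lit 2, nat_lit 1, nat_lit 1]), (nat_lit 3049, [nat_lit 2, nat_lit 2, nat_lit 0, nat_lit 4, nat_lit 0]), (nat_lit 3050, [nat_lit 5, nat_lit 2, nat_lit 1, nat_lit 2, nat_lit 0, nat_lit 0, nat_lit 0]), (nat_lit 3051, [nat_lit 0, nat_lit 2, nat_lit 4, nat_lit 0, nat_lit 1]), (nat_lit 3052, [nat_lit 4, nat_lit 2, nat_lit 3, nat_lit 2]), (nat_lit 3055, [nat_lit 1, nat_lit 0, nat_lit 0, nat_lit 0]), (nat_lit 3057, [nat_lit 3, nat_lit 1, nat_lit 4]), (nat_lit 3058, [nat_lit 6, nat_lit 0, nat_lit 4, nat_lit 4, nat_lit 0]), (nat_lit 3059, [nat_lit 1, nat_lit 0, nat_lit 0, nat_lit 1]), (nat_lit 3060, [nat_lit 0, nat_lit 0, nat_lit 4, nat_lit 3, nat_lit 2, nat_lit 0]), (nat_lit 3063, [nat_lit 1, nat_lit 2]), (nat_lit 3065, [nat_lit 4, nat_lit 0, nat_lit 1, nat_lit 0, nat_lit 2, nat_lit 1]), (nat_lit 3066, [nat_lit 1, nat_lit 3, nat_lit 1]), (nat_lit 3068, [nat_lit 1, nat_lit 4, nat_lit 4, nat_lit 0]), (nat_lit 3072, [nat_lit 5, nat_lit 1, nat_lit 0, nat_lit 2, nat_lit 2, nat_lit 0]), (nat_lit 3075, [nat_lit 2, nat_lit 0, nat_lit 5, nat_lit 5, nat_lit 1]), (nat_lit 3078, [nat_lit 5, nat_lit 0, nat_lit 1]), (nat_lit 3079, [nat_lit 1, nat_lit 0, nat_lit 5, nat_lit 1, nat_lit 2]), (nat_lit 3080, [nat_lit 5, nat_lit 3, nat_lit 0, nat_lit 4]), (nat_lit 3081, [nat_lit 2, nat_lit 4, nat_lit 2, nat_lit 1, nat_lit 1, nat_lit 0]), (nat_lit 3082, [nat_lit 0, nat_lit 2, nat_lit 4, nat_lit 3]), (nat_lit 3084, [nat_lit 2, nat_lit 1, nat_lit 2, nat_lit 1, nat_lit 0]), (nat_lit 3085, [nat_lit 1, nat_lit 0, nat_lit 1, nat_lit 0, nat_lit 2, nat_lit 0]), (nat_lit 3087, [nat_lit 5, nat_lit 1, nat_lit 2, nat_lit 1, nat_lit 0, nat_lit 0, nat_lit 0]), (nat_lit 3089, [nat_lit 5, nat_lit 2, nat_lit 3, nat_lit 1, nat_lit 1]), (nat_lit 3090, [nat_lit 5, nat_lit 4, nat_lit 4, nat_lit 3]), (nat_lit 3091, [nat_lit 2, nat_lit 0, nat_lit 0, nat_lit 0]), (nat_lit 3092, [nat_lit 6, nat_lit 2, nat_lit 0, nat_lit 2]), (nat_lit 3093, [nat_lit 1, nat_lit 0, nat_lit 2, nat_lit 1, nat_lit 2]), (nat_lit 3095, [nat_lit 6, nat_lit 0, nat_lit 4, nat_lit 0]), (nat_lit 3098, [nat_lit 2, nat_lit 0, nat_lit 2, nat_lit 4, nat_lit 2]), (nat_lit 3099, [nat_lit 2, nat_lit 4, nat_lit 0, nat_lit 4, nat_lit 0]), (nat_lit 3100, [nat_lit 2, nat_lit 0, nat_lit 0, nat_lit 2, nat_lit 1, nat_lit 0]), (nat_lit 3101, [nat_lit 2, nat_lit 3, nat_lit 3, nat_lit 2, nat_lit 0, nat_lit 0]), (nat_lit 3102, [nat_lit 1, nat_lit 0, nat_lit 2, nat_lit 2, nat_lit 0, nat_lit 0, nat_lit 1]), (nat_lit 3103, [nat_lit 5, nat_lit 2, nat_lit 2, nat_lit 0, nat_lit 0]), (nat_lit 3105, [nat_lit 2, nat_lit 4, nat_lit 2, nat_lit 1, nat_lit 0, nat_lit 1]), (nat_lit 3106, [nat_lit 1, nat_lit 0, nat_lit 5, nat_lit 2, nat_lit 0, nat_lit 0]), (nat_lit 3107, [nat_lit 5, nat_lit 3, nat_lit 1, nat_lit 0, nat_lit 2, nat_lit 1]), (nat_lit 3108, [nat_lit 2, nat_lit 0, nat_lit 4, nat_lit 4, nat_lit 0]), (nat_lit 3110, [nat_lit 6, nat_lit 1, nat_lit 1, nat_lit 0, nat_lit 2]), (nat_lit 3111, [nat_lit 3, nat_lit 3, nat_lit 2, nat_lit 2, nat_lit 0]), (nat_lit 3112, [nat_lit 0, nat_lit 0, nat_lit 1, nat_lit 0, nat_lit 2, nat_lit 2]), (nat_lit 3114, [nat_lit 2, nat_lit 1, nat_lit 0, nat_lit 2]), (nat_lit 3115, [nat_lit 6, nat_lit 0, nat_lit 2, nat_lit 1, nat_lit 0]), (nat_lit 3116, [nat_lit 4, nat_lit 0, nat_lit 1]), (nat_lit 3118, [nat_lit 3, nat_lit 0]), (nat_lit 3119, [nat_lit 5, nat_lit 3, nat_lit 2]), (nat_lit 3120, [nat_lit 0, nat_lit 4, nat_lit 2, nat_lit 0]), (nat_lit 3122, [nat_lit 0, nat_lit 2, nat_lit 0]), (nat_lit 3124, [nat_lit 2, nat_lit 0, nat_lit 2, nat_lit 2, nat_lit 1]), (nat_lit 3125, [nat_lit 3, nat_lit 1, nat_lit 1, nat_lit 0, nat_lit 2, nat_lit 0, nat_lit 0]), (nat_lit 3126, [nat_lit 5, nat_lit 2, nat_lit 0, nat_lit 2]), (nat_lit 3127, [nat_lit 0, nat_lit 5, nat_lit 2, nat_lit 2]), (nat_lit 3128, [nat_lit 0, nat_lit 4, nat_lit 2, nat_lit 1]), (nat_lit 3129, [nat_lit 2, nat_lit 3, nat_lit 3, nat_lit 2, nat_lit 1]), (nat_lit 3132, [nat_lit 0, nat_lit 0, nat_lit 1, nat_lit 2, nat_lit 2, nat_lit 1, nat_lit 0]), (nat_lit 3133, [nat_lit 4, nat_lit 3, nat_lit 2, nat_lit 2, nat_lit 0, nat_lit 1]), (nat_lit 3134, [nat_lit 2, nat_lit 2, nat_lit 0, nat_lit 5, nat_lit 5, nat_lit 1]), (nat_lit 3135, [nat_lit 3, nat_lit 1, nat_lit 3, nat_lit 0, nat_lit 1, nat_lit 0]), (nat_lit 3137, [nat_lit 3, nat_lit 3, nat_lit 2, nat_lit 2, nat_lit 1]), (nat_lit 3138, [nat_lit 5, nat_lit 3, nat_lit 1, nat_lit 0, nat_lit 1]), (nat_lit 3141, [nat_lit 4, nat_lit 0, nat_lit 2, nat_lit 0, nat_lit 2]), (nat_lit 3143, [nat_lit 2, nat_lit 1, nat_lit 1]), (nat_lit 3144, [nat_lit 6, nat_lit 5, nat_lit 0, nat_lit 2]), (nat_lit 3149, [nat_lit 0, nat_lit 1, nat_lit 0, nat_lit 5, nat_lit 0, nat_lit 0]), (nat_lit 3152, [nat_lit 0, nat_lit 5]), (nat_lit 3154, [nat_lit 1, nat_lit 1, nat_lit 0, nat_lit 0]), (nat_lit 3155, [nat_lit 1, nat_lit 0, nat_lit 5, nat_lit 1, nat_lit 0]), (nat_lit 3156, [nat_lit 3, nat_lit 3, nat_lit 1, nat_lit 0, nat_lit 1, nat_lit 0]), (nat_lit 3157, [nat_lit 5, nat_lit 4, nat_lit 3, nat_lit 2, nat_lit 1]), (nat_lit 3158, [nat_lit 1, nat_lit 3, nat_lit 0, nat_lit 2, nat_lit 1]), (nat_lit 3160, [nat_lit 1, nat_lit 1, nat_lit 0, nat_lit 2, nat_lit 0, nat_lit 0]), (nat_lit 3161, [nat_lit 4, nat_lit 0, nat_lit 0, nat_lit 4]), (nat_lit 3162, [nat_lit 4, nat_lit 0, nat_lit 4, nat_lit 2]), (nat_lit 3164, [nat_lit 6, nat_lit 6, nat_lit 1, nat_lit 0]), (nat_lit 3165, [nat_lit 2, nat_lit 0, nat_lit 0, nat_lit 1]), (nat_lit 3166, [nat_lit 3, nat_lit 0, nat_lit 2, nat_lit 1, nat_lit 1]), (nat_lit 3168, [nat_lit 6, nat_lit 5, nat_lit 5, nat_lit 2, nat_lit 3]), (nat_lit 3169, [nat_lit 0, nat_lit 3, nat_lit 2, nat_lit 1, nat_lit 0, nat_lit 1]), (nat_lit 3170, [nat_lit 2, nat_lit 1, nat_lit 0, nat_lit 2, nat_lit 1]), (nat_lit 3171, [nat_lit 0, nat_lit 1, nat_lit 1, nat_lit 4, nat_lit 0, nat_lit 0]), (nat_lit 3172, [nat_lit 5, nat_lit 1, nat_lit 3, nat_lit 0, nat_lit 0]), (nat_lit 3174, [nat_lit 5, nat_lit 2, nat_lit 3, nat_lit 2]), (nat_lit 3176, [nat_lit 4, nat_lit 2, nat_lit 3, nat_lit 2, nat_lit 0, nat_lit 0]), (nat_lit 3177, [nat_lit 5, nat_lit 4, nat_lit 0, nat_lit 2, nat_lit 0]), (nat_lit 3180, [nat_lit 4, nat_lit 2, nat_lit 1, nat_lit 1]), (nat_lit 3182, [nat_lit 2, nat_lit 2, nat_lit 4, nat_lit 0, nat_lit 1, nat_lit 0, nat_lit 1]), (nat_lit 3183, [nat_lit 2, nat_lit 0, nat_lit 5, nat_lit 5]), (nat_lit 3185, [nat_lit 2, nat_lit 0, nat_lit 4, nat_lit 4, nat_lit 2, nat_lit 0]), (nat_lit 3188, [nat_lit 0, nat_lit 3, nat_lit 1, nat_lit 0, nat_lit 1]), (nat_lit 3189, [nat_lit 2, nat_lit 0, nat_lit 2, nat_lit 2, nat_lit 1, nat_lit 1]), (nat_lit 3190, [nat_lit 2, nat_lit 2, nat_lit 0, nat_lit 4, nat_lit 0, nat_lit 0]), (nat_lit 3192, [nat_lit 1, nat_lit 1, nat_lit 2, nat_lit 0, nat_lit 2]), (nat_lit 3194, [nat_lit 0, nat_lit 5, nat_lit 2, nat_lit 2, nat_lit 0]), (nat_lit 3195, [nat_lit 3, nat_lit 1, nat_lit 0]), (nat_lit 3196, [nat_lit 1, nat_lit 4, nat_lit 4, nat_lit 3]), (nat_lit 3197, [nat_lit 5, nat_lit 1, nat_lit 1, nat_lit 0, nat_lit 2]), (nat_lit 3199, [nat_lit 4, nat_lit 3, nat_lit 3, nat_lit 1, nat_lit 1, nat_lit 0]), (nat_lit 3201, [nat_lit 5, nat_lit 0, nat_lit 4, nat_lit 2]), (nat_lit 3204, [nat_lit 0, nat_lit 0, nat_lit 4, nat_lit 2]), (nat_lit 3205, [nat_lit 5, nat_lit 0, nat_lit 2, nat_lit 4, nat_lit 2]), (nat_lit 3207, [nat_lit 3, nat_lit 3, nat_lit 0, nat_lit 4, nat_lit 4]), (nat_lit 3208, [nat_lit 1, nat_lit 2, nat_lit 0, nat_lit 5, nat_lit 2]), (nat_lit 3210, [nat_lit 6, nat_lit 3, nat_lit 0]), (nat_lit 3211, [nat_lit 3, nat_lit 0, nat_lit 3]), (nat_lit 3212, [nat_lit 3, nat_lit 0, nat_lit 3, nat_lit 1, nat_lit 1, nat_lit 0]), (nat_lit 3213, [nat_lit 6, nat_lit 2, nat_lit 4, nat_lit 0, nat_lit 1, nat_lit 0]), (nat_lit 3214, [nat_lit 4, nat_lit 4, nat_lit 0]), (nat_lit 3215, [nat_lit 4, nat_lit 1, nat_lit 3, nat_lit 3, nat_lit 0, nat_lit 1]), (nat_lit 3216, [nat_lit 0, nat_lit 1, nat_lit 1, nat_lit 0, nat_lit 0, nat_lit 0]), (nat_lit 3219, [nat_lit 5, nat_lit 2, nat_lit 2, nat_lit 0, nat_lit 5]), (nat_lit 3223, [nat_lit 2, nat_lit 3, nat_lit 2, nat_lit 0, nat_lit 1, nat_lit 0]), (nat_lit 3224, [nat_lit 0, nat_lit 2, nat_lit 0, nat_lit 0]), (nat_lit 3225, [nat_lit 0, nat_lit 5, nat_lit 5, nat_lit 2, nat_lit 2, nat_lit 1]), (nat_lit 3226, [nat_lit 0, nat_lit 4, nat_lit 3, nat_lit 2]), (nat_lit 3227, [nat_lit 4, nat_lit 2, nat_lit 1, nat_lit 0, nat_lit 1]), (nat_lit 3228, [nat_lit 4, nat_lit 2, nat_lit 2, nat_lit 0, nat_lit 1, nat_lit 1]), (nat_lit 3229, [nat_lit 5, nat_lit 4, nat_lit 3, nat_lit 1]), (nat_lit 3231, [nat_lit 5, nat_lit 2, nat_lit 0, nat_lit 5, nat_lit 1, nat_lit 0]), (nat_lit 3232, [nat_lit 0, nat_lit 4, nat_lit 0, nat_lit 4, nat_lit 0]), (nat_lit 3233, [nat_lit 0, nat_lit 4, nat_lit 4, nat_lit 3]), (nat_lit 3237, [nat_lit 1, nat_lit 1, nat_lit 0, nat_lit 2, nat_lit 2]), (nat_lit 3238, [nat_lit 5, nat_lit 2, nat_lit 4, nat_lit 0]), (nat_lit 3240, [nat_lit 6, nat_lit 4, nat_lit 4]), (nat_lit 3241, [nat_lit 2, nat_lit 0, nat_lit 5, nat_lit 1, nat_lit 2]), (nat_lit 3244, [nat_lit 2, nat_lit 3, nat_lit 3, nat_lit 1]), (nat_lit 3245, [nat_lit 5, nat_lit 5, nat_lit 2, nat_lit 0, nat_lit 1, nat_lit 0]), (nat_lit 3246, [nat_lit 2, nat_lit 0, nat_lit 4, nat_lit 4, nat_lit 2]), (nat_lit 3248, [nat_lit 3, nat_lit 1, nat_lit 0, nat_lit 2, nat_lit 0]), (nat_lit 3251, [nat_lit 0, nat_lit 0, nat_lit 0, nat_lit 0, nat_lit 1, nat_lit 0]), (nat_lit 3254, [nat_lit 0, nat_lit 5, nat_lit 4, nat_lit 2, nat_lit 1]), (nat_lit 3255, [nat_lit 2, nat_lit 2, nat_lit 0, nat_lit 4]), (nat_lit 3258, [nat_lit 5, nat_lit 1, nat_lit 2, nat_lit 1, nat_lit 0, nat_lit 2, nat_lit 0]), (nat_lit 3260, [nat_lit 0, nat_lit 5, nat_lit 5, nat_lit 0, nat_lit 1]), (nat_lit 3262, [nat_lit 2, nat_lit 2, nat_lit 1, nat_lit 0, nat_lit 4]), (nat_lit 3263, [nat_lit 1, nat_lit 2, nat_lit 0, nat_lit 1, nat_lit 0, nat_lit 0]), (nat_lit 3264, [nat_lit 2, nat_lit 0, nat_lit 0, nat_lit 1, nat_lit 0]), (nat_lit 3265, [nat_lit 0, nat_lit 0, nat_lit 0, nat_lit 1, nat_lit 0, nat_lit 0]), (nat_lit 3267, [nat_lit 5, nat_lit 0]), (nat_lit 3268, [nat_lit 0, nat_lit 0, nat_lit 5, nat_lit 0, nat_lit 0, nat_lit 0]), (nat_lit 3269, [nat_lit 1, nat_lit 0, nat_lit 2, nat_lit 4, nat_lit 2, nat_lit 1, nat_lit 0]), (nat_lit 3270, [nat_lit 6, nat_lit 4, nat_lit 3, nat_lit 0]), (nat_lit 3271, [nat_lit 0, nat_lit 3, nat_lit 2, nat_lit 0]), (nat_lit 3274, [nat_lit 4, nat_lit 2, nat_lit 3]), (nat_lit 3275, [nat_lit 3, nat_lit 2, nat_lit 0, nat_lit 0]), (nat_lit 3278, [nat_lit 6, nat_lit 5, nat_lit 2, nat_lit 4]), (nat_lit 3279, [nat_lit 2, nat_lit 4, nat_lit 4, nat_lit 2, nat_lit 1, nat_lit 1]), (nat_lit 3280, [nat_lit 4, nat_lit 1, nat_lit 3, nat_lit 3, nat_lit 0]), (nat_lit 3281, [nat_lit 2, nat_lit 0, nat_lit 0, nat_lit 5]), (nat_lit 3284, [nat_lit 0, nat_lit 2, nat_lit 4, nat_lit 2]), (nat_lit 3289, [nat_lit 2, nat_lit 1, nat_lit 0, nat_lit 0, nat_lit 0]), (nat_lit 3291, [nat_lit 0, nat_lit 0, nat_lit 1, nat_lit 2]), (nat_lit 3292, [nat_lit 5, nat_lit 0, nat_lit 3, nat_lit 3, nat_lit 1]), (nat_lit 3293, [nat_lit 3, nat_lit 1, nat_lit 0, nat_lit 2, nat_lit 1]), (nat_lit 3295, [nat_lit 4, nat_lit 4, nat_lit 2, nat_lit 2, nat_lit 1]), (nat_lit 3297, [nat_lit 5, nat_lit 5, nat_lit 1, nat_lit 2, nat_lit 1]), (nat_lit 3298, [nat_lit 0, nat_lit 4, nat_lit 0, nat_lit 2]), (nat_lit 3299, [nat_lit 2, nat_lit 3, nat_lit 1, nat_lit 0, nat_lit 2]), (nat_lit 3300, [nat_lit 5, nat_lit 1, nat_lit 2, nat_lit 2, nat_lit 1]), (nat_lit 3301, [nat_lit 2, nat_lit 0, nat_lit 2, nat_lit 2, nat_lit 1, nat_lit 1, nat_lit 0]), (nat_lit 3302, [nat_lit 1, nat_lit 0, nat_lit 2, nat_lit 1, nat_lit 0, nat_lit 2, nat_lit 0]), (nat_lit 3304, [nat_lit 3, nat_lit 0, nat_lit 0, nat_lit 4]), (nat_lit 3305, [nat_lit 0, nat_lit 1, nat_lit 2, nat_lit 2, nat_lit 0, nat_lit 1]), (nat_lit 3306, [nat_lit 1, nat_lit 1, nat_lit 0, nat_lit 2, nat_lit 0, nat_lit 2]), (nat_lit 3309, [nat_lit 0, nat_lit 0, nat_lit 3, nat_lit 1, nat_lit 1]), (nat_lit 3310, [nat_lit 2, nat_lit 0, nat_lit 1, nat_lit 0, nat_lit 2]), (nat_lit 3311, [nat_lit 5, nat_lit 2, nat_lit 1, nat_lit 2, nat_lit 0, nat_lit 0]), (nat_lit 3312, [nat_lit 0, nat_lit 0, nat_lit 1, nat_lit 0, nat_lit 2]), (nat_lit 3313, [nat_lit 5, nat_lit 2, nat_lit 3]), (nat_lit 3316, [nat_lit 0, nat_lit 5, nat_lit 0, nat_lit 2, nat_lit 2, nat_lit 1]), (nat_lit 3317, [nat_lit 2, nat_lit 1, nat_lit 1, nat_lit 0, nat_lit 2, nat_lit 0]), (nat_lit 3318, [nat_lit 3, nat_lit 0, nat_lit 2, nat_lit 0, nat_lit 2]), (nat_lit 3320, [nat_lit 5, nat_lit 0, nat_lit 3, nat_lit 0, nat_lit 1]), (nat_lit 3325, [nat_lit 5, nat_lit 4, nat_lit 2, nat_lit 2]), (nat_lit 3326, [nat_lit 4, nat_lit 4, nat_lit 2, nat_lit 2, nat_lit 1, nat_lit 1]), (nat_lit 3327, [nat_lit 1, nat_lit 1, nat_lit 2, nat_lit 0, nat_lit 1]), (nat_lit 3328, [nat_lit 5, nat_lit 0, nat_lit 2, nat_lit 2, nat_lit 0, nat_lit 0]), (nat_lit 3329, [nat_lit 2, nat_lit 2, nat_lit 0, nat_lit 0, nat_lit 2]), (nat_lit 3330, [nat_lit 0, nat_lit 4, nat_lit 0, nat_lit 2, nat_lit 1, nat_lit 1]), (nat_lit 3331, [nat_lit 4, nat_lit 3, nat_lit 3, nat_lit 2, nat_lit 0]), (nat_lit 3334, [nat_lit 5, nat_lit 2, nat_lit 0, nat_lit 4]), (nat_lit 3335, [nat_lit 5, nat_lit 5, nat_lit 0, nat_lit 3, nat_lit 2, nat_lit 1]), (nat_lit 3337, [nat_lit 3, nat_lit 0, nat_lit 0, nat_lit 1, nat_lit 1]), (nat_lit 3338, [nat_lit 3, nat_lit 2, nat_lit 1, nat_lit 1]), (nat_lit 3339, [nat_lit 2, nat_lit 0, nat_lit 1, nat_lit 2]), (nat_lit 3340, [nat_lit 6, nat_lit 1, nat_lit 1, nat_lit 0, nat_lit 2, nat_lit 0]), (nat_lit 3341, [nat_lit 3, nat_lit 1, nat_lit 2, nat_lit 1]), (nat_lit 3342, [nat_lit 1, nat_lit 0, nat_lit 2, nat_lit 2, nat_lit 1]), (nat_lit 3343, [nat_lit 2, nat_lit 2, nat_lit 1, nat_lit 0]), (nat_lit 3344, [nat_lit 6, nat_lit 3, nat_lit 0, nat_lit 1]), (nat_lit 3345, [nat_lit 5, nat_lit 1, nat_lit 0, nat_lit 0, nat_lit 2]), (nat_lit 3346, [nat_lit 0, nat_lit 2, nat_lit 4]), (nat_lit 3347, [nat_lit 3, nat_lit 3, nat_lit 2, nat_lit 0, nat_lit 1, nat_lit 1]), (nat_lit 3349, [nat_lit 4, nat_lit 2, nat_lit 3, nat_lit 1]), (nat_lit 3350, [nat_lit 4, nat_lit 4, nat_lit 1]), (nat_lit 3351, [nat_lit 5, nat_lit 1, nat_lit 2, nat_lit 1, nat_lit 0, nat_lit 0]), (nat_lit 3353, [nat_lit 0, nat_lit 3, nat_lit 0, nat_lit 1, nat_lit 1]), (nat_lit 3357, [nat_lit 5, nat_lit 0, nat_lit 5, nat_lit 2, nat_lit 1, nat_lit 0]), (nat_lit 3361, [nat_lit 0, nat_lit 0, nat_lit 2]), (nat_lit 3363, [nat_lit 4, nat_lit 2, nat_lit 3, nat_lit 2, nat_lit 1, nat_lit 1]), (nat_lit 3364, [nat_lit 4, nat_lit 0, nat_lit 2, nat_lit 4, nat_lit 2]), (nat_lit 3365, [nat_lit 3, nat_lit 3, nat_lit 2]), (nat_lit 3366, [nat_lit 1, nat_lit 2, nat_lit 2, nat_lit 1, nat_lit 0, nat_lit 4, nat_lit 0]), (nat_lit 3367, [nat_lit 1, nat_lit 2, nat_lit 1, nat_lit 0, nat_lit 0, nat_lit 0]), (nat_lit 3370, [nat_lit 0, nat_lit 2, nat_lit 4, nat_lit 3, nat_lit 2]), (nat_lit 3375, [nat_lit 5, nat_lit 4]), (nat_lit 3377, [nat_lit 0, nat_lit 4, nat_lit 4, nat_lit 2, nat_lit 2, nat_lit 0]), (nat_lit 3378, [nat_lit 5, nat_lit 1, nat_lit 1, nat_lit 2, nat_lit 0, nat_lit 0, nat_lit 0]), (nat_lit 3380, [nat_lit 5, nat_lit 2, nat_lit 0, nat_lit 5, nat_lit 0]), (nat_lit 3381, [nat_lit 4, nat_lit 2, nat_lit 3, nat_lit 0]), (nat_lit 3383, [nat_lit 0, nat_lit 0, nat_lit 0, nat_lit 1, nat_lit 1, nat_lit 0]), (nat_lit 3386, [nat_lit 2, nat_lit 1, nat_lit 2, nat_lit 1, nat_lit 0, nat_lit 0]), (nat_lit 3387, [nat_lit 2, nat_lit 1, nat_lit 0]), (nat_lit 3388, [nat_lit 3, nat_lit 3, nat_lit 0, nat_lit 4, nat_lit 0, nat_lit 1]), (nat_lit 3389, [nat_lit 4, nat_lit 4, nat_lit 2, nat_lit 3, nat_lit 2]), (nat_lit 3390, [nat_lit 1, nat_lit 2, nat_lit 0, nat_lit 4, nat_lit 0]), (nat_lit 3391, [nat_lit 6, nat_lit 0, nat_lit 2, nat_lit 0, nat_lit 2]), (nat_lit 3394, [nat_lit 4, nat_lit 0, nat_lit 2, nat_lit 1]), (nat_lit 3395, [nat_lit 1, nat_lit 0, nat_lit 5, nat_lit 2, nat_lit 1, nat_lit 2]), (nat_lit 3398, [nat_lit 2, nat_lit 0, nat_lit 0, nat_lit 1, nat_lit 0, nat_lit 2]), (nat_lit 3399, [nat_lit 3, nat_lit 1, nat_lit 2, nat_lit 1, nat_lit 0, nat_lit 2, nat_lit 0, nat_lit 0]), (nat_lit 3400, [nat_lit 3, nat_lit 2, nat_lit 2, nat_lit 1]), (nat_lit 3402, [nat_lit 2, nat_lit 0, nat_lit 1, nat_lit 2, nat_lit 0]), (nat_lit 3403, [nat_lit 5, nat_lit 0, nat_lit 2, nat_lit 1, nat_lit 0]), (nat_lit 3404, [nat_lit 2, nat_lit 4, nat_lit 4, nat_lit 2]), (nat_lit 3405, [nat_lit 5, nat_lit 4, nat_lit 3, nat_lit 2, nat_lit 1, nat_lit 1]), (nat_lit 3406, [nat_lit 5, nat_lit 2, nat_lit 1, nat_lit 0]), (nat_lit 3407, [nat_lit 0, nat_lit 2, nat_lit 1, nat_lit 1, nat_lit 0]), (nat_lit 3409, [nat_lit 1, nat_lit 1, nat_lit 3, nat_lit 0, nat_lit 0]), (nat_lit 3410, [nat_lit 3, nat_lit 2, nat_lit 3, nat_lit 2, nat_lit 1]), (nat_lit 3411, [nat_lit 1, nat_lit 1, nat_lit 0, nat_lit 5, nat_lit 2, nat_lit 0, nat_lit 0]), (nat_lit 3412, [nat_lit 5, nat_lit 2, nat_lit 2, nat_lit 1]), (nat_lit 3415, [nat_lit 0, nat_lit 1, nat_lit 2, nat_lit 0, nat_lit 2, nat_lit 1, nat_lit 0]), (nat_lit 3416, [nat_lit 1, nat_lit 2, nat_lit 0, nat_lit 0, nat_lit 1, nat_lit 2, nat_lit 0]), (nat_lit 3417, [nat_lit 4, nat_lit 4, nat_lit 2, nat_lit 0, nat_lit 0, nat_lit 0]), (nat_lit 3418, [nat_lit 0, nat_lit 5, nat_lit 5, nat_lit 2]), (nat_lit 3419, [nat_lit 5, nat_lit 5, nat_lit 3, nat_lit 0, nat_lit 2]), (nat_lit 3421, [nat_lit 2, nat_lit 0, nat_lit 4, nat_lit 4]), (nat_lit 3422, [nat_lit 4, nat_lit 0, nat_lit 4, nat_lit 3, nat_lit 3, nat_lit 0]), (nat_lit 3424, [nat_lit 0, nat_lit 0, nat_lit 0, nat_lit 1, nat_lit 0]), (nat_lit 3425, [nat_lit 5, nat_lit 3, nat_lit 1, nat_lit 0]), (nat_lit 3427, [nat_lit 0, nat_lit 5, nat_lit 5]), (nat_lit 3428, [nat_lit 5, nat_lit 1, nat_lit 0]), (nat_lit 3430, [nat_lit 0, nat_lit 5, nat_lit 4, nat_lit 2, nat_lit 2]), (nat_lit 3431, [nat_lit 0, nat_lit 3, nat_lit 0, nat_lit 4]), (nat_lit 3435, [nat_lit 3, nat_lit 0, nat_lit 2, nat_lit 0, nat_lit 1, nat_lit 1]), (nat_lit 3436, [nat_lit 0, nat_lit 5, nat_lit 5, nat_lit 0]), (nat_lit 3437, [nat_lit 2, nat_lit 2, nat_lit 4, nat_lit 1, nat_lit 0]), (nat_lit 3438, [nat_lit 5, nat_lit 4, nat_lit 3, nat_lit 2]), (nat_lit 3443, [nat_lit 4, nat_lit 2, nat_lit 2, nat_lit 0, nat_lit 0]), (nat_lit 3445, [nat_lit 6, nat_lit 2, nat_lit 0, nat_lit 0]), (nat_lit 3446, [nat_lit 6, nat_lit 0, nat_lit 0]), (nat_lit 3447, [nat_lit 1]), (nat_lit 3448, [nat_lit 0, nat_lit 5, nat_lit 5, nat_lit 0, nat_lit 2]), (nat_lit 3449, [nat_lit 4, nat_lit 2, nat_lit 4, nat_lit 3, nat_lit 1]), (nat_lit 3450, [nat_lit 2, nat_lit 2, nat_lit 1, nat_lit 0, nat_lit 0]), (nat_lit 3452, [nat_lit 2, nat_lit 2, nat_lit 4, nat_lit 0, nat_lit 0, nat_lit 0]), (nat_lit 3455, [nat_lit 2, nat_lit 2, nat_lit 1, nat_lit 1, nat_lit 0, nat_lit 0, nat_lit 0]), (nat_lit 3457, [nat_lit 5, nat_lit 1, nat_lit 3, nat_lit 0, nat_lit 2, nat_lit 1]), (nat_lit 3458, [nat_lit 1, nat_lit 0, nat_lit 2, nat_lit 2, nat_lit 4, nat_lit 1]), (nat_lit 3460, [nat_lit 5, nat_lit 5, nat_lit 4, nat_lit 4, nat_lit 3]), (nat_lit 3461, [nat_lit 2, nat_lit 0, nat_lit 5, nat_lit 1, nat_lit 1, nat_lit 0]), (nat_lit 3462, [nat_lit 5, nat_lit 5, nat_lit 2, nat_lit 1, nat_lit 2]), (nat_lit 3463, [nat_lit 1, nat_lit 0, nat_lit 2, nat_lit 2, nat_lit 0, nat_lit 1, nat_lit 0]), (nat_lit 3464, [nat_lit 3, nat_lit 1, nat_lit 0, nat_lit 2, nat_lit 1, nat_lit 0]), (nat_lit 3465, [nat_lit 1, nat_lit 2, nat_lit 2]), (nat_lit 3468, [nat_lit 4, nat_lit 3, nat_lit 0, nat_lit 1, nat_lit 1]), (nat_lit 3469, [nat_lit 5, nat_lit 5, nat_lit 2, nat_lit 2, nat_lit 3]), (nat_lit 3470, [nat_lit 5, nat_lit 3, nat_lit 1, nat_lit 1, nat_lit 0, nat_lit 0]), (nat_lit 3471, [nat_lit 1, nat_lit 0, nat_lit 2, nat_lit 4, nat_lit 2, nat_lit 1]), (nat_lit 3473, [nat_lit 6, nat_lit 6, nat_lit 1, nat_lit 1, nat_lit 0]), (nat_lit 3474, [nat_lit 5, nat_lit 0, nat_lit 3, nat_lit 1, nat_lit 0]), (nat_lit 3475, [nat_lit 3, nat_lit 2, nat_lit 0, nat_lit 2, nat_lit 1, nat_lit 0]), (nat_lit 3477, [nat_lit 0, nat_lit 5, nat_lit 1, nat_lit 0, nat_lit 0, nat_lit 0]), (nat_lit 3478, [nat_lit 4, nat_lit 0, nat_lit 2, nat_lit 2, nat_lit 1, nat_lit 1]), (nat_lit 3479, [nat_lit 4, nat_lit 2, nat_lit 0, nat_lit 1, nat_lit 1]), (nat_lit 3480, [nat_lit 6, nat_lit 0]), (nat_lit 3481, [nat_lit 1, nat_lit 0, nat_lit 2, nat_lit 0, nat_lit 2, nat_lit 1, nat_lit 0]), (nat_lit 3484, [nat_lit 0, nat_lit 4, nat_lit 3, nat_lit 2, nat_lit 0, nat_lit 1]), (nat_lit 3486, [nat_lit 2, nat_lit 1, nat_lit 0, nat_lit 2, nat_lit 0, nat_lit 0]), (nat_lit 3487, [nat_lit 5, nat_lit 0, nat_lit 5, nat_lit 3, nat_lit 0]), (nat_lit 3488, [nat_lit 4, nat_lit 3, nat_lit 0, nat_lit 4]), (nat_lit 3491, [nat_lit 5, nat_lit 5, nat_lit 2, nat_lit 4, nat_lit 2]), (nat_lit 3495, [nat_lit 4, nat_lit 3, nat_lit 0, nat_lit 4, nat_lit 2]), (nat_lit 3496, [nat_lit 6, nat_lit 0, nat_lit 0, nat_lit 4, nat_lit 0]), (nat_lit 3498, [nat_lit 6, nat_lit 4, nat_lit 0, nat_lit 1, nat_lit 1]), (nat_lit 3499, [nat_lit 2, nat_lit 2, nat_lit 0, nat_lit 0, nat_lit 0]), (nat_lit 3500, [nat_lit 5, nat_lit 1, nat_lit 2, nat_lit 1]), (nat_lit 3501, [nat_lit 5, nat_lit 2, nat_lit 1, nat_lit 0, nat_lit 2, nat_lit 0, nat_lit 0]), (nat_lit 3503, [nat_lit 5, nat_lit 0, nat_lit 3, nat_lit 2, nat_lit 1, nat_lit 1]), (nat_lit 3504, [nat_lit 5, nat_lit 3, nat_lit 0, nat_lit 1, nat_lit 1]), (nat_lit 3505, [nat_lit 5, nat_lit 0, nat_lit 1, nat_lit 1, nat_lit 0, nat_lit 2]), (nat_lit 3506, [nat_lit 0, nat_lit 2, nat_lit 1, nat_lit 2, nat_lit 1, nat_lit 0]), (nat_lit 3507, [nat_lit 2, nat_lit 0, nat_lit 5, nat_lit 1, nat_lit 2, nat_lit 1, nat_lit 0]), (nat_lit 3508, [nat_lit 4, nat_lit 2, nat_lit 4, nat_lit 2]), (nat_lit 3509, [nat_lit 0, nat_lit 1, nat_lit 1, nat_lit 0, nat_lit 0, nat_lit 2])]),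
  ([[nat_lit 1], [nat_lit 2]], nat_lit 12, [(nat_lit 12, []), (nat_lit 301, [nat_lit 1, nat_lit 1, nat_lit 0, nat_lit 0]), (nat_lit 451, [nat_lit 1, nat_lit 1, nat_lit 0]), (nat_lit 766, [nat_lit 1, nat_lit 1]), (nat_lit 881, [nat_lit 0]), (nat_lit 1018, [nat_lit 1, nat_lit 0, nat_lit 0]), (nat_lit 1155, [nat_lit 1, nat_lit 0]), (nat_lit 1478, [nat_lit 0, nat_lit 0]), (nat_lit 2154, [nat_lit 1])])]

theorem rel0 : P.relRow (dT H9.OutFi22.T W) H9.OutFi22.B 0 = true := by decide +kernel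
theorem rel1 : P.relRow (dT H9.OutFi22.T W) H9.OutFi22.B 1 = true := by decide +kernel
theorem rel2 : P.relRow (dT H9.OutFi22.T W) H9.OutFi22.B 2 = true := by decide +kernel
theorem rel3 : P.relRow (dT H9.OutFi22.T W) H9.OutFi22.B 3 = true := by decide +kernel
theorem rel4 : P.relRow (dT H9.OutFi22.T W) H9.OutFi22.B 4 = true := by decide +kernel
theorem rel5 : P.relRow (dT H9.OutFi22.T W) H9.OutFi22.B 5 = true := by decide +kernel
theorem rel6 : P.relRow (dT H9.OutFi22.T W) H9.OutFi22.B 6 = true := by decide +kernel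
theorem rel7 : P.relRow (dT H9.OutFi22.T W) H9.OutFi22.B 7 = true := by decide +kernel
theorem rel8 : P.relRow (dT H9.OutFi22.T W) H9.OutFi22.B 8 = true := by decide +kernel
theorem fus0 : P.fusOk (dT H9.OutFi22.T W) H9.OutFi22.B fu 0 = true := by decide +kernel
theorem fus1 : P.fusOk (dT H9.OutFi22.T W) H9.OutFi22.B fu 1 = true := by decide +kernel
theorem fus2 : P.fusOk (dT H9.OutFi22.T W) H9.OutFi22.B fu 2 = true := by decide +kernel
theorem fus3 : P.fusOk (dT H9.OutFi22.T W) H9.OutFi22.B fu 3 = true := by decide +kernel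
theorem fus4 : P.fusOk (dT H9.OutFi22.T W) H9.OutFi22.B fu 4 = true := by decide +kernel
theorem fus5 : P.fusOk (dT H9.OutFi22.T W) H9.OutFi22.B fu 5 = true := by decide +kernel
theorem fus6 : P.fusOk (dT H9.OutFi22.T W) H9.OutFi22.B fu 6 = true := by decide +kernel
theorem fus7 : P.fusOk (dT H9.OutFi22.T W) H9.OutFi22.B fu 7 = true := by decide +kernel
theorem fus8 : P.fusOk (dT H9.OutFi22.T W) H9.OutFi22.B fu 8 = true := by decide +kernel
theorem fus9 : P.fusOk (dT H9.OutFi22.T W) H9.OutFi22.B fu 9 = true := by decide +kernel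
theorem fus10 : P.fusOk (dT H9.OutFi22.T W) H9.OutFi22.B fu 10 = true := by decide +kernel
theorem fus11 : P.fusOk (dT H9.OutFi22.T W) H9.OutFi22.B fu 11 = true := by decide +kernel
theorem fus12 : P.fusOk (dT H9.OutFi22.T W) H9.OutFi22.B fu 12 = true := by decide +kernel
theorem fus13 : P.fusOk (dT H9.OutFi22.T W) H9.OutFi22.B fu 13 = true := by decide +kernel
theorem fus14 : P.fusOk (dT H9.OutFi22.T W) H9.OutFi22.B fu 14 = true := by decide +kernel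
theorem fus15 : P.fusOk (dT H9.OutFi22.T W) H9.OutFi22.B fu 15 = true := by decide +kernel
theorem fus16 : P.fusOk (dT H9.OutFi22.T W) H9.OutFi22.B fu 16 = true := by decide +kernel
theorem fus17 : P.fusOk (dT H9.OutFi22.T W) H9.OutFi22.B fu 17 = true := by decide +kernel
theorem fus18 : P.fusOk (dT H9.OutFi22.T W) H9.OutFi22.B fu 18 = true := by decide +kernel
theorem fus19 : P.fusOk (dT H9.OutFi22.T W) H9.OutFi22.B fu 19 = true := by decide +kernel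
theorem fus20 : P.fusOk (dT H9.OutFi22.T W) H9.OutFi22.B fu 20 = true := by decide +kernel
theorem fus21 : P.fusOk (dT H9.OutFi22.T W) H9.OutFi22.B fu 21 = true := by decide +kernel
theorem fus22 : P.fusOk (dT H9.OutFi22.T W) H9.OutFi22.B fu 22 = true := by decide +kernel
theorem fus23 : P.fusOk (dT H9.OutFi22.T W) H9.OutFi22.B fu 23 = true := by decide +kernel
theorem fus24 : P.fusOk (dT H9.OutFi22.T W) H9.OutFi22.B fu 24 = true := by decide +kernel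
theorem fus25 : P.fusOk (dT H9.OutFi22.T W) H9.OutFi22.B fu 25 = true := by decide +kernel
theorem fin0 : P.finRow lam (bs :: CV) MU 0 = true := by decide +kernel
theorem fin1 : P.finRow lam (bs :: CV) MU 1 = true := by decide +kernel
theorem fin2 : P.finRow lam (bs :: CV) MU 2 = true := by decide +kernel
theorem fin3 : P.finRow lam (bs :: CV) MU 3 = true := by decide +kernel
theorem fin4 : P.finRow lam (bs :: CV) MU 4 = true := by decide +kernel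
theorem fin5 : P.finRow lam (bs :: CV) MU 5 = true := by decide +kernel
theorem fin6 : P.finRow lam (bs :: CV) MU 6 = true := by decide +kernel
theorem fin7 : P.finRow lam (bs :: CV) MU 7 = true := by decide +kernel
theorem fin8 : P.finRow lam (bs :: CV) MU 8 = true := by decide +kernel

theorem pm {G : Type*} [Group G] [Finite G] {A : RAct G 3510} {g : ℕ → G} (hb : A.IsBase H9.OutFi22.B)
    (h : A.Tab g 58 H9.OutFi22.T) (ho : Nat.card G = 64561751654400) : PMult G 3 1 1 :=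
  pmult_of_tab hb h ho P (show Nat.Prime 3 by norm_num) W fu 1 lam bs mo [cc0, cc1, cc2] CV MU lv 26
    (by decide +kernel) (forall_lt_succ' (forall_lt_succ' (forall_lt_succ' (forall_lt_succ' (forall_lt_succ' (forall_lt_succ' (forall_lt_succ' (forall_lt_succ' (forall_lt_succ' forall_lt_zero' rel0) rel1) rel2) rel3) rel4) rel5) rel6) rel7) rel8) (by decide +kernel)
    (forall_lt_succ' (forall_lt_succ' (forall_lt_succ' (forall_lt_succ' (forall_lt_succ' (forall_lt_succ' (forall_lt_succ' (forall_lt_succ' (forall_lt_succ' (forall_lt_succ' (forall_lt_succ' (forall_lt_succ' (forall_lt_succ' (forall_lt_succ' (forall_lt_succ' (forall_lt_succ' (forall_lt_succ' (forall_lt_succ' (forall_lt_succ' (forall_lt_succ' (forall_lt_succ' (forall_lt_succ' (forall_lt_succ' (forall_lt_succ' (forall_lt_succ' (forall_lt_succ' forall_lt_zero' fus0) fus1) fus2) fus3) fus4) fus5) fus6) fus7) fus8) fus9) fus10) fus11)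 fus12) fus13) fus14) fus15) fus16) fus17) fus18) fus19) fus20) fus21) fus22) fus23) fus24) fus25)
    (by decide +kernel) (by decide +kernel) (by decide +kernel) (by decide +kernel)
    (List.forall_mem_cons.mpr ⟨con0, (List.forall_mem_cons.mpr ⟨con1, (List.forall_mem_cons.mpr ⟨con2, (by simp)⟩)⟩)⟩)
    (forall_lt_succ' (forall_lt_succ' (forall_lt_succ' (forall_lt_succ' (forall_lt_succ' (forall_lt_succ' (forall_lt_succ' (forall_lt_succ' (forall_lt_succ' forall_lt_zero' fin0) fin1) fin2) fin3) fin4) fin5) fin6) fin7) fin8) (by decide +kernel)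

end Cfsg.Agent.L0.Fi22P3
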