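import Cfsg.Agent.L0.PcCert
import Cfsg.Agent.L0.Dw
import Cfsg.Agent.L0.Fi24.Chn

/-! Generated certificate: the `5`-part of a Schur multiplier. -/

set_option autoImplicit false
set_option maxRecDepth 100000

namespace Cfsg.Agent.L0.Fi24P5

noncomputable def W : List (List ℕ) := [
  dw (nat_lit 8) (nat_lit 255) (nat_lit 106) (nat_lit 0x6d83337d6b4f264052674d374d19337d5f4d337d694f351b552c357d7235465a50337d4c8b7d422837808951677c2f401e4628402242284f4d5f357e7d36655d6a2f401e46284022422869434c46524067234f5c357e7d3659806b434c465240675269434c465240675a),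
  dw (nat_lit 8) (nat_lit 255) (nat_lit 99) (nat_lit 0x63023d2a408e4f406a5a401e337d53431e337d694f351b798c4b7d394d4f7d38337d4c8b7d422851742b401e4628402242286742834f715c748e334d7a35337d4a35578083357e7d36892b401e4628402242288b357e7d364d5e69434c465240675154),
  dw (nat_lit 8) (nat_lit 255) (nat_lit 115) (nat_lit 0x22406a5a4d19337d835c4d337d694f351b0c441b8188462e5a65363f3a5a475235638b465a334d7a35337d4a3563895e427c67774d7f4d5c334d7a35337d4a3557507d4f71745c357e7d3659805f74357e7d36894d7f4d5c334d7a35337d4a3557507d4f89357e7d367180735c357e7d365950),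
  dw (nat_lit 8) (nat_lit 255) (nat_lit 107) (nat_lit 0x8521406a5a4d408e402a40765c42280e6a358952433833537f3576508b7d4228405a6a4d76672f401e4628402242284f896781474c4652405f505d334d7a35337d4a35638e464c4652405f334d7a35337d4a3557474c4652404f5c357e7d36598c5e725c357e7d36595054)]

noncomputable def P : PcP := ⟨nat_lit 5, nat_lit 3, nat_lit 1, nat_lit 0x40, nat_lit 6, nat_lit 63, nat_lit 11, nat_lit 2047, nat_lit 5, nat_lit 6, nat_lit 5, nat_lit 6⟩

noncomputable def fu : Fus := ⟨[nat_lit 8, nat_lit 1, nat_lit 8],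
  [nat_lit 26, nat_lit 1, nat_lit 24],
  [nat_lit 2, nat_lit 2, nat_lit 3]⟩

noncomputable def lam : List ℕ := [nat_lit 0x0,
  nat_lit 0x0]

noncomputable def bs : List ℕ := []

noncomputable def mo : List ℕ := []

noncomputable def cv0 : List ℕ := [nat_lit 0x1000,
  nat_lit 0x800002,
  nat_lit 0x2]

noncomputable def cc0 : List Con := [
  ⟨nat_lit 2, nat_lit 2, nat_lit 0, [nat_lit 1, nat_lit 0], [nat_lit 0, nat_lit 1], nthN cv0 (nat_lit 0)⟩,
  ⟨nat_lit 2, nat_lit 2, nat_lit 0, [nat_lit 0, nat_lit 0, nat_lit 0, nat_lit 0, nat_lit 0], [], nthN cv0 (nat_lit 1)⟩,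
  ⟨nat_lit 2, nat_lit 3, nat_lit 0, [nat_lit 2, nat_lit 2, nat_lit 2, nat_lit 2, nat_lit 2], [], nthN cv0 (nat_lit 2)⟩]

theorem con0 : allL cc0 (P.conOk fu) = true := by decide +kernel

noncomputable def CV : List (List ℕ) := [cv0]

noncomputable def MU : List (List ℕ) := [[nat_lit 0x32],
  [nat_lit 0x2,
  nat_lit 0x55]]

noncomputable def lv : List (List (List ℕ) × ℕ × List (ℕ × List ℕ)) := [
  ([[nat_lit 1]], nat_lit 2279, [(nat_lit 2279, []), (nat_lit 19768, [nat_lit 0, nat_lit 0, nat_lit 0]), (nat_lit 70214, [nat_lit 0, nat_lit 0]), (nat_lit 71594, [nat_lit 0]), (nat_lit 223379, [nat_lit 0, nat_lit 0, nat_lit 0, nat_lit 0])]),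
  ([[nat_lit 0]], nat_lit 0, [(nat_lit 0, []), (nat_lit 124679, [nat_lit 0, nat_lit 0, nat_lit 0]), (nat_lit 222159, [nat_lit 0, nat_lit 0]), (nat_lit 277939, [nat_lit 0]), (nat_lit 282656, [nat_lit 0, nat_lit 0, nat_lit 0, nat_lit 0])])]

theorem rel0 : P.relRow (dT Fi24G.TP W) Fi24Chn.B 0 = true := by decide +kernel
theorem rel1 : P.relRow (dT Fi24G.TP W) Fi24Chn.B 1 = true := by decide +kernel
theorem fus0 : P.fusOk (dT Fi24G.TP W) Fi24Chn.B fu 0 = true := by decide +kernel
theorem fus1 : P.fusOk (dT Fi24G.TP W) Fi24Chn.B fu 1 = true := by decide +kernel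
theorem fus2 : P.fusOk (dT Fi24G.TP W) Fi24Chn.B fu 2 = true := by decide +kernel
theorem fin0 : P.finRow lam (bs :: CV) MU 0 = true := by decide +kernel
theorem fin1 : P.finRow lam (bs :: CV) MU 1 = true := by decide +kernel

theorem pm {G : Type*} [Group G] [Finite G] {A : RAct G 306936} {g : ℕ → G} (hb : A.IsBase Fi24Chn.B)
    (h : A.Tab g 144 Fi24G.TP) (ho : Nat.card G = 1255205709190661721292800) : PMult G 5 0 0 :=
  pmult_of_tab hb h ho P (show Nat.Prime 5 by norm_num) W fu 0 lam bs mo [cc0] CV MU lv 3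
    (by decide +kernel) (forall_lt_succ' (forall_lt_succ' forall_lt_zero' rel0) rel1) (by decide +kernel)
    (forall_lt_succ' (forall_lt_succ' (forall_lt_succ' forall_lt_zero' fus0) fus1) fus2)
    (by decide +kernel) (by decide +kernel) (by decide +kernel) (by decide +kernel)
    (List.forall_mem_cons.mpr ⟨con0, (by simp)⟩)
    (forall_lt_succ' (forall_lt_succ' forall_lt_zero' fin0) fin1) (by decide +kernel)

end Cfsg.Agent.L0.Fi24P5
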