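import Cfsg.Agent.L0.PcCert
import Cfsg.Agent.L0.Dw
import Cfsg.Agent.L0.Fi24.Chn

/-! Generated certificate: the `7`-part of a Schur multiplier. -/

set_option autoImplicit false
set_option maxRecDepth 100000

namespace Cfsg.Agent.L0.Fi24P7

noncomputable def W : List (List ℕ) := [
  dw (nat_lit 8) (nat_lit 255) (nat_lit 116) (nat_lit 0x16428e5c367d5a402a408e5e4d337d694f351b0c2f32294c2e7d36596683354b355e507d3751896a4f353f4c59802f323f7c4d7d4033264f71881b283546423a291c874f742b323f7c4d7d403326678135424636892b323f7c4d7d4033268b354246364d6b434c7d4d40678e69434c7d4d406706),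
  dw (nat_lit 8) (nat_lit 255) (nat_lit 107) (nat_lit 0x215c2a405e502b401226408e5e4d337d694f351b79335f45745a4452283552475e4228473a7259665d1b283546423a291c876a4f712f323f7c4d7d40332635424636595c464c7d4d405f1b283546423a291c57474c7d4d408a5c35424636598083724f5c35424636595054),
  dw (nat_lit 8) (nat_lit 255) (nat_lit 104) (nat_lit 0x21793b7d675a334d26408e374d337d5c42280e503a3f83455a383f7c8a7d4f3587465a1b283546423a291c876a4f8935424636598d1b283546423a291c4b6728405a46533a3552895e42261c7d8a7d4f35337d537d4f7d5d66434c7d4d40677766434c7d4d406706),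
  dw (nat_lit 8) (nat_lit 255) (nat_lit 104) (nat_lit 0x8624387d5f4d406a2b401e337d53432a40765c42280e36435a747f4752402e5a383f7c8a7d4f356f504f658e1b283546423a291c574252675d35424636895a1b283546423a291c634f866a45334d7f897e654f402d804f35894b46367d2f6751674d405e42284206)]

noncomputable def P : PcP := ⟨nat_lit 7, nat_lit 3, nat_lit 2, nat_lit 0x1008001400, nat_lit 9, nat_lit 511, nat_lit 14, nat_lit 16383, nat_lit 7, nat_lit 9, nat_lit 8, nat_lit 8⟩

noncomputable def fu : Fus := ⟨[nat_lit 64, nat_lit 8, nat_lit 1],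
  [nat_lit 386, nat_lit 54, nat_lit 1],
  [nat_lit 3, nat_lit 3, nat_lit 3]⟩

noncomputable def lam : List ℕ := [nat_lit 0x0,
  nat_lit 0x0,
  nat_lit 0x10000]

noncomputable def bs : List ℕ := []

noncomputable def mo : List ℕ := []

noncomputable def cv0 : List ℕ := [nat_lit 0x800000000000000000,
  nat_lit 0x140000000000,
  nat_lit 0x500000000000000,
  nat_lit 0x800000000000000005]

noncomputable def cc0 : List Con := [
  ⟨nat_lit 1, nat_lit 0, nat_lit 0, [nat_lit 8], [], nthN cv0 (nat_lit 0)⟩,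
  ⟨nat_lit 2, nat_lit 3, nat_lit 0, [nat_lit 2, nat_lit 0], [nat_lit 0, nat_lit 2], nthN cv0 (nat_lit 1)⟩,
  ⟨nat_lit 2, nat_lit 3, nat_lit 0, [nat_lit 2, nat_lit 1], [nat_lit 1, nat_lit 2], nthN cv0 (nat_lit 2)⟩,
  ⟨nat_lit 2, nat_lit 3, nat_lit 0, [nat_lit 0, nat_lit 0, nat_lit 0, nat_lit 0, nat_lit 0, nat_lit 0, nat_lit 0], [], nthN cv0 (nat_lit 3)⟩]

theorem con0 : allL cc0 (P.conOk fu) = true := by decide +kernel

noncomputable def cv1 : List ℕ := [nat_lit 0x1800000000050000000]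

noncomputable def cc1 : List Con := [
  ⟨nat_lit 2, nat_lit 3, nat_lit 0, [nat_lit 1, nat_lit 1, nat_lit 1, nat_lit 1, nat_lit 1, nat_lit 1, nat_lit 1], [], nthN cv1 (nat_lit 0)⟩]

theorem con1 : allL cc1 (P.conOk fu) = true := by decide +kernel

noncomputable def CV : List (List ℕ) := [cv0, cv1]

noncomputable def MU : List (List ℕ) := [[nat_lit 0x55f],
  [nat_lit 0,
  nat_lit 0x2586],
  [nat_lit 0x1c,
  nat_lit 0xc4,
  nat_lit 0x3]]

noncomputable def lv : List (List (List ℕ) × ℕ × List (ℕ × List ℕ)) := [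
  ([[nat_lit 1], [nat_lit 2]], nat_lit 1804, [(nat_lit 1804, []), (nat_lit 3833, [nat_lit 1, nat_lit 1, nat_lit 1, nat_lit 0, nat_lit 0]), (nat_lit 11182, [nat_lit 1, nat_lit 1, nat_lit 0]), (nat_lit 11270, [nat_lit 1, nat_lit 1, nat_lit 0, nat_lit 0, nat_lit 0, nat_lit 0]), (nat_lit 25291, [nat_lit 1, nat_lit 1, nat_lit 1, nat_lit 1, nat_lit 1, nat_lit 0, nat_lit 0, nat_lit 0, nat_lit 0, nat_lit 0]), (nat_lit 32663, [nat_lit 1, nat_lit 1, nat_lit 1, nat_lit 0, nat_lit 0, nat_lit 0, nat_lit 0]), (nat_lit 33383, [nat_lit 1, nat_lit 1, nat_lit 1, nat_lit 1, nat_lit 1, nat_lit 0, nat_lit 0, nat_lit 0]), (nat_lit 35758, [nat_lit 1, nat_lit 1, nat_lit 1, nat_lit 1]), (nat_lit 40771, [nat_lit 1, nat_lit 1, nat_lit 1, nat_lit 1, nat_lit 1, nat_lit 0, nat_lit 0, nat_lit 0, nat_lit 0, nat_lit 0, nat_lit 0]), (nat_lit 44424, [nat_lit 1, nat_lit 0, nat_lit 0, nat_lit 0]), (nat_lit 45378, [nat_lit 1, nat_lit 0, nat_lit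 0, nat_lit 0, nat_lit 0, nat_lit 0, nat_lit 0]), (nat_lit 46820, [nat_lit 1, nat_lit 1, nat_lit 0, nat_lit 0, nat_lit 0, nat_lit 0, nat_lit 0, nat_lit 0]), (nat_lit 51046, [nat_lit 1, nat_lit 1, nat_lit 1, nat_lit 0, nat_lit 0, nat_lit 0, nat_lit 0, nat_lit 0, nat_lit 0]), (nat_lit 54884, [nat_lit 1, nat_lit 0, nat_lit 0, nat_lit 0, nat_lit 0]), (nat_lit 68956, [nat_lit 1, nat_lit 1]), (nat_lit 72262, [nat_lit 1, nat_lit 1, nat_lit 1, nat_lit 1, nat_lit 1, nat_lit 1, nat_lit 0, nat_lit 0, nat_lit 0]), (nat_lit 76013, [nat_lit 1, nat_lit 1, nat_lit 1, nat_lit 1, nat_lit 1, nat_lit 1]), (nat_lit 78315, [nat_lit 1, nat_lit 1, nat_lit 1, nat_lit 1, nat_lit 1]), (nat_lit 88296, [nat_lit 1, nat_lit 1, nat_lit 0, nat_lit 0, nat_lit 0, nat_lit 0, nat_lit 0]), (nat_lit 92347, [nat_lit 1, nat_lit 1, nat_lit 1, nat_lit 1, nat_lit 0, nat_lit 0, nat_lit 0]), (nat_lit 101917, [nat_lit 1, nat_lit 1, nat_lit 1, nat_lit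 1, nat_lit 0, nat_lit 0, nat_lit 0, nat_lit 0, nat_lit 0, nat_lit 0]), (nat_lit 114875, [nat_lit 1, nat_lit 1, nat_lit 1, nat_lit 1, nat_lit 1, nat_lit 1, nat_lit 0]), (nat_lit 118438, [nat_lit 1, nat_lit 1, nat_lit 1, nat_lit 0, nat_lit 0, nat_lit 0]), (nat_lit 137528, [nat_lit 1, nat_lit 1, nat_lit 0, nat_lit 0]), (nat_lit 147836, [nat_lit 1, nat_lit 1, nat_lit 1]), (nat_lit 159373, [nat_lit 1]), (nat_lit 171972, [nat_lit 1, nat_lit 1, nat_lit 1, nat_lit 1, nat_lit 1, nat_lit 0, nat_lit 0]), (nat_lit 172636, [nat_lit 1, nat_lit 1, nat_lit 1, nat_lit 1, nat_lit 1, nat_lit 1, nat_lit 0, nat_lit 0]), (nat_lit 180345, [nat_lit 1, nat_lit 1, nat_lit 1, nat_lit 1, nat_lit 0, nat_lit 0]), (nat_lit 186282, [nat_lit 1, nat_lit 1, nat_lit 1, nat_lit 1, nat_lit 1, nat_lit 0]), (nat_lit 188099, [nat_lit 1, nat_lit 0, nat_lit 0]), (nat_lit 203013, [nat_lit 0, nat_lit 0, nat_lit 0]), (nat_lit 212125, [nat_lit 1, nat_lit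 1, nat_lit 1, nat_lit 1, nat_lit 0]), (nat_lit 216025, [nat_lit 0, nat_lit 0, nat_lit 0, nat_lit 0]), (nat_lit 216645, [nat_lit 0, nat_lit 0]), (nat_lit 233140, [nat_lit 0]), (nat_lit 233601, [nat_lit 0, nat_lit 0, nat_lit 0, nat_lit 0, nat_lit 0, nat_lit 0]), (nat_lit 236486, [nat_lit 1, nat_lit 1, nat_lit 1, nat_lit 1, nat_lit 1, nat_lit 0, nat_lit 0, nat_lit 0, nat_lit 0]), (nat_lit 251714, [nat_lit 1, nat_lit 1, nat_lit 1, nat_lit 1, nat_lit 1, nat_lit 1, nat_lit 0, nat_lit 0, nat_lit 0, nat_lit 0, nat_lit 0, nat_lit 0]), (nat_lit 253921, [nat_lit 1, nat_lit 0]), (nat_lit 254222, [nat_lit 1, nat_lit 0, nat_lit 0, nat_lit 0, nat_lit 0, nat_lit 0]), (nat_lit 264560, [nat_lit 1, nat_lit 1, nat_lit 1, nat_lit 1, nat_lit 0, nat_lit 0, nat_lit 0, nat_lit 0, nat_lit 0]), (nat_lit 267248, [nat_lit 1, nat_lit 1, nat_lit 1, nat_lit 1, nat_lit 1, nat_lit 1, nat_lit 0, nat_lit 0, nat_lit 0, nat_lit 0, nat_lit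 0]), (nat_lit 267642, [nat_lit 1, nat_lit 1, nat_lit 0, nat_lit 0, nat_lit 0]), (nat_lit 268254, [nat_lit 0, nat_lit 0, nat_lit 0, nat_lit 0, nat_lit 0]), (nat_lit 273934, [nat_lit 1, nat_lit 1, nat_lit 1, nat_lit 0]), (nat_lit 292375, [nat_lit 1, nat_lit 1, nat_lit 1, nat_lit 0, nat_lit 0, nat_lit 0, nat_lit 0, nat_lit 0]), (nat_lit 292911, [nat_lit 1, nat_lit 1, nat_lit 1, nat_lit 1, nat_lit 1, nat_lit 1, nat_lit 0, nat_lit 0, nat_lit 0, nat_lit 0]), (nat_lit 301752, [nat_lit 1, nat_lit 1, nat_lit 1, nat_lit 1, nat_lit 0, nat_lit 0, nat_lit 0, nat_lit 0])]),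
  ([[nat_lit 0]], nat_lit 0, [(nat_lit 0, []), (nat_lit 36911, [nat_lit 0]), (nat_lit 39561, [nat_lit 0, nat_lit 0]), (nat_lit 171015, [nat_lit 0, nat_lit 0, nat_lit 0, nat_lit 0, nat_lit 0, nat_lit 0]), (nat_lit 238084, [nat_lit 0, nat_lit 0, nat_lit 0, nat_lit 0, nat_lit 0]), (nat_lit 245226, [nat_lit 0, nat_lit 0, nat_lit 0]), (nat_lit 249648, [nat_lit 0, nat_lit 0, nat_lit 0, nat_lit 0])])]

theorem rel0 : P.relRow (dT Fi24G.TP W) Fi24Chn.B 0 = true := by decide +kernel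
theorem rel1 : P.relRow (dT Fi24G.TP W) Fi24Chn.B 1 = true := by decide +kernel
theorem rel2 : P.relRow (dT Fi24G.TP W) Fi24Chn.B 2 = true := by decide +kernel
theorem fus0 : P.fusOk (dT Fi24G.TP W) Fi24Chn.B fu 0 = true := by decide +kernel
theorem fus1 : P.fusOk (dT Fi24G.TP W) Fi24Chn.B fu 1 = true := by decide +kernel
theorem fus2 : P.fusOk (dT Fi24G.TP W) Fi24Chn.B fu 2 = true := by decide +kernel
theorem fin0 : P.finRow lam (bs :: CV) MU 0 = true := by decide +kernel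
theorem fin1 : P.finRow lam (bs :: CV) MU 1 = true := by decide +kernel
theorem fin2 : P.finRow lam (bs :: CV) MU 2 = true := by decide +kernel

theorem pm {G : Type*} [Group G] [Finite G] {A : RAct G 306936} {g : ℕ → G} (hb : A.IsBase Fi24Chn.B)
    (h : A.Tab g 144 Fi24G.TP) (ho : Nat.card G = 1255205709190661721292800) : PMult G 7 0 0 :=
  pmult_of_tab hb h ho P (show Nat.Prime 7 by norm_num) W fu 0 lam bs mo [cc0, cc1] CV MU lv 3
    (by decide +kernel) (forall_lt_succ' (forall_lt_succ' (forall_lt_succ' forall_lt_zero' rel0) rel1) rel2) (by decide +kernel)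
    (forall_lt_succ' (forall_lt_succ' (forall_lt_succ' forall_lt_zero' fus0) fus1) fus2)
    (by decide +kernel) (by decide +kernel) (by decide +kernel) (by decide +kernel)
    (List.forall_mem_cons.mpr ⟨con0, (List.forall_mem_cons.mpr ⟨con1, (by simp)⟩)⟩)
    (forall_lt_succ' (forall_lt_succ' (forall_lt_succ' forall_lt_zero' fin0) fin1) fin2) (by decide +kernel)

end Cfsg.Agent.L0.Fi24P7
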