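import Cfsg.Agent.L0.PcCert
import Cfsg.Agent.L0.Dw
import Cfsg.Agent.L0.HN.ChN

/-! Generated certificate: the `5`-part of a Schur multiplier. -/

set_option autoImplicit false
set_option maxRecDepth 100000

namespace Cfsg.Agent.L0.HNP5

noncomputable def W : List (List ℕ) := [
  dw (nat_lit 3) (nat_lit 7) (nat_lit 22) (nat_lit 0x2244a51c12489a411),
  dw (nat_lit 3) (nat_lit 7) (nat_lit 19) (nat_lit 0x85963b41644704),
  dw (nat_lit 3) (nat_lit 7) (nat_lit 15) (nat_lit 0x6cb4a09a414),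
  dw (nat_lit 3) (nat_lit 7) (nat_lit 14) (nat_lit 0x1cb4a124648)]

noncomputable def P : PcP := ⟨nat_lit 5, nat_lit 3, nat_lit 2, nat_lit 0x1008001800, nat_lit 9, nat_lit 511, nat_lit 13, nat_lit 8191, nat_lit 5, nat_lit 9, nat_lit 6, nat_lit 7⟩

noncomputable def fu : Fus := ⟨[nat_lit 64, nat_lit 8, nat_lit 1],
  [nat_lit 260, nat_lit 36, nat_lit 1],
  [nat_lit 3, nat_lit 3, nat_lit 3]⟩

noncomputable def lam : List ℕ := [nat_lit 0x0,
  nat_lit 0x0,
  nat_lit 0x8000]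

noncomputable def bs : List ℕ := []

noncomputable def mo : List ℕ := []

noncomputable def cv0 : List ℕ := [nat_lit 0x80000000000000000,
  nat_lit 0x18000000000,
  nat_lit 0x30000000000000,
  nat_lit 0x80000000000000003,
  nat_lit 0x8000000000c000000]

noncomputable def cc0 : List Con := [
  ⟨nat_lit 1, nat_lit 0, nat_lit 0, [nat_lit 8], [], nthN cv0 (nat_lit 0)⟩,
  ⟨nat_lit 2, nat_lit 3, nat_lit 0, [nat_lit 2, nat_lit 0], [nat_lit 0, nat_lit 2], nthN cv0 (nat_lit 1)⟩,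
  ⟨nat_lit 2, nat_lit 3, nat_lit 0, [nat_lit 2, nat_lit 1], [nat_lit 1, nat_lit 2], nthN cv0 (nat_lit 2)⟩,
  ⟨nat_lit 2, nat_lit 3, nat_lit 0, [nat_lit 0, nat_lit 0, nat_lit 0, nat_lit 0, nat_lit 0], [], nthN cv0 (nat_lit 3)⟩,
  ⟨nat_lit 2, nat_lit 3, nat_lit 0, [nat_lit 1, nat_lit 1, nat_lit 1, nat_lit 1, nat_lit 1], [], nthN cv0 (nat_lit 4)⟩]

theorem con0 : allL cc0 (P.conOk fu) = true := by decide +kernel

noncomputable def CV : List (List ℕ) := [cv0]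

noncomputable def MU : List (List ℕ) := [[nat_lit 0x179],
  [nat_lit 0,
  nat_lit 0x755],
  [nat_lit 0xf,
  nat_lit 0x4b,
  nat_lit 0x1]]

noncomputable def lv : List (List (List ℕ) × ℕ × List (ℕ × List ℕ)) := [
  ([[nat_lit 1], [nat_lit 2]], nat_lit 0, [(nat_lit 0, []), (nat_lit 141, [nat_lit 1, nat_lit 1, nat_lit 1]), (nat_lit 164, [nat_lit 1, nat_lit 1, nat_lit 0, nat_lit 0, nat_lit 0, nat_lit 0]), (nat_lit 181, [nat_lit 1, nat_lit 1, nat_lit 1, nat_lit 0, nat_lit 0, nat_lit 0]), (nat_lit 197, [nat_lit 1, nat_lit 1, nat_lit 0, nat_lit 0]), (nat_lit 204, [nat_lit 1, nat_lit 0, nat_lit 0, nat_lit 0]), (nat_lit 207, [nat_lit 0]), (nat_lit 277, [nat_lit 1, nat_lit 1, nat_lit 1, nat_lit 1]), (nat_lit 286, [nat_lit 1]), (nat_lit 364, [nat_lit 1, nat_lit 1, nat_lit 1, nat_lit 1, nat_lit 0]), (nat_lit 431, [nat_lit 1, nat_lit 1]), (nat_lit 768, [nat_lit 0, nat_lit 0]), (nat_lit 782, [nat_lit 1, nat_lit 0, nat_lit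 0]), (nat_lit 853, [nat_lit 1, nat_lit 1, nat_lit 1, nat_lit 0, nat_lit 0]), (nat_lit 867, [nat_lit 1, nat_lit 1, nat_lit 1, nat_lit 1, nat_lit 0, nat_lit 0]), (nat_lit 886, [nat_lit 1, nat_lit 1, nat_lit 1, nat_lit 0, nat_lit 0, nat_lit 0, nat_lit 0]), (nat_lit 931, [nat_lit 1, nat_lit 0]), (nat_lit 951, [nat_lit 1, nat_lit 1, nat_lit 0, nat_lit 0, nat_lit 0]), (nat_lit 993, [nat_lit 1, nat_lit 1, nat_lit 1, nat_lit 0]), (nat_lit 1277, [nat_lit 1, nat_lit 1, nat_lit 0]), (nat_lit 1285, [nat_lit 0, nat_lit 0, nat_lit 0]), (nat_lit 1315, [nat_lit 1, nat_lit 0, nat_lit 0, nat_lit 0, nat_lit 0]), (nat_lit 1342, [nat_lit 1, nat_lit 1, nat_lit 1, nat_lit 1, nat_lit 0, nat_lit 0, nat_lit 0, nat_lit 0]), (nat_lit 1363, [nat_lit 0, nat_lit 0, nat_lit 0, nat_lit 0]), (nat_lit 1365, [nat_lit 1, nat_lit 1, nat_lit 1, nat_lit 1, nat_lit 0, nat_lit 0, nat_lit 0])]),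
  ([[nat_lit 0]], nat_lit 2, [(nat_lit 2, []), (nat_lit 136, [nat_lit 0, nat_lit 0, nat_lit 0, nat_lit 0]), (nat_lit 160, [nat_lit 0, nat_lit 0]), (nat_lit 187, [nat_lit 0]), (nat_lit 975, [nat_lit 0, nat_lit 0, nat_lit 0])])]

theorem rel0 : P.relRow (dT HNN.T W) HNChN.B 0 = true := by decide +kernel
theorem rel1 : P.relRow (dT HNN.T W) HNChN.B 1 = true := by decide +kernel
theorem rel2 : P.relRow (dT HNN.T W) HNChN.B 2 = true := by decide +kernel
theorem fus0 : P.fusOk (dT HNN.T W) HNChN.B fu 0 = true := by decide +kernel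
theorem fus1 : P.fusOk (dT HNN.T W) HNChN.B fu 1 = true := by decide +kernel
theorem fus2 : P.fusOk (dT HNN.T W) HNChN.B fu 2 = true := by decide +kernel
theorem fin0 : P.finRow lam (bs :: CV) MU 0 = true := by decide +kernel
theorem fin1 : P.finRow lam (bs :: CV) MU 1 = true := by decide +kernel
theorem fin2 : P.finRow lam (bs :: CV) MU 2 = true := by decide +kernel

theorem pm {G : Type*} [Group G] [Finite G] {A : RAct G 1408} {g : ℕ → G} (hb : A.IsBase HNChN.B)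
    (h : A.Tab g 6 HNN.T) (ho : Nat.card G = 88704000) : PMult G 5 0 0 :=
  pmult_of_tab hb h ho P (show Nat.Prime 5 by norm_num) W fu 0 lam bs mo [cc0] CV MU lv 3
    (by decide +kernel) (forall_lt_succ' (forall_lt_succ' (forall_lt_succ' forall_lt_zero' rel0) rel1) rel2) (by decide +kernel)
    (forall_lt_succ' (forall_lt_succ' (forall_lt_succ' forall_lt_zero' fus0) fus1) fus2)
    (by decide +kernel) (by decide +kernel) (by decide +kernel) (by decide +kernel)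
    (List.forall_mem_cons.mpr ⟨con0, (by simp)⟩)
    (forall_lt_succ' (forall_lt_succ' (forall_lt_succ' forall_lt_zero' fin0) fin1) fin2) (by decide +kernel)

end Cfsg.Agent.L0.HNP5
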