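import Cfsg.Agent.L0.PcCert
import Cfsg.Agent.L0.Dw
import Cfsg.Agent.H9.OutHe

/-! Generated certificate: the `2`-part of a Schur multiplier. -/

set_option autoImplicit false
set_option maxRecDepth 100000

namespace Cfsg.Agent.L0.HeP2

noncomputable def W : List (List ℕ) := [
  dw (nat_lit 6) (nat_lit 63) (nat_lit 6) (nat_lit 0x485163c8),
  dw (nat_lit 6) (nat_lit 63) (nat_lit 7) (nat_lit 0x526a03b0f),
  dw (nat_lit 6) (nat_lit 63) (nat_lit 7) (nat_lit 0x4251a601d0),
  dw (nat_lit 6) (nat_lit 63) (nat_lit 7) (nat_lit 0x15d6a5500c),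
  dw (nat_lit 6) (nat_lit 63) (nat_lit 7) (nat_lit 0x13df4dc985),
  dw (nat_lit 6) (nat_lit 63) (nat_lit 7) (nat_lit 0x3836ed882),
  dw (nat_lit 6) (nat_lit 63) (nat_lit 6) (nat_lit 0x5cd4983cf),
  dw (nat_lit 6) (nat_lit 63) (nat_lit 7) (nat_lit 0x82ca55803),
  dw (nat_lit 6) (nat_lit 63) (nat_lit 6) (nat_lit 0x510490613),
  dw (nat_lit 6) (nat_lit 63) (nat_lit 7) (nat_lit 0x130c04d384),
  dw (nat_lit 6) (nat_lit 63) (nat_lit 7) (nat_lit 0x460a8f24d),
  dw (nat_lit 6) (nat_lit 63) (nat_lit 7) (nat_lit 0x10a6226181),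
  dw (nat_lit 6) (nat_lit 63) (nat_lit 7) (nat_lit 0x9624670f),
  dw (nat_lit 6) (nat_lit 63) (nat_lit 7) (nat_lit 0x3244c054c)]

noncomputable def P : PcP := ⟨nat_lit 2, nat_lit 1, nat_lit 9, nat_lit 0x4010040100401004010040000802008020080300c0300004010040140401404000080240b0200802000044100541705400088200982500c6f1e878000882000040000, nat_lit 10, nat_lit 1023, nat_lit 11, nat_lit 2047, nat_lit 2, nat_lit 75, nat_lit 8, nat_lit 6⟩

noncomputable def fu : Fus := ⟨[nat_lit 256, nat_lit 64, nat_lit 16, nat_lit 8, nat_lit 4, nat_lit 2, nat_lit 1, nat_lit 512, nat_lit 128, nat_lit 32, nat_lit 16, nat_lit 8, nat_lit 1, nat_lit 640, nat_lit 64, nat_lit 4, nat_lit 2, nat_lit 1, nat_lit 323, nat_lit 4],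
  [nat_lit 517, nat_lit 791, nat_lit 100, nat_lit 771, nat_lit 62, nat_lit 3, nat_lit 1, nat_lit 57, nat_lit 32, nat_lit 128, nat_lit 646, nat_lit 7, nat_lit 1, nat_lit 645, nat_lit 80, nat_lit 31, nat_lit 1, nat_lit 2, nat_lit 376, nat_lit 1],
  [nat_lit 10, nat_lit 10, nat_lit 10, nat_lit 10, nat_lit 10, nat_lit 10, nat_lit 10, nat_lit 11, nat_lit 11, nat_lit 11, nat_lit 11, nat_lit 11, nat_lit 11, nat_lit 12, nat_lit 12, nat_lit 12, nat_lit 12, nat_lit 12, nat_lit 13, nat_lit 13]⟩

noncomputable def lam : List ℕ := [nat_lit 0x0,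
  nat_lit 0x0,
  nat_lit 0x0,
  nat_lit 0x0,
  nat_lit 0x4000010020040000100000000000,
  nat_lit 0x4000010020000000000000000000,
  nat_lit 0x100000000000,
  nat_lit 0x4008000020040000000000000000,
  nat_lit 0x20040000000000000000,
  nat_lit 0x8000020040000000000000000]

noncomputable def bs : List ℕ := []

noncomputable def mo : List ℕ := []

noncomputable def cv0 : List ℕ := [nat_lit 0x1000000000000000000000000200000000000000000000000000000000000000000000000000000000000000000000000000000000000000000000000000000000000,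
  nat_lit 0x40080000000000000000000000000000000000000000000000000000000000000000000000000000000000000000000000000000000000000000000000000000000000000000000000000,
  nat_lit 0x40000000000000000000000008000000000000000000000000000000000000000000000000000000000000000000000000000000000000000000000000000000000000000000000000000,
  nat_lit 0x200000000002000000000000000000000000000000000000000000000000000000000000000,
  nat_lit 0x200000000000004000000000000000000000000000000000000000000000000000000000000,
  nat_lit 0x40000100000000000000000000000000000000000000000000000000000000000000000000000000000000000000000000000000000000000000000000000000000000000000000000000,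
  nat_lit 0x40000000000000000000004000000000000000000000000000000000000000000000000000000000000000000000000000000000000000000000000000000000000000000000000000000,
  nat_lit 0x40000000000000000002000000000000000000000000000000000000000000000000000000000000000000000000000000000000000000000000000000000000000000000000000000000,
  nat_lit 0x10000000000100000000000000000000000000000000000000000000000000000000000000000000000000000000000000000000000000000000000000,
  nat_lit 0x40000000000400000000000000000000000000000000000000000000000000000000000000000000000000000000000000000000000000000000000000000000000000000000000000000,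
  nat_lit 0x40000000000000800000000000000000000000000000000000000000000000000000000000000000000000000000000000000000000000000000000000000000000000000000000000000,
  nat_lit 0x40000000200000000000000000000000000000000000000000000000000000000000000000000000000000000000000000000000000000000000000000000000000000000000000000000,
  nat_lit 0x400000000000000000000000080000000000000000000000000000000000000000000000000000000000000000000000000000000000000000000000000000000000000000,
  nat_lit 0x80000000000000000000000000000000000000000000000000000000000000000000000000000000000000000000000000000000000000000000000000000000000000000000000000,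
  nat_lit 0x8000000000000000000000000000000000000000000000000000000000,
  nat_lit 0x40000100000000001000000000000020000000000000000000000000000000000000000000000000000000000000000000000000000000000000000000000000000000000000000000000,
  nat_lit 0x40000100000000800000000000000000000000000000000000002000000010000000000000000000000000000000000000000000000000000000000000000000000000000000000000000,
  nat_lit 0x40000100000000000000000008000000000000000000000000002000000000000000000100000000000000000000000000000000000000000000000000000000000000000000000000000,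
  nat_lit 0x40000100000400000000000000000000000000000000000000002000008000000000000000000000000000000000000000000000000000000000000000000000000000000000000000000,
  nat_lit 0x10020000000100000000000002000000010000000000000000000000000000000000000000000000000000000000000000000000000000000000000000,
  nat_lit 0x40000100000000000002000000000000000000000000000000002000000000000040000000000000000000000000000000000000000000000000000000000000000000000000000000000,
  nat_lit 0x40080000200000000000000000010000040000000000000000000000000000000000000000000000000000000000000000000000000000000000000000000000000000000000000000000,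
  nat_lit 0x2000000000000000000000000000000000000000000000040000000000000000000000000000000000000000000000000000000000000000000000000000000000,
  nat_lit 0x200000000000000000000000000000000000000000000004000000000000000000000000000000000000000000000000000000000000000000000000000000000000000000000,
  nat_lit 0x40080000000000000000000000010020000000000000000800002000000000000000080000000000000000000000000000000000000000000000000000000000000000000000000000000,
  nat_lit 0x200000000000000000000000040000000000000000000004000000000000000000000000000000000000000000000000000000000000000000000000000000000000000000000,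
  nat_lit 0x80100200000000000000000000000040000000000400000000004000000000040000000000000800000000000000000000000000000000000000000000000000000000000000000000,
  nat_lit 0x80100000000000000004000000020000000000000000001000000000000000000080100000000000000000000000000000000000000000000000000000000000000000000000000000,
  nat_lit 0x100200400000000000000000000000000000000000000002000008000000000000000200400800000000008010020000000000200400000000004000000000000000000000000000,
  nat_lit 0x80000000000800000000008000000040080100000000001000000000000000000000000000400800000000000000000000000000000000000000000000000000000000000000000000,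
  nat_lit 0x40000100200400001000000000000000000000000000000000000004008010020000000000000400000000000000000020000000000000000000000000000000000000000000000000000,
  nat_lit 0x80100000000800002000000010020040000100000400000002004000010000040000000200000800002000000000000000000000000400001000000000000000000000000000000000,
  nat_lit 0x80000000000000000000000000020040000100000000800002000008000000000000000200400800000004000010020000000100000400000002000000000000000000000000000000,
  nat_lit 0x40000000000400800000004000000000000000100200000800000000000000000000000000200400801000000000010020040000000000400800000000000000000000000000000000000,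
  nat_lit 0x801002000000000020000000100200400000002004000010020000000000200000801000000000000000000000000000400800000000000000000000000000000000000,
  nat_lit 0x40000000200000800000000008000020040080100000000001000004008010000000000100000400000002000008000020000080000000000001000004000000000000000000000000000,
  nat_lit 0x40000100000000000000004000010000040000000000400800000004008010000000080000000000001002004000000020000080000000000001002000000000000000000000000000000,
  nat_lit 0x40000100000000000000000008000000000000000000000000002000000000000000000100000000000000000000000000000000000000000000000000000000000000000000000400001,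
  nat_lit 0x80000000000000000000008010000000000000000000801000000000000000000000000200000000000000000000000000000000000000000000000000000000000000000000400801,
  nat_lit 0x800000000000000000000080000000000000000000008000020000000000000000801000000000000000000000000000000000000000000000000000000000000000000000000000000000000000000000000000]

noncomputable def cc0 : List Con := [
  ⟨nat_lit 1, nat_lit 3, nat_lit 3, [nat_lit 64], [], nthN cv0 (nat_lit 0)⟩,
  ⟨nat_lit 0, nat_lit 0, nat_lit 8, [nat_lit 2], [], nthN cv0 (nat_lit 1)⟩,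
  ⟨nat_lit 1, nat_lit 0, nat_lit 0, [nat_lit 2], [], nthN cv0 (nat_lit 2)⟩,
  ⟨nat_lit 0, nat_lit 1, nat_lit 2, [nat_lit 128], [], nthN cv0 (nat_lit 3)⟩,
  ⟨nat_lit 1, nat_lit 1, nat_lit 1, [nat_lit 128], [], nthN cv0 (nat_lit 4)⟩,
  ⟨nat_lit 0, nat_lit 1, nat_lit 7, [nat_lit 4], [], nthN cv0 (nat_lit 5)⟩,
  ⟨nat_lit 1, nat_lit 1, nat_lit 1, [nat_lit 4], [], nthN cv0 (nat_lit 6)⟩,
  ⟨nat_lit 1, nat_lit 2, nat_lit 2, [nat_lit 2], [], nthN cv0 (nat_lit 7)⟩,
  ⟨nat_lit 0, nat_lit 3, nat_lit 4, [nat_lit 32], [], nthN cv0 (nat_lit 8)⟩,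
  ⟨nat_lit 0, nat_lit 4, nat_lit 5, [nat_lit 16], [], nthN cv0 (nat_lit 9)⟩,
  ⟨nat_lit 1, nat_lit 4, nat_lit 4, [nat_lit 16], [], nthN cv0 (nat_lit 10)⟩,
  ⟨nat_lit 0, nat_lit 4, nat_lit 6, [nat_lit 8], [], nthN cv0 (nat_lit 11)⟩,
  ⟨nat_lit 1, nat_lit 3, nat_lit 3, [nat_lit 16], [], nthN cv0 (nat_lit 12)⟩,
  ⟨nat_lit 1, nat_lit 3, nat_lit 3, [nat_lit 2], [], nthN cv0 (nat_lit 13)⟩,
  ⟨nat_lit 0, nat_lit 0, nat_lit 1, [nat_lit 128], [], nthN cv0 (nat_lit 14)⟩,
  ⟨nat_lit 1, nat_lit 3, nat_lit 3, [nat_lit 4], [], nthN cv0 (nat_lit 15)⟩,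
  ⟨nat_lit 0, nat_lit 0, nat_lit 4, [nat_lit 32], [], nthN cv0 (nat_lit 16)⟩,
  ⟨nat_lit 1, nat_lit 0, nat_lit 0, [nat_lit 32], [], nthN cv0 (nat_lit 17)⟩,
  ⟨nat_lit 0, nat_lit 0, nat_lit 5, [nat_lit 16], [], nthN cv0 (nat_lit 18)⟩,
  ⟨nat_lit 0, nat_lit 1, nat_lit 4, [nat_lit 32], [], nthN cv0 (nat_lit 19)⟩,
  ⟨nat_lit 1, nat_lit 2, nat_lit 2, [nat_lit 16], [], nthN cv0 (nat_lit 20)⟩,
  ⟨nat_lit 0, nat_lit 3, nat_lit 6, [nat_lit 8], [], nthN cv0 (nat_lit 21)⟩,
  ⟨nat_lit 0, nat_lit 0, nat_lit 2, [nat_lit 32], [], nthN cv0 (nat_lit 22)⟩,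
  ⟨nat_lit 0, nat_lit 0, nat_lit 5, [nat_lit 8], [], nthN cv0 (nat_lit 23)⟩,
  ⟨nat_lit 1, nat_lit 1, nat_lit 1, [nat_lit 32], [], nthN cv0 (nat_lit 24)⟩,
  ⟨nat_lit 0, nat_lit 1, nat_lit 5, [nat_lit 8], [], nthN cv0 (nat_lit 25)⟩,
  ⟨nat_lit 0, nat_lit 1, nat_lit 2, [nat_lit 32], [], nthN cv0 (nat_lit 26)⟩,
  ⟨nat_lit 0, nat_lit 0, nat_lit 1, [nat_lit 32], [], nthN cv0 (nat_lit 27)⟩,
  ⟨nat_lit 1, nat_lit 0, nat_lit 0, [nat_lit 64], [], nthN cv0 (nat_lit 28)⟩,
  ⟨nat_lit 0, nat_lit 0, nat_lit 3, [nat_lit 8], [], nthN cv0 (nat_lit 29)⟩,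
  ⟨nat_lit 0, nat_lit 0, nat_lit 3, [nat_lit 16], [], nthN cv0 (nat_lit 30)⟩,
  ⟨nat_lit 1, nat_lit 2, nat_lit 2, [nat_lit 64], [], nthN cv0 (nat_lit 31)⟩,
  ⟨nat_lit 1, nat_lit 1, nat_lit 1, [nat_lit 64], [], nthN cv0 (nat_lit 32)⟩,
  ⟨nat_lit 0, nat_lit 1, nat_lit 3, [nat_lit 64], [], nthN cv0 (nat_lit 33)⟩,
  ⟨nat_lit 0, nat_lit 2, nat_lit 3, [nat_lit 64], [], nthN cv0 (nat_lit 34)⟩,
  ⟨nat_lit 0, nat_lit 0, nat_lit 2, [nat_lit 64], [], nthN cv0 (nat_lit 35)⟩,
  ⟨nat_lit 0, nat_lit 1, nat_lit 2, [nat_lit 64], [], nthN cv0 (nat_lit 36)⟩,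
  ⟨nat_lit 2, nat_lit 10, nat_lit 0, [nat_lit 0, nat_lit 0], [], nthN cv0 (nat_lit 37)⟩,
  ⟨nat_lit 2, nat_lit 10, nat_lit 0, [nat_lit 3, nat_lit 3], [], nthN cv0 (nat_lit 38)⟩,
  ⟨nat_lit 2, nat_lit 10, nat_lit 0, [nat_lit 5, nat_lit 0], [nat_lit 0, nat_lit 5, nat_lit 6], nthN cv0 (nat_lit 39)⟩]

theorem con0 : allL cc0 (P.conOk fu) = true := by decide +kernel

noncomputable def cv1 : List ℕ := [nat_lit 0x40080100000000800000000000010000000000100000000000002000000010020000000000000000000000000000010000000000000000400800000000008000000000000000000000000,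
  nat_lit 0x40000000200000000000000000010020040080100000000000000004008010000000000000200400800000000000010020000000000000400000000000000000000000000000000000000,
  nat_lit 0x801000000000000000000080000000400000000004008010000000000000000000801000000008000000000000100000000000000000000010000000000100200000000000000008000000000000000000400801,
  nat_lit 0x801002000000000000000000000200000001000000000010000000000000000000000000000000010020000000100000000800000000000000020000000100000000000000004000000000040000000000000000,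
  nat_lit 0x801000004000010000000080100200000000002004000000000000000100200000800000004000010020000000100000400000000004000000020040000000000000000,
  nat_lit 0x400000000000000000000000080000000000000,
  nat_lit 0x40080100000000000000000000010020000000000000000000002000000000000000000000200000000000000000000000000000000000000000000000000000000000000000000000000,
  nat_lit 0x20000000000000000000000000000000000000000000000000000002000000000000000000000000400000000000000000000040000000000000800000000000000000000000000000000000000000000000000000000000000000000,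
  nat_lit 0x20000000000000000000000000000000000000000000000000000000000000000000000000000000400000000000000000000040000000000000000000000000000020000000000000000000000000000000000000000000200000000,
  nat_lit 0x400800000000000000000000000000000000000000000000000000000000000200400800000000000010020000000000000400000000000000000000000000000000000001,
  nat_lit 0x1002000000000000000000000000000000000000000000000000080000000000000000000000000000000000000000000000000000000000000000000000000000000000000000010000040000000000000000000000000000000000000000000000000,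
  nat_lit 0x40000100000000000000000008000000000000000000400001000000000000000000000000000000000000000000000000000000000000000000000000000000000000000000000000000,
  nat_lit 0x40080100200400000000000000010020040080000000000000000004008000000000000000200400000000000000010000000000000000000000000000000000000000000000000000000,
  nat_lit 0x40000100200400800000004000000020000000000000000000000000000000020000080000000000000000000000000000000000000000000000000000000000000000000000000000000]

noncomputable def cc1 : List Con := [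
  ⟨nat_lit 2, nat_lit 10, nat_lit 0, [nat_lit 2, nat_lit 2], [], nthN cv1 (nat_lit 0)⟩,
  ⟨nat_lit 2, nat_lit 10, nat_lit 0, [nat_lit 4, nat_lit 4], [], nthN cv1 (nat_lit 1)⟩,
  ⟨nat_lit 2, nat_lit 10, nat_lit 0, [nat_lit 1, nat_lit 1], [nat_lit 5, nat_lit 6], nthN cv1 (nat_lit 2)⟩,
  ⟨nat_lit 2, nat_lit 10, nat_lit 0, [nat_lit 2, nat_lit 0], [nat_lit 0, nat_lit 2, nat_lit 4, nat_lit 5, nat_lit 6], nthN cv1 (nat_lit 3)⟩,
  ⟨nat_lit 2, nat_lit 10, nat_lit 0, [nat_lit 3, nat_lit 2], [nat_lit 2, nat_lit 3], nthN cv1 (nat_lit 4)⟩,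
  ⟨nat_lit 2, nat_lit 11, nat_lit 0, [nat_lit 8, nat_lit 8], [], nthN cv1 (nat_lit 5)⟩,
  ⟨nat_lit 2, nat_lit 11, nat_lit 0, [nat_lit 11, nat_lit 11], [], nthN cv1 (nat_lit 6)⟩,
  ⟨nat_lit 2, nat_lit 11, nat_lit 0, [nat_lit 11, nat_lit 9], [nat_lit 9, nat_lit 11, nat_lit 12], nthN cv1 (nat_lit 7)⟩,
  ⟨nat_lit 2, nat_lit 11, nat_lit 0, [nat_lit 10, nat_lit 9], [nat_lit 9, nat_lit 10, nat_lit 12], nthN cv1 (nat_lit 8)⟩,
  ⟨nat_lit 2, nat_lit 11, nat_lit 0, [nat_lit 7, nat_lit 7], [], nthN cv1 (nat_lit 9)⟩,
  ⟨nat_lit 2, nat_lit 12, nat_lit 0, [nat_lit 14, nat_lit 14], [nat_lit 16, nat_lit 17], nthN cv1 (nat_lit 10)⟩,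
  ⟨nat_lit 2, nat_lit 12, nat_lit 0, [nat_lit 16, nat_lit 13], [nat_lit 13, nat_lit 16], nthN cv1 (nat_lit 11)⟩,
  ⟨nat_lit 2, nat_lit 12, nat_lit 0, [nat_lit 15, nat_lit 15], [], nthN cv1 (nat_lit 12)⟩,
  ⟨nat_lit 2, nat_lit 13, nat_lit 0, [nat_lit 19, nat_lit 18], [nat_lit 18, nat_lit 19], nthN cv1 (nat_lit 13)⟩]

theorem con1 : allL cc1 (P.conOk fu) = true := by decide +kernel

noncomputable def CV : List (List ℕ) := [cv0, cv1]

noncomputable def MU : List (List ℕ) := [[nat_lit 0x20200020c3622],
  [nat_lit 0x40600bf92d60,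
  nat_lit 0x20220020e3622],
  [nat_lit 0x21800068fe90a2,
  nat_lit 0,
  nat_lit 0x3022006a0f9f02],
  [nat_lit 0,
  nat_lit 0,
  nat_lit 0,
  nat_lit 0],
  [nat_lit 0,
  nat_lit 0x18411c05cf4077,
  nat_lit 0x300200ee07b388,
  nat_lit 0x18121d6e9adb72,
  nat_lit 0x3002006a0f9f02],
  [nat_lit 0x20012087822,
  nat_lit 0x8520026171df7,
  nat_lit 0x104208a4de6da4,
  nat_lit 0x1040066fcb0a20,
  nat_lit 0x38511d461cd672,
  nat_lit 0x18400024640da2],
  [nat_lit 0x4000,
  nat_lit 0x400002f92d32,
  nat_lit 0x400002f92d2a,
  nat_lit 0x18010422f425a3,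
  nat_lit 0x18511d2ee26652,
  nat_lit 0x8000026603f80,
  nat_lit 0x400002f92d22],
  [nat_lit 0x522006,
  nat_lit 0x10511d20f94390,
  nat_lit 0x402082,
  nat_lit 0x30511d20f068d2,
  nat_lit 0x512402,
  nat_lit 0x542202,
  nat_lit 0x802802,
  nat_lit 0x500020],
  [nat_lit 0x10511d28a266d4,
  nat_lit 0x10511d23004e90,
  nat_lit 0x18511d28a246f2,
  nat_lit 0x9a503,
  nat_lit 0x2a02900,
  nat_lit 0x3202,
  nat_lit 0x2800000,
  nat_lit 0x92522,
  nat_lit 0x2a02800],
  [nat_lit 0x2006,
  nat_lit 0x2042,
  nat_lit 0x2082,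
  nat_lit 0x9a502,
  nat_lit 0x2402,
  nat_lit 0x2202,
  nat_lit 0x2802,
  nat_lit 0x2022,
  nat_lit 0x2000,
  nat_lit 0x2002]]

noncomputable def lv : List (List (List ℕ) × ℕ × List (ℕ × List ℕ)) := [
  ([[nat_lit 3], [nat_lit 4], [nat_lit 5], [nat_lit 7], [nat_lit 8], [nat_lit 9]], nat_lit 0, [(nat_lit 0, []), (nat_lit 59, [nat_lit 4, nat_lit 0, nat_lit 3]), (nat_lit 89, [nat_lit 4, nat_lit 1]), (nat_lit 95, [nat_lit 0, nat_lit 0]), (nat_lit 106, [nat_lit 1, nat_lit 2, nat_lit 0]), (nat_lit 181, [nat_lit 0, nat_lit 0, nat_lit 0]), (nat_lit 184, [nat_lit 3, nat_lit 1, nat_lit 2, nat_lit 0]), (nat_lit 192, [nat_lit 2]), (nat_lit 195, [nat_lit 3, nat_lit 1, nat_lit 2]), (nat_lit 205, [nat_lit 4]), (nat_lit 236, [nat_lit 5, nat_lit 3, nat_lit 2]), (nat_lit 299, [nat_lit 4, nat_lit 3, nat_lit 2]), (nat_lit 305, [nat_lit 4, nat_lit 2, nat_lit 0]), (nat_lit 319, [nat_lit 4, nat_lit 3, nat_lit 1]), (nat_lit 326, [nat_lit 4, nat_lit 3]), (nat_lit 350, [nat_lit 4, nat_lit 2]), (nat_lit 355, [nat_lit 1, nat_lit 2]), (nat_lit 359, [nat_lit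 3]), (nat_lit 428, [nat_lit 3, nat_lit 2, nat_lit 0, nat_lit 0]), (nat_lit 537, [nat_lit 3, nat_lit 0, nat_lit 0]), (nat_lit 610, [nat_lit 4, nat_lit 3, nat_lit 2, nat_lit 1]), (nat_lit 638, [nat_lit 1, nat_lit 0, nat_lit 0]), (nat_lit 644, [nat_lit 4, nat_lit 3, nat_lit 1, nat_lit 2]), (nat_lit 664, [nat_lit 3, nat_lit 2]), (nat_lit 697, [nat_lit 3, nat_lit 2, nat_lit 1]), (nat_lit 741, [nat_lit 1, nat_lit 0, nat_lit 3]), (nat_lit 777, [nat_lit 2, nat_lit 1]), (nat_lit 780, [nat_lit 5, nat_lit 2]), (nat_lit 823, [nat_lit 3, nat_lit 1, nat_lit 0]), (nat_lit 851, [nat_lit 4, nat_lit 0, nat_lit 3, nat_lit 2]), (nat_lit 860, [nat_lit 5, nat_lit 3]), (nat_lit 870, [nat_lit 5]), (nat_lit 1007, [nat_lit 3, nat_lit 1, nat_lit 0, nat_lit 0]), (nat_lit 1019, [nat_lit 3, nat_lit 2, nat_lit 0, nat_lit 1]), (nat_lit 1023, [nat_lit 2, nat_lit 0, nat_lit 0]), (nat_lit 1047, [nat_lit 3, nat_lit 0]), (nat_lit 1048, [nat_lit 3, nat_lit 0, nat_lit 1]), (nat_lit 1108, [nat_lit 4, nat_lit 2, nat_lit 1]), (nat_lit 1117, [nat_lit 3, nat_lit 1]),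 (nat_lit 1119, [nat_lit 5, nat_lit 3, nat_lit 1]), (nat_lit 1152, [nat_lit 0, nat_lit 3]), (nat_lit 1190, [nat_lit 5, nat_lit 0, nat_lit 1]), (nat_lit 1198, [nat_lit 4, nat_lit 3, nat_lit 2, nat_lit 0]), (nat_lit 1200, [nat_lit 5, nat_lit 2, nat_lit 0]), (nat_lit 1201, [nat_lit 2, nat_lit 0, nat_lit 1]), (nat_lit 1281, [nat_lit 0, nat_lit 3, nat_lit 2]), (nat_lit 1306, [nat_lit 3, nat_lit 2, nat_lit 0]), (nat_lit 1314, [nat_lit 5, nat_lit 1]), (nat_lit 1356, [nat_lit 0, nat_lit 1, nat_lit 2]), (nat_lit 1358, [nat_lit 3, nat_lit 2, nat_lit 1, nat_lit 0]), (nat_lit 1368, [nat_lit 0]), (nat_lit 1371, [nat_lit 4, nat_lit 0]), (nat_lit 1415, [nat_lit 0, nat_lit 1]), (nat_lit 1477, [nat_lit 4, nat_lit 3, nat_lit 0]), (nat_lit 1670, [nat_lit 5, nat_lit 0]), (nat_lit 1685, [nat_lit 2, nat_lit 1, nat_lit 0]), (nat_lit 1765, [nat_lit 4, nat_lit 1, nat_lit 2]), (nat_lit 1798, [nat_lit 2, nat_lit 0, nat_lit 0, nat_lit 0]), (nat_lit 1872, [nat_lit 5, nat_lit 1, nat_lit 0]), (nat_lit 1888, [nat_lit 0, nat_lit 3, nat_lit 1]), (nat_lit 1927,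 [nat_lit 0, nat_lit 3, nat_lit 2, nat_lit 1]), (nat_lit 1945, [nat_lit 2, nat_lit 0]), (nat_lit 2000, [nat_lit 1]), (nat_lit 2005, [nat_lit 1, nat_lit 0])]),
  ([[nat_lit 2], [nat_lit 6]], nat_lit 155, [(nat_lit 155, []), (nat_lit 201, [nat_lit 0]), (nat_lit 255, [nat_lit 1]), (nat_lit 365, [nat_lit 1, nat_lit 0])]),
  ([[nat_lit 1]], nat_lit 201, [(nat_lit 201, []), (nat_lit 365, [nat_lit 0])]),
  ([[nat_lit 0]], nat_lit 158, [(nat_lit 158, []), (nat_lit 318, [nat_lit 0])])]

theorem rel0 : P.relRow (dT H9.OutHe.T W) H9.OutHe.B 0 = true := by decide +kernel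
theorem rel1 : P.relRow (dT H9.OutHe.T W) H9.OutHe.B 1 = true := by decide +kernel
theorem rel2 : P.relRow (dT H9.OutHe.T W) H9.OutHe.B 2 = true := by decide +kernel
theorem rel3 : P.relRow (dT H9.OutHe.T W) H9.OutHe.B 3 = true := by decide +kernel
theorem rel4 : P.relRow (dT H9.OutHe.T W) H9.OutHe.B 4 = true := by decide +kernel
theorem rel5 : P.relRow (dT H9.OutHe.T W) H9.OutHe.B 5 = true := by decide +kernel
theorem rel6 : P.relRow (dT H9.OutHe.T W) H9.OutHe.B 6 = true := by decide +kernel
theorem rel7 : P.relRow (dT H9.OutHe.T W) H9.OutHe.B 7 = true := by decide +kernel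
theorem rel8 : P.relRow (dT H9.OutHe.T W) H9.OutHe.B 8 = true := by decide +kernel
theorem rel9 : P.relRow (dT H9.OutHe.T W) H9.OutHe.B 9 = true := by decide +kernel
theorem fus0 : P.fusOk (dT H9.OutHe.T W) H9.OutHe.B fu 0 = true := by decide +kernel
theorem fus1 : P.fusOk (dT H9.OutHe.T W) H9.OutHe.B fu 1 = true := by decide +kernel
theorem fus2 : P.fusOk (dT H9.OutHe.T W) H9.OutHe.B fu 2 = true := by decide +kernel
theorem fus3 : P.fusOk (dT H9.OutHe.T W) H9.OutHe.B fu 3 = true := by decide +kernel
theorem fus4 : P.fusOk (dT H9.OutHe.T W) H9.OutHe.B fu 4 = true := by decide +kernel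
theorem fus5 : P.fusOk (dT H9.OutHe.T W) H9.OutHe.B fu 5 = true := by decide +kernel
theorem fus6 : P.fusOk (dT H9.OutHe.T W) H9.OutHe.B fu 6 = true := by decide +kernel
theorem fus7 : P.fusOk (dT H9.OutHe.T W) H9.OutHe.B fu 7 = true := by decide +kernel
theorem fus8 : P.fusOk (dT H9.OutHe.T W) H9.OutHe.B fu 8 = true := by decide +kernel
theorem fus9 : P.fusOk (dT H9.OutHe.T W) H9.OutHe.B fu 9 = true := by decide +kernel
theorem fus10 : P.fusOk (dT H9.OutHe.T W) H9.OutHe.B fu 10 = true := by decide +kernel
theorem fus11 : P.fusOk (dT H9.OutHe.T W) H9.OutHe.B fu 11 = true := by decide +kernel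
theorem fus12 : P.fusOk (dT H9.OutHe.T W) H9.OutHe.B fu 12 = true := by decide +kernel
theorem fus13 : P.fusOk (dT H9.OutHe.T W) H9.OutHe.B fu 13 = true := by decide +kernel
theorem fus14 : P.fusOk (dT H9.OutHe.T W) H9.OutHe.B fu 14 = true := by decide +kernel
theorem fus15 : P.fusOk (dT H9.OutHe.T W) H9.OutHe.B fu 15 = true := by decide +kernel
theorem fus16 : P.fusOk (dT H9.OutHe.T W) H9.OutHe.B fu 16 = true := by decide +kernel
theorem fus17 : P.fusOk (dT H9.OutHe.T W) H9.OutHe.B fu 17 = true := by decide +kernel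
theorem fus18 : P.fusOk (dT H9.OutHe.T W) H9.OutHe.B fu 18 = true := by decide +kernel
theorem fus19 : P.fusOk (dT H9.OutHe.T W) H9.OutHe.B fu 19 = true := by decide +kernel
theorem fin0 : P.finRow lam (bs :: CV) MU 0 = true := by decide +kernel
theorem fin1 : P.finRow lam (bs :: CV) MU 1 = true := by decide +kernel
theorem fin2 : P.finRow lam (bs :: CV) MU 2 = true := by decide +kernel
theorem fin3 : P.finRow lam (bs :: CV) MU 3 = true := by decide +kernel
theorem fin4 : P.finRow lam (bs :: CV) MU 4 = true := by decide +kernel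
theorem fin5 : P.finRow lam (bs :: CV) MU 5 = true := by decide +kernel
theorem fin6 : P.finRow lam (bs :: CV) MU 6 = true := by decide +kernel
theorem fin7 : P.finRow lam (bs :: CV) MU 7 = true := by decide +kernel
theorem fin8 : P.finRow lam (bs :: CV) MU 8 = true := by decide +kernel
theorem fin9 : P.finRow lam (bs :: CV) MU 9 = true := by decide +kernel

theorem pm {G : Type*} [Group G] [Finite G] {A : RAct G 2058} {g : ℕ → G} (hb : A.IsBase H9.OutHe.B)
    (h : A.Tab g 47 H9.OutHe.T) (ho : Nat.card G = 4030387200) : PMult G 2 0 0 :=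
  pmult_of_tab hb h ho P (show Nat.Prime 2 by norm_num) W fu 0 lam bs mo [cc0, cc1] CV MU lv 20
    (by decide +kernel) (forall_lt_succ' (forall_lt_succ' (forall_lt_succ' (forall_lt_succ' (forall_lt_succ' (forall_lt_succ' (forall_lt_succ' (forall_lt_succ' (forall_lt_succ' (forall_lt_succ' forall_lt_zero' rel0) rel1) rel2) rel3) rel4) rel5) rel6) rel7) rel8) rel9) (by decide +kernel)
    (forall_lt_succ' (forall_lt_succ' (forall_lt_succ' (forall_lt_succ' (forall_lt_succ' (forall_lt_succ' (forall_lt_succ' (forall_lt_succ' (forall_lt_succ' (forall_lt_succ' (forall_lt_succ' (forall_lt_succ' (forall_lt_succ' (forall_lt_succ' (forall_lt_succ' (forall_lt_succ' (forall_lt_succ' (forall_lt_succ' (forall_lt_succ' (forall_lt_succ' forall_lt_zero' fus0) fus1) fus2) fus3) fus4) fus5) fus6) fus7) fus8) fus9) fus10) fus11) fus12) fus13) fus14) fus15) fus16) fus17) fus18) fus19)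
    (by decide +kernel) (by decide +kernel) (by decide +kernel) (by decide +kernel)
    (List.forall_mem_cons.mpr ⟨con0, (List.forall_mem_cons.mpr ⟨con1, (by simp)⟩)⟩)
    (forall_lt_succ' (forall_lt_succ' (forall_lt_succ' (forall_lt_succ' (forall_lt_succ' (forall_lt_succ' (forall_lt_succ' (forall_lt_succ' (forall_lt_succ' (forall_lt_succ' forall_lt_zero' fin0) fin1) fin2) fin3) fin4) fin5) fin6) fin7) fin8) fin9) (by decide +kernel)

end Cfsg.Agent.L0.HeP2
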