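import Cfsg.Agent.L0.PcCert
import Cfsg.Agent.L0.Dw
import Cfsg.Agent.H9.OutJ2D

/-! Generated certificate: the `2`-part of a Schur multiplier. -/

set_option autoImplicit false
set_option maxRecDepth 100000

namespace Cfsg.Agent.L0.J2P2

noncomputable def W : List (List ℕ) := [
  dw (nat_lit 6) (nat_lit 63) (nat_lit 4) (nat_lit 0x3129c4),
  dw (nat_lit 6) (nat_lit 63) (nat_lit 4) (nat_lit 0xa26025),
  dw (nat_lit 6) (nat_lit 63) (nat_lit 4) (nat_lit 0x24390a),
  dw (nat_lit 6) (nat_lit 63) (nat_lit 4) (nat_lit 0x767800),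
  dw (nat_lit 6) (nat_lit 63) (nat_lit 4) (nat_lit 0x1ea904),
  dw (nat_lit 6) (nat_lit 63) (nat_lit 4) (nat_lit 0x74d867),
  dw (nat_lit 6) (nat_lit 63) (nat_lit 4) (nat_lit 0x38924d),
  dw (nat_lit 6) (nat_lit 63) (nat_lit 3) (nat_lit 0x101a1),
  dw (nat_lit 6) (nat_lit 63) (nat_lit 4) (nat_lit 0x8a9100)]

noncomputable def P : PcP := ⟨nat_lit 2, nat_lit 1, nat_lit 6, nat_lit 0x40810204080040810304042840e1c00b1a241162475f82, nat_lit 7, nat_lit 127, nat_lit 13, nat_lit 8191, nat_lit 4, nat_lit 38, nat_lit 7, nat_lit 7⟩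

noncomputable def fu : Fus := ⟨[nat_lit 64, nat_lit 32, nat_lit 16, nat_lit 8, nat_lit 4, nat_lit 2, nat_lit 1, nat_lit 124, nat_lit 2, nat_lit 1],
  [nat_lit 81, nat_lit 48, nat_lit 67, nat_lit 68, nat_lit 28, nat_lit 2, nat_lit 1, nat_lit 6, nat_lit 121, nat_lit 1],
  [nat_lit 7, nat_lit 7, nat_lit 7, nat_lit 7, nat_lit 7, nat_lit 7, nat_lit 7, nat_lit 8, nat_lit 8, nat_lit 8]⟩

noncomputable def lam : List ℕ := [nat_lit 0x200000000040000010008000000000000000000000100000000020000000000000001000000000000000000000060000018000000001,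
  nat_lit 0x3000000c0040000018008000003001000c0060030000000000002001800c004003001800c0060020018000006003000000c000003000000c006003,
  nat_lit 0x4002001000800400000100080040020000008000002001000000400200000080000000010008004000000000800c0000000000000004001,
  nat_lit 0xc006003001800c000003001800c0060000018000006003000000c0060000018000000003001800c00000000180000000030000000006003,
  nat_lit 0x400000000080000020010000000000000000000000200000000040000000000000002000000000000000000000040010010000000001,
  nat_lit 0x400000000080000020010000000000000000000000200000000040000000000000002000000000000000000000040000010000000003,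
  nat_lit 0x40000000000000000000]

noncomputable def bs : List ℕ := [nat_lit 0x200000000080020020018000004000]

noncomputable def mo : List ℕ := [nat_lit 0x80802a847ddd27503011]

noncomputable def cv0 : List ℕ := [nat_lit 0x8000000000000000000000000000000000000000000000000,
  nat_lit 0x20000000000000000000000000000000000000000000000000000000,
  nat_lit 0x2000000000000000000000000000000000000000000000000000000000000000000000000000000000,
  nat_lit 0x400000000000000000000000000000000000000000000000000000000000000000000,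
  nat_lit 0x800000000000000000000000000000000000000000000000000000000000000000000000,
  nat_lit 0x1000000000000000000000000000000000000000000000000000000000000000000000000000,
  nat_lit 0x80000000000000000000000000000000000000000000000000000000000,
  nat_lit 0x2000000000000000000000000000000000000000000000000000000000000000000000000000000,
  nat_lit 0x100000000000000000000000000000000000000000000000000000000000000,
  nat_lit 0x8000000000000000000000000000000000000000000000000000000000000000000000000000000000000,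
  nat_lit 0xc000000000000000400000000000000000000000000000000000000000000000000000000000000000000,
  nat_lit 0x800000000000000000000000000000000002000000000000000000000000000000000000000]

noncomputable def cc0 : List Con := [
  ⟨nat_lit 1, nat_lit 0, nat_lit 0, [nat_lit 64], [], nthN cv0 (nat_lit 0)⟩,
  ⟨nat_lit 1, nat_lit 2, nat_lit 2, [nat_lit 16], [], nthN cv0 (nat_lit 1)⟩,
  ⟨nat_lit 1, nat_lit 4, nat_lit 4, [nat_lit 4], [], nthN cv0 (nat_lit 2)⟩,
  ⟨nat_lit 0, nat_lit 0, nat_lit 6, [nat_lit 1], [], nthN cv0 (nat_lit 3)⟩,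
  ⟨nat_lit 0, nat_lit 1, nat_lit 6, [nat_lit 1], [], nthN cv0 (nat_lit 4)⟩,
  ⟨nat_lit 0, nat_lit 2, nat_lit 6, [nat_lit 1], [], nthN cv0 (nat_lit 5)⟩,
  ⟨nat_lit 0, nat_lit 3, nat_lit 5, [nat_lit 2], [], nthN cv0 (nat_lit 6)⟩,
  ⟨nat_lit 0, nat_lit 3, nat_lit 6, [nat_lit 1], [], nthN cv0 (nat_lit 7)⟩,
  ⟨nat_lit 0, nat_lit 4, nat_lit 5, [nat_lit 2], [], nthN cv0 (nat_lit 8)⟩,
  ⟨nat_lit 0, nat_lit 5, nat_lit 6, [nat_lit 1], [], nthN cv0 (nat_lit 9)⟩,
  ⟨nat_lit 1, nat_lit 0, nat_lit 0, [nat_lit 1], [], nthN cv0 (nat_lit 10)⟩,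
  ⟨nat_lit 0, nat_lit 2, nat_lit 4, [nat_lit 4], [], nthN cv0 (nat_lit 11)⟩]

theorem con0 : allL cc0 (P.conOk fu) = true := by decide +kernel

noncomputable def cv1 : List ℕ := [nat_lit 0x80000000000000000000002000000000000000000000000000000000000000,
  nat_lit 0x18000000003000000000000000000000000000000000000000000000000000000000080000000000000000000,
  nat_lit 0x1800c000000000000000000000000000000020000000000000000000000000000000000000000000000000000,
  nat_lit 0x8000000001000000000000000000000000000000000004000000000000000000000000000000000000000000,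
  nat_lit 0x300000000060000008000000000000000000000000000000000000010000000000,
  nat_lit 0x8000000000000000000200000000040000000000000000000000000000000000000080000000000000000000,
  nat_lit 0x1000000000300000000000000000000000000000000c006000000000000000000100000000000000000000000,
  nat_lit 0x1800c0000030000000000003000000c0000000000000000000000000000000200000000000000000000000000,
  nat_lit 0x1800c006000000000000200300180000000000000000000000000000800000000000000000000000000000000,
  nat_lit 0x1800c006000000000400000300180000000000000000000000001000000000000000000000000000000000000,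
  nat_lit 0x6003001800800000000000000000000000000000000000000000000000000000000000000000000000,
  nat_lit 0xc00000000000000000030018000006001000000c000003000000000000000000000000020000000000000]

noncomputable def cc1 : List Con := [
  ⟨nat_lit 1, nat_lit 2, nat_lit 2, [nat_lit 4], [], nthN cv1 (nat_lit 0)⟩,
  ⟨nat_lit 0, nat_lit 0, nat_lit 3, [nat_lit 8], [], nthN cv1 (nat_lit 1)⟩,
  ⟨nat_lit 0, nat_lit 1, nat_lit 5, [nat_lit 2], [], nthN cv1 (nat_lit 2)⟩,
  ⟨nat_lit 1, nat_lit 3, nat_lit 3, [nat_lit 4], [], nthN cv1 (nat_lit 3)⟩,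
  ⟨nat_lit 0, nat_lit 0, nat_lit 2, [nat_lit 16], [], nthN cv1 (nat_lit 4)⟩,
  ⟨nat_lit 1, nat_lit 0, nat_lit 0, [nat_lit 8], [], nthN cv1 (nat_lit 5)⟩,
  ⟨nat_lit 0, nat_lit 1, nat_lit 3, [nat_lit 8], [], nthN cv1 (nat_lit 6)⟩,
  ⟨nat_lit 0, nat_lit 2, nat_lit 3, [nat_lit 8], [], nthN cv1 (nat_lit 7)⟩,
  ⟨nat_lit 0, nat_lit 0, nat_lit 4, [nat_lit 4], [], nthN cv1 (nat_lit 8)⟩,
  ⟨nat_lit 0, nat_lit 1, nat_lit 4, [nat_lit 4], [], nthN cv1 (nat_lit 9)⟩,
  ⟨nat_lit 1, nat_lit 1, nat_lit 1, [nat_lit 1], [], nthN cv1 (nat_lit 10)⟩,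
  ⟨nat_lit 0, nat_lit 1, nat_lit 2, [nat_lit 16], [], nthN cv1 (nat_lit 11)⟩]

theorem con1 : allL cc1 (P.conOk fu) = true := by decide +kernel

noncomputable def cv2 : List ℕ := [nat_lit 0x80040000000000004000000001800c0060020000000000000000000000000000000000000000000000000000,
  nat_lit 0x8004000000000000400000100000000000010000000006003001000000000000000000000000000000000000,
  nat_lit 0x4006000001800000000000000000060000000000000000000000000000000000000000000000000000000,
  nat_lit 0x1000c004000000000400000100100040000000000004002000000800000000000080000000010000000000000,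
  nat_lit 0x100000060000000004000000001800c0000000000004002000000800000000300100000000000000000000000,
  nat_lit 0x40060020008000002003001000c0020010008004002001000000400200100000040020000008000004000,
  nat_lit 0xc000000000000c00200000180000000000000000000003000000400000300000000000000000000000000,
  nat_lit 0x400000000000000000000000000000000000000000000000000000000000000000000000000000000000000000000000000000000000,
  nat_lit 0x800000000000000000000000000000000000000000000000000000000000000000000000000000000000000000000000000000000000000,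
  nat_lit 0x100000000000008000002000000000000000100080000000000000004000000000000400600000000000000000000000000001,
  nat_lit 0x600000000080000000008004000000000000000200100000000000000008000000000000000000000000000000060000000000000001,
  nat_lit 0xc00000000000000000000000000000000000800000000000000000020000000000000000000000000000000000000000000000000000000]

noncomputable def cc2 : List Con := [
  ⟨nat_lit 1, nat_lit 1, nat_lit 1, [nat_lit 2], [], nthN cv2 (nat_lit 0)⟩,
  ⟨nat_lit 1, nat_lit 1, nat_lit 1, [nat_lit 4], [], nthN cv2 (nat_lit 1)⟩,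
  ⟨nat_lit 0, nat_lit 1, nat_lit 2, [nat_lit 4], [], nthN cv2 (nat_lit 2)⟩,
  ⟨nat_lit 1, nat_lit 1, nat_lit 1, [nat_lit 32], [], nthN cv2 (nat_lit 3)⟩,
  ⟨nat_lit 1, nat_lit 1, nat_lit 1, [nat_lit 8], [], nthN cv2 (nat_lit 4)⟩,
  ⟨nat_lit 1, nat_lit 0, nat_lit 0, [nat_lit 32], [], nthN cv2 (nat_lit 5)⟩,
  ⟨nat_lit 0, nat_lit 0, nat_lit 1, [nat_lit 8], [], nthN cv2 (nat_lit 6)⟩,
  ⟨nat_lit 2, nat_lit 7, nat_lit 0, [nat_lit 5, nat_lit 5], [], nthN cv2 (nat_lit 7)⟩,
  ⟨nat_lit 2, nat_lit 7, nat_lit 0, [nat_lit 6, nat_lit 6], [], nthN cv2 (nat_lit 8)⟩,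
  ⟨nat_lit 2, nat_lit 7, nat_lit 0, [nat_lit 3, nat_lit 3], [], nthN cv2 (nat_lit 9)⟩,
  ⟨nat_lit 2, nat_lit 7, nat_lit 0, [nat_lit 2, nat_lit 2], [nat_lit 5], nthN cv2 (nat_lit 10)⟩,
  ⟨nat_lit 2, nat_lit 7, nat_lit 0, [nat_lit 5, nat_lit 1], [nat_lit 1, nat_lit 5, nat_lit 6], nthN cv2 (nat_lit 11)⟩]

theorem con2 : allL cc2 (P.conOk fu) = true := by decide +kernel

noncomputable def cv3 : List ℕ := [nat_lit 0x600000000000000020008000000000000800000200100000000020000000000000000000000000000000000000020000008000000000,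
  nat_lit 0xc00000200000000000000008000002001000000000000100000040000000000000002001000000000200100000000020000000000000000,
  nat_lit 0x60000000000000000000000c000000000800000000300000000060000008000000000000000000000000000000000000010000000000,
  nat_lit 0xc000000000000000000000000000060000008000006000000800000600000000000000010000004000000000000c0000000018000000000,
  nat_lit 0xc00600000000000000000000000006000000000000600000080000000000018000000000000000400000300000000000000000000000000,
  nat_lit 0x4000000000000000000000000000000000000000000000000000000000000000000000000000000000000000000000000000000000000000000000000,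
  nat_lit 0x600000000000000000000000000000001000c000003001800c00000300180080040030010000006003001800c00000000000000000000000000000000,
  nat_lit 0x2000000000000000000000000000010000006003000800000200300080000020020000004002001000800000400200000040040000008004002001]

noncomputable def cc3 : List Con := [
  ⟨nat_lit 2, nat_lit 7, nat_lit 0, [nat_lit 0, nat_lit 0], [nat_lit 5], nthN cv3 (nat_lit 0)⟩,
  ⟨nat_lit 2, nat_lit 7, nat_lit 0, [nat_lit 4, nat_lit 4], [nat_lit 6], nthN cv3 (nat_lit 1)⟩,
  ⟨nat_lit 2, nat_lit 7, nat_lit 0, [nat_lit 2, nat_lit 0], [nat_lit 0, nat_lit 2, nat_lit 5], nthN cv3 (nat_lit 2)⟩,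
  ⟨nat_lit 2, nat_lit 7, nat_lit 0, [nat_lit 3, nat_lit 0], [nat_lit 0, nat_lit 3, nat_lit 6], nthN cv3 (nat_lit 3)⟩,
  ⟨nat_lit 2, nat_lit 7, nat_lit 0, [nat_lit 3, nat_lit 2], [nat_lit 2, nat_lit 3, nat_lit 5, nat_lit 6], nthN cv3 (nat_lit 4)⟩,
  ⟨nat_lit 2, nat_lit 8, nat_lit 0, [nat_lit 9, nat_lit 9], [], nthN cv3 (nat_lit 5)⟩,
  ⟨nat_lit 2, nat_lit 8, nat_lit 0, [nat_lit 8, nat_lit 7], [nat_lit 7, nat_lit 8, nat_lit 9], nthN cv3 (nat_lit 6)⟩,
  ⟨nat_lit 2, nat_lit 8, nat_lit 0, [nat_lit 8, nat_lit 8], [], nthN cv3 (nat_lit 7)⟩]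

theorem con3 : allL cc3 (P.conOk fu) = true := by decide +kernel

noncomputable def CV : List (List ℕ) := [cv0, cv1, cv2, cv3]

noncomputable def MU : List (List ℕ) := [[nat_lit 0],
  [nat_lit 0,
  nat_lit 0x10c03f07e10b4ae178080e0],
  [nat_lit 0x4602a5152ef9b404048,
  nat_lit 0,
  nat_lit 0x8b110ca51203be4c00052],
  [nat_lit 0,
  nat_lit 0x30de0c5603220e2800026,
  nat_lit 0x107604273e843f700c0fe,
  nat_lit 0x8b550ca51203be700006d],
  [nat_lit 0x7c460e2734bdb89404034,
  nat_lit 0xb8760cc40ec5d9380c0f2,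
  nat_lit 0x6c100e822b888468080aa,
  nat_lit 0xc4100100381a81b00808f,
  nat_lit 0xe4b803a23c1623800c065],
  [nat_lit 0xc,
  nat_lit 0x8820052005bc6504040cb,
  nat_lit 0x30,
  nat_lit 0x202008000232c18400034,
  nat_lit 0x882008000200084000000,
  nat_lit 0x8800000000402800034],
  [nat_lit 0x20200200081b4f88080b6,
  nat_lit 0xa8000a8229aac6400807e,
  nat_lit 0x88200800020008b000000,
  nat_lit 0xa000a0a0d0c080aa,
  nat_lit 0xc0,
  nat_lit 0x228a0400028,
  nat_lit 0xa000a0a0404080aa]]

noncomputable def lv : List (List (List ℕ) × ℕ × List (ℕ × List ℕ)) := [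
  ([[nat_lit 1], [nat_lit 3], [nat_lit 4], [nat_lit 6]], nat_lit 29, [(nat_lit 29, []), (nat_lit 59, [nat_lit 1, nat_lit 2, nat_lit 0]), (nat_lit 62, [nat_lit 1, nat_lit 0]), (nat_lit 82, [nat_lit 0, nat_lit 2]), (nat_lit 124, [nat_lit 3, nat_lit 2]), (nat_lit 159, [nat_lit 0, nat_lit 0]), (nat_lit 189, [nat_lit 3]), (nat_lit 200, [nat_lit 1]), (nat_lit 217, [nat_lit 0, nat_lit 0, nat_lit 0]), (nat_lit 228, [nat_lit 0]), (nat_lit 233, [nat_lit 2, nat_lit 1]), (nat_lit 239, [nat_lit 2]), (nat_lit 262, [nat_lit 3, nat_lit 1]), (nat_lit 265, [nat_lit 3, nat_lit 0]), (nat_lit 275, [nat_lit 0, nat_lit 1]), (nat_lit 288, [nat_lit 2, nat_lit 0])]),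
  ([[nat_lit 0], [nat_lit 2], [nat_lit 5]], nat_lit 0, [(nat_lit 0, []), (nat_lit 45, [nat_lit 1]), (nat_lit 93, [nat_lit 2, nat_lit 1]), (nat_lit 99, [nat_lit 0, nat_lit 1]), (nat_lit 129, [nat_lit 2, nat_lit 0]), (nat_lit 184, [nat_lit 1, nat_lit 0]), (nat_lit 204, [nat_lit 2]), (nat_lit 218, [nat_lit 0])])]

theorem rel0 : P.relRow (dT H9.OutJ2.T W) H9.OutJ2.B 0 = true := by decide +kernel
theorem rel1 : P.relRow (dT H9.OutJ2.T W) H9.OutJ2.B 1 = true := by decide +kernel
theorem rel2 : P.relRow (dT H9.OutJ2.T W) H9.OutJ2.B 2 = true := by decide +kernel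
theorem rel3 : P.relRow (dT H9.OutJ2.T W) H9.OutJ2.B 3 = true := by decide +kernel
theorem rel4 : P.relRow (dT H9.OutJ2.T W) H9.OutJ2.B 4 = true := by decide +kernel
theorem rel5 : P.relRow (dT H9.OutJ2.T W) H9.OutJ2.B 5 = true := by decide +kernel
theorem rel6 : P.relRow (dT H9.OutJ2.T W) H9.OutJ2.B 6 = true := by decide +kernel
theorem fus0 : P.fusOk (dT H9.OutJ2.T W) H9.OutJ2.B fu 0 = true := by decide +kernel
theorem fus1 : P.fusOk (dT H9.OutJ2.T W) H9.OutJ2.B fu 1 = true := by decide +kernel
theorem fus2 : P.fusOk (dT H9.OutJ2.T W) H9.OutJ2.B fu 2 = true := by decide +kernel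
theorem fus3 : P.fusOk (dT H9.OutJ2.T W) H9.OutJ2.B fu 3 = true := by decide +kernel
theorem fus4 : P.fusOk (dT H9.OutJ2.T W) H9.OutJ2.B fu 4 = true := by decide +kernel
theorem fus5 : P.fusOk (dT H9.OutJ2.T W) H9.OutJ2.B fu 5 = true := by decide +kernel
theorem fus6 : P.fusOk (dT H9.OutJ2.T W) H9.OutJ2.B fu 6 = true := by decide +kernel
theorem fus7 : P.fusOk (dT H9.OutJ2.T W) H9.OutJ2.B fu 7 = true := by decide +kernel
theorem fus8 : P.fusOk (dT H9.OutJ2.T W) H9.OutJ2.B fu 8 = true := by decide +kernel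
theorem fus9 : P.fusOk (dT H9.OutJ2.T W) H9.OutJ2.B fu 9 = true := by decide +kernel
theorem fin0 : P.finRow lam (bs :: CV) MU 0 = true := by decide +kernel
theorem fin1 : P.finRow lam (bs :: CV) MU 1 = true := by decide +kernel
theorem fin2 : P.finRow lam (bs :: CV) MU 2 = true := by decide +kernel
theorem fin3 : P.finRow lam (bs :: CV) MU 3 = true := by decide +kernel
theorem fin4 : P.finRow lam (bs :: CV) MU 4 = true := by decide +kernel
theorem fin5 : P.finRow lam (bs :: CV) MU 5 = true := by decide +kernel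
theorem fin6 : P.finRow lam (bs :: CV) MU 6 = true := by decide +kernel

theorem pm {G : Type*} [Group G] [Finite G] {A : RAct G 315} {g : ℕ → G} (hb : A.IsBase H9.OutJ2.B)
    (h : A.Tab g 44 H9.OutJ2.T) (ho : Nat.card G = 604800) : PMult G 2 1 1 :=
  pmult_of_tab hb h ho P (show Nat.Prime 2 by norm_num) W fu 1 lam bs mo [cc0, cc1, cc2, cc3] CV MU lv 10
    (by decide +kernel) (forall_lt_succ' (forall_lt_succ' (forall_lt_succ' (forall_lt_succ' (forall_lt_succ' (forall_lt_succ' (forall_lt_succ' forall_lt_zero' rel0) rel1) rel2) rel3) rel4) rel5) rel6) (by decide +kernel)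
    (forall_lt_succ' (forall_lt_succ' (forall_lt_succ' (forall_lt_succ' (forall_lt_succ' (forall_lt_succ' (forall_lt_succ' (forall_lt_succ' (forall_lt_succ' (forall_lt_succ' forall_lt_zero' fus0) fus1) fus2) fus3) fus4) fus5) fus6) fus7) fus8) fus9)
    (by decide +kernel) (by decide +kernel) (by decide +kernel) (by decide +kernel)
    (List.forall_mem_cons.mpr ⟨con0, (List.forall_mem_cons.mpr ⟨con1, (List.forall_mem_cons.mpr ⟨con2, (List.forall_mem_cons.mpr ⟨con3, (by simp)⟩)⟩)⟩)⟩)
    (forall_lt_succ' (forall_lt_succ' (forall_lt_succ' (forall_lt_succ' (forall_lt_succ' (forall_lt_succ' (forall_lt_succ' forall_lt_zero' fin0) fin1) fin2) fin3) fin4) fin5) fin6) (by decide +kernel)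

end Cfsg.Agent.L0.J2P2
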