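import Cfsg.Agent.L0.PcCert
import Cfsg.Agent.L0.Dw
import Cfsg.Agent.H9.OutJ3D

/-! Generated certificate: the `2`-part of a Schur multiplier. -/

set_option autoImplicit false
set_option maxRecDepth 100000

namespace Cfsg.Agent.L0.J3P2

noncomputable def W : List (List ℕ) := [
  dw (nat_lit 6) (nat_lit 63) (nat_lit 5) (nat_lit 0x15c5abcd),
  dw (nat_lit 6) (nat_lit 63) (nat_lit 5) (nat_lit 0x3a9788a),
  dw (nat_lit 6) (nat_lit 63) (nat_lit 5) (nat_lit 0x2c894b41),
  dw (nat_lit 6) (nat_lit 63) (nat_lit 5) (nat_lit 0xb94c540),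
  dw (nat_lit 6) (nat_lit 63) (nat_lit 5) (nat_lit 0x18c6548),
  dw (nat_lit 6) (nat_lit 63) (nat_lit 5) (nat_lit 0x2351cc88),
  dw (nat_lit 6) (nat_lit 63) (nat_lit 5) (nat_lit 0x97de2c8),
  dw (nat_lit 6) (nat_lit 63) (nat_lit 5) (nat_lit 0x445e5c9),
  dw (nat_lit 6) (nat_lit 63) (nat_lit 5) (nat_lit 0x127d534c),
  dw (nat_lit 6) (nat_lit 63) (nat_lit 5) (nat_lit 0x9eb423)]

noncomputable def P : PcP := ⟨nat_lit 2, nat_lit 1, nat_lit 6, nat_lit 0x40810204080040818204042860e10088102c49b2809102, nat_lit 7, nat_lit 127, nat_lit 10, nat_lit 1023, nat_lit 2, nat_lit 38, nat_lit 6, nat_lit 5⟩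

noncomputable def fu : Fus := ⟨[nat_lit 64, nat_lit 32, nat_lit 8, nat_lit 4, nat_lit 2, nat_lit 1, nat_lit 56, nat_lit 4, nat_lit 1, nat_lit 1],
  [nat_lit 99, nat_lit 64, nat_lit 4, nat_lit 13, nat_lit 2, nat_lit 1, nat_lit 4, nat_lit 9, nat_lit 1, nat_lit 74],
  [nat_lit 7, nat_lit 7, nat_lit 7, nat_lit 7, nat_lit 7, nat_lit 7, nat_lit 8, nat_lit 8, nat_lit 8, nat_lit 9]⟩

noncomputable def lam : List ℕ := [nat_lit 0x0,
  nat_lit 0x0,
  nat_lit 0x0,
  nat_lit 0x1000010000000000,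
  nat_lit 0x40000000,
  nat_lit 0x1,
  nat_lit 0x1000000000000001]

noncomputable def bs : List ℕ := []

noncomputable def mo : List ℕ := []

noncomputable def cv0 : List ℕ := [nat_lit 0x40000000000000000000000000000000000000,
  nat_lit 0x10000000000000000000000000000000000000000,
  nat_lit 0x1000000000000000000000000000000000000000000000000000000000000,
  nat_lit 0x400000000000000000000000000000000000000000000000000000000000000,
  nat_lit 0x40000000000000000000000000000000000000000000000000000,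
  nat_lit 0x400000000000000000000000000000000000000000000000,
  nat_lit 0x100000000000000000000000000000000000000000000000000000000000000000,
  nat_lit 0x10000000000000000000000000000000000000000000000000000000,
  nat_lit 0x1000000000000000000000000000000000000000000000,
  nat_lit 0x4000000000000000000000000000000000000100000000000000000000,
  nat_lit 0x4000000000000000000000000000000000000000000000000000000000,
  nat_lit 0x40100000000000000000000000000000000000000000000000000000000000000000]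

noncomputable def cc0 : List Con := [
  ⟨nat_lit 1, nat_lit 0, nat_lit 0, [nat_lit 64], [], nthN cv0 (nat_lit 0)⟩,
  ⟨nat_lit 1, nat_lit 1, nat_lit 1, [nat_lit 32], [], nthN cv0 (nat_lit 1)⟩,
  ⟨nat_lit 1, nat_lit 3, nat_lit 3, [nat_lit 8], [], nthN cv0 (nat_lit 2)⟩,
  ⟨nat_lit 1, nat_lit 4, nat_lit 4, [nat_lit 4], [], nthN cv0 (nat_lit 3)⟩,
  ⟨nat_lit 0, nat_lit 0, nat_lit 4, [nat_lit 4], [], nthN cv0 (nat_lit 4)⟩,
  ⟨nat_lit 1, nat_lit 0, nat_lit 0, [nat_lit 4], [], nthN cv0 (nat_lit 5)⟩,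
  ⟨nat_lit 1, nat_lit 0, nat_lit 0, [nat_lit 1], [], nthN cv0 (nat_lit 6)⟩,
  ⟨nat_lit 0, nat_lit 1, nat_lit 3, [nat_lit 8], [], nthN cv0 (nat_lit 7)⟩,
  ⟨nat_lit 1, nat_lit 1, nat_lit 1, [nat_lit 8], [], nthN cv0 (nat_lit 8)⟩,
  ⟨nat_lit 1, nat_lit 2, nat_lit 2, [nat_lit 16], [], nthN cv0 (nat_lit 9)⟩,
  ⟨nat_lit 0, nat_lit 2, nat_lit 3, [nat_lit 8], [], nthN cv0 (nat_lit 10)⟩,
  ⟨nat_lit 0, nat_lit 2, nat_lit 5, [nat_lit 2], [], nthN cv0 (nat_lit 11)⟩]

theorem con0 : allL cc0 (P.conOk fu) = true := by decide +kernel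

noncomputable def cv1 : List ℕ := [nat_lit 0x100000000010040000000000000000000000000000000000000,
  nat_lit 0x40100000000000000000000004000000100000000010000000000000000000000000,
  nat_lit 0x400000000000100000004000000000400000000000000000000000000000000,
  nat_lit 0x40000400000000000100001000000000000001000000000000000,
  nat_lit 0x1004010000100001004000000000000000000040100400000000000000000,
  nat_lit 0x40100001000000040000001004000040000400004000000000001000000000000000,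
  nat_lit 0x100000000000000000000000000000000000000000000000000000000000000000000000000100001,
  nat_lit 0x40000000000000000000000000000000000000000000000100000000000040000000000000000000000,
  nat_lit 0x10000000400000000000000000,
  nat_lit 0x40000000000000000000001000000000000000000000000000400000000040000000000000000000000,
  nat_lit 0x100000000000040100000000010040000000000000040000000000000000000000000000000100400,
  nat_lit 0x40100000000000000100400000000040000400000000000000000004010000000001000000000000000]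

noncomputable def cc1 : List Con := [
  ⟨nat_lit 0, nat_lit 0, nat_lit 1, [nat_lit 32], [], nthN cv1 (nat_lit 0)⟩,
  ⟨nat_lit 1, nat_lit 0, nat_lit 0, [nat_lit 16], [], nthN cv1 (nat_lit 1)⟩,
  ⟨nat_lit 1, nat_lit 2, nat_lit 2, [nat_lit 4], [], nthN cv1 (nat_lit 2)⟩,
  ⟨nat_lit 0, nat_lit 0, nat_lit 2, [nat_lit 16], [], nthN cv1 (nat_lit 3)⟩,
  ⟨nat_lit 0, nat_lit 1, nat_lit 2, [nat_lit 16], [], nthN cv1 (nat_lit 4)⟩,
  ⟨nat_lit 0, nat_lit 0, nat_lit 1, [nat_lit 16], [], nthN cv1 (nat_lit 5)⟩,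
  ⟨nat_lit 2, nat_lit 7, nat_lit 0, [nat_lit 1, nat_lit 1], [nat_lit 4], nthN cv1 (nat_lit 6)⟩,
  ⟨nat_lit 2, nat_lit 7, nat_lit 0, [nat_lit 2, nat_lit 2], [nat_lit 5], nthN cv1 (nat_lit 7)⟩,
  ⟨nat_lit 2, nat_lit 7, nat_lit 0, [nat_lit 2, nat_lit 1], [nat_lit 1, nat_lit 2], nthN cv1 (nat_lit 8)⟩,
  ⟨nat_lit 2, nat_lit 7, nat_lit 0, [nat_lit 3, nat_lit 3], [nat_lit 5], nthN cv1 (nat_lit 9)⟩,
  ⟨nat_lit 2, nat_lit 7, nat_lit 0, [nat_lit 0, nat_lit 0], [nat_lit 4], nthN cv1 (nat_lit 10)⟩,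
  ⟨nat_lit 2, nat_lit 7, nat_lit 0, [nat_lit 3, nat_lit 1], [nat_lit 1, nat_lit 3, nat_lit 4, nat_lit 5], nthN cv1 (nat_lit 11)⟩]

theorem con1 : allL cc1 (P.conOk fu) = true := by decide +kernel

noncomputable def cv2 : List ℕ := [nat_lit 0x1000000000000000000000040000001000000000000000000000000100000000000040000000000000000000000,
  nat_lit 0x1000000000000000000000000100001004000000100001004000000100000000000000000400004010000100000,
  nat_lit 0x1000000000000000000000040000000000000040000001000000000000001]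

noncomputable def cc2 : List Con := [
  ⟨nat_lit 2, nat_lit 8, nat_lit 0, [nat_lit 7, nat_lit 7], [nat_lit 8], nthN cv2 (nat_lit 0)⟩,
  ⟨nat_lit 2, nat_lit 8, nat_lit 0, [nat_lit 6, nat_lit 6], [nat_lit 8], nthN cv2 (nat_lit 1)⟩,
  ⟨nat_lit 2, nat_lit 9, nat_lit 0, [nat_lit 9, nat_lit 9], [], nthN cv2 (nat_lit 2)⟩]

theorem con2 : allL cc2 (P.conOk fu) = true := by decide +kernel

noncomputable def CV : List (List ℕ) := [cv0, cv1, cv2]

noncomputable def MU : List (List ℕ) := [[nat_lit 0],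
  [nat_lit 0x440891,
  nat_lit 0xb71aee],
  [nat_lit 0,
  nat_lit 0,
  nat_lit 0x3b6146a],
  [nat_lit 0,
  nat_lit 0x38780f,
  nat_lit 0x600,
  nat_lit 0x4000005],
  [nat_lit 0x28780f,
  nat_lit 0x2591e,
  nat_lit 0x411bbb2,
  nat_lit 0x4393b86,
  nat_lit 0x4113b82],
  [nat_lit 0x1,
  nat_lit 0x2,
  nat_lit 0x4396b8d,
  nat_lit 0x100,
  nat_lit 0x20,
  nat_lit 0x1003],
  [nat_lit 0x10,
  nat_lit 0x80,
  nat_lit 0x400,
  nat_lit 0x4,
  nat_lit 0x8,
  nat_lit 0x40,
  nat_lit 0x840]]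

noncomputable def lv : List (List (List ℕ) × ℕ × List (ℕ × List ℕ)) := [
  ([[nat_lit 2], [nat_lit 3], [nat_lit 4], [nat_lit 6]], nat_lit 5193, [(nat_lit 5193, []), (nat_lit 8918, [nat_lit 3, nat_lit 0]), (nat_lit 9468, [nat_lit 3]), (nat_lit 10935, [nat_lit 2, nat_lit 1]), (nat_lit 11037, [nat_lit 1, nat_lit 2, nat_lit 0]), (nat_lit 11319, [nat_lit 0]), (nat_lit 15058, [nat_lit 2, nat_lit 0]), (nat_lit 18352, [nat_lit 2, nat_lit 1, nat_lit 0]), (nat_lit 19493, [nat_lit 0, nat_lit 0]), (nat_lit 19780, [nat_lit 3, nat_lit 2]), (nat_lit 20990, [nat_lit 1, nat_lit 0]), (nat_lit 21501, [nat_lit 3, nat_lit 2, nat_lit 0]), (nat_lit 21906, [nat_lit 2]), (nat_lit 22690, [nat_lit 1, nat_lit 2]), (nat_lit 23166, [nat_lit 1]), (nat_lit 25234, [nat_lit 0, nat_lit 0, nat_lit 0])]),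
  ([[nat_lit 0], [nat_lit 1], [nat_lit 5]], nat_lit 0, [(nat_lit 0, []), (nat_lit 1290, [nat_lit 2]), (nat_lit 2025, [nat_lit 1, nat_lit 0]), (nat_lit 5875, [nat_lit 2, nat_lit 0]), (nat_lit 8207, [nat_lit 0, nat_lit 1]), (nat_lit 16039, [nat_lit 1]), (nat_lit 17684, [nat_lit 0]), (nat_lit 18144, [nat_lit 2, nat_lit 1])])]

theorem rel0 : P.relRow (dT H9.OutJ3.T W) H9.OutJ3.B 0 = true := by decide +kernel
theorem rel1 : P.relRow (dT H9.OutJ3.T W) H9.OutJ3.B 1 = true := by decide +kernel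
theorem rel2 : P.relRow (dT H9.OutJ3.T W) H9.OutJ3.B 2 = true := by decide +kernel
theorem rel3 : P.relRow (dT H9.OutJ3.T W) H9.OutJ3.B 3 = true := by decide +kernel
theorem rel4 : P.relRow (dT H9.OutJ3.T W) H9.OutJ3.B 4 = true := by decide +kernel
theorem rel5 : P.relRow (dT H9.OutJ3.T W) H9.OutJ3.B 5 = true := by decide +kernel
theorem rel6 : P.relRow (dT H9.OutJ3.T W) H9.OutJ3.B 6 = true := by decide +kernel
theorem fus0 : P.fusOk (dT H9.OutJ3.T W) H9.OutJ3.B fu 0 = true := by decide +kernel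
theorem fus1 : P.fusOk (dT H9.OutJ3.T W) H9.OutJ3.B fu 1 = true := by decide +kernel
theorem fus2 : P.fusOk (dT H9.OutJ3.T W) H9.OutJ3.B fu 2 = true := by decide +kernel
theorem fus3 : P.fusOk (dT H9.OutJ3.T W) H9.OutJ3.B fu 3 = true := by decide +kernel
theorem fus4 : P.fusOk (dT H9.OutJ3.T W) H9.OutJ3.B fu 4 = true := by decide +kernel
theorem fus5 : P.fusOk (dT H9.OutJ3.T W) H9.OutJ3.B fu 5 = true := by decide +kernel
theorem fus6 : P.fusOk (dT H9.OutJ3.T W) H9.OutJ3.B fu 6 = true := by decide +kernel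
theorem fus7 : P.fusOk (dT H9.OutJ3.T W) H9.OutJ3.B fu 7 = true := by decide +kernel
theorem fus8 : P.fusOk (dT H9.OutJ3.T W) H9.OutJ3.B fu 8 = true := by decide +kernel
theorem fus9 : P.fusOk (dT H9.OutJ3.T W) H9.OutJ3.B fu 9 = true := by decide +kernel
theorem fin0 : P.finRow lam (bs :: CV) MU 0 = true := by decide +kernel
theorem fin1 : P.finRow lam (bs :: CV) MU 1 = true := by decide +kernel
theorem fin2 : P.finRow lam (bs :: CV) MU 2 = true := by decide +kernel
theorem fin3 : P.finRow lam (bs :: CV) MU 3 = true := by decide +kernel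
theorem fin4 : P.finRow lam (bs :: CV) MU 4 = true := by decide +kernel
theorem fin5 : P.finRow lam (bs :: CV) MU 5 = true := by decide +kernel
theorem fin6 : P.finRow lam (bs :: CV) MU 6 = true := by decide +kernel

theorem pm {G : Type*} [Group G] [Finite G] {A : RAct G 26163} {g : ℕ → G} (hb : A.IsBase H9.OutJ3.B)
    (h : A.Tab g 51 H9.OutJ3.T) (ho : Nat.card G = 50232960) : PMult G 2 0 0 :=
  pmult_of_tab hb h ho P (show Nat.Prime 2 by norm_num) W fu 0 lam bs mo [cc0, cc1, cc2] CV MU lv 10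
    (by decide +kernel) (forall_lt_succ' (forall_lt_succ' (forall_lt_succ' (forall_lt_succ' (forall_lt_succ' (forall_lt_succ' (forall_lt_succ' forall_lt_zero' rel0) rel1) rel2) rel3) rel4) rel5) rel6) (by decide +kernel)
    (forall_lt_succ' (forall_lt_succ' (forall_lt_succ' (forall_lt_succ' (forall_lt_succ' (forall_lt_succ' (forall_lt_succ' (forall_lt_succ' (forall_lt_succ' (forall_lt_succ' forall_lt_zero' fus0) fus1) fus2) fus3) fus4) fus5) fus6) fus7) fus8) fus9)
    (by decide +kernel) (by decide +kernel) (by decide +kernel) (by decide +kernel)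
    (List.forall_mem_cons.mpr ⟨con0, (List.forall_mem_cons.mpr ⟨con1, (List.forall_mem_cons.mpr ⟨con2, (by simp)⟩)⟩)⟩)
    (forall_lt_succ' (forall_lt_succ' (forall_lt_succ' (forall_lt_succ' (forall_lt_succ' (forall_lt_succ' (forall_lt_succ' forall_lt_zero' fin0) fin1) fin2) fin3) fin4) fin5) fin6) (by decide +kernel)

end Cfsg.Agent.L0.J3P2
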