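import Cfsg.Agent.L0.PcCert
import Cfsg.Agent.L0.Dw
import Cfsg.Agent.H9.OutJ3D

/-! Generated certificate: the `3`-part of a Schur multiplier. -/

set_option autoImplicit false
set_option maxRecDepth 100000

namespace Cfsg.Agent.L0.J3P3

noncomputable def W : List (List ℕ) := [
  dw (nat_lit 6) (nat_lit 63) (nat_lit 5) (nat_lit 0x82536c9),
  dw (nat_lit 6) (nat_lit 63) (nat_lit 5) (nat_lit 0x2d89480b),
  dw (nat_lit 6) (nat_lit 63) (nat_lit 4) (nat_lit 0x5d25c0),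
  dw (nat_lit 6) (nat_lit 63) (nat_lit 5) (nat_lit 0x64245ca),
  dw (nat_lit 6) (nat_lit 63) (nat_lit 4) (nat_lit 0x720780),
  dw (nat_lit 6) (nat_lit 63) (nat_lit 3) (nat_lit 0x17497)]

noncomputable def P : PcP := ⟨nat_lit 3, nat_lit 2, nat_lit 4, nat_lit 0x401004010000401004000140480215808, nat_lit 10, nat_lit 1023, nat_lit 13, nat_lit 8191, nat_lit 9, nat_lit 20, nat_lit 6, nat_lit 7⟩

noncomputable def fu : Fus := ⟨[nat_lit 256, nat_lit 64, nat_lit 16, nat_lit 4, nat_lit 1],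
  [nat_lit 548, nat_lit 153, nat_lit 16, nat_lit 8, nat_lit 2],
  [nat_lit 5, nat_lit 5, nat_lit 5, nat_lit 5, nat_lit 5]⟩

noncomputable def lam : List ℕ := [nat_lit 0x2000000000380200100000000020010007003802000e000004000000e007,
  nat_lit 0x40000000007000002000e008000001c0100080038000000008000001c010000,
  nat_lit 0x180180000060018000006003000000c0000060000018006003003001400e007,
  nat_lit 0xc000000003000c006000000000c006006003000c00c000001800000c002,
  nat_lit 0x18000000006000000c00c003000001800600300300000000030000008006000]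

noncomputable def bs : List ℕ := [nat_lit 0x80000000000000000000000]

noncomputable def mo : List ℕ := [nat_lit 0x206fc4]

noncomputable def cv0 : List ℕ := [nat_lit 0x80000000000000000000,
  nat_lit 0x1000000000000000000000000000000000000,
  nat_lit 0x300000000000000000000000000,
  nat_lit 0x3000000000000000000000000000000000000000,
  nat_lit 0x6000000000000000000000000000000000000000000,
  nat_lit 0x1800000000000000000000000000000000,
  nat_lit 0x300000000000000000000000,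
  nat_lit 0xe000000000c00000000000000000000000000000000,
  nat_lit 0x1000600000000000060000000000000,
  nat_lit 0x1c000006000000000000000000000000000030000000000,
  nat_lit 0x4000000000000000800000000000000000000000000,
  nat_lit 0x10008000000000000000000000000000000000000000]

noncomputable def cc0 : List Con := [
  ⟨nat_lit 1, nat_lit 0, nat_lit 0, [nat_lit 256], [], nthN cv0 (nat_lit 0)⟩,
  ⟨nat_lit 1, nat_lit 1, nat_lit 1, [nat_lit 64], [], nthN cv0 (nat_lit 1)⟩,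
  ⟨nat_lit 1, nat_lit 2, nat_lit 2, [nat_lit 4], [], nthN cv0 (nat_lit 2)⟩,
  ⟨nat_lit 1, nat_lit 2, nat_lit 2, [nat_lit 1], [], nthN cv0 (nat_lit 3)⟩,
  ⟨nat_lit 1, nat_lit 3, nat_lit 3, [nat_lit 1], [], nthN cv0 (nat_lit 4)⟩,
  ⟨nat_lit 0, nat_lit 0, nat_lit 4, [nat_lit 1, nat_lit 1], [], nthN cv0 (nat_lit 5)⟩,
  ⟨nat_lit 0, nat_lit 1, nat_lit 3, [nat_lit 4, nat_lit 4], [], nthN cv0 (nat_lit 6)⟩,
  ⟨nat_lit 1, nat_lit 0, nat_lit 0, [nat_lit 1], [], nthN cv0 (nat_lit 7)⟩,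
  ⟨nat_lit 0, nat_lit 1, nat_lit 2, [nat_lit 16, nat_lit 16], [], nthN cv0 (nat_lit 8)⟩,
  ⟨nat_lit 0, nat_lit 0, nat_lit 2, [nat_lit 16, nat_lit 16], [], nthN cv0 (nat_lit 9)⟩,
  ⟨nat_lit 0, nat_lit 0, nat_lit 1, [nat_lit 4], [], nthN cv0 (nat_lit 10)⟩,
  ⟨nat_lit 0, nat_lit 0, nat_lit 1, [nat_lit 1], [], nthN cv0 (nat_lit 11)⟩]

theorem con0 : allL cc0 (P.conOk fu) = true := by decide +kernel

noncomputable def cv1 : List ℕ := [nat_lit 0x100020050000008002003001000c0020000018000006000,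
  nat_lit 0x1c006003003000800e0040040000010006000000000c000,
  nat_lit 0x60000000000000000000000000000000000000000000000000000000,
  nat_lit 0xc0000000000000000000000000000200000000000000000000000000000,
  nat_lit 0x180000000000000004000000000000000000000000000000000000000000000,
  nat_lit 0x20000000000000000e008000000000000000080000000010000000000000,
  nat_lit 0x380000000000000000002002000000800000800000000000000008000000000,
  nat_lit 0x1c000000001801000e0080000010002006000000c0040000030000000001,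
  nat_lit 0x38000000003000000400a006001800000800400200000020060000004000000]

noncomputable def cc1 : List Con := [
  ⟨nat_lit 1, nat_lit 0, nat_lit 0, [nat_lit 64], [], nthN cv1 (nat_lit 0)⟩,
  ⟨nat_lit 0, nat_lit 0, nat_lit 1, [nat_lit 64, nat_lit 64], [], nthN cv1 (nat_lit 1)⟩,
  ⟨nat_lit 2, nat_lit 5, nat_lit 0, [nat_lit 2, nat_lit 2, nat_lit 2], [], nthN cv1 (nat_lit 2)⟩,
  ⟨nat_lit 2, nat_lit 5, nat_lit 0, [nat_lit 3, nat_lit 3, nat_lit 3], [], nthN cv1 (nat_lit 3)⟩,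
  ⟨nat_lit 2, nat_lit 5, nat_lit 0, [nat_lit 4, nat_lit 4, nat_lit 4], [], nthN cv1 (nat_lit 4)⟩,
  ⟨nat_lit 2, nat_lit 5, nat_lit 0, [nat_lit 2, nat_lit 1], [nat_lit 1, nat_lit 2, nat_lit 3], nthN cv1 (nat_lit 5)⟩,
  ⟨nat_lit 2, nat_lit 5, nat_lit 0, [nat_lit 2, nat_lit 0], [nat_lit 0, nat_lit 2, nat_lit 4, nat_lit 4], nthN cv1 (nat_lit 6)⟩,
  ⟨nat_lit 2, nat_lit 5, nat_lit 0, [nat_lit 0, nat_lit 0, nat_lit 0], [nat_lit 3, nat_lit 3], nthN cv1 (nat_lit 7)⟩,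
  ⟨nat_lit 2, nat_lit 5, nat_lit 0, [nat_lit 1, nat_lit 1, nat_lit 1], [nat_lit 4, nat_lit 4], nthN cv1 (nat_lit 8)⟩]

theorem con1 : allL cc1 (P.conOk fu) = true := by decide +kernel

noncomputable def CV : List (List ℕ) := [cv0, cv1]

noncomputable def MU : List (List ℕ) := [[nat_lit 0],
  [nat_lit 0,
  nat_lit 0],
  [nat_lit 0x17df7810c7bb091074,
  nat_lit 0x1559be9d2c6282621,
  nat_lit 0x163cca50aed2115574],
  [nat_lit 0x24,
  nat_lit 0x8,
  nat_lit 0x751263f1e,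
  nat_lit 0x20069dee88e915c05],
  [nat_lit 0x758c8b17ccf5,
  nat_lit 0x144,
  nat_lit 0x8bed8a2c9267,
  nat_lit 0x46fe3199f7a3,
  nat_lit 0x123bf66788a5ee086b]]

noncomputable def lv : List (List (List ℕ) × ℕ × List (ℕ × List ℕ)) := [
  ([[nat_lit 0], [nat_lit 1], [nat_lit 3], [nat_lit 4]], nat_lit 0, [(nat_lit 0, []), (nat_lit 826, [nat_lit 3, nat_lit 3, nat_lit 1, nat_lit 0, nat_lit 1, nat_lit 0]), (nat_lit 889, [nat_lit 3, nat_lit 1, nat_lit 1, nat_lit 0]), (nat_lit 1569, [nat_lit 3, nat_lit 3, nat_lit 1, nat_lit 0]), (nat_lit 1684, [nat_lit 3, nat_lit 0, nat_lit 1, nat_lit 0]), (nat_lit 2353, [nat_lit 3]), (nat_lit 3734, [nat_lit 0, nat_lit 0, nat_lit 1, nat_lit 1, nat_lit 0]), (nat_lit 4329, [nat_lit 3, nat_lit 3]), (nat_lit 4701, [nat_lit 2, nat_lit 2, nat_lit 0]), (nat_lit 4709, [nat_lit 3, nat_lit 3, nat_lit 2, nat_lit 2, nat_lit 0, nat_lit 0]), (nat_lit 5041, [nat_lit 2, nat_lit 2]), (nat_lit 5543,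 [nat_lit 3, nat_lit 2, nat_lit 0, nat_lit 0]), (nat_lit 5917, [nat_lit 3, nat_lit 1, nat_lit 1]), (nat_lit 5919, [nat_lit 3, nat_lit 3, nat_lit 2, nat_lit 2, nat_lit 0]), (nat_lit 5975, [nat_lit 3, nat_lit 2, nat_lit 2]), (nat_lit 6087, [nat_lit 0, nat_lit 1, nat_lit 0]), (nat_lit 6398, [nat_lit 0, nat_lit 1, nat_lit 0, nat_lit 1, nat_lit 0]), (nat_lit 6690, [nat_lit 2, nat_lit 2, nat_lit 1]), (nat_lit 6834, [nat_lit 3, nat_lit 3, nat_lit 0]), (nat_lit 6837, [nat_lit 3, nat_lit 1, nat_lit 0, nat_lit 1]), (nat_lit 7044, [nat_lit 3, nat_lit 2, nat_lit 2, nat_lit 1]), (nat_lit 7170, [nat_lit 1, nat_lit 1, nat_lit 0]), (nat_lit 8262, [nat_lit 3, nat_lit 2, nat_lit 2, nat_lit 0, nat_lit 0]), (nat_lit 8604, [nat_lit 2, nat_lit 2, nat_lit 0, nat_lit 1, nat_lit 0]), (nat_lit 8813, [nat_lit 2]), (nat_lit 9109, [nat_lit 2, nat_lit 1, nat_lit 1]), (nat_lit 9288, [nat_lit 3, nat_lit 1, nat_lit 0, nat_lit 1, nat_lit 0]),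 (nat_lit 9589, [nat_lit 0]), (nat_lit 9938, [nat_lit 2, nat_lit 0]), (nat_lit 9945, [nat_lit 2, nat_lit 1]), (nat_lit 10205, [nat_lit 3, nat_lit 3, nat_lit 2, nat_lit 2, nat_lit 1]), (nat_lit 10251, [nat_lit 3, nat_lit 3, nat_lit 2]), (nat_lit 10416, [nat_lit 0, nat_lit 1, nat_lit 1]), (nat_lit 10888, [nat_lit 3, nat_lit 3, nat_lit 1]), (nat_lit 11521, [nat_lit 3, nat_lit 3, nat_lit 2, nat_lit 0, nat_lit 0]), (nat_lit 11525, [nat_lit 2, nat_lit 0, nat_lit 1, nat_lit 0]), (nat_lit 11820, [nat_lit 2, nat_lit 2, nat_lit 1, nat_lit 1]), (nat_lit 11991, [nat_lit 2, nat_lit 2, nat_lit 1, nat_lit 0, nat_lit 1, nat_lit 0]), (nat_lit 11993, [nat_lit 3, nat_lit 3, nat_lit 0, nat_lit 1, nat_lit 0]), (nat_lit 12053, [nat_lit 3, nat_lit 2, nat_lit 1, nat_lit 1]), (nat_lit 12117, [nat_lit 3, nat_lit 2]), (nat_lit 12903, [nat_lit 2, nat_lit 1, nat_lit 1, nat_lit 0]), (nat_lit 13059, [nat_lit 3, nat_lit 2, nat_lit 1]), (nat_lit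 13330, [nat_lit 2, nat_lit 0, nat_lit 1, nat_lit 0, nat_lit 1, nat_lit 0]), (nat_lit 13517, [nat_lit 3, nat_lit 1]), (nat_lit 13993, [nat_lit 2, nat_lit 0, nat_lit 1, nat_lit 1]), (nat_lit 14124, [nat_lit 3, nat_lit 1, nat_lit 0]), (nat_lit 14344, [nat_lit 3, nat_lit 3, nat_lit 2, nat_lit 2]), (nat_lit 14883, [nat_lit 1, nat_lit 0]), (nat_lit 15128, [nat_lit 3, nat_lit 2, nat_lit 0]), (nat_lit 15619, [nat_lit 3, nat_lit 0, nat_lit 0]), (nat_lit 16308, [nat_lit 2, nat_lit 0, nat_lit 1, nat_lit 1, nat_lit 0]), (nat_lit 16918, [nat_lit 3, nat_lit 2, nat_lit 2, nat_lit 0]), (nat_lit 17898, [nat_lit 2, nat_lit 0, nat_lit 0]), (nat_lit 17933, [nat_lit 0, nat_lit 1, nat_lit 1, nat_lit 0]), (nat_lit 18023, [nat_lit 3, nat_lit 2, nat_lit 1, nat_lit 0]), (nat_lit 18087, [nat_lit 1]), (nat_lit 18552, [nat_lit 0, nat_lit 0]), (nat_lit 18984, [nat_lit 3, nat_lit 0, nat_lit 0, nat_lit 1]), (nat_lit 19140, [nat_lit 1, nat_lit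 1]), (nat_lit 19176, [nat_lit 3, nat_lit 3, nat_lit 2, nat_lit 0]), (nat_lit 20203, [nat_lit 1, nat_lit 0, nat_lit 1, nat_lit 0]), (nat_lit 20385, [nat_lit 3, nat_lit 3, nat_lit 2, nat_lit 1]), (nat_lit 20796, [nat_lit 2, nat_lit 2, nat_lit 1, nat_lit 1, nat_lit 0]), (nat_lit 21125, [nat_lit 2, nat_lit 1, nat_lit 0]), (nat_lit 21252, [nat_lit 3, nat_lit 2, nat_lit 1, nat_lit 1, nat_lit 0]), (nat_lit 21345, [nat_lit 3, nat_lit 3, nat_lit 0, nat_lit 0]), (nat_lit 21413, [nat_lit 3, nat_lit 1, nat_lit 0, nat_lit 0]), (nat_lit 21437, [nat_lit 0, nat_lit 0, nat_lit 1]), (nat_lit 22074, [nat_lit 3, nat_lit 3, nat_lit 2, nat_lit 1, nat_lit 0]), (nat_lit 22087, [nat_lit 0, nat_lit 1]), (nat_lit 22288, [nat_lit 1, nat_lit 0, nat_lit 0]), (nat_lit 22549, [nat_lit 2, nat_lit 2, nat_lit 0, nat_lit 0]), (nat_lit 23250, [nat_lit 3, nat_lit 0]), (nat_lit 23273, [nat_lit 3, nat_lit 0, nat_lit 1]), (nat_lit 23851, [nat_lit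 1, nat_lit 0, nat_lit 0, nat_lit 1]), (nat_lit 24496, [nat_lit 2, nat_lit 1, nat_lit 0, nat_lit 1, nat_lit 0]), (nat_lit 24664, [nat_lit 3, nat_lit 3, nat_lit 1, nat_lit 1]), (nat_lit 24880, [nat_lit 1, nat_lit 0, nat_lit 1]), (nat_lit 26028, [nat_lit 1, nat_lit 1, nat_lit 0, nat_lit 0]), (nat_lit 26055, [nat_lit 2, nat_lit 2, nat_lit 1, nat_lit 0])]),
  ([[nat_lit 2]], nat_lit 1, [(nat_lit 1, []), (nat_lit 4656, [nat_lit 0]), (nat_lit 17127, [nat_lit 0, nat_lit 0])])]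

theorem rel0 : P.relRow (dT H9.OutJ3.T W) H9.OutJ3.B 0 = true := by decide +kernel
theorem rel1 : P.relRow (dT H9.OutJ3.T W) H9.OutJ3.B 1 = true := by decide +kernel
theorem rel2 : P.relRow (dT H9.OutJ3.T W) H9.OutJ3.B 2 = true := by decide +kernel
theorem rel3 : P.relRow (dT H9.OutJ3.T W) H9.OutJ3.B 3 = true := by decide +kernel
theorem rel4 : P.relRow (dT H9.OutJ3.T W) H9.OutJ3.B 4 = true := by decide +kernel
theorem fus0 : P.fusOk (dT H9.OutJ3.T W) H9.OutJ3.B fu 0 = true := by decide +kernel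
theorem fus1 : P.fusOk (dT H9.OutJ3.T W) H9.OutJ3.B fu 1 = true := by decide +kernel
theorem fus2 : P.fusOk (dT H9.OutJ3.T W) H9.OutJ3.B fu 2 = true := by decide +kernel
theorem fus3 : P.fusOk (dT H9.OutJ3.T W) H9.OutJ3.B fu 3 = true := by decide +kernel
theorem fus4 : P.fusOk (dT H9.OutJ3.T W) H9.OutJ3.B fu 4 = true := by decide +kernel
theorem fin0 : P.finRow lam (bs :: CV) MU 0 = true := by decide +kernel
theorem fin1 : P.finRow lam (bs :: CV) MU 1 = true := by decide +kernel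
theorem fin2 : P.finRow lam (bs :: CV) MU 2 = true := by decide +kernel
theorem fin3 : P.finRow lam (bs :: CV) MU 3 = true := by decide +kernel
theorem fin4 : P.finRow lam (bs :: CV) MU 4 = true := by decide +kernel

theorem pm {G : Type*} [Group G] [Finite G] {A : RAct G 26163} {g : ℕ → G} (hb : A.IsBase H9.OutJ3.B)
    (h : A.Tab g 51 H9.OutJ3.T) (ho : Nat.card G = 50232960) : PMult G 3 1 1 :=
  pmult_of_tab hb h ho P (show Nat.Prime 3 by norm_num) W fu 1 lam bs mo [cc0, cc1] CV MU lv 5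
    (by decide +kernel) (forall_lt_succ' (forall_lt_succ' (forall_lt_succ' (forall_lt_succ' (forall_lt_succ' forall_lt_zero' rel0) rel1) rel2) rel3) rel4) (by decide +kernel)
    (forall_lt_succ' (forall_lt_succ' (forall_lt_succ' (forall_lt_succ' (forall_lt_succ' forall_lt_zero' fus0) fus1) fus2) fus3) fus4)
    (by decide +kernel) (by decide +kernel) (by decide +kernel) (by decide +kernel)
    (List.forall_mem_cons.mpr ⟨con0, (List.forall_mem_cons.mpr ⟨con1, (by simp)⟩)⟩)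
    (forall_lt_succ' (forall_lt_succ' (forall_lt_succ' (forall_lt_succ' (forall_lt_succ' forall_lt_zero' fin0) fin1) fin2) fin3) fin4) (by decide +kernel)

end Cfsg.Agent.L0.J3P3
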