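import Cfsg.Agent.L0.PcCert
import Cfsg.Agent.L0.Dw
import Cfsg.Agent.H9.OutM11

/-! Generated certificate: the `2`-part of a Schur multiplier. -/

set_option autoImplicit false
set_option maxRecDepth 100000

namespace Cfsg.Agent.L0.M11P2

noncomputable def W : List (List ℕ) := [
  dw (nat_lit 4) (nat_lit 15) (nat_lit 4) (nat_lit 0x2a02),
  dw (nat_lit 4) (nat_lit 15) (nat_lit 3) (nat_lit 0x567),
  dw (nat_lit 4) (nat_lit 15) (nat_lit 4) (nat_lit 0x7291),
  dw (nat_lit 4) (nat_lit 15) (nat_lit 4) (nat_lit 0xc4d0),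
  dw (nat_lit 4) (nat_lit 15) (nat_lit 4) (nat_lit 0x3a41),
  dw (nat_lit 4) (nat_lit 15) (nat_lit 5) (nat_lit 0x39830)]

noncomputable def P : PcP := ⟨nat_lit 2, nat_lit 1, nat_lit 3, nat_lit 0x111132072, nat_lit 4, nat_lit 15, nat_lit 9, nat_lit 511, nat_lit 2, nat_lit 14, nat_lit 4, nat_lit 5⟩

noncomputable def fu : Fus := ⟨[nat_lit 12, nat_lit 2, nat_lit 1, nat_lit 4],
  [nat_lit 3, nat_lit 15, nat_lit 1, nat_lit 1],
  [nat_lit 4, nat_lit 4, nat_lit 4, nat_lit 5]⟩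

noncomputable def lam : List ℕ := [nat_lit 0x0,
  nat_lit 0x0,
  nat_lit 0x1,
  nat_lit 0x201]

noncomputable def bs : List ℕ := []

noncomputable def mo : List ℕ := []

noncomputable def cv0 : List ℕ := [nat_lit 0x8000000,
  nat_lit 0x1000000000000000000,
  nat_lit 0x40000000000000,
  nat_lit 0x200008000000000000000,
  nat_lit 0x8000201000000000,
  nat_lit 0x40201008000000,
  nat_lit 0x1000000000008000001000040201,
  nat_lit 0x1000000201008040000000000000,
  nat_lit 0x200000000000000040000]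

noncomputable def cc0 : List Con := [
  ⟨nat_lit 1, nat_lit 0, nat_lit 0, [nat_lit 8], [], nthN cv0 (nat_lit 0)⟩,
  ⟨nat_lit 1, nat_lit 2, nat_lit 2, [nat_lit 2], [], nthN cv0 (nat_lit 1)⟩,
  ⟨nat_lit 0, nat_lit 0, nat_lit 2, [nat_lit 2], [], nthN cv0 (nat_lit 2)⟩,
  ⟨nat_lit 1, nat_lit 1, nat_lit 1, [nat_lit 2], [], nthN cv0 (nat_lit 3)⟩,
  ⟨nat_lit 0, nat_lit 0, nat_lit 1, [nat_lit 4], [], nthN cv0 (nat_lit 4)⟩,
  ⟨nat_lit 1, nat_lit 0, nat_lit 0, [nat_lit 4], [], nthN cv0 (nat_lit 5)⟩,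
  ⟨nat_lit 2, nat_lit 4, nat_lit 0, [nat_lit 0, nat_lit 0], [nat_lit 2], nthN cv0 (nat_lit 6)⟩,
  ⟨nat_lit 2, nat_lit 4, nat_lit 0, [nat_lit 1, nat_lit 0], [nat_lit 0, nat_lit 1, nat_lit 2], nthN cv0 (nat_lit 7)⟩,
  ⟨nat_lit 2, nat_lit 5, nat_lit 0, [nat_lit 3, nat_lit 3], [], nthN cv0 (nat_lit 8)⟩]

theorem con0 : allL cc0 (P.conOk fu) = true := by decide +kernel

noncomputable def CV : List (List ℕ) := [cv0]

noncomputable def MU : List (List ℕ) := [[nat_lit 0],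
  [nat_lit 0,
  nat_lit 0x13d],
  [nat_lit 0x1,
  nat_lit 0x1c6,
  nat_lit 0x1e3],
  [nat_lit 0x4,
  nat_lit 0x35,
  nat_lit 0x2,
  nat_lit 0x3d]]

noncomputable def lv : List (List (List ℕ) × ℕ × List (ℕ × List ℕ)) := [
  ([[nat_lit 0], [nat_lit 2], [nat_lit 3]], nat_lit 1, [(nat_lit 1, []), (nat_lit 3, [nat_lit 2, nat_lit 0]), (nat_lit 4, [nat_lit 2, nat_lit 1]), (nat_lit 8, [nat_lit 0]), (nat_lit 9, [nat_lit 2, nat_lit 1, nat_lit 0]), (nat_lit 12, [nat_lit 1]), (nat_lit 13, [nat_lit 1, nat_lit 0]), (nat_lit 16, [nat_lit 2])]),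
  ([[nat_lit 1]], nat_lit 2, [(nat_lit 2, []), (nat_lit 6, [nat_lit 0])])]

theorem rel0 : P.relRow (dT H9.OutM11.T W) H9.OutM11.B 0 = true := by decide +kernel
theorem rel1 : P.relRow (dT H9.OutM11.T W) H9.OutM11.B 1 = true := by decide +kernel
theorem rel2 : P.relRow (dT H9.OutM11.T W) H9.OutM11.B 2 = true := by decide +kernel
theorem rel3 : P.relRow (dT H9.OutM11.T W) H9.OutM11.B 3 = true := by decide +kernel
theorem fus0 : P.fusOk (dT H9.OutM11.T W) H9.OutM11.B fu 0 = true := by decide +kernel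
theorem fus1 : P.fusOk (dT H9.OutM11.T W) H9.OutM11.B fu 1 = true := by decide +kernel
theorem fus2 : P.fusOk (dT H9.OutM11.T W) H9.OutM11.B fu 2 = true := by decide +kernel
theorem fus3 : P.fusOk (dT H9.OutM11.T W) H9.OutM11.B fu 3 = true := by decide +kernel
theorem fin0 : P.finRow lam (bs :: CV) MU 0 = true := by decide +kernel
theorem fin1 : P.finRow lam (bs :: CV) MU 1 = true := by decide +kernel
theorem fin2 : P.finRow lam (bs :: CV) MU 2 = true := by decide +kernel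
theorem fin3 : P.finRow lam (bs :: CV) MU 3 = true := by decide +kernel

theorem pm {G : Type*} [Group G] [Finite G] {A : RAct G 24} {g : ℕ → G} (hb : A.IsBase H9.OutM11.B)
    (h : A.Tab g 15 H9.OutM11.T) (ho : Nat.card G = 7920) : PMult G 2 0 0 :=
  pmult_of_tab hb h ho P (show Nat.Prime 2 by norm_num) W fu 0 lam bs mo [cc0] CV MU lv 4
    (by decide +kernel) (forall_lt_succ' (forall_lt_succ' (forall_lt_succ' (forall_lt_succ' forall_lt_zero' rel0) rel1) rel2) rel3) (by decide +kernel)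
    (forall_lt_succ' (forall_lt_succ' (forall_lt_succ' (forall_lt_succ' forall_lt_zero' fus0) fus1) fus2) fus3)
    (by decide +kernel) (by decide +kernel) (by decide +kernel) (by decide +kernel)
    (List.forall_mem_cons.mpr ⟨con0, (by simp)⟩)
    (forall_lt_succ' (forall_lt_succ' (forall_lt_succ' (forall_lt_succ' forall_lt_zero' fin0) fin1) fin2) fin3) (by decide +kernel)

end Cfsg.Agent.L0.M11P2
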