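import Cfsg.Agent.L0.PcCert
import Cfsg.Agent.L0.Dw
import Cfsg.Agent.H9.OutM12

/-! Generated certificate: the `2`-part of a Schur multiplier. -/

set_option autoImplicit false
set_option maxRecDepth 100000

namespace Cfsg.Agent.L0.M12P2

noncomputable def W : List (List ℕ) := [
  dw (nat_lit 5) (nat_lit 31) (nat_lit 5) (nat_lit 0xa1aa20),
  dw (nat_lit 5) (nat_lit 31) (nat_lit 4) (nat_lit 0x14dc2),
  dw (nat_lit 5) (nat_lit 31) (nat_lit 4) (nat_lit 0x82260),
  dw (nat_lit 5) (nat_lit 31) (nat_lit 4) (nat_lit 0x79c65),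
  dw (nat_lit 5) (nat_lit 31) (nat_lit 5) (nat_lit 0x870500),
  dw (nat_lit 5) (nat_lit 31) (nat_lit 5) (nat_lit 0x589dc0),
  dw (nat_lit 5) (nat_lit 31) (nat_lit 4) (nat_lit 0x7a5e3),
  dw (nat_lit 5) (nat_lit 31) (nat_lit 5) (nat_lit 0x2825a0)]

noncomputable def P : PcP := ⟨nat_lit 2, nat_lit 1, nat_lit 5, nat_lit 0x4104104008208304514400a2405c1, nat_lit 6, nat_lit 63, nat_lit 10, nat_lit 1023, nat_lit 4, nat_lit 31, nat_lit 5, nat_lit 5⟩

noncomputable def fu : Fus := ⟨[nat_lit 32, nat_lit 8, nat_lit 4, nat_lit 2, nat_lit 1, nat_lit 16, nat_lit 8, nat_lit 4, nat_lit 2, nat_lit 1],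
  [nat_lit 38, nat_lit 2, nat_lit 42, nat_lit 11, nat_lit 1, nat_lit 16, nat_lit 23, nat_lit 27, nat_lit 1, nat_lit 2],
  [nat_lit 6, nat_lit 6, nat_lit 6, nat_lit 6, nat_lit 6, nat_lit 7, nat_lit 7, nat_lit 7, nat_lit 7, nat_lit 7]⟩

noncomputable def lam : List ℕ := [nat_lit 0xc0000c03000030000000c0000c0300c000000000000000030000300c0000c00,
  nat_lit 0xc0000c0000000000030000000000000000000000c0000003000000000000c000000300c00,
  nat_lit 0xc000000000000000030000000000000000000000c00000030000000000000000000000000,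
  nat_lit 0x800008020000200000008000080200800000000000000002000010080000c03,
  nat_lit 0x10000000000,
  nat_lit 0x800008020000200000008000080200800000000000000002000020080000801]

noncomputable def bs : List ℕ := [nat_lit 0x1000000000000000]

noncomputable def mo : List ℕ := [nat_lit 0x30001]

noncomputable def cv0 : List ℕ := [nat_lit 0x40000000000000000000000000000000000000,
  nat_lit 0x1000000000000000000000000000000000000000000000,
  nat_lit 0x8000000000000000000000000000,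
  nat_lit 0x20000000000000000000000000000000000000000,
  nat_lit 0x2000000000000000000000000000000,
  nat_lit 0x8000000000000000000000000000000000000000000,
  nat_lit 0x800000000000000000000000000000000,
  nat_lit 0x800000000000000000000000000000000000000000000000,
  nat_lit 0x40000000000000000000002000000000000000,
  nat_lit 0x400000000000000800000000000000000000000000000000,
  nat_lit 0x30000000c000000000000000000000000000000000080000000,
  nat_lit 0x300c00000000000000000000020000000000000000000000000,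
  nat_lit 0x300003000000000000000000020000000000,
  nat_lit 0x100000004000000000000000020000000000,
  nat_lit 0x100000000010000000000000000000000800000000000000000,
  nat_lit 0x100000004000000000000000000000200000000000000000000,
  nat_lit 0x40000c000000000000000000000000000000000000000000,
  nat_lit 0xc010000000400000000000000000000000000000000,
  nat_lit 0x200400000030000300c0000c0000c0000c00000000000000800,
  nat_lit 0x400000000040000400000000000000000000000000000000,
  nat_lit 0x200c01000010040100400000010040000001000000000000800,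
  nat_lit 0x100403004030000000c01000010000100000000000000000000,
  nat_lit 0x2000000000000000000010000000000000000000000c000000000000,
  nat_lit 0x800000000000000000000000000000000000000000000000000000000000000,
  nat_lit 0x2000000000100400004000000000001000000000000000004000000000000,
  nat_lit 0xc000000000000004010000000000004000000100000000000000000c0000000,
  nat_lit 0xc00000000000300c0000c000000000003000030000300000000000000000000,
  nat_lit 0xc000080000001004000080000001000010000100c0000000004000040000001,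
  nat_lit 0x200000000000000000000000000000000000000000000000000000000000000000,
  nat_lit 0x8000000000000000000000100000000000000300000000000000000000000000000000000,
  nat_lit 0x2000000000000000000000000300000000000000100000000000000000000000000000000000,
  nat_lit 0x1000000000000c000000000000000000000000000,
  nat_lit 0x30000200000000000000000001004000040100001000000040000c0000000004010000100000,
  nat_lit 0x80000000000000000200c0000001000010040000400004000040000c000000100000]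

noncomputable def cc0 : List Con := [
  ⟨nat_lit 1, nat_lit 0, nat_lit 0, [nat_lit 32], [], nthN cv0 (nat_lit 0)⟩,
  ⟨nat_lit 1, nat_lit 3, nat_lit 3, [nat_lit 4], [], nthN cv0 (nat_lit 1)⟩,
  ⟨nat_lit 0, nat_lit 1, nat_lit 4, [nat_lit 2], [], nthN cv0 (nat_lit 2)⟩,
  ⟨nat_lit 0, nat_lit 1, nat_lit 5, [nat_lit 1], [], nthN cv0 (nat_lit 3)⟩,
  ⟨nat_lit 0, nat_lit 2, nat_lit 4, [nat_lit 2], [], nthN cv0 (nat_lit 4)⟩,
  ⟨nat_lit 0, nat_lit 2, nat_lit 5, [nat_lit 1], [], nthN cv0 (nat_lit 5)⟩,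
  ⟨nat_lit 0, nat_lit 3, nat_lit 4, [nat_lit 2], [], nthN cv0 (nat_lit 6)⟩,
  ⟨nat_lit 0, nat_lit 4, nat_lit 5, [nat_lit 1], [], nthN cv0 (nat_lit 7)⟩,
  ⟨nat_lit 0, nat_lit 0, nat_lit 3, [nat_lit 4], [], nthN cv0 (nat_lit 8)⟩,
  ⟨nat_lit 1, nat_lit 3, nat_lit 3, [nat_lit 2], [], nthN cv0 (nat_lit 9)⟩,
  ⟨nat_lit 0, nat_lit 0, nat_lit 2, [nat_lit 8], [], nthN cv0 (nat_lit 10)⟩,
  ⟨nat_lit 0, nat_lit 0, nat_lit 4, [nat_lit 2], [], nthN cv0 (nat_lit 11)⟩,
  ⟨nat_lit 0, nat_lit 1, nat_lit 2, [nat_lit 8], [], nthN cv0 (nat_lit 12)⟩,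
  ⟨nat_lit 1, nat_lit 1, nat_lit 1, [nat_lit 8], [], nthN cv0 (nat_lit 13)⟩,
  ⟨nat_lit 1, nat_lit 1, nat_lit 1, [nat_lit 4], [], nthN cv0 (nat_lit 14)⟩,
  ⟨nat_lit 1, nat_lit 2, nat_lit 2, [nat_lit 4], [], nthN cv0 (nat_lit 15)⟩,
  ⟨nat_lit 0, nat_lit 0, nat_lit 2, [nat_lit 2], [], nthN cv0 (nat_lit 16)⟩,
  ⟨nat_lit 0, nat_lit 1, nat_lit 2, [nat_lit 4], [], nthN cv0 (nat_lit 17)⟩,
  ⟨nat_lit 0, nat_lit 0, nat_lit 1, [nat_lit 16], [], nthN cv0 (nat_lit 18)⟩,
  ⟨nat_lit 0, nat_lit 0, nat_lit 1, [nat_lit 4], [], nthN cv0 (nat_lit 19)⟩,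
  ⟨nat_lit 1, nat_lit 0, nat_lit 0, [nat_lit 16], [], nthN cv0 (nat_lit 20)⟩,
  ⟨nat_lit 0, nat_lit 0, nat_lit 1, [nat_lit 8], [], nthN cv0 (nat_lit 21)⟩,
  ⟨nat_lit 2, nat_lit 6, nat_lit 0, [nat_lit 1, nat_lit 1], [], nthN cv0 (nat_lit 22)⟩,
  ⟨nat_lit 2, nat_lit 6, nat_lit 0, [nat_lit 4, nat_lit 4], [], nthN cv0 (nat_lit 23)⟩,
  ⟨nat_lit 2, nat_lit 6, nat_lit 0, [nat_lit 3, nat_lit 3], [], nthN cv0 (nat_lit 24)⟩,
  ⟨nat_lit 2, nat_lit 6, nat_lit 0, [nat_lit 1, nat_lit 0], [nat_lit 0, nat_lit 1, nat_lit 4], nthN cv0 (nat_lit 25)⟩,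
  ⟨nat_lit 2, nat_lit 6, nat_lit 0, [nat_lit 2, nat_lit 1], [nat_lit 1, nat_lit 2, nat_lit 4], nthN cv0 (nat_lit 26)⟩,
  ⟨nat_lit 2, nat_lit 6, nat_lit 0, [nat_lit 2, nat_lit 2], [nat_lit 4], nthN cv0 (nat_lit 27)⟩,
  ⟨nat_lit 2, nat_lit 7, nat_lit 0, [nat_lit 5, nat_lit 5], [], nthN cv0 (nat_lit 28)⟩,
  ⟨nat_lit 2, nat_lit 7, nat_lit 0, [nat_lit 8, nat_lit 8], [], nthN cv0 (nat_lit 29)⟩,
  ⟨nat_lit 2, nat_lit 7, nat_lit 0, [nat_lit 9, nat_lit 9], [], nthN cv0 (nat_lit 30)⟩,
  ⟨nat_lit 2, nat_lit 7, nat_lit 0, [nat_lit 8, nat_lit 5], [nat_lit 5, nat_lit 8], nthN cv0 (nat_lit 31)⟩,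
  ⟨nat_lit 2, nat_lit 7, nat_lit 0, [nat_lit 7, nat_lit 7], [nat_lit 9], nthN cv0 (nat_lit 32)⟩,
  ⟨nat_lit 2, nat_lit 7, nat_lit 0, [nat_lit 6, nat_lit 6], [], nthN cv0 (nat_lit 33)⟩]

theorem con0 : allL cc0 (P.conOk fu) = true := by decide +kernel

noncomputable def CV : List (List ℕ) := [cv0]

noncomputable def MU : List (List ℕ) := [[nat_lit 0],
  [nat_lit 0,
  nat_lit 0x39f0a06bd833c0002e],
  [nat_lit 0x140540807900005,
  nat_lit 0,
  nat_lit 0x3000499ce2200026],
  [nat_lit 0x3,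
  nat_lit 0x301b0684087000010,
  nat_lit 0x301b05438b0800015,
  nat_lit 0x10330c8101ee00030],
  [nat_lit 0x201104ca4c750000f,
  nat_lit 0x3000008a8c310002a,
  nat_lit 0x3000008a8d710002a,
  nat_lit 0x200a028b04060002a,
  nat_lit 0x1000008a87130002a],
  [nat_lit 0xc,
  nat_lit 0x2000008a8c310002a,
  nat_lit 0xa0202803700000,
  nat_lit 0x30,
  nat_lit 0x2080b00000,
  nat_lit 0x280a8248870000a]]

noncomputable def lv : List (List (List ℕ) × ℕ × List (ℕ × List ℕ)) := [
  ([[nat_lit 0], [nat_lit 3], [nat_lit 5]], nat_lit 0, [(nat_lit 0, []), (nat_lit 1, [nat_lit 2, nat_lit 0]), (nat_lit 2, [nat_lit 2, nat_lit 1]), (nat_lit 4, [nat_lit 1, nat_lit 0]), (nat_lit 8, [nat_lit 2]), (nat_lit 12, [nat_lit 0]), (nat_lit 13, [nat_lit 2, nat_lit 1, nat_lit 0]), (nat_lit 18, [nat_lit 1])]),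
  ([[nat_lit 2], [nat_lit 4]], nat_lit 3, [(nat_lit 3, []), (nat_lit 6, [nat_lit 1]), (nat_lit 9, [nat_lit 1, nat_lit 0]), (nat_lit 16, [nat_lit 0])]),
  ([[nat_lit 1]], nat_lit 5, [(nat_lit 5, []), (nat_lit 7, [nat_lit 0])])]

theorem rel0 : P.relRow (dT H9.OutM12.T W) H9.OutM12.B 0 = true := by decide +kernel
theorem rel1 : P.relRow (dT H9.OutM12.T W) H9.OutM12.B 1 = true := by decide +kernel
theorem rel2 : P.relRow (dT H9.OutM12.T W) H9.OutM12.B 2 = true := by decide +kernel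
theorem rel3 : P.relRow (dT H9.OutM12.T W) H9.OutM12.B 3 = true := by decide +kernel
theorem rel4 : P.relRow (dT H9.OutM12.T W) H9.OutM12.B 4 = true := by decide +kernel
theorem rel5 : P.relRow (dT H9.OutM12.T W) H9.OutM12.B 5 = true := by decide +kernel
theorem fus0 : P.fusOk (dT H9.OutM12.T W) H9.OutM12.B fu 0 = true := by decide +kernel
theorem fus1 : P.fusOk (dT H9.OutM12.T W) H9.OutM12.B fu 1 = true := by decide +kernel
theorem fus2 : P.fusOk (dT H9.OutM12.T W) H9.OutM12.B fu 2 = true := by decide +kernel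
theorem fus3 : P.fusOk (dT H9.OutM12.T W) H9.OutM12.B fu 3 = true := by decide +kernel
theorem fus4 : P.fusOk (dT H9.OutM12.T W) H9.OutM12.B fu 4 = true := by decide +kernel
theorem fus5 : P.fusOk (dT H9.OutM12.T W) H9.OutM12.B fu 5 = true := by decide +kernel
theorem fus6 : P.fusOk (dT H9.OutM12.T W) H9.OutM12.B fu 6 = true := by decide +kernel
theorem fus7 : P.fusOk (dT H9.OutM12.T W) H9.OutM12.B fu 7 = true := by decide +kernel
theorem fus8 : P.fusOk (dT H9.OutM12.T W) H9.OutM12.B fu 8 = true := by decide +kernel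
theorem fus9 : P.fusOk (dT H9.OutM12.T W) H9.OutM12.B fu 9 = true := by decide +kernel
theorem fin0 : P.finRow lam (bs :: CV) MU 0 = true := by decide +kernel
theorem fin1 : P.finRow lam (bs :: CV) MU 1 = true := by decide +kernel
theorem fin2 : P.finRow lam (bs :: CV) MU 2 = true := by decide +kernel
theorem fin3 : P.finRow lam (bs :: CV) MU 3 = true := by decide +kernel
theorem fin4 : P.finRow lam (bs :: CV) MU 4 = true := by decide +kernel
theorem fin5 : P.finRow lam (bs :: CV) MU 5 = true := by decide +kernel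

theorem pm {G : Type*} [Group G] [Finite G] {A : RAct G 24} {g : ℕ → G} (hb : A.IsBase H9.OutM12.B)
    (h : A.Tab g 21 H9.OutM12.T) (ho : Nat.card G = 95040) : PMult G 2 1 1 :=
  pmult_of_tab hb h ho P (show Nat.Prime 2 by norm_num) W fu 1 lam bs mo [cc0] CV MU lv 10
    (by decide +kernel) (forall_lt_succ' (forall_lt_succ' (forall_lt_succ' (forall_lt_succ' (forall_lt_succ' (forall_lt_succ' forall_lt_zero' rel0) rel1) rel2) rel3) rel4) rel5) (by decide +kernel)
    (forall_lt_succ' (forall_lt_succ' (forall_lt_succ' (forall_lt_succ' (forall_lt_succ' (forall_lt_succ' (forall_lt_succ' (forall_lt_succ' (forall_lt_succ' (forall_lt_succ' forall_lt_zero' fus0) fus1) fus2) fus3) fus4) fus5) fus6) fus7) fus8) fus9)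
    (by decide +kernel) (by decide +kernel) (by decide +kernel) (by decide +kernel)
    (List.forall_mem_cons.mpr ⟨con0, (by simp)⟩)
    (forall_lt_succ' (forall_lt_succ' (forall_lt_succ' (forall_lt_succ' (forall_lt_succ' (forall_lt_succ' forall_lt_zero' fin0) fin1) fin2) fin3) fin4) fin5) (by decide +kernel)

end Cfsg.Agent.L0.M12P2
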