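import Cfsg.Agent.L0.PcCert
import Cfsg.Agent.L0.Dw
import Cfsg.Agent.H9.OutM22

/-! Generated certificate: the `2`-part of a Schur multiplier. -/

set_option autoImplicit false
set_option maxRecDepth 100000

namespace Cfsg.Agent.L0.M22P2

noncomputable def W : List (List ℕ) := [
  dw (nat_lit 5) (nat_lit 31) (nat_lit 4) (nat_lit 0x41469),
  dw (nat_lit 5) (nat_lit 31) (nat_lit 3) (nat_lit 0xc21),
  dw (nat_lit 5) (nat_lit 31) (nat_lit 5) (nat_lit 0xa69ce4),
  dw (nat_lit 5) (nat_lit 31) (nat_lit 5) (nat_lit 0x15b243),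
  dw (nat_lit 5) (nat_lit 31) (nat_lit 5) (nat_lit 0x1212a42),
  dw (nat_lit 5) (nat_lit 31) (nat_lit 5) (nat_lit 0x1688c0),
  dw (nat_lit 5) (nat_lit 31) (nat_lit 4) (nat_lit 0x50465),
  dw (nat_lit 5) (nat_lit 31) (nat_lit 5) (nat_lit 0x380ce3),
  dw (nat_lit 5) (nat_lit 31) (nat_lit 5) (nat_lit 0xe3c4a6),
  dw (nat_lit 5) (nat_lit 31) (nat_lit 5) (nat_lit 0xe04562)]

noncomputable def P : PcP := ⟨nat_lit 2, nat_lit 1, nat_lit 6, nat_lit 0x4081020408004081830600286081000810284183e01285, nat_lit 7, nat_lit 127, nat_lit 12, nat_lit 4095, nat_lit 8, nat_lit 40, nat_lit 6, nat_lit 5⟩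

noncomputable def fu : Fus := ⟨[nat_lit 32, nat_lit 8, nat_lit 4, nat_lit 2, nat_lit 1, nat_lit 56, nat_lit 4, nat_lit 2, nat_lit 1, nat_lit 8, nat_lit 2, nat_lit 1],
  [nat_lit 9, nat_lit 40, nat_lit 2, nat_lit 6, nat_lit 1, nat_lit 9, nat_lit 96, nat_lit 1, nat_lit 2, nat_lit 1, nat_lit 48, nat_lit 8],
  [nat_lit 7, nat_lit 7, nat_lit 7, nat_lit 7, nat_lit 7, nat_lit 8, nat_lit 8, nat_lit 8, nat_lit 8, nat_lit 9, nat_lit 9, nat_lit 9]⟩

noncomputable def lam : List ℕ := [nat_lit 0x7000000007000000000007000007007000000006000000000007000000000000000005000007000000000000000000000000000000007005,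
  nat_lit 0x7000000000000000000000000007007000000000007000000000000000000000000000000000000000000000000000000000000000000000,
  nat_lit 0x7000000000007000000000000007006000000007007000000000000000000000000000007000000000000000000000000000000005000000,
  nat_lit 0x1000000000000,
  nat_lit 0x6000000006000000000006000006006000000004000000000006000000000000000002007006000000000000000000000000000000006003,
  nat_lit 0x2000000002000000000002000002002000000004000000000002000000000000000006000002000000000000000000000007001000002005,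
  nat_lit 0x1000000000000000000000000000000000000000]

noncomputable def bs : List ℕ := [nat_lit 0x5000005003000001004]

noncomputable def mo : List ℕ := [nat_lit 0x1ad4a209ee963cc000483636]

noncomputable def cv0 : List ℕ := [nat_lit 0x1000000000000000000000000,
  nat_lit 0x6000000000000000000000000000000,
  nat_lit 0x6000000000000000000000000000000000000000000000000000000000000000,
  nat_lit 0x6000000000000000000000,
  nat_lit 0x6000000000000000000000000000000000,
  nat_lit 0x6000000000000000000000000000000000000000000000000000000000000000000,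
  nat_lit 0x6000000000000000000000000000000000000000000000000000000000000000000000,
  nat_lit 0x6000000000000000000000000000000000000000000000000000000,
  nat_lit 0x6000000000000000000000000000000000000000000000000000000000000000000000000,
  nat_lit 0x6000000000000000000000000000000000000000000000000000000000,
  nat_lit 0x6000000000000000000000000000000000000000000000000000000000000000000000000000,
  nat_lit 0x6000000000000000000000000000000000000000000000000000000000000000000000000000000,
  nat_lit 0x1000000000000000000000000000000001000000000000000000000000000000,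
  nat_lit 0x7002000000000000000000000000000000000000000000000000000000000000000000000,
  nat_lit 0x7000007000000000000000000000000000000000006000000000000000000,
  nat_lit 0x7007000000000000000000000000000000006000000000000000000000000000000000000000000000,
  nat_lit 0x1000001000000002000000000000,
  nat_lit 0x7007000000000000000000000000000006000000000000000000000000000000000000000000000000,
  nat_lit 0x1000000000000001000000000000000002000000000000000000000000000000000000000000000000,
  nat_lit 0x7007000000000000000000006000000000000000000000000000000000000,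
  nat_lit 0x7007000000000000000000000000006000000000000000000000000000000000000000000000000000,
  nat_lit 0x7000007000000000000000000000000000000000006000000000000000000000000000000000000000,
  nat_lit 0x1000000001000000000000000000000000000000002000000000000000000000000000000000000000,
  nat_lit 0x1000000000001000000000000007002000000000000000000000000000000000000000000000000000,
  nat_lit 0x1000000001000000000007002000000000000000000000000000000000000,
  nat_lit 0x1001000000000000001000007000000000002000000000000000000000000000000000000000000000,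
  nat_lit 0x7000007000000007000000000000000000000007000000007000000000000000000000000000006000,
  nat_lit 0x1000000001000000000001000000000000001000001000000000000000000002000000000000000000,
  nat_lit 0x7000000000000000000000007000001000000007000000000000000000000000000000000000000,
  nat_lit 0x7001000000000000007000000007000000001000000000000000000000000000000000000000,
  nat_lit 0x6007007000007000000007000000007000000007007007000000007007000001000000006000000000,
  nat_lit 0x2000002001007000001000001000007000000001001007000000000007001000000000000000000,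
  nat_lit 0x2000000000000000000000000000001000000000000000007000000000000000000000000000000000000000000,
  nat_lit 0x2000000000000000000000000000000000000000000000000000000000000000000000000000000000000000000000000,
  nat_lit 0x2001000000001000000000000000000000000000000000000000000001000000000000000000007000000,
  nat_lit 0x2000000000000000000000000000000000000000000000000000000000000000001000000000000001000000,
  nat_lit 0x2000000000000000000000000000000000001000000000000001000000000000000000000000000000000000000000,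
  nat_lit 0x7000000000000000000000001000000000000000000007000000000000000000000000000000000,
  nat_lit 0x2000000000000000000000001000000000000000000007000000000000000000000000000000000000000000000000000000000000,
  nat_lit 0x2000000000000000000000000007000000000000000000001000000000000000000000000000000000000000000000000000000000000]

noncomputable def cc0 : List Con := [
  ⟨nat_lit 1, nat_lit 2, nat_lit 2, [nat_lit 16], [], nthN cv0 (nat_lit 0)⟩,
  ⟨nat_lit 0, nat_lit 0, nat_lit 4, [nat_lit 4], [], nthN cv0 (nat_lit 1)⟩,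
  ⟨nat_lit 0, nat_lit 0, nat_lit 6, [nat_lit 1], [], nthN cv0 (nat_lit 2)⟩,
  ⟨nat_lit 0, nat_lit 1, nat_lit 3, [nat_lit 8], [], nthN cv0 (nat_lit 3)⟩,
  ⟨nat_lit 0, nat_lit 1, nat_lit 4, [nat_lit 4], [], nthN cv0 (nat_lit 4)⟩,
  ⟨nat_lit 0, nat_lit 1, nat_lit 6, [nat_lit 1], [], nthN cv0 (nat_lit 5)⟩,
  ⟨nat_lit 0, nat_lit 2, nat_lit 6, [nat_lit 1], [], nthN cv0 (nat_lit 6)⟩,
  ⟨nat_lit 0, nat_lit 3, nat_lit 5, [nat_lit 2], [], nthN cv0 (nat_lit 7)⟩,
  ⟨nat_lit 0, nat_lit 3, nat_lit 6, [nat_lit 1], [], nthN cv0 (nat_lit 8)⟩,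
  ⟨nat_lit 0, nat_lit 4, nat_lit 5, [nat_lit 2], [], nthN cv0 (nat_lit 9)⟩,
  ⟨nat_lit 0, nat_lit 4, nat_lit 6, [nat_lit 1], [], nthN cv0 (nat_lit 10)⟩,
  ⟨nat_lit 0, nat_lit 5, nat_lit 6, [nat_lit 1], [], nthN cv0 (nat_lit 11)⟩,
  ⟨nat_lit 1, nat_lit 0, nat_lit 0, [nat_lit 64], [], nthN cv0 (nat_lit 12)⟩,
  ⟨nat_lit 1, nat_lit 2, nat_lit 2, [nat_lit 1], [], nthN cv0 (nat_lit 13)⟩,
  ⟨nat_lit 0, nat_lit 0, nat_lit 3, [nat_lit 8], [], nthN cv0 (nat_lit 14)⟩,
  ⟨nat_lit 0, nat_lit 0, nat_lit 5, [nat_lit 2], [], nthN cv0 (nat_lit 15)⟩,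
  ⟨nat_lit 1, nat_lit 1, nat_lit 1, [nat_lit 16], [], nthN cv0 (nat_lit 16)⟩,
  ⟨nat_lit 0, nat_lit 1, nat_lit 5, [nat_lit 2], [], nthN cv0 (nat_lit 17)⟩,
  ⟨nat_lit 1, nat_lit 1, nat_lit 1, [nat_lit 2], [], nthN cv0 (nat_lit 18)⟩,
  ⟨nat_lit 0, nat_lit 2, nat_lit 4, [nat_lit 4], [], nthN cv0 (nat_lit 19)⟩,
  ⟨nat_lit 0, nat_lit 2, nat_lit 5, [nat_lit 2], [], nthN cv0 (nat_lit 20)⟩,
  ⟨nat_lit 0, nat_lit 3, nat_lit 4, [nat_lit 4], [], nthN cv0 (nat_lit 21)⟩,
  ⟨nat_lit 1, nat_lit 3, nat_lit 3, [nat_lit 4], [], nthN cv0 (nat_lit 22)⟩,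
  ⟨nat_lit 1, nat_lit 2, nat_lit 2, [nat_lit 2], [], nthN cv0 (nat_lit 23)⟩,
  ⟨nat_lit 1, nat_lit 2, nat_lit 2, [nat_lit 4], [], nthN cv0 (nat_lit 24)⟩,
  ⟨nat_lit 1, nat_lit 0, nat_lit 0, [nat_lit 2], [], nthN cv0 (nat_lit 25)⟩,
  ⟨nat_lit 0, nat_lit 0, nat_lit 1, [nat_lit 32], [], nthN cv0 (nat_lit 26)⟩,
  ⟨nat_lit 1, nat_lit 0, nat_lit 0, [nat_lit 8], [], nthN cv0 (nat_lit 27)⟩,
  ⟨nat_lit 0, nat_lit 1, nat_lit 2, [nat_lit 4], [], nthN cv0 (nat_lit 28)⟩,
  ⟨nat_lit 0, nat_lit 0, nat_lit 1, [nat_lit 8], [], nthN cv0 (nat_lit 29)⟩,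
  ⟨nat_lit 0, nat_lit 0, nat_lit 2, [nat_lit 16], [], nthN cv0 (nat_lit 30)⟩,
  ⟨nat_lit 0, nat_lit 0, nat_lit 1, [nat_lit 16], [], nthN cv0 (nat_lit 31)⟩,
  ⟨nat_lit 2, nat_lit 7, nat_lit 0, [nat_lit 2, nat_lit 2], [], nthN cv0 (nat_lit 32)⟩,
  ⟨nat_lit 2, nat_lit 7, nat_lit 0, [nat_lit 4, nat_lit 4], [], nthN cv0 (nat_lit 33)⟩,
  ⟨nat_lit 2, nat_lit 7, nat_lit 0, [nat_lit 0, nat_lit 0], [], nthN cv0 (nat_lit 34)⟩,
  ⟨nat_lit 2, nat_lit 7, nat_lit 0, [nat_lit 1, nat_lit 1], [], nthN cv0 (nat_lit 35)⟩,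
  ⟨nat_lit 2, nat_lit 7, nat_lit 0, [nat_lit 3, nat_lit 3], [], nthN cv0 (nat_lit 36)⟩,
  ⟨nat_lit 2, nat_lit 7, nat_lit 0, [nat_lit 2, nat_lit 0], [nat_lit 0, nat_lit 2], nthN cv0 (nat_lit 37)⟩,
  ⟨nat_lit 2, nat_lit 8, nat_lit 0, [nat_lit 7, nat_lit 7], [], nthN cv0 (nat_lit 38)⟩,
  ⟨nat_lit 2, nat_lit 8, nat_lit 0, [nat_lit 8, nat_lit 8], [], nthN cv0 (nat_lit 39)⟩]

theorem con0 : allL cc0 (P.conOk fu) = true := by decide +kernel

noncomputable def cv1 : List ℕ := [nat_lit 0x2000000000000000000001000001000000001000000000000000000000000000000001000000000000000000000000001001001,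
  nat_lit 0x2000000000000000001000000001000000000000000000000000000000000000000000007000007000007007000007000000,
  nat_lit 0x2000000000000000000000000000001000000000000000000000000000000000000000000000000000007000000000000000000000000000,
  nat_lit 0x2000000000000000000000000000000000007000000000000000000000000000000000000000000000000000001000000000000000000000000000,
  nat_lit 0x2000000000000000000000000000000000000000000000000000007000000000000000000000000000000001001000000001001000001000000,
  nat_lit 0x7000000000000000000000000000000000000000000000000000001001000000000000000000000]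

noncomputable def cc1 : List Con := [
  ⟨nat_lit 2, nat_lit 8, nat_lit 0, [nat_lit 6, nat_lit 6], [], nthN cv1 (nat_lit 0)⟩,
  ⟨nat_lit 2, nat_lit 8, nat_lit 0, [nat_lit 5, nat_lit 5], [], nthN cv1 (nat_lit 1)⟩,
  ⟨nat_lit 2, nat_lit 9, nat_lit 0, [nat_lit 9, nat_lit 9], [], nthN cv1 (nat_lit 2)⟩,
  ⟨nat_lit 2, nat_lit 9, nat_lit 0, [nat_lit 11, nat_lit 11], [], nthN cv1 (nat_lit 3)⟩,
  ⟨nat_lit 2, nat_lit 9, nat_lit 0, [nat_lit 10, nat_lit 10], [], nthN cv1 (nat_lit 4)⟩,
  ⟨nat_lit 2, nat_lit 9, nat_lit 0, [nat_lit 11, nat_lit 10], [nat_lit 10, nat_lit 11], nthN cv1 (nat_lit 5)⟩]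

theorem con1 : allL cc1 (P.conOk fu) = true := by decide +kernel

noncomputable def CV : List (List ℕ) := [cv0, cv1]

noncomputable def MU : List (List ℕ) := [[nat_lit 0],
  [nat_lit 0x100e1800063d208c0af101acc0000660202e,
  nat_lit 0xa00000200000000800020140000806000],
  [nat_lit 0,
  nat_lit 0,
  nat_lit 0x100a40100206410c16a109b8c40006206034],
  [nat_lit 0x100a0800022f61841eb300bc40000220203d,
  nat_lit 0xc0000100006412c30a109918c000620003c,
  nat_lit 0x38,
  nat_lit 0x140000100002c364106308af940002e0000c],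
  [nat_lit 0x123ce5c62f0cb078003e0000e,
  nat_lit 0x1800000c000163ea2a838c5f30000180002a,
  nat_lit 0x140a081c022f41a611f083f590000760202f,
  nat_lit 0,
  nat_lit 0x180c10140435e3a01e2c0619bc0000a0200a],
  [nat_lit 0x180000080005e1f228418d784c000540000a,
  nat_lit 0x180000080005e1220ac18d79280005c0000a,
  nat_lit 0x7e0c224a1817e1c000520003a,
  nat_lit 0x80000180007a0861a2085e8bc0007a0001e,
  nat_lit 0x7e0c22ca1917e1c000520003a,
  nat_lit 0x180c30080c33a0823aa18d68040005200038],
  [nat_lit 0x7e0c3eca1917d1c000520003a,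
  nat_lit 0x100000100006424c34a10796d40006200034,
  nat_lit 0x80000180001e3821901857ca8000500002a,
  nat_lit 0x100000100002c304320308b0540002000014,
  nat_lit 0x240000040000a00000,
  nat_lit 0x100000100006412c30a109918c0006200034,
  nat_lit 0xe000001c0000600000]]

noncomputable def lv : List (List (List ℕ) × ℕ × List (ℕ × List ℕ)) := [
  ([[nat_lit 0], [nat_lit 4], [nat_lit 5], [nat_lit 6]], nat_lit 1, [(nat_lit 1, []), (nat_lit 2, [nat_lit 3, nat_lit 0]), (nat_lit 4, [nat_lit 2, nat_lit 1]), (nat_lit 5, [nat_lit 2]), (nat_lit 6, [nat_lit 3]), (nat_lit 7, [nat_lit 1, nat_lit 0]), (nat_lit 8, [nat_lit 0, nat_lit 0]), (nat_lit 10, [nat_lit 1]), (nat_lit 11, [nat_lit 0]), (nat_lit 12, [nat_lit 2, nat_lit 0, nat_lit 0]), (nat_lit 14, [nat_lit 0, nat_lit 2]), (nat_lit 15, [nat_lit 0, nat_lit 0, nat_lit 0]), (nat_lit 16, [nat_lit 0, nat_lit 2, nat_lit 1]), (nat_lit 18, [nat_lit 3, nat_lit 2]), (nat_lit 19, [nat_lit 2, nat_lit 1, nat_lit 0]), (nat_lit 21, [nat_lit 2, nat_lit 0])]),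
  ([[nat_lit 2], [nat_lit 3]], nat_lit 3, [(nat_lit 3, []), (nat_lit 9, [nat_lit 1, nat_lit 0]), (nat_lit 13, [nat_lit 1]), (nat_lit 17, [nat_lit 0])]),
  ([[nat_lit 1]], nat_lit 20, [(nat_lit 20, []), (nat_lit 22, [nat_lit 0])])]

theorem rel0 : P.relRow (dT H9.OutM22.T W) H9.OutM22.B 0 = true := by decide +kernel
theorem rel1 : P.relRow (dT H9.OutM22.T W) H9.OutM22.B 1 = true := by decide +kernel
theorem rel2 : P.relRow (dT H9.OutM22.T W) H9.OutM22.B 2 = true := by decide +kernel
theorem rel3 : P.relRow (dT H9.OutM22.T W) H9.OutM22.B 3 = true := by decide +kernel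
theorem rel4 : P.relRow (dT H9.OutM22.T W) H9.OutM22.B 4 = true := by decide +kernel
theorem rel5 : P.relRow (dT H9.OutM22.T W) H9.OutM22.B 5 = true := by decide +kernel
theorem rel6 : P.relRow (dT H9.OutM22.T W) H9.OutM22.B 6 = true := by decide +kernel
theorem fus0 : P.fusOk (dT H9.OutM22.T W) H9.OutM22.B fu 0 = true := by decide +kernel
theorem fus1 : P.fusOk (dT H9.OutM22.T W) H9.OutM22.B fu 1 = true := by decide +kernel
theorem fus2 : P.fusOk (dT H9.OutM22.T W) H9.OutM22.B fu 2 = true := by decide +kernel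
theorem fus3 : P.fusOk (dT H9.OutM22.T W) H9.OutM22.B fu 3 = true := by decide +kernel
theorem fus4 : P.fusOk (dT H9.OutM22.T W) H9.OutM22.B fu 4 = true := by decide +kernel
theorem fus5 : P.fusOk (dT H9.OutM22.T W) H9.OutM22.B fu 5 = true := by decide +kernel
theorem fus6 : P.fusOk (dT H9.OutM22.T W) H9.OutM22.B fu 6 = true := by decide +kernel
theorem fus7 : P.fusOk (dT H9.OutM22.T W) H9.OutM22.B fu 7 = true := by decide +kernel
theorem fus8 : P.fusOk (dT H9.OutM22.T W) H9.OutM22.B fu 8 = true := by decide +kernel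
theorem fus9 : P.fusOk (dT H9.OutM22.T W) H9.OutM22.B fu 9 = true := by decide +kernel
theorem fus10 : P.fusOk (dT H9.OutM22.T W) H9.OutM22.B fu 10 = true := by decide +kernel
theorem fus11 : P.fusOk (dT H9.OutM22.T W) H9.OutM22.B fu 11 = true := by decide +kernel
theorem fin0 : P.finRow lam (bs :: CV) MU 0 = true := by decide +kernel
theorem fin1 : P.finRow lam (bs :: CV) MU 1 = true := by decide +kernel
theorem fin2 : P.finRow lam (bs :: CV) MU 2 = true := by decide +kernel
theorem fin3 : P.finRow lam (bs :: CV) MU 3 = true := by decide +kernel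
theorem fin4 : P.finRow lam (bs :: CV) MU 4 = true := by decide +kernel
theorem fin5 : P.finRow lam (bs :: CV) MU 5 = true := by decide +kernel
theorem fin6 : P.finRow lam (bs :: CV) MU 6 = true := by decide +kernel

theorem pm {G : Type*} [Group G] [Finite G] {A : RAct G 24} {g : ℕ → G} (hb : A.IsBase H9.OutM22.B)
    (h : A.Tab g 19 H9.OutM22.T) (ho : Nat.card G = 443520) : PMult G 2 2 1 :=
  pmult_of_tab hb h ho P (show Nat.Prime 2 by norm_num) W fu 2 lam bs mo [cc0, cc1] CV MU lv 12
    (by decide +kernel) (forall_lt_succ' (forall_lt_succ' (forall_lt_succ' (forall_lt_succ' (forall_lt_succ' (forall_lt_succ' (forall_lt_succ' forall_lt_zero' rel0) rel1) rel2) rel3) rel4) rel5) rel6) (by decide +kernel)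
    (forall_lt_succ' (forall_lt_succ' (forall_lt_succ' (forall_lt_succ' (forall_lt_succ' (forall_lt_succ' (forall_lt_succ' (forall_lt_succ' (forall_lt_succ' (forall_lt_succ' (forall_lt_succ' (forall_lt_succ' forall_lt_zero' fus0) fus1) fus2) fus3) fus4) fus5) fus6) fus7) fus8) fus9) fus10) fus11)
    (by decide +kernel) (by decide +kernel) (by decide +kernel) (by decide +kernel)
    (List.forall_mem_cons.mpr ⟨con0, (List.forall_mem_cons.mpr ⟨con1, (by simp)⟩)⟩)
    (forall_lt_succ' (forall_lt_succ' (forall_lt_succ' (forall_lt_succ' (forall_lt_succ' (forall_lt_succ' (forall_lt_succ' forall_lt_zero' fin0) fin1) fin2) fin3) fin4) fin5) fin6) (by decide +kernel)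

end Cfsg.Agent.L0.M22P2
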