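import Cfsg.Agent.L0.PcCert
import Cfsg.Agent.L0.Dw
import Cfsg.Agent.H9.OutM23

/-! Generated certificate: the `2`-part of a Schur multiplier. -/

set_option autoImplicit false
set_option maxRecDepth 100000

namespace Cfsg.Agent.L0.M23P2

noncomputable def W : List (List ℕ) := [
  dw (nat_lit 5) (nat_lit 31) (nat_lit 4) (nat_lit 0x4256c),
  dw (nat_lit 5) (nat_lit 31) (nat_lit 6) (nat_lit 0x801661),
  dw (nat_lit 5) (nat_lit 31) (nat_lit 4) (nat_lit 0x324ea),
  dw (nat_lit 5) (nat_lit 31) (nat_lit 5) (nat_lit 0xb51cac),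
  dw (nat_lit 5) (nat_lit 31) (nat_lit 5) (nat_lit 0xbb2883),
  dw (nat_lit 5) (nat_lit 31) (nat_lit 6) (nat_lit 0x3419a60),
  dw (nat_lit 5) (nat_lit 31) (nat_lit 6) (nat_lit 0x318c02),
  dw (nat_lit 5) (nat_lit 31) (nat_lit 5) (nat_lit 0xfa8107),
  dw (nat_lit 5) (nat_lit 31) (nat_lit 6) (nat_lit 0xa3aa4e5),
  dw (nat_lit 5) (nat_lit 31) (nat_lit 6) (nat_lit 0x15694ce7)]

noncomputable def P : PcP := ⟨nat_lit 2, nat_lit 1, nat_lit 6, nat_lit 0x40810204080040818206002860e14008142041f3005600, nat_lit 7, nat_lit 127, nat_lit 12, nat_lit 4095, nat_lit 2, nat_lit 39, nat_lit 6, nat_lit 7⟩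

noncomputable def fu : Fus := ⟨[nat_lit 88, nat_lit 32, nat_lit 8, nat_lit 4, nat_lit 2, nat_lit 1, nat_lit 64, nat_lit 8, nat_lit 4, nat_lit 1, nat_lit 8],
  [nat_lit 8, nat_lit 47, nat_lit 80, nat_lit 126, nat_lit 2, nat_lit 1, nat_lit 76, nat_lit 71, nat_lit 3, nat_lit 1, nat_lit 1],
  [nat_lit 7, nat_lit 7, nat_lit 7, nat_lit 7, nat_lit 7, nat_lit 7, nat_lit 8, nat_lit 8, nat_lit 8, nat_lit 8, nat_lit 9]⟩

noncomputable def lam : List ℕ := [nat_lit 0x0,
  nat_lit 0x0,
  nat_lit 0x0,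
  nat_lit 0x1000000000,
  nat_lit 0x1000001000,
  nat_lit 0x1000001001000,
  nat_lit 0x1000000]

noncomputable def bs : List ℕ := []

noncomputable def mo : List ℕ := []

noncomputable def cv0 : List ℕ := [nat_lit 0x1000000000000000000000000000000000000000000000000000000000000000000,
  nat_lit 0x1000000000000000000000000,
  nat_lit 0x1000000000000000000000000000000000000000000000000000000000000000000000000000000,
  nat_lit 0x1000000000000000000000000000000000000000000000000000000000000000000000000,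
  nat_lit 0x1000000001000000000000000000,
  nat_lit 0x1000001000000000000000000000000000000000000000000000000000000000000000000000000000,
  nat_lit 0x1000000000000000001000000000000000000000000000000000000000000000000000000000000000,
  nat_lit 0x1001000000000000000000000000000000000000000000000000000000000000000000000000000000,
  nat_lit 0x1000001000000000000000000000000000000000000000000000000000000,
  nat_lit 0x1001000000000000000000000000000000000000000000000000000000000,
  nat_lit 0x1000000000001000000000000001000000000000000000000000000000000000000000000000000000,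
  nat_lit 0x1000000001000000000001000000000000000000000000000000000000000,
  nat_lit 0x1000000000001000000000001000000000000000000000000000000000000000000000000,
  nat_lit 0x1000001000000000000000000000000000000001001000000001001000000001000000000000000000,
  nat_lit 0x1001000000000000000000001001000000001000001000000000000000000000000000000000000000,
  nat_lit 0x1000000001000000001001001000000000000001001000001000001000001000000000000000000000,
  nat_lit 0x1001000001000000001000000001000000001001001000000001001001000000000000000000000,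
  nat_lit 0x1001001000000000001000001000001001000001000001000001000000000000000000000,
  nat_lit 0x1000000001000001000000001,
  nat_lit 0x1000000000000000000001001000000001000000000001000001000001001000001000001000001000000000000000000000,
  nat_lit 0x1000000000000001000001001000000001000001001001000001000000000000001000000001001000001000000001000,
  nat_lit 0x1000000000000001000001000001000000001001001001000000000000001000001000001001001000000000000000000,
  nat_lit 0x1001001000000000001000000000000001001000000000001001001001001001001001001001001,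
  nat_lit 0x1001000000000000000001000000000000000001000000000000000000000000000000000000000000,
  nat_lit 0x1000000000000000000000000000000000000000000000001000001001000000001000000000000001000000000000000000000000000000,
  nat_lit 0x1000000000001001001000000000001001000000000001001000000000000000000000000001,
  nat_lit 0x1000000000000000000000000000000000000000000000000000001000000000000000000000000000]

noncomputable def cc0 : List Con := [
  ⟨nat_lit 1, nat_lit 1, nat_lit 1, [nat_lit 32], [], nthN cv0 (nat_lit 0)⟩,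
  ⟨nat_lit 1, nat_lit 2, nat_lit 2, [nat_lit 16], [], nthN cv0 (nat_lit 1)⟩,
  ⟨nat_lit 1, nat_lit 1, nat_lit 1, [nat_lit 2], [], nthN cv0 (nat_lit 2)⟩,
  ⟨nat_lit 1, nat_lit 2, nat_lit 2, [nat_lit 1], [], nthN cv0 (nat_lit 3)⟩,
  ⟨nat_lit 1, nat_lit 0, nat_lit 0, [nat_lit 16], [], nthN cv0 (nat_lit 4)⟩,
  ⟨nat_lit 0, nat_lit 0, nat_lit 4, [nat_lit 4], [], nthN cv0 (nat_lit 5)⟩,
  ⟨nat_lit 1, nat_lit 0, nat_lit 0, [nat_lit 4], [], nthN cv0 (nat_lit 6)⟩,
  ⟨nat_lit 0, nat_lit 0, nat_lit 5, [nat_lit 2], [], nthN cv0 (nat_lit 7)⟩,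
  ⟨nat_lit 0, nat_lit 1, nat_lit 3, [nat_lit 8], [], nthN cv0 (nat_lit 8)⟩,
  ⟨nat_lit 0, nat_lit 2, nat_lit 4, [nat_lit 4], [], nthN cv0 (nat_lit 9)⟩,
  ⟨nat_lit 1, nat_lit 2, nat_lit 2, [nat_lit 2], [], nthN cv0 (nat_lit 10)⟩,
  ⟨nat_lit 1, nat_lit 2, nat_lit 2, [nat_lit 4], [], nthN cv0 (nat_lit 11)⟩,
  ⟨nat_lit 1, nat_lit 1, nat_lit 1, [nat_lit 8], [], nthN cv0 (nat_lit 12)⟩,
  ⟨nat_lit 1, nat_lit 0, nat_lit 0, [nat_lit 32], [], nthN cv0 (nat_lit 13)⟩,
  ⟨nat_lit 0, nat_lit 0, nat_lit 1, [nat_lit 8], [], nthN cv0 (nat_lit 14)⟩,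
  ⟨nat_lit 0, nat_lit 0, nat_lit 1, [nat_lit 32], [], nthN cv0 (nat_lit 15)⟩,
  ⟨nat_lit 0, nat_lit 1, nat_lit 2, [nat_lit 16], [], nthN cv0 (nat_lit 16)⟩,
  ⟨nat_lit 1, nat_lit 1, nat_lit 1, [nat_lit 16], [], nthN cv0 (nat_lit 17)⟩,
  ⟨nat_lit 2, nat_lit 7, nat_lit 0, [nat_lit 2, nat_lit 2], [], nthN cv0 (nat_lit 18)⟩,
  ⟨nat_lit 2, nat_lit 7, nat_lit 0, [nat_lit 1, nat_lit 1], [nat_lit 5], nthN cv0 (nat_lit 19)⟩,
  ⟨nat_lit 2, nat_lit 7, nat_lit 0, [nat_lit 2, nat_lit 1], [nat_lit 1, nat_lit 2, nat_lit 4], nthN cv0 (nat_lit 20)⟩,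
  ⟨nat_lit 2, nat_lit 7, nat_lit 0, [nat_lit 3, nat_lit 0], [nat_lit 0, nat_lit 3, nat_lit 4], nthN cv0 (nat_lit 21)⟩,
  ⟨nat_lit 2, nat_lit 7, nat_lit 0, [nat_lit 3, nat_lit 3], [], nthN cv0 (nat_lit 22)⟩,
  ⟨nat_lit 2, nat_lit 8, nat_lit 0, [nat_lit 8, nat_lit 8], [], nthN cv0 (nat_lit 23)⟩,
  ⟨nat_lit 2, nat_lit 8, nat_lit 0, [nat_lit 8, nat_lit 6], [nat_lit 6, nat_lit 8, nat_lit 9], nthN cv0 (nat_lit 24)⟩,
  ⟨nat_lit 2, nat_lit 8, nat_lit 0, [nat_lit 7, nat_lit 7], [], nthN cv0 (nat_lit 25)⟩,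
  ⟨nat_lit 2, nat_lit 9, nat_lit 0, [nat_lit 10, nat_lit 10], [], nthN cv0 (nat_lit 26)⟩]

theorem con0 : allL cc0 (P.conOk fu) = true := by decide +kernel

noncomputable def CV : List (List ℕ) := [cv0]

noncomputable def MU : List (List ℕ) := [[nat_lit 0x6006154],
  [nat_lit 0,
  nat_lit 0],
  [nat_lit 0,
  nat_lit 0,
  nat_lit 0x6046156],
  [nat_lit 0x4000094,
  nat_lit 0x46f5c5,
  nat_lit 0x2,
  nat_lit 0x4000084],
  [nat_lit 0x4750850,
  nat_lit 0x335f69,
  nat_lit 0x4c7f8e7,
  nat_lit 0x4f7be2d,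
  nat_lit 0x82964d],
  [nat_lit 0x4f7fdad,
  nat_lit 0x286c5,
  nat_lit 0x4f520e0,
  nat_lit 0x297cd,
  nat_lit 0x294cd,
  nat_lit 0x296cd],
  [nat_lit 0xc4,
  nat_lit 0x1,
  nat_lit 0x29349,
  nat_lit 0x8,
  nat_lit 0xa4,
  nat_lit 0x4,
  nat_lit 0x84]]

noncomputable def lv : List (List (List ℕ) × ℕ × List (ℕ × List ℕ)) := [
  ([[nat_lit 1], [nat_lit 4], [nat_lit 5], [nat_lit 6]], nat_lit 0, [(nat_lit 0, []), (nat_lit 1, [nat_lit 2, nat_lit 0]), (nat_lit 2, [nat_lit 0]), (nat_lit 3, [nat_lit 3, nat_lit 1, nat_lit 0]), (nat_lit 4, [nat_lit 3, nat_lit 2, nat_lit 0]), (nat_lit 5, [nat_lit 2, nat_lit 1, nat_lit 0]), (nat_lit 6, [nat_lit 2]), (nat_lit 8, [nat_lit 3, nat_lit 0]), (nat_lit 9, [nat_lit 3, nat_lit 2, nat_lit 1]), (nat_lit 11, [nat_lit 0, nat_lit 1]), (nat_lit 12, [nat_lit 1]), (nat_lit 13, [nat_lit 1, nat_lit 0]), (nat_lit 14, [nat_lit 3]), (nat_lit 15, [nat_lit 2, nat_lit 1]), (nat_lit 20, [nat_lit 3, nat_lit 2]), (nat_lit 22, [nat_lit 3, nat_lit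 1])]),
  ([[nat_lit 2], [nat_lit 3]], nat_lit 7, [(nat_lit 7, []), (nat_lit 16, [nat_lit 1, nat_lit 0]), (nat_lit 18, [nat_lit 0]), (nat_lit 21, [nat_lit 1])]),
  ([[nat_lit 0]], nat_lit 10, [(nat_lit 10, []), (nat_lit 19, [nat_lit 0])])]

theorem rel0 : P.relRow (dT H9.OutM23.T W) H9.OutM23.B 0 = true := by decide +kernel
theorem rel1 : P.relRow (dT H9.OutM23.T W) H9.OutM23.B 1 = true := by decide +kernel
theorem rel2 : P.relRow (dT H9.OutM23.T W) H9.OutM23.B 2 = true := by decide +kernel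
theorem rel3 : P.relRow (dT H9.OutM23.T W) H9.OutM23.B 3 = true := by decide +kernel
theorem rel4 : P.relRow (dT H9.OutM23.T W) H9.OutM23.B 4 = true := by decide +kernel
theorem rel5 : P.relRow (dT H9.OutM23.T W) H9.OutM23.B 5 = true := by decide +kernel
theorem rel6 : P.relRow (dT H9.OutM23.T W) H9.OutM23.B 6 = true := by decide +kernel
theorem fus0 : P.fusOk (dT H9.OutM23.T W) H9.OutM23.B fu 0 = true := by decide +kernel
theorem fus1 : P.fusOk (dT H9.OutM23.T W) H9.OutM23.B fu 1 = true := by decide +kernel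
theorem fus2 : P.fusOk (dT H9.OutM23.T W) H9.OutM23.B fu 2 = true := by decide +kernel
theorem fus3 : P.fusOk (dT H9.OutM23.T W) H9.OutM23.B fu 3 = true := by decide +kernel
theorem fus4 : P.fusOk (dT H9.OutM23.T W) H9.OutM23.B fu 4 = true := by decide +kernel
theorem fus5 : P.fusOk (dT H9.OutM23.T W) H9.OutM23.B fu 5 = true := by decide +kernel
theorem fus6 : P.fusOk (dT H9.OutM23.T W) H9.OutM23.B fu 6 = true := by decide +kernel
theorem fus7 : P.fusOk (dT H9.OutM23.T W) H9.OutM23.B fu 7 = true := by decide +kernel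
theorem fus8 : P.fusOk (dT H9.OutM23.T W) H9.OutM23.B fu 8 = true := by decide +kernel
theorem fus9 : P.fusOk (dT H9.OutM23.T W) H9.OutM23.B fu 9 = true := by decide +kernel
theorem fus10 : P.fusOk (dT H9.OutM23.T W) H9.OutM23.B fu 10 = true := by decide +kernel
theorem fin0 : P.finRow lam (bs :: CV) MU 0 = true := by decide +kernel
theorem fin1 : P.finRow lam (bs :: CV) MU 1 = true := by decide +kernel
theorem fin2 : P.finRow lam (bs :: CV) MU 2 = true := by decide +kernel
theorem fin3 : P.finRow lam (bs :: CV) MU 3 = true := by decide +kernel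
theorem fin4 : P.finRow lam (bs :: CV) MU 4 = true := by decide +kernel
theorem fin5 : P.finRow lam (bs :: CV) MU 5 = true := by decide +kernel
theorem fin6 : P.finRow lam (bs :: CV) MU 6 = true := by decide +kernel

theorem pm {G : Type*} [Group G] [Finite G] {A : RAct G 24} {g : ℕ → G} (hb : A.IsBase H9.OutM23.B)
    (h : A.Tab g 23 H9.OutM23.T) (ho : Nat.card G = 10200960) : PMult G 2 0 0 :=
  pmult_of_tab hb h ho P (show Nat.Prime 2 by norm_num) W fu 0 lam bs mo [cc0] CV MU lv 11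
    (by decide +kernel) (forall_lt_succ' (forall_lt_succ' (forall_lt_succ' (forall_lt_succ' (forall_lt_succ' (forall_lt_succ' (forall_lt_succ' forall_lt_zero' rel0) rel1) rel2) rel3) rel4) rel5) rel6) (by decide +kernel)
    (forall_lt_succ' (forall_lt_succ' (forall_lt_succ' (forall_lt_succ' (forall_lt_succ' (forall_lt_succ' (forall_lt_succ' (forall_lt_succ' (forall_lt_succ' (forall_lt_succ' (forall_lt_succ' forall_lt_zero' fus0) fus1) fus2) fus3) fus4) fus5) fus6) fus7) fus8) fus9) fus10)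
    (by decide +kernel) (by decide +kernel) (by decide +kernel) (by decide +kernel)
    (List.forall_mem_cons.mpr ⟨con0, (by simp)⟩)
    (forall_lt_succ' (forall_lt_succ' (forall_lt_succ' (forall_lt_succ' (forall_lt_succ' (forall_lt_succ' (forall_lt_succ' forall_lt_zero' fin0) fin1) fin2) fin3) fin4) fin5) fin6) (by decide +kernel)

end Cfsg.Agent.L0.M23P2
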