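import Cfsg.Agent.L0.PcCert
import Cfsg.Agent.L0.Dw
import Cfsg.Agent.H9.OutM24

/-! Generated certificate: the `2`-part of a Schur multiplier. -/

set_option autoImplicit false
set_option maxRecDepth 100000

namespace Cfsg.Agent.L0.M24P2

noncomputable def W : List (List ℕ) := [
  dw (nat_lit 5) (nat_lit 31) (nat_lit 7) (nat_lit 0x20eb449e3),
  dw (nat_lit 5) (nat_lit 31) (nat_lit 6) (nat_lit 0xd5184a1),
  dw (nat_lit 5) (nat_lit 31) (nat_lit 6) (nat_lit 0x1151a2a3),
  dw (nat_lit 5) (nat_lit 31) (nat_lit 6) (nat_lit 0x19493882),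
  dw (nat_lit 5) (nat_lit 31) (nat_lit 6) (nat_lit 0x16e1be4c),
  dw (nat_lit 5) (nat_lit 31) (nat_lit 6) (nat_lit 0x2834c503),
  dw (nat_lit 5) (nat_lit 31) (nat_lit 7) (nat_lit 0x196578b00),
  dw (nat_lit 5) (nat_lit 31) (nat_lit 6) (nat_lit 0x2c451d68),
  dw (nat_lit 5) (nat_lit 31) (nat_lit 6) (nat_lit 0x1632d4c7),
  dw (nat_lit 5) (nat_lit 31) (nat_lit 6) (nat_lit 0x2a6554e3),
  dw (nat_lit 5) (nat_lit 31) (nat_lit 6) (nat_lit 0x107739ea),
  dw (nat_lit 5) (nat_lit 31) (nat_lit 6) (nat_lit 0x1826b956),
  dw (nat_lit 5) (nat_lit 31) (nat_lit 7) (nat_lit 0x38a178e42),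
  dw (nat_lit 5) (nat_lit 31) (nat_lit 6) (nat_lit 0xac542cb)]

noncomputable def P : PcP := ⟨nat_lit 2, nat_lit 1, nat_lit 9, nat_lit 0x40100401004010040100400008020080200c0300c03000040140401c0501c05000080200902008020000401a04010060000ac280a0280cc5d1987100090200104e000, nat_lit 10, nat_lit 1023, nat_lit 12, nat_lit 4095, nat_lit 2, nat_lit 73, nat_lit 7, nat_lit 7⟩

noncomputable def fu : Fus := ⟨[nat_lit 512, nat_lit 64, nat_lit 32, nat_lit 16, nat_lit 8, nat_lit 4, nat_lit 2, nat_lit 1, nat_lit 128, nat_lit 32, nat_lit 16, nat_lit 8, nat_lit 4, nat_lit 1, nat_lit 32, nat_lit 4, nat_lit 256, nat_lit 8],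
  [nat_lit 568, nat_lit 908, nat_lit 419, nat_lit 403, nat_lit 57, nat_lit 962, nat_lit 3, nat_lit 1, nat_lit 144, nat_lit 648, nat_lit 137, nat_lit 8, nat_lit 11, nat_lit 1, nat_lit 9, nat_lit 37, nat_lit 296, nat_lit 1],
  [nat_lit 10, nat_lit 10, nat_lit 10, nat_lit 10, nat_lit 10, nat_lit 10, nat_lit 10, nat_lit 10, nat_lit 11, nat_lit 11, nat_lit 11, nat_lit 11, nat_lit 11, nat_lit 11, nat_lit 12, nat_lit 12, nat_lit 13, nat_lit 13]⟩

noncomputable def lam : List ℕ := [nat_lit 0x0,
  nat_lit 0x0,
  nat_lit 0x0,
  nat_lit 0x0,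
  nat_lit 0x1001001000000000000001001000,
  nat_lit 0x1000000,
  nat_lit 0x1001001000000000000000000000,
  nat_lit 0x1000001000000000001001000,
  nat_lit 0x1000000001000000000000000000,
  nat_lit 0x1001001001000000000000001000]

noncomputable def bs : List ℕ := []

noncomputable def mo : List ℕ := []

noncomputable def cv0 : List ℕ := [nat_lit 0x1000000000000000000000000000000000000000000000000,
  nat_lit 0x1000000000000000000000000000000000000000000000000000000000000000000000000000000,
  nat_lit 0x1000000000000000000000000000000000000000000000000000000000000000000000000000000000000000000000000000000000000000000000000000000000000000000000000000000,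
  nat_lit 0x1000001000000000000000000000000000000000000000000000000000000000000000000000000000,
  nat_lit 0x1000000000000000001000000000000000000000000000000000000000000000000000000000000000,
  nat_lit 0x1001000000000000000000000000000000000000000000000000000000000000000000000000000000,
  nat_lit 0x1000001000000000000000000000000000000000000000000000000000000000000000000000000000000000000000000000000000000000000000000000000000000000000000000000000000000000000,
  nat_lit 0x1000000000000000000000000001000000000000000000000000000000000000000000000000000000000000000000000000000000000000000000000000000000000000000000000000000000000000000,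
  nat_lit 0x1001000000000000000000000000000000000000000000000000000000000000000000000000000000000000000000000000000000000000000000000000000000000000000000000000000000000000000,
  nat_lit 0x1000000001000000000000000000000000000000000000000000000000000,
  nat_lit 0x1000000000001000000000000000000000000000000000000000000000000000000000000000000000,
  nat_lit 0x1000000000000000000001000000000000000000000000000000000000000000000000000000000000000000000000000000000000000000000000000000000000000000000000000000000000000000000,
  nat_lit 0x1000000001000000000000000000000000000000000000000000000000000000000000000000000000000000000000000000000000000000000000000000000000000000000000000000000000000000000,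
  nat_lit 0x1000000000001000000000000000000000000000000000000000000000000000000000000000000000000000000000000000000000000000000000000000000000000000000000000000000000000000000,
  nat_lit 0x1000000000000001000000001000000000000000000000000000000000000000000000000000000000,
  nat_lit 0x1000000000000000000000001000000000000001000000000000000000000000000000000000000000000000000000000000000000000000000000000000000000000000000000000000000000000000000,
  nat_lit 0x1000000000000000000000000000000000000000000000000000000000000000000000000000000000000000000000000000000000000000000000000000000000000000000000000000,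
  nat_lit 0x1001001000000000000000000000001001000000000000000000000000000000000000000000000000000000000000000000000000000000000000000000000000000000000000000000000000000000000,
  nat_lit 0x1000001001000000000000000000000000000000000000000001001000000000000000000000000000000000000000000000000000000000000000000000000000000,
  nat_lit 0x1000000000000000000000000001000000000000000000000000000000000000000000000000000000000000000000000000000000000000000000000000000000000000000000000000000000,
  nat_lit 0x1000001000000000000000000000000000000000000000000001000000000000000000000000000000000000000000000000000000000000000000000000000000000000000000000000000000,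
  nat_lit 0x1001000000000000000000001000001000000000000000000001000000000001000000000000000000000000000000000000000000000000000000000000000000000000000000000000000000000000000,
  nat_lit 0x1000000001000000001000000000000000001000000000000000000000000000000000000000000000001001000000000000000000000000000000000000000000000000000000000000000000000000000,
  nat_lit 0x1001000000000000001000000000000000000001001000000000000000000000000000000000000000000000000000000000000000000000000000000000000000000000000000000000000000000000000,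
  nat_lit 0x1000000000001001001000000000001001000000000001000000000000000000000000000000,
  nat_lit 0x1000001000000000000000000001000001000000000000000001000000000000000000000000000000000000000000000000000000000000000000000000000000000000000000000000000000,
  nat_lit 0x1001000000000001000001001000000001001001000000001000000000000000000000000000000000,
  nat_lit 0x1001000000001000000000001000001000001000000001000000000000000000000000000000000000,
  nat_lit 0x1000000001000000000000000000000000000000000001001001000000001000000001001000000001000000001000000001000000000000000000000000000000000000000000000000000,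
  nat_lit 0x1000001000000000001000000000001001000000000001000000000000000001001000000000000000000000000000000000000000000000000000000000000000000000000000000000000000000000000,
  nat_lit 0x1000000001001000001000000000001000001001000001000000000000000000000000000000000001001000000000000000000000001000000000000001000000000000000000000000000000000000000,
  nat_lit 0x1000000000001000000001001000000000000001000000001000000000000001000000000000000000000000000000000000000000000000000000000000000000000000000000000000000000000000000,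
  nat_lit 0x1001000000001000000000000000001000001001000001000000000000000000000000000000000001000000001000000000000001000000000000000000000000000000000000000000000000000000000,
  nat_lit 0x1001000000000001000000001000000000001001000000000001000000001001000000000000000000000000000000000000000000000000000000000000000000000000000000000000000000000000,
  nat_lit 0x1001000000000000000000000000000001000000001000000001000001001000001000000001000001000000000000000000000000001000000000001000000001000000000000000000000000000000000,
  nat_lit 0x1000000001000001000000001000000000001000001001000001000001000000001001000000000000001001000000000000000000000000001000001001000001000000000000000000000000000000000,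
  nat_lit 0x1001000001000001000001000000000000000000000000000000001001001000000000001000000001000000000001000001000001000001000000001000000000000000000000000000000000000,
  nat_lit 0x1000000001001001000000000000000000000000000000000000000000000000000000000000000000001001000000000000001001000000000000001000000000000000000000000000000000000000000,
  nat_lit 0x1000000000000000000000000000000000000000000000000001000000001001001000000000000000000000000000000000000000000000000000000000000000000000000000000000000000000000000000000000000000000000000,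
  nat_lit 0x1000000001000000000001000001000000001000000001001000000000000000000000000000000000000000000000000001000000000001000000000000000000000000000000001001000001000000]

noncomputable def cc0 : List Con := [
  ⟨nat_lit 1, nat_lit 1, nat_lit 1, [nat_lit 256], [], nthN cv0 (nat_lit 0)⟩,
  ⟨nat_lit 1, nat_lit 1, nat_lit 1, [nat_lit 8], [], nthN cv0 (nat_lit 1)⟩,
  ⟨nat_lit 1, nat_lit 1, nat_lit 1, [nat_lit 1], [], nthN cv0 (nat_lit 2)⟩,
  ⟨nat_lit 0, nat_lit 0, nat_lit 4, [nat_lit 32], [], nthN cv0 (nat_lit 3)⟩,
  ⟨nat_lit 1, nat_lit 0, nat_lit 0, [nat_lit 32], [], nthN cv0 (nat_lit 4)⟩,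
  ⟨nat_lit 0, nat_lit 0, nat_lit 5, [nat_lit 16], [], nthN cv0 (nat_lit 5)⟩,
  ⟨nat_lit 0, nat_lit 0, nat_lit 7, [nat_lit 4], [], nthN cv0 (nat_lit 6)⟩,
  ⟨nat_lit 1, nat_lit 0, nat_lit 0, [nat_lit 4], [], nthN cv0 (nat_lit 7)⟩,
  ⟨nat_lit 0, nat_lit 0, nat_lit 8, [nat_lit 2], [], nthN cv0 (nat_lit 8)⟩,
  ⟨nat_lit 0, nat_lit 1, nat_lit 2, [nat_lit 128], [], nthN cv0 (nat_lit 9)⟩,
  ⟨nat_lit 1, nat_lit 2, nat_lit 2, [nat_lit 32], [], nthN cv0 (nat_lit 10)⟩,
  ⟨nat_lit 1, nat_lit 2, nat_lit 2, [nat_lit 4], [], nthN cv0 (nat_lit 11)⟩,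
  ⟨nat_lit 0, nat_lit 3, nat_lit 6, [nat_lit 8], [], nthN cv0 (nat_lit 12)⟩,
  ⟨nat_lit 1, nat_lit 5, nat_lit 5, [nat_lit 4], [], nthN cv0 (nat_lit 13)⟩,
  ⟨nat_lit 1, nat_lit 1, nat_lit 1, [nat_lit 32], [], nthN cv0 (nat_lit 14)⟩,
  ⟨nat_lit 1, nat_lit 1, nat_lit 1, [nat_lit 2], [], nthN cv0 (nat_lit 15)⟩,
  ⟨nat_lit 0, nat_lit 4, nat_lit 5, [nat_lit 4], [], nthN cv0 (nat_lit 16)⟩,
  ⟨nat_lit 0, nat_lit 1, nat_lit 7, [nat_lit 4], [], nthN cv0 (nat_lit 17)⟩,
  ⟨nat_lit 0, nat_lit 3, nat_lit 5, [nat_lit 16], [], nthN cv0 (nat_lit 18)⟩,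
  ⟨nat_lit 0, nat_lit 1, nat_lit 6, [nat_lit 4], [], nthN cv0 (nat_lit 19)⟩,
  ⟨nat_lit 0, nat_lit 0, nat_lit 4, [nat_lit 4], [], nthN cv0 (nat_lit 20)⟩,
  ⟨nat_lit 1, nat_lit 1, nat_lit 1, [nat_lit 4], [], nthN cv0 (nat_lit 21)⟩,
  ⟨nat_lit 1, nat_lit 3, nat_lit 3, [nat_lit 8], [], nthN cv0 (nat_lit 22)⟩,
  ⟨nat_lit 1, nat_lit 3, nat_lit 3, [nat_lit 2], [], nthN cv0 (nat_lit 23)⟩,
  ⟨nat_lit 1, nat_lit 0, nat_lit 0, [nat_lit 256], [], nthN cv0 (nat_lit 24)⟩,
  ⟨nat_lit 0, nat_lit 1, nat_lit 4, [nat_lit 4], [], nthN cv0 (nat_lit 25)⟩,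
  ⟨nat_lit 0, nat_lit 0, nat_lit 1, [nat_lit 256], [], nthN cv0 (nat_lit 26)⟩,
  ⟨nat_lit 0, nat_lit 0, nat_lit 1, [nat_lit 128], [], nthN cv0 (nat_lit 27)⟩,
  ⟨nat_lit 1, nat_lit 2, nat_lit 2, [nat_lit 64], [], nthN cv0 (nat_lit 28)⟩,
  ⟨nat_lit 1, nat_lit 3, nat_lit 3, [nat_lit 4], [], nthN cv0 (nat_lit 29)⟩,
  ⟨nat_lit 1, nat_lit 3, nat_lit 3, [nat_lit 64], [], nthN cv0 (nat_lit 30)⟩,
  ⟨nat_lit 0, nat_lit 1, nat_lit 2, [nat_lit 4], [], nthN cv0 (nat_lit 31)⟩,
  ⟨nat_lit 1, nat_lit 3, nat_lit 3, [nat_lit 16], [], nthN cv0 (nat_lit 32)⟩,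
  ⟨nat_lit 0, nat_lit 0, nat_lit 3, [nat_lit 4], [], nthN cv0 (nat_lit 33)⟩,
  ⟨nat_lit 1, nat_lit 1, nat_lit 1, [nat_lit 64], [], nthN cv0 (nat_lit 34)⟩,
  ⟨nat_lit 0, nat_lit 1, nat_lit 3, [nat_lit 64], [], nthN cv0 (nat_lit 35)⟩,
  ⟨nat_lit 0, nat_lit 0, nat_lit 2, [nat_lit 64], [], nthN cv0 (nat_lit 36)⟩,
  ⟨nat_lit 2, nat_lit 10, nat_lit 0, [nat_lit 4, nat_lit 4], [], nthN cv0 (nat_lit 37)⟩,
  ⟨nat_lit 2, nat_lit 10, nat_lit 0, [nat_lit 6, nat_lit 0], [nat_lit 0, nat_lit 6, nat_lit 7], nthN cv0 (nat_lit 38)⟩,
  ⟨nat_lit 2, nat_lit 10, nat_lit 0, [nat_lit 3, nat_lit 3], [], nthN cv0 (nat_lit 39)⟩]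

theorem con0 : allL cc0 (P.conOk fu) = true := by decide +kernel

noncomputable def cv1 : List ℕ := [nat_lit 0x1000000000000000000000001001001000000000001000000000000000000000000001000000000000000000000000000000000000001001000000000000000001000000000000001000000000000000000000001000001000,
  nat_lit 0x1001000000001001000000001000000000001000000000000000001001001001000000000001000001001000000000001001001000001000000000001001000000000000001000000000001000000001000000000000000001000001001,
  nat_lit 0x1000001001000000000000000001000000001000000001001000001001001000000000001000000001001001001000001000000001001000001000000000000000001000001001000000000001000001000,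
  nat_lit 0x1001000001000000001000000000000001001000000001001000001000001000001000000000001001000001000000001001000000000000000000000000000001001001001001001001001001001,
  nat_lit 0x1001000001000000000000000000000001000001000000000001001001001000001000000001001000001001000000001001000001000000000001000000000001000000001000000001001000001000000000000000000001000001000,
  nat_lit 0x1000000000000000000000000000000000000000000000000000000000001001001000000000001000000000000000000000001001000000001001001001001001000000001001001000000001001000000000001000000001000001000,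
  nat_lit 0x1000000000001000001000000000000000000001000000000000000000000000001000001000000001,
  nat_lit 0x1000000001000000000001000000000000000000000000000000000000000000000000000000000001000000000001000000001000000000000000000000000000000000000000000001000000000000000,
  nat_lit 0x1001000001000000000000000000001000001000000000000000000001000000000000000000000001000000000000000000000000000000000000000000000000000000000000000000000000000000000,
  nat_lit 0x1000000000000000000000000000000000000000000000000000000000000001000000000000000001000000001000000000000000000000001000000000001000000001000000000000000000000000000000000000000000000000000000000000000000000,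
  nat_lit 0x1000000000000000000000000000000000000000000000000000000000000000000000000000000000000000000000000000000000000000000001001000000000000000000000000001000001000000001000000000000000000000000001000000000,
  nat_lit 0x1000000000001000001000000000000000000000000000000000000000000000000000000000000000000000001000001000000000000000000000000000000000000000000000001000000000,
  nat_lit 0x1000000001000000000000000000000000000000000000000000000000000000000000000000000001000000000000000000000000000000000000001000000000000000000000000000000000000000000,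
  nat_lit 0x1000001000000001000000000000000000000000000000000000000000000000001000000000000000000000000000000000000000000000000000001000000000000000000000000000000000000000000,
  nat_lit 0x1000001000000001000000000000000000000000000000000000000000000000000000000000000000000001000000000000000000000000000000000000000000000000000000000000000000]

noncomputable def cc1 : List Con := [
  ⟨nat_lit 2, nat_lit 10, nat_lit 0, [nat_lit 3, nat_lit 0], [nat_lit 0, nat_lit 3, nat_lit 4], nthN cv1 (nat_lit 0)⟩,
  ⟨nat_lit 2, nat_lit 10, nat_lit 0, [nat_lit 1, nat_lit 1], [nat_lit 2, nat_lit 3, nat_lit 6, nat_lit 7], nthN cv1 (nat_lit 1)⟩,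
  ⟨nat_lit 2, nat_lit 10, nat_lit 0, [nat_lit 5, nat_lit 2], [nat_lit 2, nat_lit 5], nthN cv1 (nat_lit 2)⟩,
  ⟨nat_lit 2, nat_lit 10, nat_lit 0, [nat_lit 5, nat_lit 5], [], nthN cv1 (nat_lit 3)⟩,
  ⟨nat_lit 2, nat_lit 10, nat_lit 0, [nat_lit 2, nat_lit 1], [nat_lit 1, nat_lit 2, nat_lit 4, nat_lit 6, nat_lit 7], nthN cv1 (nat_lit 4)⟩,
  ⟨nat_lit 2, nat_lit 10, nat_lit 0, [nat_lit 5, nat_lit 0], [nat_lit 0, nat_lit 5, nat_lit 7], nthN cv1 (nat_lit 5)⟩,
  ⟨nat_lit 2, nat_lit 11, nat_lit 0, [nat_lit 9, nat_lit 9], [], nthN cv1 (nat_lit 6)⟩,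
  ⟨nat_lit 2, nat_lit 11, nat_lit 0, [nat_lit 10, nat_lit 10], [], nthN cv1 (nat_lit 7)⟩,
  ⟨nat_lit 2, nat_lit 11, nat_lit 0, [nat_lit 12, nat_lit 12], [], nthN cv1 (nat_lit 8)⟩,
  ⟨nat_lit 2, nat_lit 11, nat_lit 0, [nat_lit 12, nat_lit 8], [nat_lit 8, nat_lit 12, nat_lit 13], nthN cv1 (nat_lit 9)⟩,
  ⟨nat_lit 2, nat_lit 11, nat_lit 0, [nat_lit 9, nat_lit 8], [nat_lit 8, nat_lit 9, nat_lit 11], nthN cv1 (nat_lit 10)⟩,
  ⟨nat_lit 2, nat_lit 11, nat_lit 0, [nat_lit 10, nat_lit 9], [nat_lit 9, nat_lit 10], nthN cv1 (nat_lit 11)⟩,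
  ⟨nat_lit 2, nat_lit 12, nat_lit 0, [nat_lit 14, nat_lit 14], [], nthN cv1 (nat_lit 12)⟩,
  ⟨nat_lit 2, nat_lit 12, nat_lit 0, [nat_lit 15, nat_lit 15], [], nthN cv1 (nat_lit 13)⟩,
  ⟨nat_lit 2, nat_lit 13, nat_lit 0, [nat_lit 17, nat_lit 16], [nat_lit 16, nat_lit 17], nthN cv1 (nat_lit 14)⟩]

theorem con1 : allL cc1 (P.conOk fu) = true := by decide +kernel

noncomputable def CV : List (List ℕ) := [cv0, cv1]

noncomputable def MU : List (List ℕ) := [[nat_lit 0x8c020000110ac],
  [nat_lit 0,
  nat_lit 0],
  [nat_lit 0x48000002d1f9bc,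
  nat_lit 0x808082f0a52d,
  nat_lit 0x50802002d0fd00],
  [nat_lit 0,
  nat_lit 0,
  nat_lit 0,
  nat_lit 0],
  [nat_lit 0x39e8f1be4f8ac7,
  nat_lit 0x79e8f1b99e0bd6,
  nat_lit 0x29e8f1b74f9cff,
  nat_lit 0x31ecf24ec5445c,
  nat_lit 0x10000000001022],
  [nat_lit 0x39e8d1bf4e9af3,
  nat_lit 0x1,
  nat_lit 0x50002002d0c304,
  nat_lit 0x2450bc52ef8f,
  nat_lit 0x40000002d1c10a,
  nat_lit 0x50002002d0c104],
  [nat_lit 0x32,
  nat_lit 0x40000002d18128,
  nat_lit 0x422,
  nat_lit 0x71c8a3b00e5bf7,
  nat_lit 0x2a,
  nat_lit 0x2,
  nat_lit 0x22],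
  [nat_lit 0x31c8b29a81b60d,
  nat_lit 0x5904079572decc,
  nat_lit 0xc8a28055b499,
  nat_lit 0x59040bd5284e8b,
  nat_lit 0x30000000011062,
  nat_lit 0x1c8a292908ab1,
  nat_lit 0x113004,
  nat_lit 0x1000002d4202e],
  [nat_lit 0x31c8a09211ba17,
  nat_lit 0x1c8a292bc1b91,
  nat_lit 0x1c8a2129022b1,
  nat_lit 0x31c8a2b2db9bfb,
  nat_lit 0x2183004,
  nat_lit 0x2d01128,
  nat_lit 0x83004,
  nat_lit 0x2de0048,
  nat_lit 0x2dc210c],
  [nat_lit 0x2084,
  nat_lit 0x2d0b12c,
  nat_lit 0x2804,
  nat_lit 0x48202c,
  nat_lit 0x10000,
  nat_lit 0x4,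
  nat_lit 0x3004,
  nat_lit 0x2044,
  nat_lit 0x2104,
  nat_lit 0x2004]]

noncomputable def lv : List (List (List ℕ) × ℕ × List (ℕ × List ℕ)) := [
  ([[nat_lit 3], [nat_lit 7], [nat_lit 8], [nat_lit 9]], nat_lit 1, [(nat_lit 1, []), (nat_lit 3, [nat_lit 3, nat_lit 0]), (nat_lit 5, [nat_lit 3, nat_lit 1, nat_lit 0]), (nat_lit 6, [nat_lit 0, nat_lit 2]), (nat_lit 9, [nat_lit 2]), (nat_lit 10, [nat_lit 2, nat_lit 0]), (nat_lit 12, [nat_lit 0, nat_lit 0]), (nat_lit 13, [nat_lit 3, nat_lit 1]), (nat_lit 14, [nat_lit 0, nat_lit 1]), (nat_lit 15, [nat_lit 3]), (nat_lit 16, [nat_lit 0]), (nat_lit 17, [nat_lit 1, nat_lit 0, nat_lit 0]), (nat_lit 18, [nat_lit 3, nat_lit 0, nat_lit 1]), (nat_lit 20, [nat_lit 1]), (nat_lit 21, [nat_lit 2, nat_lit 1]), (nat_lit 23, [nat_lit 1, nat_lit 0])]),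
  ([[nat_lit 0], [nat_lit 4], [nat_lit 6]], nat_lit 0, [(nat_lit 0, []), (nat_lit 2, [nat_lit 2, nat_lit 0]), (nat_lit 4, [nat_lit 0]), (nat_lit 7, [nat_lit 1]), (nat_lit 8, [nat_lit 0, nat_lit 1]), (nat_lit 11, [nat_lit 2]), (nat_lit 19, [nat_lit 2, nat_lit 1]), (nat_lit 22, [nat_lit 1, nat_lit 0])]),
  ([[nat_lit 1], [nat_lit 5]], nat_lit 2, [(nat_lit 2, []), (nat_lit 4, [nat_lit 1]), (nat_lit 8, [nat_lit 1, nat_lit 0]), (nat_lit 22, [nat_lit 0])]),
  ([[nat_lit 2]], nat_lit 7, [(nat_lit 7, []), (nat_lit 19, [nat_lit 0])])]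

theorem rel0 : P.relRow (dT H9.OutM24.T W) H9.OutM24.B 0 = true := by decide +kernel
theorem rel1 : P.relRow (dT H9.OutM24.T W) H9.OutM24.B 1 = true := by decide +kernel
theorem rel2 : P.relRow (dT H9.OutM24.T W) H9.OutM24.B 2 = true := by decide +kernel
theorem rel3 : P.relRow (dT H9.OutM24.T W) H9.OutM24.B 3 = true := by decide +kernel
theorem rel4 : P.relRow (dT H9.OutM24.T W) H9.OutM24.B 4 = true := by decide +kernel
theorem rel5 : P.relRow (dT H9.OutM24.T W) H9.OutM24.B 5 = true := by decide +kernel
theorem rel6 : P.relRow (dT H9.OutM24.T W) H9.OutM24.B 6 = true := by decide +kernel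
theorem rel7 : P.relRow (dT H9.OutM24.T W) H9.OutM24.B 7 = true := by decide +kernel
theorem rel8 : P.relRow (dT H9.OutM24.T W) H9.OutM24.B 8 = true := by decide +kernel
theorem rel9 : P.relRow (dT H9.OutM24.T W) H9.OutM24.B 9 = true := by decide +kernel
theorem fus0 : P.fusOk (dT H9.OutM24.T W) H9.OutM24.B fu 0 = true := by decide +kernel
theorem fus1 : P.fusOk (dT H9.OutM24.T W) H9.OutM24.B fu 1 = true := by decide +kernel
theorem fus2 : P.fusOk (dT H9.OutM24.T W) H9.OutM24.B fu 2 = true := by decide +kernel
theorem fus3 : P.fusOk (dT H9.OutM24.T W) H9.OutM24.B fu 3 = true := by decide +kernel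
theorem fus4 : P.fusOk (dT H9.OutM24.T W) H9.OutM24.B fu 4 = true := by decide +kernel
theorem fus5 : P.fusOk (dT H9.OutM24.T W) H9.OutM24.B fu 5 = true := by decide +kernel
theorem fus6 : P.fusOk (dT H9.OutM24.T W) H9.OutM24.B fu 6 = true := by decide +kernel
theorem fus7 : P.fusOk (dT H9.OutM24.T W) H9.OutM24.B fu 7 = true := by decide +kernel
theorem fus8 : P.fusOk (dT H9.OutM24.T W) H9.OutM24.B fu 8 = true := by decide +kernel
theorem fus9 : P.fusOk (dT H9.OutM24.T W) H9.OutM24.B fu 9 = true := by decide +kernel
theorem fus10 : P.fusOk (dT H9.OutM24.T W) H9.OutM24.B fu 10 = true := by decide +kernel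
theorem fus11 : P.fusOk (dT H9.OutM24.T W) H9.OutM24.B fu 11 = true := by decide +kernel
theorem fus12 : P.fusOk (dT H9.OutM24.T W) H9.OutM24.B fu 12 = true := by decide +kernel
theorem fus13 : P.fusOk (dT H9.OutM24.T W) H9.OutM24.B fu 13 = true := by decide +kernel
theorem fus14 : P.fusOk (dT H9.OutM24.T W) H9.OutM24.B fu 14 = true := by decide +kernel
theorem fus15 : P.fusOk (dT H9.OutM24.T W) H9.OutM24.B fu 15 = true := by decide +kernel
theorem fus16 : P.fusOk (dT H9.OutM24.T W) H9.OutM24.B fu 16 = true := by decide +kernel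
theorem fus17 : P.fusOk (dT H9.OutM24.T W) H9.OutM24.B fu 17 = true := by decide +kernel
theorem fin0 : P.finRow lam (bs :: CV) MU 0 = true := by decide +kernel
theorem fin1 : P.finRow lam (bs :: CV) MU 1 = true := by decide +kernel
theorem fin2 : P.finRow lam (bs :: CV) MU 2 = true := by decide +kernel
theorem fin3 : P.finRow lam (bs :: CV) MU 3 = true := by decide +kernel
theorem fin4 : P.finRow lam (bs :: CV) MU 4 = true := by decide +kernel
theorem fin5 : P.finRow lam (bs :: CV) MU 5 = true := by decide +kernel
theorem fin6 : P.finRow lam (bs :: CV) MU 6 = true := by decide +kernel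
theorem fin7 : P.finRow lam (bs :: CV) MU 7 = true := by decide +kernel
theorem fin8 : P.finRow lam (bs :: CV) MU 8 = true := by decide +kernel
theorem fin9 : P.finRow lam (bs :: CV) MU 9 = true := by decide +kernel

theorem pm {G : Type*} [Group G] [Finite G] {A : RAct G 24} {g : ℕ → G} (hb : A.IsBase H9.OutM24.B)
    (h : A.Tab g 25 H9.OutM24.T) (ho : Nat.card G = 244823040) : PMult G 2 0 0 :=
  pmult_of_tab hb h ho P (show Nat.Prime 2 by norm_num) W fu 0 lam bs mo [cc0, cc1] CV MU lv 18
    (by decide +kernel) (forall_lt_succ' (forall_lt_succ' (forall_lt_succ' (forall_lt_succ' (forall_lt_succ' (forall_lt_succ' (forall_lt_succ' (forall_lt_succ' (forall_lt_succ' (forall_lt_succ' forall_lt_zero' rel0) rel1) rel2) rel3) rel4) rel5) rel6) rel7) rel8) rel9) (by decide +kernel)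
    (forall_lt_succ' (forall_lt_succ' (forall_lt_succ' (forall_lt_succ' (forall_lt_succ' (forall_lt_succ' (forall_lt_succ' (forall_lt_succ' (forall_lt_succ' (forall_lt_succ' (forall_lt_succ' (forall_lt_succ' (forall_lt_succ' (forall_lt_succ' (forall_lt_succ' (forall_lt_succ' (forall_lt_succ' (forall_lt_succ' forall_lt_zero' fus0) fus1) fus2) fus3) fus4) fus5) fus6) fus7) fus8) fus9) fus10) fus11) fus12) fus13) fus14) fus15) fus16) fus17)
    (by decide +kernel) (by decide +kernel) (by decide +kernel) (by decide +kernel)
    (List.forall_mem_cons.mpr ⟨con0, (List.forall_mem_cons.mpr ⟨con1, (by simp)⟩)⟩)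
    (forall_lt_succ' (forall_lt_succ' (forall_lt_succ' (forall_lt_succ' (forall_lt_succ' (forall_lt_succ' (forall_lt_succ' (forall_lt_succ' (forall_lt_succ' (forall_lt_succ' forall_lt_zero' fin0) fin1) fin2) fin3) fin4) fin5) fin6) fin7) fin8) fin9) (by decide +kernel)

end Cfsg.Agent.L0.M24P2
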