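import Cfsg.Agent.L0.PcCert
import Cfsg.Agent.L0.Dw
import Cfsg.Agent.H9.OutMcL

/-! Generated certificate: the `2`-part of a Schur multiplier. -/

set_option autoImplicit false
set_option maxRecDepth 100000

namespace Cfsg.Agent.L0.McLP2

noncomputable def W : List (List ℕ) := [
  dw (nat_lit 5) (nat_lit 31) (nat_lit 7) (nat_lit 0x2244c4b00),
  dw (nat_lit 5) (nat_lit 31) (nat_lit 7) (nat_lit 0x44dee9cc0),
  dw (nat_lit 5) (nat_lit 31) (nat_lit 6) (nat_lit 0x1b951de8),
  dw (nat_lit 5) (nat_lit 31) (nat_lit 7) (nat_lit 0x18438f40),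
  dw (nat_lit 5) (nat_lit 31) (nat_lit 8) (nat_lit 0x38ee43960),
  dw (nat_lit 5) (nat_lit 31) (nat_lit 5) (nat_lit 0x1e51a3e),
  dw (nat_lit 5) (nat_lit 31) (nat_lit 6) (nat_lit 0xbf49da9),
  dw (nat_lit 5) (nat_lit 31) (nat_lit 6) (nat_lit 0x1528c05c),
  dw (nat_lit 5) (nat_lit 31) (nat_lit 7) (nat_lit 0x9ba9a860),
  dw (nat_lit 5) (nat_lit 31) (nat_lit 6) (nat_lit 0x8a6fba9)]

noncomputable def P : PcP := ⟨nat_lit 2, nat_lit 1, nat_lit 6, nat_lit 0x40810204080040818306002850e1008a122431f2a2d480, nat_lit 7, nat_lit 127, nat_lit 11, nat_lit 2047, nat_lit 2, nat_lit 37, nat_lit 7, nat_lit 6⟩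

noncomputable def fu : Fus := ⟨[nat_lit 86, nat_lit 54, nat_lit 8, nat_lit 4, nat_lit 2, nat_lit 1, nat_lit 64, nat_lit 4, nat_lit 2],
  [nat_lit 53, nat_lit 105, nat_lit 100, nat_lit 92, nat_lit 2, nat_lit 1, nat_lit 12, nat_lit 2, nat_lit 15],
  [nat_lit 7, nat_lit 7, nat_lit 7, nat_lit 7, nat_lit 7, nat_lit 7, nat_lit 8, nat_lit 8, nat_lit 9]⟩

noncomputable def lam : List ℕ := [nat_lit 0x0,
  nat_lit 0x0,
  nat_lit 0x0,
  nat_lit 0x100200400800,
  nat_lit 0x100000400000,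
  nat_lit 0x400800,
  nat_lit 0x100200400000]

noncomputable def bs : List ℕ := []

noncomputable def mo : List ℕ := []

noncomputable def cv0 : List ℕ := [nat_lit 0x1000000000000000000000000000000000000000000000000000000000000000000,
  nat_lit 0x400000000000000000000000000000000000000000000000000000000000000000000000,
  nat_lit 0x200000000000000008000000000000000000000000000000000000000000000000000000000,
  nat_lit 0x200400000000000000000000000000000000000000000000000000000000000000000000000,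
  nat_lit 0x200000800000000000000000000000000000000000000000000000000000000000000000000,
  nat_lit 0x200000001000004000000000000000000000000000000000000000000000000000000000000,
  nat_lit 0x200400000000000000000000000080000000000001000000000000000000000000000000000,
  nat_lit 0x200400000000004000000000000000100000000000000000000000020000000000000000000,
  nat_lit 0x2000000010000040000000000000000000000000000000000000000000000000,
  nat_lit 0x200000000002000000000020000000000000000000000000000000000000000000000000000,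
  nat_lit 0x200000800000000008000000000000000000400000000004000000000000000000000000000,
  nat_lit 0x200400800000000000010020000000000000000000000000000000000000000000000000000,
  nat_lit 0x1000000008000000000000000000000000000000008000000040000000000000000,
  nat_lit 0x200400000000000000010000040080000000000800000000000000000000000000000000000,
  nat_lit 0x200000000002000000000000000000000200400001000004000000000000000000000000000,
  nat_lit 0x200000800000004000010020000000100000000800000000000000000000000000000000000,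
  nat_lit 0x400800002004000000020040080100000400800002000008010020000000000000000000,
  nat_lit 0x200000001002004008000020040000000200000800002004000010000040000000000000000,
  nat_lit 0x8000000000000000000000801000004000010020040000000000400000002004000000020000000000000400801,
  nat_lit 0x200000001002000000010000040000000000400800000004008010000040080000200000001,
  nat_lit 0x8010000000000000000400800002004000010000000000000200000000002004008010000000000100200400001,
  nat_lit 0x8010000000000000000000000002000008010020040000100000000000002000008010000040080100000000801,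
  nat_lit 0x8000000000000000200000800002004000000020000000000000400001000000000010020040000100200000800,
  nat_lit 0x10000000000000000400000000000000000000000000000000000000,
  nat_lit 0x200000800000000000000000000000000000400800000000008000000000000000000000001,
  nat_lit 0x400001000000000000020040000000000400800000000008000000000000000000000000]

noncomputable def cc0 : List Con := [
  ⟨nat_lit 1, nat_lit 3, nat_lit 3, [nat_lit 8], [], nthN cv0 (nat_lit 0)⟩,
  ⟨nat_lit 1, nat_lit 3, nat_lit 3, [nat_lit 2], [], nthN cv0 (nat_lit 1)⟩,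
  ⟨nat_lit 1, nat_lit 0, nat_lit 0, [nat_lit 8], [], nthN cv0 (nat_lit 2)⟩,
  ⟨nat_lit 0, nat_lit 0, nat_lit 5, [nat_lit 2], [], nthN cv0 (nat_lit 3)⟩,
  ⟨nat_lit 0, nat_lit 2, nat_lit 4, [nat_lit 4], [], nthN cv0 (nat_lit 4)⟩,
  ⟨nat_lit 0, nat_lit 1, nat_lit 3, [nat_lit 8], [], nthN cv0 (nat_lit 5)⟩,
  ⟨nat_lit 1, nat_lit 2, nat_lit 2, [nat_lit 16], [], nthN cv0 (nat_lit 6)⟩,
  ⟨nat_lit 1, nat_lit 1, nat_lit 1, [nat_lit 32], [], nthN cv0 (nat_lit 7)⟩,
  ⟨nat_lit 0, nat_lit 2, nat_lit 3, [nat_lit 8], [], nthN cv0 (nat_lit 8)⟩,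
  ⟨nat_lit 1, nat_lit 2, nat_lit 2, [nat_lit 4], [], nthN cv0 (nat_lit 9)⟩,
  ⟨nat_lit 1, nat_lit 0, nat_lit 0, [nat_lit 16], [], nthN cv0 (nat_lit 10)⟩,
  ⟨nat_lit 0, nat_lit 1, nat_lit 4, [nat_lit 4], [], nthN cv0 (nat_lit 11)⟩,
  ⟨nat_lit 1, nat_lit 0, nat_lit 0, [nat_lit 32], [], nthN cv0 (nat_lit 12)⟩,
  ⟨nat_lit 1, nat_lit 2, nat_lit 2, [nat_lit 8], [], nthN cv0 (nat_lit 13)⟩,
  ⟨nat_lit 0, nat_lit 0, nat_lit 2, [nat_lit 16], [], nthN cv0 (nat_lit 14)⟩,
  ⟨nat_lit 1, nat_lit 1, nat_lit 1, [nat_lit 4], [], nthN cv0 (nat_lit 15)⟩,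
  ⟨nat_lit 1, nat_lit 1, nat_lit 1, [nat_lit 16], [], nthN cv0 (nat_lit 16)⟩,
  ⟨nat_lit 0, nat_lit 0, nat_lit 1, [nat_lit 16], [], nthN cv0 (nat_lit 17)⟩,
  ⟨nat_lit 2, nat_lit 7, nat_lit 0, [nat_lit 2, nat_lit 2], [nat_lit 5], nthN cv0 (nat_lit 18)⟩,
  ⟨nat_lit 2, nat_lit 7, nat_lit 0, [nat_lit 3, nat_lit 3], [], nthN cv0 (nat_lit 19)⟩,
  ⟨nat_lit 2, nat_lit 7, nat_lit 0, [nat_lit 0, nat_lit 0], [nat_lit 4, nat_lit 5], nthN cv0 (nat_lit 20)⟩,
  ⟨nat_lit 2, nat_lit 7, nat_lit 0, [nat_lit 1, nat_lit 1], [nat_lit 4, nat_lit 5], nthN cv0 (nat_lit 21)⟩,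
  ⟨nat_lit 2, nat_lit 7, nat_lit 0, [nat_lit 3, nat_lit 2], [nat_lit 2, nat_lit 3, nat_lit 5], nthN cv0 (nat_lit 22)⟩,
  ⟨nat_lit 2, nat_lit 8, nat_lit 0, [nat_lit 7, nat_lit 7], [], nthN cv0 (nat_lit 23)⟩,
  ⟨nat_lit 2, nat_lit 8, nat_lit 0, [nat_lit 6, nat_lit 6], [], nthN cv0 (nat_lit 24)⟩,
  ⟨nat_lit 2, nat_lit 9, nat_lit 0, [nat_lit 8, nat_lit 8], [], nthN cv0 (nat_lit 25)⟩]

theorem con0 : allL cc0 (P.conOk fu) = true := by decide +kernel

noncomputable def CV : List (List ℕ) := [cv0]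

noncomputable def MU : List (List ℕ) := [[nat_lit 0x30359f2],
  [nat_lit 0,
  nat_lit 0],
  [nat_lit 0,
  nat_lit 0,
  nat_lit 0x176bc70],
  [nat_lit 0x1c65624,
  nat_lit 0x346cda8,
  nat_lit 0x13bb5ba,
  nat_lit 0x1c6462b],
  [nat_lit 0x835ef5,
  nat_lit 0x7cd103,
  nat_lit 0x3453491,
  nat_lit 0x3464522,
  nat_lit 0x835aeb],
  [nat_lit 0x3462076,
  nat_lit 0x346cd0b,
  nat_lit 0x34534d9,
  nat_lit 0xb18,
  nat_lit 0x352f9,
  nat_lit 0x35aeb],
  [nat_lit 0xe,
  nat_lit 0x2b,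
  nat_lit 0x350f3,
  nat_lit 0x1,
  nat_lit 0x1a,
  nat_lit 0x2,
  nat_lit 0xa]]

noncomputable def lv : List (List (List ℕ) × ℕ × List (ℕ × List ℕ)) := [
  ([[nat_lit 1], [nat_lit 2], [nat_lit 3], [nat_lit 4], [nat_lit 5], [nat_lit 6]], nat_lit 0, [(nat_lit 0, []), (nat_lit 13, [nat_lit 5, nat_lit 3]), (nat_lit 31, [nat_lit 5]), (nat_lit 37, [nat_lit 0, nat_lit 1, nat_lit 3]), (nat_lit 38, [nat_lit 1, nat_lit 0, nat_lit 0]), (nat_lit 43, [nat_lit 1, nat_lit 3, nat_lit 2]), (nat_lit 44, [nat_lit 3, nat_lit 1, nat_lit 2]), (nat_lit 53, [nat_lit 4, nat_lit 0, nat_lit 1]), (nat_lit 60, [nat_lit 3, nat_lit 2, nat_lit 1]), (nat_lit 64, [nat_lit 1, nat_lit 2]), (nat_lit 78, [nat_lit 0, nat_lit 0, nat_lit 0]), (nat_lit 85, [nat_lit 3, nat_lit 0, nat_lit 0]), (nat_lit 88, [nat_lit 4]), (nat_lit 89, [nat_lit 5, nat_lit 1, nat_lit 1]), (nat_lit 99, [nat_lit 4, nat_lit 1]), (nat_lit 104, [nat_lit 4, nat_lit 1, nat_lit 0]), (nat_lit 105, [nat_lit 0,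 nat_lit 1]), (nat_lit 108, [nat_lit 1, nat_lit 0]), (nat_lit 113, [nat_lit 1]), (nat_lit 115, [nat_lit 0, nat_lit 4, nat_lit 1]), (nat_lit 117, [nat_lit 2, nat_lit 3, nat_lit 0]), (nat_lit 119, [nat_lit 3, nat_lit 0]), (nat_lit 120, [nat_lit 2]), (nat_lit 138, [nat_lit 3]), (nat_lit 140, [nat_lit 1, nat_lit 4, nat_lit 0]), (nat_lit 142, [nat_lit 3, nat_lit 1]), (nat_lit 149, [nat_lit 4, nat_lit 2, nat_lit 1]), (nat_lit 150, [nat_lit 5, nat_lit 1]), (nat_lit 153, [nat_lit 2, nat_lit 0, nat_lit 1]), (nat_lit 158, [nat_lit 0, nat_lit 4]), (nat_lit 160, [nat_lit 1, nat_lit 1, nat_lit 2]), (nat_lit 163, [nat_lit 0, nat_lit 0]), (nat_lit 165, [nat_lit 4, nat_lit 2]), (nat_lit 167, [nat_lit 3, nat_lit 2]), (nat_lit 169, [nat_lit 1, nat_lit 3]), (nat_lit 174, [nat_lit 0, nat_lit 1, nat_lit 0]), (nat_lit 184, [nat_lit 5, nat_lit 4]), (nat_lit 188, [nat_lit 2, nat_lit 3]), (nat_lit 199, [nat_lit 4, nat_lit 0]), (nat_lit 203, [nat_lit 5, nat_lit 0,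 nat_lit 3]), (nat_lit 206, [nat_lit 3, nat_lit 2, nat_lit 0]), (nat_lit 214, [nat_lit 5, nat_lit 0]), (nat_lit 215, [nat_lit 5, nat_lit 3, nat_lit 0]), (nat_lit 216, [nat_lit 0]), (nat_lit 217, [nat_lit 5, nat_lit 1, nat_lit 0]), (nat_lit 222, [nat_lit 3, nat_lit 0, nat_lit 1]), (nat_lit 224, [nat_lit 0, nat_lit 2, nat_lit 1]), (nat_lit 225, [nat_lit 4, nat_lit 1, nat_lit 3]), (nat_lit 226, [nat_lit 3, nat_lit 1, nat_lit 0]), (nat_lit 227, [nat_lit 1, nat_lit 4]), (nat_lit 228, [nat_lit 2, nat_lit 1]), (nat_lit 229, [nat_lit 2, nat_lit 1, nat_lit 0]), (nat_lit 233, [nat_lit 1, nat_lit 3, nat_lit 0]), (nat_lit 236, [nat_lit 5, nat_lit 2]), (nat_lit 242, [nat_lit 0, nat_lit 2, nat_lit 3]), (nat_lit 253, [nat_lit 1, nat_lit 1]), (nat_lit 254, [nat_lit 0, nat_lit 2]), (nat_lit 258, [nat_lit 4, nat_lit 2, nat_lit 0]), (nat_lit 260, [nat_lit 0, nat_lit 3, nat_lit 2]), (nat_lit 262, [nat_lit 2, nat_lit 0]), (nat_lit 263, [nat_lit 1, nat_lit 2, nat_lit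 0]), (nat_lit 264, [nat_lit 2, nat_lit 3, nat_lit 1]), (nat_lit 267, [nat_lit 5, nat_lit 0, nat_lit 1]), (nat_lit 272, [nat_lit 0, nat_lit 3])]),
  ([[nat_lit 0]], nat_lit 204, [(nat_lit 204, []), (nat_lit 213, [nat_lit 0])])]

theorem rel0 : P.relRow (dT H9.OutMcL.T W) H9.OutMcL.B 0 = true := by decide +kernel
theorem rel1 : P.relRow (dT H9.OutMcL.T W) H9.OutMcL.B 1 = true := by decide +kernel
theorem rel2 : P.relRow (dT H9.OutMcL.T W) H9.OutMcL.B 2 = true := by decide +kernel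
theorem rel3 : P.relRow (dT H9.OutMcL.T W) H9.OutMcL.B 3 = true := by decide +kernel
theorem rel4 : P.relRow (dT H9.OutMcL.T W) H9.OutMcL.B 4 = true := by decide +kernel
theorem rel5 : P.relRow (dT H9.OutMcL.T W) H9.OutMcL.B 5 = true := by decide +kernel
theorem rel6 : P.relRow (dT H9.OutMcL.T W) H9.OutMcL.B 6 = true := by decide +kernel
theorem fus0 : P.fusOk (dT H9.OutMcL.T W) H9.OutMcL.B fu 0 = true := by decide +kernel
theorem fus1 : P.fusOk (dT H9.OutMcL.T W) H9.OutMcL.B fu 1 = true := by decide +kernel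
theorem fus2 : P.fusOk (dT H9.OutMcL.T W) H9.OutMcL.B fu 2 = true := by decide +kernel
theorem fus3 : P.fusOk (dT H9.OutMcL.T W) H9.OutMcL.B fu 3 = true := by decide +kernel
theorem fus4 : P.fusOk (dT H9.OutMcL.T W) H9.OutMcL.B fu 4 = true := by decide +kernel
theorem fus5 : P.fusOk (dT H9.OutMcL.T W) H9.OutMcL.B fu 5 = true := by decide +kernel
theorem fus6 : P.fusOk (dT H9.OutMcL.T W) H9.OutMcL.B fu 6 = true := by decide +kernel
theorem fus7 : P.fusOk (dT H9.OutMcL.T W) H9.OutMcL.B fu 7 = true := by decide +kernel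
theorem fus8 : P.fusOk (dT H9.OutMcL.T W) H9.OutMcL.B fu 8 = true := by decide +kernel
theorem fin0 : P.finRow lam (bs :: CV) MU 0 = true := by decide +kernel
theorem fin1 : P.finRow lam (bs :: CV) MU 1 = true := by decide +kernel
theorem fin2 : P.finRow lam (bs :: CV) MU 2 = true := by decide +kernel
theorem fin3 : P.finRow lam (bs :: CV) MU 3 = true := by decide +kernel
theorem fin4 : P.finRow lam (bs :: CV) MU 4 = true := by decide +kernel
theorem fin5 : P.finRow lam (bs :: CV) MU 5 = true := by decide +kernel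
theorem fin6 : P.finRow lam (bs :: CV) MU 6 = true := by decide +kernel

theorem pm {G : Type*} [Group G] [Finite G] {A : RAct G 275} {g : ℕ → G} (hb : A.IsBase H9.OutMcL.B)
    (h : A.Tab g 32 H9.OutMcL.T) (ho : Nat.card G = 898128000) : PMult G 2 0 0 :=
  pmult_of_tab hb h ho P (show Nat.Prime 2 by norm_num) W fu 0 lam bs mo [cc0] CV MU lv 9
    (by decide +kernel) (forall_lt_succ' (forall_lt_succ' (forall_lt_succ' (forall_lt_succ' (forall_lt_succ' (forall_lt_succ' (forall_lt_succ' forall_lt_zero' rel0) rel1) rel2) rel3) rel4) rel5) rel6) (by decide +kernel)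
    (forall_lt_succ' (forall_lt_succ' (forall_lt_succ' (forall_lt_succ' (forall_lt_succ' (forall_lt_succ' (forall_lt_succ' (forall_lt_succ' (forall_lt_succ' forall_lt_zero' fus0) fus1) fus2) fus3) fus4) fus5) fus6) fus7) fus8)
    (by decide +kernel) (by decide +kernel) (by decide +kernel) (by decide +kernel)
    (List.forall_mem_cons.mpr ⟨con0, (by simp)⟩)
    (forall_lt_succ' (forall_lt_succ' (forall_lt_succ' (forall_lt_succ' (forall_lt_succ' (forall_lt_succ' (forall_lt_succ' forall_lt_zero' fin0) fin1) fin2) fin3) fin4) fin5) fin6) (by decide +kernel)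

end Cfsg.Agent.L0.McLP2
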