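import Cfsg.Agent.L0.PcCert
import Cfsg.Agent.L0.Dw
import Cfsg.Agent.H9.OutMcL

/-! Generated certificate: the `3`-part of a Schur multiplier. -/

set_option autoImplicit false
set_option maxRecDepth 100000

namespace Cfsg.Agent.L0.McLP3

noncomputable def W : List (List ℕ) := [
  dw (nat_lit 5) (nat_lit 31) (nat_lit 7) (nat_lit 0x536eff340),
  dw (nat_lit 5) (nat_lit 31) (nat_lit 5) (nat_lit 0x118f997),
  dw (nat_lit 5) (nat_lit 31) (nat_lit 5) (nat_lit 0xaf9fd2),
  dw (nat_lit 5) (nat_lit 31) (nat_lit 7) (nat_lit 0x5750273e),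
  dw (nat_lit 5) (nat_lit 31) (nat_lit 7) (nat_lit 0x8f8e4220),
  dw (nat_lit 5) (nat_lit 31) (nat_lit 7) (nat_lit 0x49bd8b680),
  dw (nat_lit 5) (nat_lit 31) (nat_lit 6) (nat_lit 0x14e50180),
  dw (nat_lit 5) (nat_lit 31) (nat_lit 6) (nat_lit 0xb13c803),
  dw (nat_lit 5) (nat_lit 31) (nat_lit 7) (nat_lit 0x47b364160)]

noncomputable def P : PcP := ⟨nat_lit 3, nat_lit 2, nat_lit 5, nat_lit 0x1001001001001000004006004006000011011010000040046000129002, nat_lit 12, nat_lit 4095, nat_lit 15, nat_lit 32767, nat_lit 9, nat_lit 37, nat_lit 8, nat_lit 8⟩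

noncomputable def fu : Fus := ⟨[nat_lit 1024, nat_lit 256, nat_lit 64, nat_lit 16, nat_lit 4, nat_lit 1, nat_lit 1024, nat_lit 256, nat_lit 64, nat_lit 16, nat_lit 4, nat_lit 1, nat_lit 256, nat_lit 64, nat_lit 16, nat_lit 1],
  [nat_lit 1608, nat_lit 513, nat_lit 130, nat_lit 33, nat_lit 8, nat_lit 1, nat_lit 2145, nat_lit 392, nat_lit 665, nat_lit 4, nat_lit 33, nat_lit 1, nat_lit 40, nat_lit 6, nat_lit 336, nat_lit 1],
  [nat_lit 6, nat_lit 6, nat_lit 6, nat_lit 6, nat_lit 6, nat_lit 6, nat_lit 7, nat_lit 7, nat_lit 7, nat_lit 7, nat_lit 7, nat_lit 7, nat_lit 8, nat_lit 8, nat_lit 8, nat_lit 8]⟩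

noncomputable def lam : List ℕ := [nat_lit 0x8000000000000000000e00000000000001000000000000000e001c0040008000000000000000001000200000008001000000040000001000000040007,
  nat_lit 0x1c0000008000000000000007000000000000000000000000000000001000000000000000000200000000,
  nat_lit 0xe00000000007000000000040007000000000000000000000000000000000e00000040000000000000000000,
  nat_lit 0x1000000028003,
  nat_lit 0x3000000000000000000c00000000000000600000000000000c001800180030000000000000000006000c0000003000600000018000000800000018005,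
  nat_lit 0x3000000000000000000c00000000000000600000000000000c001800180030000000000000000006000c0000003000600000018000000600000018002]

noncomputable def bs : List ℕ := [nat_lit 0x40000000000000000000000]

noncomputable def mo : List ℕ := [nat_lit 0xa435d04]

noncomputable def cv0 : List ℕ := [nat_lit 0x400000000000000000000000000000000000000000000000000000000,
  nat_lit 0x3000000000000000,
  nat_lit 0x600000000000000000000000000000000000000000,
  nat_lit 0x3000000000000000000000000000000000000000000000000000000000000,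
  nat_lit 0x18000000000000000000000000000000000000000000000000000000000000000,
  nat_lit 0x18000000000000000000000000000000000000000000000000,
  nat_lit 0xc0000000000000000000000000000000000000000000000000000000000000000000,
  nat_lit 0x600000000000000000000000000000000000000000000000000000000000000000000000,
  nat_lit 0x180000000000000000000000,
  nat_lit 0x800000000000000000000000000000000000000000000c0000000000000000000000,
  nat_lit 0x200000000000000000000000000000000000000000000000000000000000000000000000,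
  nat_lit 0x1000000000000003000000000000000000000000000000000600000000000000000000000000,
  nat_lit 0x1000000000018000000000000000000000000000000003000000000000000000000000000000,
  nat_lit 0x40001000000000000000000000000000000000000000000000000000000000000,
  nat_lit 0x2000000000000000000000000000000000000000000000000000000000000,
  nat_lit 0x2000000000018000000000000000003000000000000000000000000000000000000000000000,
  nat_lit 0x7000c00000000000000000000000000000000180000000000000000000000000000000000000,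
  nat_lit 0x1000080000000000200000008000000000000000000000000000000000000000000000000,
  nat_lit 0x5000a00000038000000000200000006000000000000000000000000000000000c00000000000,
  nat_lit 0x2000000180008007000000000038002001000000000002000000000000000000000000000000,
  nat_lit 0x70000001000000070000001c0018000000c00000038000000c00000000000000000000030000,
  nat_lit 0xc0000000000000000000000000000000000000000000000000000000000000000000000000000000000000000000000000,
  nat_lit 0x18000000000000000000000000000000000000000040000000000000000000000000000000000000000000000000000,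
  nat_lit 0xc0000001000000000000006000000000000000000000000000000000000000000000000000040000000,
  nat_lit 0x3000000000000001000000180000000000000000000000000000000008000000000000000000000000000000000,
  nat_lit 0x600000000002000000000030000000000000000000000000000000000000000000008000000000000000000,
  nat_lit 0x200000000000000000000001000000000000001000000000000000000000000000000000600000000000000000000000000,
  nat_lit 0x20004000c0010001000200000028000000000000000002000800040000000000000000000000,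
  nat_lit 0x1c0000000000000000000002001000000008002000000000000002000800040000000000000000000000000000000000000,
  nat_lit 0xc0000000000000000000000000000000000000000000000000000000000040000000000000000040000000000000000000000000000000000,
  nat_lit 0x3000000000000000000000000000000000000000000000000000000000000000000000000000000000000000000000000000000000000000000000000,
  nat_lit 0x600000000000000000000000000000000000000001000000180000000000000200000000000000000010000000000000000000000000000000000,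
  nat_lit 0x8000000000000000000000000000000000000000000001000400000010000000000000000002000200000000000001000000000000000000000000000,
  nat_lit 0x2001000000008000000400000010001000000080000000000000200000000000000000000000,
  nat_lit 0x3000000000000000000000000000004001000000020002000000080000006000600000000000000000000010003000000000000000,
  nat_lit 0x180000000000000000000000000000000000004001c0018006000000080018006000c00000008006000c00000008006000000080000000,
  nat_lit 0x7000000000000000000600000000000000000000000003000a00080038000000c00080018004000000100010003000000180008000000c00000000001,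
  nat_lit 0x3000000000000000000000000000000000000000000000000000000000000000000000000000000000000000000000000000000000000000000000000000000000000000,
  nat_lit 0xc0000000000000000000000000000000000000000000000000002000600000000000000000040000000000000000000000000000000040000000000000000000,
  nat_lit 0x18000000000000000000000000000000000000000000000000000000000000000000000080030000000000000010000000000000000000000000200000000]

noncomputable def cc0 : List Con := [
  ⟨nat_lit 1, nat_lit 0, nat_lit 0, [nat_lit 1024], [], nthN cv0 (nat_lit 0)⟩,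
  ⟨nat_lit 1, nat_lit 1, nat_lit 1, [nat_lit 64], [], nthN cv0 (nat_lit 1)⟩,
  ⟨nat_lit 1, nat_lit 1, nat_lit 1, [nat_lit 4], [], nthN cv0 (nat_lit 2)⟩,
  ⟨nat_lit 1, nat_lit 1, nat_lit 1, [nat_lit 1], [], nthN cv0 (nat_lit 3)⟩,
  ⟨nat_lit 1, nat_lit 2, nat_lit 2, [nat_lit 1], [], nthN cv0 (nat_lit 4)⟩,
  ⟨nat_lit 1, nat_lit 3, nat_lit 3, [nat_lit 4], [], nthN cv0 (nat_lit 5)⟩,
  ⟨nat_lit 1, nat_lit 3, nat_lit 3, [nat_lit 1], [], nthN cv0 (nat_lit 6)⟩,
  ⟨nat_lit 1, nat_lit 4, nat_lit 4, [nat_lit 1], [], nthN cv0 (nat_lit 7)⟩,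
  ⟨nat_lit 0, nat_lit 0, nat_lit 3, [nat_lit 16, nat_lit 16], [], nthN cv0 (nat_lit 8)⟩,
  ⟨nat_lit 1, nat_lit 0, nat_lit 0, [nat_lit 16], [], nthN cv0 (nat_lit 9)⟩,
  ⟨nat_lit 0, nat_lit 1, nat_lit 3, [nat_lit 4], [], nthN cv0 (nat_lit 10)⟩,
  ⟨nat_lit 1, nat_lit 1, nat_lit 1, [nat_lit 16], [], nthN cv0 (nat_lit 11)⟩,
  ⟨nat_lit 1, nat_lit 2, nat_lit 2, [nat_lit 16], [], nthN cv0 (nat_lit 12)⟩,
  ⟨nat_lit 0, nat_lit 1, nat_lit 2, [nat_lit 16], [], nthN cv0 (nat_lit 13)⟩,
  ⟨nat_lit 0, nat_lit 1, nat_lit 2, [nat_lit 4], [], nthN cv0 (nat_lit 14)⟩,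
  ⟨nat_lit 1, nat_lit 2, nat_lit 2, [nat_lit 4], [], nthN cv0 (nat_lit 15)⟩,
  ⟨nat_lit 0, nat_lit 0, nat_lit 4, [nat_lit 4, nat_lit 4], [], nthN cv0 (nat_lit 16)⟩,
  ⟨nat_lit 0, nat_lit 0, nat_lit 2, [nat_lit 16], [], nthN cv0 (nat_lit 17)⟩,
  ⟨nat_lit 0, nat_lit 0, nat_lit 2, [nat_lit 64, nat_lit 64], [], nthN cv0 (nat_lit 18)⟩,
  ⟨nat_lit 0, nat_lit 0, nat_lit 1, [nat_lit 64], [], nthN cv0 (nat_lit 19)⟩,
  ⟨nat_lit 0, nat_lit 0, nat_lit 1, [nat_lit 256, nat_lit 256], [], nthN cv0 (nat_lit 20)⟩,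
  ⟨nat_lit 2, nat_lit 6, nat_lit 0, [nat_lit 5, nat_lit 5, nat_lit 5], [], nthN cv0 (nat_lit 21)⟩,
  ⟨nat_lit 2, nat_lit 6, nat_lit 0, [nat_lit 4, nat_lit 4, nat_lit 4], [], nthN cv0 (nat_lit 22)⟩,
  ⟨nat_lit 2, nat_lit 6, nat_lit 0, [nat_lit 1, nat_lit 1, nat_lit 1], [], nthN cv0 (nat_lit 23)⟩,
  ⟨nat_lit 2, nat_lit 6, nat_lit 0, [nat_lit 3, nat_lit 3, nat_lit 3], [], nthN cv0 (nat_lit 24)⟩,
  ⟨nat_lit 2, nat_lit 6, nat_lit 0, [nat_lit 2, nat_lit 2, nat_lit 2], [], nthN cv0 (nat_lit 25)⟩,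
  ⟨nat_lit 2, nat_lit 6, nat_lit 0, [nat_lit 3, nat_lit 1], [nat_lit 1, nat_lit 3, nat_lit 5], nthN cv0 (nat_lit 26)⟩,
  ⟨nat_lit 2, nat_lit 6, nat_lit 0, [nat_lit 3, nat_lit 0], [nat_lit 0, nat_lit 3], nthN cv0 (nat_lit 27)⟩,
  ⟨nat_lit 2, nat_lit 6, nat_lit 0, [nat_lit 4, nat_lit 0], [nat_lit 0, nat_lit 4, nat_lit 5, nat_lit 5], nthN cv0 (nat_lit 28)⟩,
  ⟨nat_lit 2, nat_lit 7, nat_lit 0, [nat_lit 9, nat_lit 9, nat_lit 9], [], nthN cv0 (nat_lit 29)⟩,
  ⟨nat_lit 2, nat_lit 7, nat_lit 0, [nat_lit 11, nat_lit 11, nat_lit 11], [], nthN cv0 (nat_lit 30)⟩,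
  ⟨nat_lit 2, nat_lit 7, nat_lit 0, [nat_lit 10, nat_lit 10, nat_lit 10], [], nthN cv0 (nat_lit 31)⟩,
  ⟨nat_lit 2, nat_lit 7, nat_lit 0, [nat_lit 9, nat_lit 7], [nat_lit 7, nat_lit 9, nat_lit 11], nthN cv0 (nat_lit 32)⟩,
  ⟨nat_lit 2, nat_lit 7, nat_lit 0, [nat_lit 9, nat_lit 6], [nat_lit 6, nat_lit 9], nthN cv0 (nat_lit 33)⟩,
  ⟨nat_lit 2, nat_lit 7, nat_lit 0, [nat_lit 7, nat_lit 7, nat_lit 7], [], nthN cv0 (nat_lit 34)⟩,
  ⟨nat_lit 2, nat_lit 7, nat_lit 0, [nat_lit 8, nat_lit 8, nat_lit 8], [], nthN cv0 (nat_lit 35)⟩,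
  ⟨nat_lit 2, nat_lit 7, nat_lit 0, [nat_lit 6, nat_lit 6, nat_lit 6], [nat_lit 11, nat_lit 11], nthN cv0 (nat_lit 36)⟩,
  ⟨nat_lit 2, nat_lit 8, nat_lit 0, [nat_lit 15, nat_lit 15, nat_lit 15], [], nthN cv0 (nat_lit 37)⟩,
  ⟨nat_lit 2, nat_lit 8, nat_lit 0, [nat_lit 13, nat_lit 13, nat_lit 13], [], nthN cv0 (nat_lit 38)⟩,
  ⟨nat_lit 2, nat_lit 8, nat_lit 0, [nat_lit 12, nat_lit 12, nat_lit 12], [], nthN cv0 (nat_lit 39)⟩]

theorem con0 : allL cc0 (P.conOk fu) = true := by decide +kernel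

noncomputable def cv1 : List ℕ := [nat_lit 0x8000000000000000000000000000000000000000000000000000000000008000000200038007000000000040008001000000000008000000000000000000000000000000,
  nat_lit 0x800100000000000000000010000000000000000000000000000000008000000000000000]

noncomputable def cc1 : List Con := [
  ⟨nat_lit 2, nat_lit 8, nat_lit 0, [nat_lit 14, nat_lit 13], [nat_lit 13, nat_lit 14, nat_lit 15], nthN cv1 (nat_lit 0)⟩,
  ⟨nat_lit 2, nat_lit 8, nat_lit 0, [nat_lit 13, nat_lit 12], [nat_lit 12, nat_lit 13], nthN cv1 (nat_lit 1)⟩]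

theorem con1 : allL cc1 (P.conOk fu) = true := by decide +kernel

noncomputable def CV : List (List ℕ) := [cv0, cv1]

noncomputable def MU : List (List ℕ) := [[nat_lit 0],
  [nat_lit 0,
  nat_lit 0x21c84b8adba1b7952463],
  [nat_lit 0,
  nat_lit 0x232f1e8ccb02cb7d8f54bb032d3ee7809c,
  nat_lit 0xab05fe6ef69e02f5375e4],
  [nat_lit 0x8,
  nat_lit 0x4e37b7df87497e87691c2e03ab5966,
  nat_lit 0x4e37b7e64ae62eb98386fc8d5d7f63,
  nat_lit 0xa256b287a5d2f586292c5b6],
  [nat_lit 0x9c61b95ec05ecfc5cb8fbf0b2e7f2d,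
  nat_lit 0x1b6d4a55f40efae7c1e68d78f693,
  nat_lit 0x9c7d26a1f282cb7df4d0434993804b,
  nat_lit 0x10a9f26fa00a1314,
  nat_lit 0x752a70bd685888cacc08a2f3bfc137],
  [nat_lit 0x24,
  nat_lit 0x2ed070f29e2e4,
  nat_lit 0x301d57a406215,
  nat_lit 0x33f506e4a,
  nat_lit 0x3a73a7c0c8,
  nat_lit 0x755393d6ff0b5bc4067fc4bc54dc3f]]

noncomputable def lv : List (List (List ℕ) × ℕ × List (ℕ × List ℕ)) := [
  ([[nat_lit 0], [nat_lit 3], [nat_lit 4], [nat_lit 5]], nat_lit 0, [(nat_lit 0, []), (nat_lit 4, [nat_lit 2, nat_lit 2, nat_lit 1, nat_lit 0]), (nat_lit 7, [nat_lit 3, nat_lit 2, nat_lit 2]), (nat_lit 10, [nat_lit 2, nat_lit 1, nat_lit 1, nat_lit 0]), (nat_lit 12, [nat_lit 3, nat_lit 3, nat_lit 2, nat_lit 2, nat_lit 1]), (nat_lit 15, [nat_lit 2, nat_lit 0, nat_lit 2, nat_lit 1, nat_lit 0]), (nat_lit 16, [nat_lit 1, nat_lit 1, nat_lit 0, nat_lit 0]), (nat_lit 17, [nat_lit 3, nat_lit 1, nat_lit 1, nat_lit 0]), (nat_lit 19, [nat_lit 1, nat_lit 1]), (nat_lit 21,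 [nat_lit 3, nat_lit 1]), (nat_lit 22, [nat_lit 2, nat_lit 1]), (nat_lit 23, [nat_lit 2, nat_lit 0, nat_lit 2, nat_lit 1, nat_lit 1, nat_lit 0]), (nat_lit 24, [nat_lit 2, nat_lit 1, nat_lit 0, nat_lit 0]), (nat_lit 25, [nat_lit 2, nat_lit 0, nat_lit 2, nat_lit 1, nat_lit 1]), (nat_lit 26, [nat_lit 3, nat_lit 3, nat_lit 1, nat_lit 0]), (nat_lit 28, [nat_lit 0, nat_lit 2, nat_lit 2, nat_lit 0]), (nat_lit 30, [nat_lit 0, nat_lit 2]), (nat_lit 31, [nat_lit 0, nat_lit 2, nat_lit 2, nat_lit 1]), (nat_lit 32, [nat_lit 2, nat_lit 2, nat_lit 0]), (nat_lit 34, [nat_lit 3, nat_lit 2, nat_lit 1, nat_lit 1]), (nat_lit 41, [nat_lit 3]), (nat_lit 43, [nat_lit 2, nat_lit 2, nat_lit 1, nat_lit 1, nat_lit 0]), (nat_lit 46, [nat_lit 3, nat_lit 3, nat_lit 1, nat_lit 1]), (nat_lit 49, [nat_lit 3, nat_lit 0, nat_lit 2, nat_lit 1]), (nat_lit 52, [nat_lit 3, nat_lit 1, nat_lit 0, nat_lit 0]), (nat_lit 61, [nat_lit 3, nat_lit 2, nat_lit 2, nat_lit 1, nat_lit 1]), (nat_lit 65,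 [nat_lit 1, nat_lit 1, nat_lit 0]), (nat_lit 69, [nat_lit 3, nat_lit 0, nat_lit 2, nat_lit 1, nat_lit 1]), (nat_lit 70, [nat_lit 2, nat_lit 0, nat_lit 0]), (nat_lit 82, [nat_lit 3, nat_lit 3, nat_lit 1]), (nat_lit 90, [nat_lit 2, nat_lit 1, nat_lit 1]), (nat_lit 91, [nat_lit 3, nat_lit 0, nat_lit 2]), (nat_lit 96, [nat_lit 2, nat_lit 2, nat_lit 1]), (nat_lit 122, [nat_lit 3, nat_lit 3, nat_lit 2]), (nat_lit 126, [nat_lit 2, nat_lit 2, nat_lit 0, nat_lit 0]), (nat_lit 128, [nat_lit 3, nat_lit 1, nat_lit 0]), (nat_lit 129, [nat_lit 0, nat_lit 2, nat_lit 0]), (nat_lit 130, [nat_lit 3, nat_lit 3, nat_lit 0, nat_lit 0]), (nat_lit 132, [nat_lit 0, nat_lit 2, nat_lit 2, nat_lit 1, nat_lit 0]), (nat_lit 135, [nat_lit 3, nat_lit 3, nat_lit 2, nat_lit 1, nat_lit 1]), (nat_lit 137, [nat_lit 0, nat_lit 0, nat_lit 2, nat_lit 1]), (nat_lit 138, [nat_lit 1, nat_lit 0, nat_lit 0]), (nat_lit 140, [nat_lit 3, nat_lit 2, nat_lit 2, nat_lit 1]), (nat_lit 144, [nat_lit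 0, nat_lit 2, nat_lit 2, nat_lit 1, nat_lit 1, nat_lit 0]), (nat_lit 145, [nat_lit 1]), (nat_lit 147, [nat_lit 3, nat_lit 1, nat_lit 1, nat_lit 0, nat_lit 0]), (nat_lit 154, [nat_lit 2, nat_lit 1, nat_lit 0]), (nat_lit 156, [nat_lit 3, nat_lit 0, nat_lit 0]), (nat_lit 161, [nat_lit 3, nat_lit 1, nat_lit 1]), (nat_lit 167, [nat_lit 2, nat_lit 0, nat_lit 2]), (nat_lit 168, [nat_lit 3, nat_lit 3]), (nat_lit 179, [nat_lit 3, nat_lit 2, nat_lit 1]), (nat_lit 182, [nat_lit 0]), (nat_lit 183, [nat_lit 2, nat_lit 2]), (nat_lit 189, [nat_lit 3, nat_lit 2]), (nat_lit 195, [nat_lit 3, nat_lit 3, nat_lit 2, nat_lit 2, nat_lit 1, nat_lit 1]), (nat_lit 196, [nat_lit 0, nat_lit 2, nat_lit 1, nat_lit 1, nat_lit 0]), (nat_lit 201, [nat_lit 2, nat_lit 0, nat_lit 2, nat_lit 1]), (nat_lit 203, [nat_lit 2, nat_lit 1, nat_lit 1, nat_lit 0, nat_lit 0]), (nat_lit 208, [nat_lit 2, nat_lit 2, nat_lit 1, nat_lit 1]), (nat_lit 217, [nat_lit 0, nat_lit 2, nat_lit 2, nat_lit 1,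 nat_lit 1]), (nat_lit 226, [nat_lit 3, nat_lit 3, nat_lit 1, nat_lit 1, nat_lit 0]), (nat_lit 227, [nat_lit 0, nat_lit 2, nat_lit 1, nat_lit 1]), (nat_lit 230, [nat_lit 3, nat_lit 3, nat_lit 2, nat_lit 2]), (nat_lit 232, [nat_lit 3, nat_lit 3, nat_lit 2, nat_lit 1]), (nat_lit 235, [nat_lit 0, nat_lit 0, nat_lit 2, nat_lit 1, nat_lit 1]), (nat_lit 238, [nat_lit 2, nat_lit 2, nat_lit 1, nat_lit 0, nat_lit 0]), (nat_lit 241, [nat_lit 2, nat_lit 0, nat_lit 2, nat_lit 0]), (nat_lit 243, [nat_lit 2, nat_lit 0]), (nat_lit 244, [nat_lit 0, nat_lit 2, nat_lit 1, nat_lit 0]), (nat_lit 248, [nat_lit 2, nat_lit 2, nat_lit 1, nat_lit 1, nat_lit 0, nat_lit 0]), (nat_lit 249, [nat_lit 3, nat_lit 3, nat_lit 1, nat_lit 1, nat_lit 0, nat_lit 0]), (nat_lit 250, [nat_lit 3, nat_lit 3, nat_lit 1, nat_lit 0, nat_lit 0]), (nat_lit 251, [nat_lit 3, nat_lit 0]), (nat_lit 252, [nat_lit 0, nat_lit 0, nat_lit 2]), (nat_lit 255, [nat_lit 1, nat_lit 0]), (nat_lit 264, [nat_lit 3,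 nat_lit 3, nat_lit 0]), (nat_lit 266, [nat_lit 2]), (nat_lit 269, [nat_lit 0, nat_lit 2, nat_lit 1]), (nat_lit 272, [nat_lit 0, nat_lit 2, nat_lit 2]), (nat_lit 274, [nat_lit 0, nat_lit 0])]),
  ([[nat_lit 1], [nat_lit 2]], nat_lit 5, [(nat_lit 5, []), (nat_lit 8, [nat_lit 1, nat_lit 1]), (nat_lit 11, [nat_lit 1, nat_lit 1, nat_lit 0]), (nat_lit 59, [nat_lit 1, nat_lit 1, nat_lit 0, nat_lit 0]), (nat_lit 125, [nat_lit 0]), (nat_lit 150, [nat_lit 0, nat_lit 0]), (nat_lit 234, [nat_lit 1, nat_lit 0]), (nat_lit 253, [nat_lit 1]), (nat_lit 273, [nat_lit 1, nat_lit 0, nat_lit 0])])]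

theorem rel0 : P.relRow (dT H9.OutMcL.T W) H9.OutMcL.B 0 = true := by decide +kernel
theorem rel1 : P.relRow (dT H9.OutMcL.T W) H9.OutMcL.B 1 = true := by decide +kernel
theorem rel2 : P.relRow (dT H9.OutMcL.T W) H9.OutMcL.B 2 = true := by decide +kernel
theorem rel3 : P.relRow (dT H9.OutMcL.T W) H9.OutMcL.B 3 = true := by decide +kernel
theorem rel4 : P.relRow (dT H9.OutMcL.T W) H9.OutMcL.B 4 = true := by decide +kernel
theorem rel5 : P.relRow (dT H9.OutMcL.T W) H9.OutMcL.B 5 = true := by decide +kernel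
theorem fus0 : P.fusOk (dT H9.OutMcL.T W) H9.OutMcL.B fu 0 = true := by decide +kernel
theorem fus1 : P.fusOk (dT H9.OutMcL.T W) H9.OutMcL.B fu 1 = true := by decide +kernel
theorem fus2 : P.fusOk (dT H9.OutMcL.T W) H9.OutMcL.B fu 2 = true := by decide +kernel
theorem fus3 : P.fusOk (dT H9.OutMcL.T W) H9.OutMcL.B fu 3 = true := by decide +kernel
theorem fus4 : P.fusOk (dT H9.OutMcL.T W) H9.OutMcL.B fu 4 = true := by decide +kernel
theorem fus5 : P.fusOk (dT H9.OutMcL.T W) H9.OutMcL.B fu 5 = true := by decide +kernel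
theorem fus6 : P.fusOk (dT H9.OutMcL.T W) H9.OutMcL.B fu 6 = true := by decide +kernel
theorem fus7 : P.fusOk (dT H9.OutMcL.T W) H9.OutMcL.B fu 7 = true := by decide +kernel
theorem fus8 : P.fusOk (dT H9.OutMcL.T W) H9.OutMcL.B fu 8 = true := by decide +kernel
theorem fus9 : P.fusOk (dT H9.OutMcL.T W) H9.OutMcL.B fu 9 = true := by decide +kernel
theorem fus10 : P.fusOk (dT H9.OutMcL.T W) H9.OutMcL.B fu 10 = true := by decide +kernel
theorem fus11 : P.fusOk (dT H9.OutMcL.T W) H9.OutMcL.B fu 11 = true := by decide +kernel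
theorem fus12 : P.fusOk (dT H9.OutMcL.T W) H9.OutMcL.B fu 12 = true := by decide +kernel
theorem fus13 : P.fusOk (dT H9.OutMcL.T W) H9.OutMcL.B fu 13 = true := by decide +kernel
theorem fus14 : P.fusOk (dT H9.OutMcL.T W) H9.OutMcL.B fu 14 = true := by decide +kernel
theorem fus15 : P.fusOk (dT H9.OutMcL.T W) H9.OutMcL.B fu 15 = true := by decide +kernel
theorem fin0 : P.finRow lam (bs :: CV) MU 0 = true := by decide +kernel
theorem fin1 : P.finRow lam (bs :: CV) MU 1 = true := by decide +kernel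
theorem fin2 : P.finRow lam (bs :: CV) MU 2 = true := by decide +kernel
theorem fin3 : P.finRow lam (bs :: CV) MU 3 = true := by decide +kernel
theorem fin4 : P.finRow lam (bs :: CV) MU 4 = true := by decide +kernel
theorem fin5 : P.finRow lam (bs :: CV) MU 5 = true := by decide +kernel

theorem pm {G : Type*} [Group G] [Finite G] {A : RAct G 275} {g : ℕ → G} (hb : A.IsBase H9.OutMcL.B)
    (h : A.Tab g 32 H9.OutMcL.T) (ho : Nat.card G = 898128000) : PMult G 3 1 1 :=
  pmult_of_tab hb h ho P (show Nat.Prime 3 by norm_num) W fu 1 lam bs mo [cc0, cc1] CV MU lv 16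
    (by decide +kernel) (forall_lt_succ' (forall_lt_succ' (forall_lt_succ' (forall_lt_succ' (forall_lt_succ' (forall_lt_succ' forall_lt_zero' rel0) rel1) rel2) rel3) rel4) rel5) (by decide +kernel)
    (forall_lt_succ' (forall_lt_succ' (forall_lt_succ' (forall_lt_succ' (forall_lt_succ' (forall_lt_succ' (forall_lt_succ' (forall_lt_succ' (forall_lt_succ' (forall_lt_succ' (forall_lt_succ' (forall_lt_succ' (forall_lt_succ' (forall_lt_succ' (forall_lt_succ' (forall_lt_succ' forall_lt_zero' fus0) fus1) fus2) fus3) fus4) fus5) fus6) fus7) fus8) fus9) fus10) fus11) fus12) fus13) fus14) fus15)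
    (by decide +kernel) (by decide +kernel) (by decide +kernel) (by decide +kernel)
    (List.forall_mem_cons.mpr ⟨con0, (List.forall_mem_cons.mpr ⟨con1, (by simp)⟩)⟩)
    (forall_lt_succ' (forall_lt_succ' (forall_lt_succ' (forall_lt_succ' (forall_lt_succ' (forall_lt_succ' forall_lt_zero' fin0) fin1) fin2) fin3) fin4) fin5) (by decide +kernel)

end Cfsg.Agent.L0.McLP3
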