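import Cfsg.Agent.L0.PcCert
import Cfsg.Agent.L0.Dw
import Cfsg.Agent.H9.OutMcL

/-! Generated certificate: the `5`-part of a Schur multiplier. -/

set_option autoImplicit false
set_option maxRecDepth 100000

namespace Cfsg.Agent.L0.McLP5

noncomputable def W : List (List ℕ) := [
  dw (nat_lit 5) (nat_lit 31) (nat_lit 6) (nat_lit 0xf3b371e),
  dw (nat_lit 5) (nat_lit 31) (nat_lit 6) (nat_lit 0x1d0fea20),
  dw (nat_lit 5) (nat_lit 31) (nat_lit 6) (nat_lit 0x133ee3b4),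
  dw (nat_lit 5) (nat_lit 31) (nat_lit 7) (nat_lit 0x1188f54a0)]

noncomputable def P : PcP := ⟨nat_lit 5, nat_lit 3, nat_lit 2, nat_lit 0x1008001200, nat_lit 9, nat_lit 511, nat_lit 13, nat_lit 8191, nat_lit 5, nat_lit 9, nat_lit 6, nat_lit 7⟩

noncomputable def fu : Fus := ⟨[nat_lit 64, nat_lit 8, nat_lit 1],
  [nat_lit 259, nat_lit 32, nat_lit 1],
  [nat_lit 3, nat_lit 3, nat_lit 3]⟩

noncomputable def lam : List ℕ := [nat_lit 0x0,
  nat_lit 0x0,
  nat_lit 0x2000]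

noncomputable def bs : List ℕ := []

noncomputable def mo : List ℕ := []

noncomputable def cv0 : List ℕ := [nat_lit 0x20000000000000000,
  nat_lit 0x30000000000000,
  nat_lit 0x18000000000,
  nat_lit 0xc000000,
  nat_lit 0x60000000000000003]

noncomputable def cc0 : List Con := [
  ⟨nat_lit 1, nat_lit 0, nat_lit 0, [nat_lit 8], [], nthN cv0 (nat_lit 0)⟩,
  ⟨nat_lit 2, nat_lit 3, nat_lit 0, [nat_lit 2, nat_lit 1], [nat_lit 1, nat_lit 2], nthN cv0 (nat_lit 1)⟩,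
  ⟨nat_lit 2, nat_lit 3, nat_lit 0, [nat_lit 2, nat_lit 0], [nat_lit 0, nat_lit 2], nthN cv0 (nat_lit 2)⟩,
  ⟨nat_lit 2, nat_lit 3, nat_lit 0, [nat_lit 1, nat_lit 1, nat_lit 1, nat_lit 1, nat_lit 1], [], nthN cv0 (nat_lit 3)⟩,
  ⟨nat_lit 2, nat_lit 3, nat_lit 0, [nat_lit 0, nat_lit 0, nat_lit 0, nat_lit 0, nat_lit 0], [], nthN cv0 (nat_lit 4)⟩]

theorem con0 : allL cc0 (P.conOk fu) = true := by decide +kernel

noncomputable def CV : List (List ℕ) := [cv0]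

noncomputable def MU : List (List ℕ) := [[nat_lit 0x754],
  [nat_lit 0,
  nat_lit 0x177],
  [nat_lit 0x4b,
  nat_lit 0xf,
  nat_lit 0x4]]

noncomputable def lv : List (List (List ℕ) × ℕ × List (ℕ × List ℕ)) := [
  ([[nat_lit 1], [nat_lit 2]], nat_lit 0, [(nat_lit 0, []), (nat_lit 8, [nat_lit 0, nat_lit 0, nat_lit 0, nat_lit 0]), (nat_lit 20, [nat_lit 1, nat_lit 1, nat_lit 1, nat_lit 0, nat_lit 0, nat_lit 0]), (nat_lit 33, [nat_lit 1, nat_lit 1, nat_lit 1, nat_lit 0]), (nat_lit 43, [nat_lit 1, nat_lit 1, nat_lit 0, nat_lit 0]), (nat_lit 52, [nat_lit 1, nat_lit 0, nat_lit 0, nat_lit 0]), (nat_lit 71, [nat_lit 1, nat_lit 1, nat_lit 1, nat_lit 0, nat_lit 0, nat_lit 0, nat_lit 0]), (nat_lit 74, [nat_lit 1, nat_lit 1, nat_lit 1]), (nat_lit 99, [nat_lit 1, nat_lit 1, nat_lit 1, nat_lit 1]), (nat_lit 109, [nat_lit 1, nat_lit 1, nat_lit 1, nat_lit 1, nat_lit 0, nat_lit 0, nat_lit 0, nat_lit 0]), (nat_lit 120,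 [nat_lit 1, nat_lit 0, nat_lit 0, nat_lit 0, nat_lit 0]), (nat_lit 121, [nat_lit 1, nat_lit 1]), (nat_lit 125, [nat_lit 1, nat_lit 0]), (nat_lit 139, [nat_lit 1, nat_lit 1, nat_lit 0, nat_lit 0, nat_lit 0, nat_lit 0]), (nat_lit 149, [nat_lit 1]), (nat_lit 150, [nat_lit 0]), (nat_lit 169, [nat_lit 1, nat_lit 1, nat_lit 1, nat_lit 1, nat_lit 0, nat_lit 0, nat_lit 0]), (nat_lit 189, [nat_lit 1, nat_lit 0, nat_lit 0]), (nat_lit 190, [nat_lit 1, nat_lit 1, nat_lit 0]), (nat_lit 192, [nat_lit 0, nat_lit 0]), (nat_lit 193, [nat_lit 0, nat_lit 0, nat_lit 0]), (nat_lit 225, [nat_lit 1, nat_lit 1, nat_lit 1, nat_lit 1, nat_lit 0, nat_lit 0]), (nat_lit 243, [nat_lit 1, nat_lit 1, nat_lit 0, nat_lit 0, nat_lit 0]), (nat_lit 245, [nat_lit 1, nat_lit 1, nat_lit 1, nat_lit 0, nat_lit 0]), (nat_lit 262, [nat_lit 1, nat_lit 1, nat_lit 1, nat_lit 1, nat_lit 0])]),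
  ([[nat_lit 0]], nat_lit 1, [(nat_lit 1, []), (nat_lit 128, [nat_lit 0]), (nat_lit 161, [nat_lit 0, nat_lit 0]), (nat_lit 191, [nat_lit 0, nat_lit 0, nat_lit 0, nat_lit 0]), (nat_lit 252, [nat_lit 0, nat_lit 0, nat_lit 0])])]

theorem rel0 : P.relRow (dT H9.OutMcL.T W) H9.OutMcL.B 0 = true := by decide +kernel
theorem rel1 : P.relRow (dT H9.OutMcL.T W) H9.OutMcL.B 1 = true := by decide +kernel
theorem rel2 : P.relRow (dT H9.OutMcL.T W) H9.OutMcL.B 2 = true := by decide +kernel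
theorem fus0 : P.fusOk (dT H9.OutMcL.T W) H9.OutMcL.B fu 0 = true := by decide +kernel
theorem fus1 : P.fusOk (dT H9.OutMcL.T W) H9.OutMcL.B fu 1 = true := by decide +kernel
theorem fus2 : P.fusOk (dT H9.OutMcL.T W) H9.OutMcL.B fu 2 = true := by decide +kernel
theorem fin0 : P.finRow lam (bs :: CV) MU 0 = true := by decide +kernel
theorem fin1 : P.finRow lam (bs :: CV) MU 1 = true := by decide +kernel
theorem fin2 : P.finRow lam (bs :: CV) MU 2 = true := by decide +kernel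

theorem pm {G : Type*} [Group G] [Finite G] {A : RAct G 275} {g : ℕ → G} (hb : A.IsBase H9.OutMcL.B)
    (h : A.Tab g 32 H9.OutMcL.T) (ho : Nat.card G = 898128000) : PMult G 5 0 0 :=
  pmult_of_tab hb h ho P (show Nat.Prime 5 by norm_num) W fu 0 lam bs mo [cc0] CV MU lv 3
    (by decide +kernel) (forall_lt_succ' (forall_lt_succ' (forall_lt_succ' forall_lt_zero' rel0) rel1) rel2) (by decide +kernel)
    (forall_lt_succ' (forall_lt_succ' (forall_lt_succ' forall_lt_zero' fus0) fus1) fus2)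
    (by decide +kernel) (by decide +kernel) (by decide +kernel) (by decide +kernel)
    (List.forall_mem_cons.mpr ⟨con0, (by simp)⟩)
    (forall_lt_succ' (forall_lt_succ' (forall_lt_succ' forall_lt_zero' fin0) fin1) fin2) (by decide +kernel)

end Cfsg.Agent.L0.McLP5
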