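import Cfsg.Agent.L0.PcCert
import Cfsg.Agent.L0.Dw
import Cfsg.Agent.L0.ON.Chn

/-! Generated certificate: the `2`-part of a Schur multiplier. -/

set_option autoImplicit false
set_option maxRecDepth 100000

namespace Cfsg.Agent.L0.ONP2

noncomputable def W : List (List ℕ) := [
  dw (nat_lit 3) (nat_lit 7) (nat_lit 48) (nat_lit 0x5e1f61f53ea3f9fb33f027e3d42f0ff1e99f),
  dw (nat_lit 3) (nat_lit 7) (nat_lit 41) (nat_lit 0x274158474532e09f52b8e62a786598b),
  dw (nat_lit 3) (nat_lit 7) (nat_lit 43) (nat_lit 0x1355da29cb9f95302506ccfefa3b33556),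
  dw (nat_lit 3) (nat_lit 7) (nat_lit 53) (nat_lit 0x599ff65e776bbea17ec4fa98a9da69d52ccfe11d),
  dw (nat_lit 3) (nat_lit 7) (nat_lit 56) (nat_lit 0x76074c42b8e5c15efa9ea7f153f8f4cfc32997571c),
  dw (nat_lit 3) (nat_lit 7) (nat_lit 43) (nat_lit 0x7a77af1c7a8990cd4784a0f9fc175c6b),
  dw (nat_lit 3) (nat_lit 7) (nat_lit 52) (nat_lit 0x5e140c7177ecb95ed4782bbc32cc5d99e2f571c),
  dw (nat_lit 3) (nat_lit 7) (nat_lit 50) (nat_lit 0x23d427c8d66f5c72988571c5e1e717f08ec733),
  dw (nat_lit 3) (nat_lit 7) (nat_lit 41) (nat_lit 0x62a72fab2872c5dd535e8a9eb8e3b31),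
  dw (nat_lit 3) (nat_lit 7) (nat_lit 53) (nat_lit 0x414c7607ea7e0bbeee2ae38bc3eccff98d98d71c),
  dw (nat_lit 3) (nat_lit 7) (nat_lit 51) (nat_lit 0xe7d13ea17ec4caeb0a23d462a7b33556ae3a65),
  dw (nat_lit 3) (nat_lit 7) (nat_lit 51) (nat_lit 0x1452260b351fa547a85a30bc3ce2fe11d38bc5e)]

noncomputable def P : PcP := ⟨nat_lit 2, nat_lit 1, nat_lit 8, nat_lit 0x80402010080402010080804020100c0602000100804020100a00048201a0c0401c2a190b0640821120bc4667388017601, nat_lit 9, nat_lit 511, nat_lit 12, nat_lit 4095, nat_lit 2, nat_lit 62, nat_lit 7, nat_lit 7⟩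

noncomputable def fu : Fus := ⟨[nat_lit 230, nat_lit 32, nat_lit 8, nat_lit 4, nat_lit 2, nat_lit 1, nat_lit 128, nat_lit 64, nat_lit 32, nat_lit 16, nat_lit 8, nat_lit 4, nat_lit 2, nat_lit 1, nat_lit 4, nat_lit 2, nat_lit 1],
  [nat_lit 270, nat_lit 218, nat_lit 4, nat_lit 9, nat_lit 3, nat_lit 1, nat_lit 201, nat_lit 103, nat_lit 10, nat_lit 81, nat_lit 8, nat_lit 1, nat_lit 40, nat_lit 4, nat_lit 228, nat_lit 3, nat_lit 1],
  [nat_lit 9, nat_lit 9, nat_lit 9, nat_lit 9, nat_lit 9, nat_lit 9, nat_lit 10, nat_lit 10, nat_lit 10, nat_lit 10, nat_lit 10, nat_lit 10, nat_lit 10, nat_lit 10, nat_lit 11, nat_lit 11, nat_lit 11]⟩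

noncomputable def lam : List ℕ := [nat_lit 0x0,
  nat_lit 0x0,
  nat_lit 0x0,
  nat_lit 0x1000000000000001000001000001000,
  nat_lit 0x1000000000000001000000000001001,
  nat_lit 0x1000000000000000000000000000001,
  nat_lit 0x1001000000000000,
  nat_lit 0x1000000000000000000001000001001,
  nat_lit 0x1]

noncomputable def bs : List ℕ := []

noncomputable def mo : List ℕ := []

noncomputable def cv0 : List ℕ := [nat_lit 0x1000000000000000000000000000000000000000000000000000000000000000000000000000000000000000000000000000000000000,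
  nat_lit 0x1000000000000000000000000000000000000000000000000000000000000000000000000,
  nat_lit 0x1000000000000000000000000000000000000000000000000000000000000000000000000000000000000000000000000000000000000000000000000000000000,
  nat_lit 0x1000000000000000000000000000000000000000000000000000000000000000000000000000000000000000000000000000000000000000000000000000,
  nat_lit 0x1000000000000000000000000000000000000000000000000000000000000000000000000000000,
  nat_lit 0x1000000000000000000000000000000000000000000000000000000000000000000000000000000000000000000000000000000000000000000000,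
  nat_lit 0x1000000000000000000000000000000000000000000000000000000000000000000000000000000000000000000000000000000,
  nat_lit 0x1000000000000000000000000000000000000000000000000000000000000000000000000000000000000000000000000000000000000000000000000000000,
  nat_lit 0x1000000000000000000000000000000000000000000000000000000000000000000000000000000000000000000000000000000000000000000000000,
  nat_lit 0x1000001000000000000000000000000000000000000000000000000000000000000000000000000000000000000000000000000000000000000000000000000000000,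
  nat_lit 0x1000000000000001000000000000000000000000000000000000000000000000000000000000000000,
  nat_lit 0x1001000000000000000000000000000000000000000000000000000000000000000000000000000000,
  nat_lit 0x1000000000000000000001000000000000000000000000000000000000000000000000000000000000000000000000000000000000000000000000000000000000000,
  nat_lit 0x1000000000000000000000001000000000000000000001000000000000000000000000000000000000000000000000000000000000000000000000000,
  nat_lit 0x1000000000000001000000000000000000000000000000000000000000000001000000000000000000000000000000000000000000000000000000000000000000000,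
  nat_lit 0x1001000000000000001000000000000000000000000000000000000000000000000000000000000000000000000000000000000000000000000000000000000000000,
  nat_lit 0x1001000000000000001000000000000000000000001000000000000000000000000000000000000000000000000000000000000000001000000000000000000000000,
  nat_lit 0x1000000001001000000000001000000000000000000000000000000000000000000000001000000000000001000000000000000000000000000000000000000000000,
  nat_lit 0x1000000000000000000000000000001000000000000000000000000000000000000000000000000000000000000000000000000000000000000000000000000000,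
  nat_lit 0x1000000000000000000000000001001000000000000001000001000000000000001000000000000000000000000000000000000000000000000000000000000000000,
  nat_lit 0x1000001000000001000000000000000000000000000000000001000001001000000000000000000000000000000000000000000000000000000000000000000000000,
  nat_lit 0x1000000000000001001000000000000000000001000000000000000000000000000000000000000000000000000000000000000000000000000000000000000000000,
  nat_lit 0x1000001001000000001000000000000001000000000000000001000000000001000000000000001000000000000000000000000000000000000000000000000000000,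
  nat_lit 0x1001001001000001000000000001001001000001000000000001001000001000000001001000001000000000000000000000000000000000000000000000000000000,
  nat_lit 0x1000000000001000001000000000000000000000001000000000000000000001000000001001000000000000000000000000000000000000000000000000000000000,
  nat_lit 0x1001000001001000001000000000001000001000000000000000000000000000000000001000000001000000000001000000000000000000000000000000000000000,
  nat_lit 0x1001000001000000001001001001000000000000001001001000000000000001001000000000000001000000000000000000000000000000000000000000000,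
  nat_lit 0x1001000000001000000000001000000000000000000000001000000000000000000001001001000000000000000000000000000000000000000000000000000000000,
  nat_lit 0x1000000000001000001000001000000000001000001000000000000001000001000000000000000000000000000000000000001000001000000000000000000000,
  nat_lit 0x1001001001001001000001001001001001000000000000000001000000000000000001001000000000000001001000000001001000000001000000000000000000,
  nat_lit 0x1000000001000001000000000001000000000001000001001001001000000000001001001000001000001001000001000001000001000000000000000000000,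
  nat_lit 0x1000000001001000000001000000000000001001001000000000001001001001000000000000001000001000000001000000000000000000000000000000000000000,
  nat_lit 0x1000001000001001001000001000000000000000000000001001001001001000000000000001001000000000001001001000000001001000001000000000000000000,
  nat_lit 0x1000000000000000000001000000000000000000000000000000000000000000000000000000000000,
  nat_lit 0x1000000000000000001001000000000000000000000000000000000000000000000000000000000000000000000000000000000000000000000000000000000000000000000000000000000,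
  nat_lit 0x1000000000000000001001001001000001001000000001000001000000000001001000001000001000001001001000000000000001000000000000000000000001000001001000001000001,
  nat_lit 0x1000000000001001001001000001001000000001000001000001001001000001000001000001000000001000000001001000001000001001000000001000000001001000001000000,
  nat_lit 0x1000001000000000000000001001001000000000000001001000000000000001001001000001001001001000001001000000001001001001001000001001000001000000000001000001000,
  nat_lit 0x1000000000000000000000000000000000000000000000000000000000000001000001000000000000000000000000000000000000001000000000000000000000000000000001000000000000000000000000000,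
  nat_lit 0x1000000000000000000000000000000000000000000000000000000000000000000001000000000000000000000000000000000000000000001000001000000000000000000000000001000000000000000000000000000]

noncomputable def cc0 : List Con := [
  ⟨nat_lit 1, nat_lit 0, nat_lit 0, [nat_lit 256], [], nthN cv0 (nat_lit 0)⟩,
  ⟨nat_lit 1, nat_lit 3, nat_lit 3, [nat_lit 32], [], nthN cv0 (nat_lit 1)⟩,
  ⟨nat_lit 1, nat_lit 7, nat_lit 7, [nat_lit 2], [], nthN cv0 (nat_lit 2)⟩,
  ⟨nat_lit 1, nat_lit 0, nat_lit 0, [nat_lit 8], [], nthN cv0 (nat_lit 3)⟩,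
  ⟨nat_lit 1, nat_lit 3, nat_lit 3, [nat_lit 8], [], nthN cv0 (nat_lit 4)⟩,
  ⟨nat_lit 0, nat_lit 3, nat_lit 7, [nat_lit 2], [], nthN cv0 (nat_lit 5)⟩,
  ⟨nat_lit 1, nat_lit 3, nat_lit 3, [nat_lit 2], [], nthN cv0 (nat_lit 6)⟩,
  ⟨nat_lit 1, nat_lit 3, nat_lit 3, [nat_lit 1], [], nthN cv0 (nat_lit 7)⟩,
  ⟨nat_lit 0, nat_lit 4, nat_lit 7, [nat_lit 2], [], nthN cv0 (nat_lit 8)⟩,
  ⟨nat_lit 0, nat_lit 0, nat_lit 6, [nat_lit 4], [], nthN cv0 (nat_lit 9)⟩,
  ⟨nat_lit 1, nat_lit 1, nat_lit 1, [nat_lit 32], [], nthN cv0 (nat_lit 10)⟩,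
  ⟨nat_lit 0, nat_lit 1, nat_lit 5, [nat_lit 8], [], nthN cv0 (nat_lit 11)⟩,
  ⟨nat_lit 1, nat_lit 1, nat_lit 1, [nat_lit 2], [], nthN cv0 (nat_lit 12)⟩,
  ⟨nat_lit 1, nat_lit 4, nat_lit 4, [nat_lit 16], [], nthN cv0 (nat_lit 13)⟩,
  ⟨nat_lit 0, nat_lit 2, nat_lit 3, [nat_lit 32], [], nthN cv0 (nat_lit 14)⟩,
  ⟨nat_lit 0, nat_lit 2, nat_lit 7, [nat_lit 2], [], nthN cv0 (nat_lit 15)⟩,
  ⟨nat_lit 1, nat_lit 2, nat_lit 2, [nat_lit 64], [], nthN cv0 (nat_lit 16)⟩,
  ⟨nat_lit 1, nat_lit 0, nat_lit 0, [nat_lit 16], [], nthN cv0 (nat_lit 17)⟩,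
  ⟨nat_lit 0, nat_lit 0, nat_lit 4, [nat_lit 2], [], nthN cv0 (nat_lit 18)⟩,
  ⟨nat_lit 1, nat_lit 1, nat_lit 1, [nat_lit 16], [], nthN cv0 (nat_lit 19)⟩,
  ⟨nat_lit 1, nat_lit 3, nat_lit 3, [nat_lit 16], [], nthN cv0 (nat_lit 20)⟩,
  ⟨nat_lit 1, nat_lit 2, nat_lit 2, [nat_lit 32], [], nthN cv0 (nat_lit 21)⟩,
  ⟨nat_lit 1, nat_lit 2, nat_lit 2, [nat_lit 8], [], nthN cv0 (nat_lit 22)⟩,
  ⟨nat_lit 0, nat_lit 0, nat_lit 3, [nat_lit 32], [], nthN cv0 (nat_lit 23)⟩,
  ⟨nat_lit 0, nat_lit 2, nat_lit 4, [nat_lit 16], [], nthN cv0 (nat_lit 24)⟩,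
  ⟨nat_lit 1, nat_lit 2, nat_lit 2, [nat_lit 16], [], nthN cv0 (nat_lit 25)⟩,
  ⟨nat_lit 1, nat_lit 0, nat_lit 0, [nat_lit 32], [], nthN cv0 (nat_lit 26)⟩,
  ⟨nat_lit 0, nat_lit 0, nat_lit 4, [nat_lit 16], [], nthN cv0 (nat_lit 27)⟩,
  ⟨nat_lit 1, nat_lit 1, nat_lit 1, [nat_lit 64], [], nthN cv0 (nat_lit 28)⟩,
  ⟨nat_lit 1, nat_lit 0, nat_lit 0, [nat_lit 64], [], nthN cv0 (nat_lit 29)⟩,
  ⟨nat_lit 0, nat_lit 0, nat_lit 1, [nat_lit 128], [], nthN cv0 (nat_lit 30)⟩,
  ⟨nat_lit 0, nat_lit 1, nat_lit 2, [nat_lit 16], [], nthN cv0 (nat_lit 31)⟩,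
  ⟨nat_lit 0, nat_lit 0, nat_lit 2, [nat_lit 64], [], nthN cv0 (nat_lit 32)⟩,
  ⟨nat_lit 2, nat_lit 9, nat_lit 0, [nat_lit 2, nat_lit 2], [], nthN cv0 (nat_lit 33)⟩,
  ⟨nat_lit 2, nat_lit 9, nat_lit 0, [nat_lit 4, nat_lit 4], [nat_lit 5], nthN cv0 (nat_lit 34)⟩,
  ⟨nat_lit 2, nat_lit 9, nat_lit 0, [nat_lit 0, nat_lit 0], [nat_lit 5], nthN cv0 (nat_lit 35)⟩,
  ⟨nat_lit 2, nat_lit 9, nat_lit 0, [nat_lit 1, nat_lit 1], [nat_lit 3], nthN cv0 (nat_lit 36)⟩,
  ⟨nat_lit 2, nat_lit 9, nat_lit 0, [nat_lit 1, nat_lit 0], [nat_lit 0, nat_lit 1, nat_lit 3, nat_lit 5], nthN cv0 (nat_lit 37)⟩,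
  ⟨nat_lit 2, nat_lit 10, nat_lit 0, [nat_lit 8, nat_lit 8], [nat_lit 11], nthN cv0 (nat_lit 38)⟩,
  ⟨nat_lit 2, nat_lit 10, nat_lit 0, [nat_lit 12, nat_lit 12], [nat_lit 13], nthN cv0 (nat_lit 39)⟩]

theorem con0 : allL cc0 (P.conOk fu) = true := by decide +kernel

noncomputable def cv1 : List ℕ := [nat_lit 0x1000000000000000000000000000000000000000001000000001001000000000000000000000000000000000000000000001000000000000000000000001000000000000000000000000000000000000000000000000000,
  nat_lit 0x1001001000000000000000000000000000000000001000001001000001001000000001000000000000000000000000001000000000000000000001000000000000000000001000000000000000000001000000000000000,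
  nat_lit 0x1001000000000001000000000000000000000000001001001000000000001000000001000001000000001000000001000000000001000000001000001000000000000000000000000001001000000000000000000000000,
  nat_lit 0x1001000000001000001000001000000000001001000000000000000000000000000001000000001001000000000000000000001001000000001001000000000000,
  nat_lit 0x1000000000000000000000000000000000000000000000000001001000000000000000000000000000000000000000000000000000000000000000000000000000000000000000000000000000000000000000000000000000000000,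
  nat_lit 0x1000000000001001000000001000000000001001000000000000000001000001000000000000000000000000000000000000000000001000001001000001000000]

noncomputable def cc1 : List Con := [
  ⟨nat_lit 2, nat_lit 10, nat_lit 0, [nat_lit 10, nat_lit 9], [nat_lit 9, nat_lit 10, nat_lit 13], nthN cv1 (nat_lit 0)⟩,
  ⟨nat_lit 2, nat_lit 10, nat_lit 0, [nat_lit 9, nat_lit 9], [nat_lit 11, nat_lit 12, nat_lit 13], nthN cv1 (nat_lit 1)⟩,
  ⟨nat_lit 2, nat_lit 10, nat_lit 0, [nat_lit 7, nat_lit 7], [nat_lit 8, nat_lit 12, nat_lit 13], nthN cv1 (nat_lit 2)⟩,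
  ⟨nat_lit 2, nat_lit 10, nat_lit 0, [nat_lit 6, nat_lit 6], [], nthN cv1 (nat_lit 3)⟩,
  ⟨nat_lit 2, nat_lit 11, nat_lit 0, [nat_lit 15, nat_lit 15], [nat_lit 16], nthN cv1 (nat_lit 4)⟩,
  ⟨nat_lit 2, nat_lit 11, nat_lit 0, [nat_lit 14, nat_lit 14], [], nthN cv1 (nat_lit 5)⟩]

theorem con1 : allL cc1 (P.conOk fu) = true := by decide +kernel

noncomputable def CV : List (List ℕ) := [cv0, cv1]

noncomputable def MU : List (List ℕ) := [[nat_lit 0],
  [nat_lit 0,
  nat_lit 0x2800925d1618],
  [nat_lit 0,
  nat_lit 0,
  nat_lit 0],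
  [nat_lit 0x9b87eced8a2,
  nat_lit 0x8009f7bd3cb,
  nat_lit 0x200c04290e91,
  nat_lit 0x8008f534b99],
  [nat_lit 0,
  nat_lit 0x838818cae48,
  nat_lit 0x129a1e1b5,
  nat_lit 0x298c843967b5,
  nat_lit 0x283459b65420],
  [nat_lit 0x200020b99,
  nat_lit 0x9800075d182,
  nat_lit 0x298e8629c5df,
  nat_lit 0x44ca38,
  nat_lit 0x200e05284525,
  nat_lit 0x200000810],
  [nat_lit 0x200e09ce0db2,
  nat_lit 0xc10,
  nat_lit 0x42a0,
  nat_lit 0x2,
  nat_lit 0x100a32,
  nat_lit 0x10,
  nat_lit 0x810],
  [nat_lit 0x204e64302,
  nat_lit 0x200c09264314,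
  nat_lit 0x200c04288e91,
  nat_lit 0x208024,
  nat_lit 0x102b32,
  nat_lit 0x40004,
  nat_lit 0x40,
  nat_lit 0x200c092e45d4],
  [nat_lit 0x1,
  nat_lit 0x1280,
  nat_lit 0x8284,
  nat_lit 0x20,
  nat_lit 0x100,
  nat_lit 0x8,
  nat_lit 0x80,
  nat_lit 0x4,
  nat_lit 0x280]]

noncomputable def lv : List (List (List ℕ) × ℕ × List (ℕ × List ℕ)) := [
  ([[nat_lit 0], [nat_lit 2], [nat_lit 4], [nat_lit 7], [nat_lit 8]], nat_lit 385, [(nat_lit 385, []), (nat_lit 6178, [nat_lit 1, nat_lit 3]), (nat_lit 9841, [nat_lit 3, nat_lit 1, nat_lit 0]), (nat_lit 12695, [nat_lit 4, nat_lit 0]), (nat_lit 16284, [nat_lit 4, nat_lit 2]), (nat_lit 19196, [nat_lit 1, nat_lit 2, nat_lit 0]), (nat_lit 22521, [nat_lit 2, nat_lit 0]), (nat_lit 26407, [nat_lit 3, nat_lit 2, nat_lit 1]), (nat_lit 31260, [nat_lit 4, nat_lit 0, nat_lit 1]), (nat_lit 32036, [nat_lit 1, nat_lit 1]), (nat_lit 34129, [nat_lit 4, nat_lit 3, nat_lit 0]), (nat_lit 34685, [nat_lit 0]), (nat_lit 38366, [nat_lit 4, nat_lit 1]), (nat_lit 38791, [nat_lit 3]), (nat_lit 42039, [nat_lit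 4]), (nat_lit 53021, [nat_lit 1, nat_lit 3, nat_lit 0]), (nat_lit 54983, [nat_lit 1, nat_lit 0]), (nat_lit 59344, [nat_lit 1]), (nat_lit 63563, [nat_lit 0, nat_lit 2]), (nat_lit 64248, [nat_lit 3, nat_lit 0]), (nat_lit 66208, [nat_lit 2, nat_lit 1]), (nat_lit 70179, [nat_lit 3, nat_lit 1, nat_lit 2]), (nat_lit 74099, [nat_lit 1, nat_lit 0, nat_lit 1]), (nat_lit 83749, [nat_lit 1, nat_lit 2]), (nat_lit 86223, [nat_lit 2, nat_lit 1, nat_lit 1]), (nat_lit 94054, [nat_lit 0, nat_lit 1]), (nat_lit 101223, [nat_lit 3, nat_lit 1]), (nat_lit 106199, [nat_lit 3, nat_lit 2]), (nat_lit 107872, [nat_lit 2, nat_lit 1, nat_lit 0]), (nat_lit 108369, [nat_lit 4, nat_lit 1, nat_lit 0]), (nat_lit 109546, [nat_lit 2]), (nat_lit 113612, [nat_lit 3, nat_lit 2, nat_lit 0])]),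
  ([[nat_lit 1], [nat_lit 3], [nat_lit 6]], nat_lit 28, [(nat_lit 28, []), (nat_lit 4911, [nat_lit 1, nat_lit 0]), (nat_lit 9667, [nat_lit 0, nat_lit 1]), (nat_lit 18369, [nat_lit 0]), (nat_lit 23113, [nat_lit 2, nat_lit 1]), (nat_lit 67321, [nat_lit 1]), (nat_lit 68345, [nat_lit 2, nat_lit 0]), (nat_lit 102740, [nat_lit 2])]),
  ([[nat_lit 5]], nat_lit 0, [(nat_lit 0, []), (nat_lit 118390, [nat_lit 0])])]

theorem rel0 : P.relRow (dT ONG.T W) ONChn.B 0 = true := by decide +kernel
theorem rel1 : P.relRow (dT ONG.T W) ONChn.B 1 = true := by decide +kernel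
theorem rel2 : P.relRow (dT ONG.T W) ONChn.B 2 = true := by decide +kernel
theorem rel3 : P.relRow (dT ONG.T W) ONChn.B 3 = true := by decide +kernel
theorem rel4 : P.relRow (dT ONG.T W) ONChn.B 4 = true := by decide +kernel
theorem rel5 : P.relRow (dT ONG.T W) ONChn.B 5 = true := by decide +kernel
theorem rel6 : P.relRow (dT ONG.T W) ONChn.B 6 = true := by decide +kernel
theorem rel7 : P.relRow (dT ONG.T W) ONChn.B 7 = true := by decide +kernel
theorem rel8 : P.relRow (dT ONG.T W) ONChn.B 8 = true := by decide +kernel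
theorem fus0 : P.fusOk (dT ONG.T W) ONChn.B fu 0 = true := by decide +kernel
theorem fus1 : P.fusOk (dT ONG.T W) ONChn.B fu 1 = true := by decide +kernel
theorem fus2 : P.fusOk (dT ONG.T W) ONChn.B fu 2 = true := by decide +kernel
theorem fus3 : P.fusOk (dT ONG.T W) ONChn.B fu 3 = true := by decide +kernel
theorem fus4 : P.fusOk (dT ONG.T W) ONChn.B fu 4 = true := by decide +kernel
theorem fus5 : P.fusOk (dT ONG.T W) ONChn.B fu 5 = true := by decide +kernel
theorem fus6 : P.fusOk (dT ONG.T W) ONChn.B fu 6 = true := by decide +kernel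
theorem fus7 : P.fusOk (dT ONG.T W) ONChn.B fu 7 = true := by decide +kernel
theorem fus8 : P.fusOk (dT ONG.T W) ONChn.B fu 8 = true := by decide +kernel
theorem fus9 : P.fusOk (dT ONG.T W) ONChn.B fu 9 = true := by decide +kernel
theorem fus10 : P.fusOk (dT ONG.T W) ONChn.B fu 10 = true := by decide +kernel
theorem fus11 : P.fusOk (dT ONG.T W) ONChn.B fu 11 = true := by decide +kernel
theorem fus12 : P.fusOk (dT ONG.T W) ONChn.B fu 12 = true := by decide +kernel
theorem fus13 : P.fusOk (dT ONG.T W) ONChn.B fu 13 = true := by decide +kernel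
theorem fus14 : P.fusOk (dT ONG.T W) ONChn.B fu 14 = true := by decide +kernel
theorem fus15 : P.fusOk (dT ONG.T W) ONChn.B fu 15 = true := by decide +kernel
theorem fus16 : P.fusOk (dT ONG.T W) ONChn.B fu 16 = true := by decide +kernel
theorem fin0 : P.finRow lam (bs :: CV) MU 0 = true := by decide +kernel
theorem fin1 : P.finRow lam (bs :: CV) MU 1 = true := by decide +kernel
theorem fin2 : P.finRow lam (bs :: CV) MU 2 = true := by decide +kernel
theorem fin3 : P.finRow lam (bs :: CV) MU 3 = true := by decide +kernel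
theorem fin4 : P.finRow lam (bs :: CV) MU 4 = true := by decide +kernel
theorem fin5 : P.finRow lam (bs :: CV) MU 5 = true := by decide +kernel
theorem fin6 : P.finRow lam (bs :: CV) MU 6 = true := by decide +kernel
theorem fin7 : P.finRow lam (bs :: CV) MU 7 = true := by decide +kernel
theorem fin8 : P.finRow lam (bs :: CV) MU 8 = true := by decide +kernel

theorem pm {G : Type*} [Group G] [Finite G] {A : RAct G 122760} {g : ℕ → G} (hb : A.IsBase ONChn.B)
    (h : A.Tab g 8 ONG.T) (ho : Nat.card G = 460815505920) : PMult G 2 0 0 :=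
  pmult_of_tab hb h ho P (show Nat.Prime 2 by norm_num) W fu 0 lam bs mo [cc0, cc1] CV MU lv 17
    (by decide +kernel) (forall_lt_succ' (forall_lt_succ' (forall_lt_succ' (forall_lt_succ' (forall_lt_succ' (forall_lt_succ' (forall_lt_succ' (forall_lt_succ' (forall_lt_succ' forall_lt_zero' rel0) rel1) rel2) rel3) rel4) rel5) rel6) rel7) rel8) (by decide +kernel)
    (forall_lt_succ' (forall_lt_succ' (forall_lt_succ' (forall_lt_succ' (forall_lt_succ' (forall_lt_succ' (forall_lt_succ' (forall_lt_succ' (forall_lt_succ' (forall_lt_succ' (forall_lt_succ' (forall_lt_succ' (forall_lt_succ' (forall_lt_succ' (forall_lt_succ' (forall_lt_succ' (forall_lt_succ' forall_lt_zero' fus0) fus1) fus2) fus3) fus4) fus5) fus6) fus7) fus8) fus9) fus10) fus11) fus12) fus13) fus14) fus15) fus16)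
    (by decide +kernel) (by decide +kernel) (by decide +kernel) (by decide +kernel)
    (List.forall_mem_cons.mpr ⟨con0, (List.forall_mem_cons.mpr ⟨con1, (by simp)⟩)⟩)
    (forall_lt_succ' (forall_lt_succ' (forall_lt_succ' (forall_lt_succ' (forall_lt_succ' (forall_lt_succ' (forall_lt_succ' (forall_lt_succ' (forall_lt_succ' forall_lt_zero' fin0) fin1) fin2) fin3) fin4) fin5) fin6) fin7) fin8) (by decide +kernel)

end Cfsg.Agent.L0.ONP2
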