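import Cfsg.Agent.L0.PcCert
import Cfsg.Agent.L0.Dw
import Cfsg.Agent.L0.ON.Chn

/-! Generated certificate: the `3`-part of a Schur multiplier. -/

set_option autoImplicit false
set_option maxRecDepth 100000

namespace Cfsg.Agent.L0.ONP3

noncomputable def W : List (List ℕ) := [
  dw (nat_lit 3) (nat_lit 7) (nat_lit 46) (nat_lit 0x955f9d8c4b02a457a2760a56f81ee5e7c),
  dw (nat_lit 3) (nat_lit 7) (nat_lit 51) (nat_lit 0xbe31c15f9aa7a561039e95812a7303ffc6c39c),
  dw (nat_lit 3) (nat_lit 7) (nat_lit 46) (nat_lit 0x2605d1f97e2988d074012ac0f761ce5d33),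
  dw (nat_lit 3) (nat_lit 7) (nat_lit 46) (nat_lit 0x3accdd1f5f182bd1d445d18953d2b95f385),
  dw (nat_lit 3) (nat_lit 7) (nat_lit 52) (nat_lit 0x97cb310e142cecf97b4f4ac0954bcf961ce018d),
  dw (nat_lit 3) (nat_lit 7) (nat_lit 42) (nat_lit 0x17cccfaf58d623b160c012a9635f1f95),
  dw (nat_lit 3) (nat_lit 7) (nat_lit 47) (nat_lit 0x1117ee8fa6230a7a418e5ed3081979f63963)]

noncomputable def P : PcP := ⟨nat_lit 3, nat_lit 2, nat_lit 3, nat_lit 0x10101000404001000, nat_lit 8, nat_lit 255, nat_lit 12, nat_lit 4095, nat_lit 9, nat_lit 19, nat_lit 5, nat_lit 6⟩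

noncomputable def fu : Fus := ⟨[nat_lit 64, nat_lit 16, nat_lit 4, nat_lit 1, nat_lit 64, nat_lit 16, nat_lit 64, nat_lit 16, nat_lit 1],
  [nat_lit 134, nat_lit 42, nat_lit 4, nat_lit 1, nat_lit 128, nat_lit 32, nat_lit 105, nat_lit 1, nat_lit 32],
  [nat_lit 4, nat_lit 4, nat_lit 4, nat_lit 4, nat_lit 5, nat_lit 5, nat_lit 6, nat_lit 6, nat_lit 6]⟩

noncomputable def lam : List ℕ := [nat_lit 0x7000000000000000000000000000000000000000008,
  nat_lit 0x7000000000000000000000000000000000000008000000,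
  nat_lit 0x8007000000007008007007008007007008007008000008,
  nat_lit 0x8008000000007007000000008008007008008008000008]

noncomputable def bs : List ℕ := [nat_lit 0x1000000000000]

noncomputable def mo : List ℕ := [nat_lit 0x4e6ab2b71]

noncomputable def cv0 : List ℕ := [nat_lit 0x3000,
  nat_lit 0x3000000000,
  nat_lit 0x3000000000000000000,
  nat_lit 0x3000000000000,
  nat_lit 0x3000000000000000000000,
  nat_lit 0x3000000000000000000000000,
  nat_lit 0x3000000000000000000000000000000000000,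
  nat_lit 0x3000000000000000000000000000000000000000,
  nat_lit 0x7000000000000001000000000,
  nat_lit 0x1000001000000000000000000,
  nat_lit 0x7000000000001000000000000,
  nat_lit 0x2001000000000000000000000,
  nat_lit 0x3002003000006001000006000000001,
  nat_lit 0x3000002006006000002006000001000000,
  nat_lit 0x3000000000000000000000000000000000000000001,
  nat_lit 0x3000000000000000000000000000000000000001000000,
  nat_lit 0x3000000000000000000000001000000000000000000008000000,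
  nat_lit 0x3000000000000000000000000008000000000000000000002000000,
  nat_lit 0x2002001000000000000008000]

noncomputable def cc0 : List Con := [
  ⟨nat_lit 1, nat_lit 0, nat_lit 0, [nat_lit 16], [], nthN cv0 (nat_lit 0)⟩,
  ⟨nat_lit 1, nat_lit 0, nat_lit 0, [nat_lit 4], [], nthN cv0 (nat_lit 1)⟩,
  ⟨nat_lit 1, nat_lit 0, nat_lit 0, [nat_lit 1], [], nthN cv0 (nat_lit 2)⟩,
  ⟨nat_lit 1, nat_lit 1, nat_lit 1, [nat_lit 4], [], nthN cv0 (nat_lit 3)⟩,
  ⟨nat_lit 1, nat_lit 1, nat_lit 1, [nat_lit 1], [], nthN cv0 (nat_lit 4)⟩,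
  ⟨nat_lit 1, nat_lit 2, nat_lit 2, [nat_lit 1], [], nthN cv0 (nat_lit 5)⟩,
  ⟨nat_lit 2, nat_lit 4, nat_lit 0, [nat_lit 2, nat_lit 2, nat_lit 2], [], nthN cv0 (nat_lit 6)⟩,
  ⟨nat_lit 2, nat_lit 4, nat_lit 0, [nat_lit 3, nat_lit 3, nat_lit 3], [], nthN cv0 (nat_lit 7)⟩,
  ⟨nat_lit 2, nat_lit 4, nat_lit 0, [nat_lit 2, nat_lit 0], [nat_lit 0, nat_lit 2], nthN cv0 (nat_lit 8)⟩,
  ⟨nat_lit 2, nat_lit 4, nat_lit 0, [nat_lit 3, nat_lit 0], [nat_lit 0, nat_lit 3], nthN cv0 (nat_lit 9)⟩,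
  ⟨nat_lit 2, nat_lit 4, nat_lit 0, [nat_lit 2, nat_lit 1], [nat_lit 1, nat_lit 2], nthN cv0 (nat_lit 10)⟩,
  ⟨nat_lit 2, nat_lit 4, nat_lit 0, [nat_lit 3, nat_lit 1], [nat_lit 1, nat_lit 3], nthN cv0 (nat_lit 11)⟩,
  ⟨nat_lit 2, nat_lit 4, nat_lit 0, [nat_lit 0, nat_lit 0, nat_lit 0], [], nthN cv0 (nat_lit 12)⟩,
  ⟨nat_lit 2, nat_lit 4, nat_lit 0, [nat_lit 1, nat_lit 1, nat_lit 1], [], nthN cv0 (nat_lit 13)⟩,
  ⟨nat_lit 2, nat_lit 5, nat_lit 0, [nat_lit 4, nat_lit 4, nat_lit 4], [], nthN cv0 (nat_lit 14)⟩,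
  ⟨nat_lit 2, nat_lit 5, nat_lit 0, [nat_lit 5, nat_lit 5, nat_lit 5], [], nthN cv0 (nat_lit 15)⟩,
  ⟨nat_lit 2, nat_lit 6, nat_lit 0, [nat_lit 7, nat_lit 7, nat_lit 7], [], nthN cv0 (nat_lit 16)⟩,
  ⟨nat_lit 2, nat_lit 6, nat_lit 0, [nat_lit 8, nat_lit 8, nat_lit 8], [], nthN cv0 (nat_lit 17)⟩,
  ⟨nat_lit 2, nat_lit 6, nat_lit 0, [nat_lit 7, nat_lit 6], [nat_lit 6, nat_lit 7], nthN cv0 (nat_lit 18)⟩]

theorem con0 : allL cc0 (P.conOk fu) = true := by decide +kernel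

noncomputable def CV : List (List ℕ) := [cv0]

noncomputable def MU : List (List ℕ) := [[nat_lit 0x176838794f172],
  [nat_lit 0x12bf3263a0e8d059,
  nat_lit 0xd2a9fc43c7d02],
  [nat_lit 0x807318269,
  nat_lit 0x8,
  nat_lit 0x837c012e2ae3e],
  [nat_lit 0x23b874bcf1,
  nat_lit 0x248848d87d1,
  nat_lit 0x248848d881,
  nat_lit 0x77ece221ab56e]]

noncomputable def lv : List (List (List ℕ) × ℕ × List (ℕ × List ℕ)) := [
  ([[nat_lit 2], [nat_lit 3]], nat_lit 515, [(nat_lit 515, []), (nat_lit 64997, [nat_lit 1, nat_lit 0, nat_lit 0]), (nat_lit 70000, [nat_lit 1, nat_lit 1, nat_lit 0, nat_lit 0]), (nat_lit 77064, [nat_lit 1]), (nat_lit 85664, [nat_lit 1, nat_lit 1, nat_lit 0]), (nat_lit 89045, [nat_lit 0]), (nat_lit 100044, [nat_lit 1, nat_lit 1]), (nat_lit 102343, [nat_lit 0, nat_lit 0]), (nat_lit 122409, [nat_lit 1, nat_lit 0])]),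
  ([[nat_lit 1]], nat_lit 226, [(nat_lit 226, []), (nat_lit 22942, [nat_lit 0, nat_lit 0]), (nat_lit 89106, [nat_lit 0])]),
  ([[nat_lit 0]], nat_lit 0, [(nat_lit 0, []), (nat_lit 59908, [nat_lit 0]), (nat_lit 97139, [nat_lit 0, nat_lit 0])])]

theorem rel0 : P.relRow (dT ONG.T W) ONChn.B 0 = true := by decide +kernel
theorem rel1 : P.relRow (dT ONG.T W) ONChn.B 1 = true := by decide +kernel
theorem rel2 : P.relRow (dT ONG.T W) ONChn.B 2 = true := by decide +kernel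
theorem rel3 : P.relRow (dT ONG.T W) ONChn.B 3 = true := by decide +kernel
theorem fus0 : P.fusOk (dT ONG.T W) ONChn.B fu 0 = true := by decide +kernel
theorem fus1 : P.fusOk (dT ONG.T W) ONChn.B fu 1 = true := by decide +kernel
theorem fus2 : P.fusOk (dT ONG.T W) ONChn.B fu 2 = true := by decide +kernel
theorem fus3 : P.fusOk (dT ONG.T W) ONChn.B fu 3 = true := by decide +kernel
theorem fus4 : P.fusOk (dT ONG.T W) ONChn.B fu 4 = true := by decide +kernel
theorem fus5 : P.fusOk (dT ONG.T W) ONChn.B fu 5 = true := by decide +kernel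
theorem fus6 : P.fusOk (dT ONG.T W) ONChn.B fu 6 = true := by decide +kernel
theorem fus7 : P.fusOk (dT ONG.T W) ONChn.B fu 7 = true := by decide +kernel
theorem fus8 : P.fusOk (dT ONG.T W) ONChn.B fu 8 = true := by decide +kernel
theorem fin0 : P.finRow lam (bs :: CV) MU 0 = true := by decide +kernel
theorem fin1 : P.finRow lam (bs :: CV) MU 1 = true := by decide +kernel
theorem fin2 : P.finRow lam (bs :: CV) MU 2 = true := by decide +kernel
theorem fin3 : P.finRow lam (bs :: CV) MU 3 = true := by decide +kernel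

theorem pm {G : Type*} [Group G] [Finite G] {A : RAct G 122760} {g : ℕ → G} (hb : A.IsBase ONChn.B)
    (h : A.Tab g 8 ONG.T) (ho : Nat.card G = 460815505920) : PMult G 3 1 1 :=
  pmult_of_tab hb h ho P (show Nat.Prime 3 by norm_num) W fu 1 lam bs mo [cc0] CV MU lv 9
    (by decide +kernel) (forall_lt_succ' (forall_lt_succ' (forall_lt_succ' (forall_lt_succ' forall_lt_zero' rel0) rel1) rel2) rel3) (by decide +kernel)
    (forall_lt_succ' (forall_lt_succ' (forall_lt_succ' (forall_lt_succ' (forall_lt_succ' (forall_lt_succ' (forall_lt_succ' (forall_lt_succ' (forall_lt_succ' forall_lt_zero' fus0) fus1) fus2) fus3) fus4) fus5) fus6) fus7) fus8)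
    (by decide +kernel) (by decide +kernel) (by decide +kernel) (by decide +kernel)
    (List.forall_mem_cons.mpr ⟨con0, (by simp)⟩)
    (forall_lt_succ' (forall_lt_succ' (forall_lt_succ' (forall_lt_succ' forall_lt_zero' fin0) fin1) fin2) fin3) (by decide +kernel)

end Cfsg.Agent.L0.ONP3
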