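import Cfsg.Agent.L0.PcCert
import Cfsg.Agent.L0.Dw
import Cfsg.Agent.L0.ON.Chn

/-! Generated certificate: the `7`-part of a Schur multiplier. -/

set_option autoImplicit false
set_option maxRecDepth 100000

namespace Cfsg.Agent.L0.ONP7

noncomputable def W : List (List ℕ) := [
  dw (nat_lit 3) (nat_lit 7) (nat_lit 41) (nat_lit 0x5119c9842f95c15a70568c0e38e00eb),
  dw (nat_lit 3) (nat_lit 7) (nat_lit 43) (nat_lit 0xa1aa282e9dc76209c17b11028b3abfec),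
  dw (nat_lit 3) (nat_lit 7) (nat_lit 39) (nat_lit 0x8629c15c7eaec43531138c065e1b9),
  dw (nat_lit 3) (nat_lit 7) (nat_lit 52) (nat_lit 0x8160e84e0ad1803b2fc8aec447565c729ec4c18)]

noncomputable def P : PcP := ⟨nat_lit 7, nat_lit 3, nat_lit 2, nat_lit 0x1008001c00, nat_lit 9, nat_lit 511, nat_lit 14, nat_lit 16383, nat_lit 7, nat_lit 9, nat_lit 8, nat_lit 8⟩

noncomputable def fu : Fus := ⟨[nat_lit 64, nat_lit 8, nat_lit 1],
  [nat_lit 388, nat_lit 53, nat_lit 1],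
  [nat_lit 3, nat_lit 3, nat_lit 3]⟩

noncomputable def lam : List ℕ := [nat_lit 0x0,
  nat_lit 0x0,
  nat_lit 0x18000]

noncomputable def bs : List ℕ := []

noncomputable def mo : List ℕ := []

noncomputable def cv0 : List ℕ := [nat_lit 0x1800000000000000000,
  nat_lit 0x140000000000,
  nat_lit 0x500000000000000,
  nat_lit 0x1000000000000000005,
  nat_lit 0x1400000000050000000]

noncomputable def cc0 : List Con := [
  ⟨nat_lit 1, nat_lit 0, nat_lit 0, [nat_lit 8], [], nthN cv0 (nat_lit 0)⟩,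
  ⟨nat_lit 2, nat_lit 3, nat_lit 0, [nat_lit 2, nat_lit 0], [nat_lit 0, nat_lit 2], nthN cv0 (nat_lit 1)⟩,
  ⟨nat_lit 2, nat_lit 3, nat_lit 0, [nat_lit 2, nat_lit 1], [nat_lit 1, nat_lit 2], nthN cv0 (nat_lit 2)⟩,
  ⟨nat_lit 2, nat_lit 3, nat_lit 0, [nat_lit 0, nat_lit 0, nat_lit 0, nat_lit 0, nat_lit 0, nat_lit 0, nat_lit 0], [], nthN cv0 (nat_lit 3)⟩,
  ⟨nat_lit 2, nat_lit 3, nat_lit 0, [nat_lit 1, nat_lit 1, nat_lit 1, nat_lit 1, nat_lit 1, nat_lit 1, nat_lit 1], [], nthN cv0 (nat_lit 4)⟩]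

theorem con0 : allL cc0 (P.conOk fu) = true := by decide +kernel

noncomputable def CV : List (List ℕ) := [cv0]

noncomputable def MU : List (List ℕ) := [[nat_lit 0x55e],
  [nat_lit 0,
  nat_lit 0x258a],
  [nat_lit 0x1c,
  nat_lit 0xc4,
  nat_lit 0x1]]

noncomputable def lv : List (List (List ℕ) × ℕ × List (ℕ × List ℕ)) := [
  ([[nat_lit 1], [nat_lit 2]], nat_lit 2635, [(nat_lit 2635, []), (nat_lit 3232, [nat_lit 1, nat_lit 0, nat_lit 0]), (nat_lit 3403, [nat_lit 1, nat_lit 1, nat_lit 1, nat_lit 1]), (nat_lit 5823, [nat_lit 1, nat_lit 1, nat_lit 1, nat_lit 0]), (nat_lit 8542, [nat_lit 1, nat_lit 0, nat_lit 0, nat_lit 0, nat_lit 0, nat_lit 0]), (nat_lit 9318, [nat_lit 1, nat_lit 1, nat_lit 0, nat_lit 0, nat_lit 0, nat_lit 0, nat_lit 0, nat_lit 0]), (nat_lit 9529, [nat_lit 1, nat_lit 1, nat_lit 1, nat_lit 0, nat_lit 0, nat_lit 0, nat_lit 0, nat_lit 0]), (nat_lit 15355, [nat_lit 1, nat_lit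 1, nat_lit 1, nat_lit 1, nat_lit 0, nat_lit 0, nat_lit 0, nat_lit 0, nat_lit 0, nat_lit 0]), (nat_lit 18940, [nat_lit 1, nat_lit 0, nat_lit 0, nat_lit 0]), (nat_lit 22661, [nat_lit 1, nat_lit 1, nat_lit 1, nat_lit 0, nat_lit 0, nat_lit 0]), (nat_lit 25604, [nat_lit 1, nat_lit 1, nat_lit 1, nat_lit 0, nat_lit 0]), (nat_lit 37342, [nat_lit 1, nat_lit 0, nat_lit 0, nat_lit 0, nat_lit 0]), (nat_lit 39078, [nat_lit 0, nat_lit 0, nat_lit 0, nat_lit 0]), (nat_lit 39682, [nat_lit 0, nat_lit 0]), (nat_lit 40306, [nat_lit 0, nat_lit 0, nat_lit 0, nat_lit 0, nat_lit 0, nat_lit 0]), (nat_lit 41015, [nat_lit 1, nat_lit 1, nat_lit 0, nat_lit 0, nat_lit 0, nat_lit 0, nat_lit 0]), (nat_lit 41558, [nat_lit 1, nat_lit 1, nat_lit 1, nat_lit 1, nat_lit 1, nat_lit 1, nat_lit 0, nat_lit 0]), (nat_lit 42779, [nat_lit 1, nat_lit 1, nat_lit 1, nat_lit 1, nat_lit 1, nat_lit 1]), (nat_lit 44933, [nat_lit 1, nat_lit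 0, nat_lit 0, nat_lit 0, nat_lit 0, nat_lit 0, nat_lit 0]), (nat_lit 47587, [nat_lit 1, nat_lit 1, nat_lit 1, nat_lit 1, nat_lit 1, nat_lit 0, nat_lit 0, nat_lit 0, nat_lit 0, nat_lit 0, nat_lit 0]), (nat_lit 52392, [nat_lit 1, nat_lit 1, nat_lit 1, nat_lit 1, nat_lit 1, nat_lit 1, nat_lit 0]), (nat_lit 52411, [nat_lit 1, nat_lit 1, nat_lit 1, nat_lit 1, nat_lit 0, nat_lit 0, nat_lit 0]), (nat_lit 54074, [nat_lit 1, nat_lit 1, nat_lit 1, nat_lit 1, nat_lit 1]), (nat_lit 56604, [nat_lit 1, nat_lit 1, nat_lit 0, nat_lit 0, nat_lit 0]), (nat_lit 57163, [nat_lit 1, nat_lit 1, nat_lit 1, nat_lit 1, nat_lit 1, nat_lit 0, nat_lit 0, nat_lit 0, nat_lit 0, nat_lit 0]), (nat_lit 59417, [nat_lit 1, nat_lit 1, nat_lit 0, nat_lit 0, nat_lit 0, nat_lit 0]), (nat_lit 60128, [nat_lit 1, nat_lit 1, nat_lit 1, nat_lit 0, nat_lit 0, nat_lit 0, nat_lit 0]), (nat_lit 65229, [nat_lit 1]), (nat_lit 65316,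 [nat_lit 1, nat_lit 1, nat_lit 1, nat_lit 1, nat_lit 1, nat_lit 0]), (nat_lit 70920, [nat_lit 1, nat_lit 1, nat_lit 1, nat_lit 1, nat_lit 1, nat_lit 1, nat_lit 0, nat_lit 0, nat_lit 0, nat_lit 0]), (nat_lit 74342, [nat_lit 1, nat_lit 1, nat_lit 1, nat_lit 1, nat_lit 1, nat_lit 1, nat_lit 0, nat_lit 0, nat_lit 0, nat_lit 0, nat_lit 0, nat_lit 0]), (nat_lit 76003, [nat_lit 1, nat_lit 1, nat_lit 1, nat_lit 0, nat_lit 0, nat_lit 0, nat_lit 0, nat_lit 0, nat_lit 0]), (nat_lit 79965, [nat_lit 1, nat_lit 1, nat_lit 1, nat_lit 1, nat_lit 0, nat_lit 0, nat_lit 0, nat_lit 0, nat_lit 0]), (nat_lit 83081, [nat_lit 1, nat_lit 1, nat_lit 1]), (nat_lit 87192, [nat_lit 0, nat_lit 0, nat_lit 0, nat_lit 0, nat_lit 0]), (nat_lit 87846, [nat_lit 0]), (nat_lit 92830, [nat_lit 1, nat_lit 1, nat_lit 1, nat_lit 1, nat_lit 0]), (nat_lit 95087, [nat_lit 1, nat_lit 1, nat_lit 1, nat_lit 1, nat_lit 1, nat_lit 1,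 nat_lit 0, nat_lit 0, nat_lit 0, nat_lit 0, nat_lit 0]), (nat_lit 101383, [nat_lit 1, nat_lit 1]), (nat_lit 102510, [nat_lit 1, nat_lit 1, nat_lit 0]), (nat_lit 106724, [nat_lit 1, nat_lit 1, nat_lit 1, nat_lit 1, nat_lit 1, nat_lit 1, nat_lit 0, nat_lit 0, nat_lit 0]), (nat_lit 107059, [nat_lit 1, nat_lit 1, nat_lit 0, nat_lit 0]), (nat_lit 108347, [nat_lit 1, nat_lit 0]), (nat_lit 109472, [nat_lit 0, nat_lit 0, nat_lit 0]), (nat_lit 111049, [nat_lit 1, nat_lit 1, nat_lit 1, nat_lit 1, nat_lit 0, nat_lit 0, nat_lit 0, nat_lit 0]), (nat_lit 112886, [nat_lit 1, nat_lit 1, nat_lit 1, nat_lit 1, nat_lit 0, nat_lit 0]), (nat_lit 116181, [nat_lit 1, nat_lit 1, nat_lit 1, nat_lit 1, nat_lit 1, nat_lit 0, nat_lit 0, nat_lit 0]), (nat_lit 119174, [nat_lit 1, nat_lit 1, nat_lit 1, nat_lit 1, nat_lit 1, nat_lit 0, nat_lit 0]), (nat_lit 121175, [nat_lit 1, nat_lit 1, nat_lit 1, nat_lit 1, nat_lit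 1, nat_lit 0, nat_lit 0, nat_lit 0, nat_lit 0])]),
  ([[nat_lit 0]], nat_lit 0, [(nat_lit 0, []), (nat_lit 2761, [nat_lit 0, nat_lit 0, nat_lit 0]), (nat_lit 32051, [nat_lit 0, nat_lit 0, nat_lit 0, nat_lit 0]), (nat_lit 54924, [nat_lit 0]), (nat_lit 56078, [nat_lit 0, nat_lit 0, nat_lit 0, nat_lit 0, nat_lit 0]), (nat_lit 59852, [nat_lit 0, nat_lit 0]), (nat_lit 67729, [nat_lit 0, nat_lit 0, nat_lit 0, nat_lit 0, nat_lit 0, nat_lit 0])])]

theorem rel0 : P.relRow (dT ONG.T W) ONChn.B 0 = true := by decide +kernel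
theorem rel1 : P.relRow (dT ONG.T W) ONChn.B 1 = true := by decide +kernel
theorem rel2 : P.relRow (dT ONG.T W) ONChn.B 2 = true := by decide +kernel
theorem fus0 : P.fusOk (dT ONG.T W) ONChn.B fu 0 = true := by decide +kernel
theorem fus1 : P.fusOk (dT ONG.T W) ONChn.B fu 1 = true := by decide +kernel
theorem fus2 : P.fusOk (dT ONG.T W) ONChn.B fu 2 = true := by decide +kernel
theorem fin0 : P.finRow lam (bs :: CV) MU 0 = true := by decide +kernel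
theorem fin1 : P.finRow lam (bs :: CV) MU 1 = true := by decide +kernel
theorem fin2 : P.finRow lam (bs :: CV) MU 2 = true := by decide +kernel

theorem pm {G : Type*} [Group G] [Finite G] {A : RAct G 122760} {g : ℕ → G} (hb : A.IsBase ONChn.B)
    (h : A.Tab g 8 ONG.T) (ho : Nat.card G = 460815505920) : PMult G 7 0 0 :=
  pmult_of_tab hb h ho P (show Nat.Prime 7 by norm_num) W fu 0 lam bs mo [cc0] CV MU lv 3
    (by decide +kernel) (forall_lt_succ' (forall_lt_succ' (forall_lt_succ' forall_lt_zero' rel0) rel1) rel2) (by decide +kernel)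
    (forall_lt_succ' (forall_lt_succ' (forall_lt_succ' forall_lt_zero' fus0) fus1) fus2)
    (by decide +kernel) (by decide +kernel) (by decide +kernel) (by decide +kernel)
    (List.forall_mem_cons.mpr ⟨con0, (by simp)⟩)
    (forall_lt_succ' (forall_lt_succ' (forall_lt_succ' forall_lt_zero' fin0) fin1) fin2) (by decide +kernel)

end Cfsg.Agent.L0.ONP7
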