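import Cfsg.Agent.L0.PcCert
import Cfsg.Agent.L0.Dw
import Cfsg.Agent.H9.OutRuD

/-! Generated certificate: the `3`-part of a Schur multiplier. -/

set_option autoImplicit false
set_option maxRecDepth 100000

namespace Cfsg.Agent.L0.RuP3

noncomputable def W : List (List ℕ) := [
  dw (nat_lit 6) (nat_lit 63) (nat_lit 10) (nat_lit 0x3dd88820d35044e),
  dw (nat_lit 6) (nat_lit 63) (nat_lit 11) (nat_lit 0x27085e045140c390),
  dw (nat_lit 6) (nat_lit 63) (nat_lit 7) (nat_lit 0xd81e04040b),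
  dw (nat_lit 6) (nat_lit 63) (nat_lit 10) (nat_lit 0x35086478d38d2d1)]

noncomputable def P : PcP := ⟨nat_lit 3, nat_lit 2, nat_lit 2, nat_lit 0x1040180, nat_lit 6, nat_lit 63, nat_lit 9, nat_lit 511, nat_lit 3, nat_lit 9, nat_lit 4, nat_lit 5⟩

noncomputable def fu : Fus := ⟨[nat_lit 16, nat_lit 4, nat_lit 1],
  [nat_lit 33, nat_lit 9, nat_lit 1],
  [nat_lit 3, nat_lit 3, nat_lit 3]⟩

noncomputable def lam : List ℕ := [nat_lit 0x0,
  nat_lit 0x0,
  nat_lit 0x400]

noncomputable def bs : List ℕ := []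

noncomputable def mo : List ℕ := []

noncomputable def cv0 : List ℕ := [nat_lit 0x400000000000,
  nat_lit 0x8000000,
  nat_lit 0x1000000000,
  nat_lit 0x200000000001,
  nat_lit 0x200000040000]

noncomputable def cc0 : List Con := [
  ⟨nat_lit 1, nat_lit 0, nat_lit 0, [nat_lit 4], [], nthN cv0 (nat_lit 0)⟩,
  ⟨nat_lit 2, nat_lit 3, nat_lit 0, [nat_lit 2, nat_lit 0], [nat_lit 0, nat_lit 2], nthN cv0 (nat_lit 1)⟩,
  ⟨nat_lit 2, nat_lit 3, nat_lit 0, [nat_lit 2, nat_lit 1], [nat_lit 1, nat_lit 2], nthN cv0 (nat_lit 2)⟩,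
  ⟨nat_lit 2, nat_lit 3, nat_lit 0, [nat_lit 0, nat_lit 0, nat_lit 0], [], nthN cv0 (nat_lit 3)⟩,
  ⟨nat_lit 2, nat_lit 3, nat_lit 0, [nat_lit 1, nat_lit 1, nat_lit 1], [], nthN cv0 (nat_lit 4)⟩]

theorem con0 : allL cc0 (P.conOk fu) = true := by decide +kernel

noncomputable def CV : List (List ℕ) := [cv0]

noncomputable def MU : List (List ℕ) := [[nat_lit 0x38],
  [nat_lit 0,
  nat_lit 0xa4],
  [nat_lit 0x6,
  nat_lit 0x12,
  nat_lit 0x1]]

noncomputable def lv : List (List (List ℕ) × ℕ × List (ℕ × List ℕ)) := [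
  ([[nat_lit 1], [nat_lit 2]], nat_lit 10, [(nat_lit 10, []), (nat_lit 74, [nat_lit 1, nat_lit 1, nat_lit 0, nat_lit 0]), (nat_lit 860, [nat_lit 0]), (nat_lit 1550, [nat_lit 1, nat_lit 1]), (nat_lit 2876, [nat_lit 0, nat_lit 0]), (nat_lit 3142, [nat_lit 1]), (nat_lit 3190, [nat_lit 1, nat_lit 1, nat_lit 0]), (nat_lit 3507, [nat_lit 1, nat_lit 0, nat_lit 0]), (nat_lit 3713, [nat_lit 1, nat_lit 0])]),
  ([[nat_lit 0]], nat_lit 0, [(nat_lit 0, []), (nat_lit 1997, [nat_lit 0]), (nat_lit 2847, [nat_lit 0, nat_lit 0])])]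

theorem rel0 : P.relRow (dT H9.OutRu.T W) H9.OutRu.B 0 = true := by decide +kernel
theorem rel1 : P.relRow (dT H9.OutRu.T W) H9.OutRu.B 1 = true := by decide +kernel
theorem rel2 : P.relRow (dT H9.OutRu.T W) H9.OutRu.B 2 = true := by decide +kernel
theorem fus0 : P.fusOk (dT H9.OutRu.T W) H9.OutRu.B fu 0 = true := by decide +kernel
theorem fus1 : P.fusOk (dT H9.OutRu.T W) H9.OutRu.B fu 1 = true := by decide +kernel
theorem fus2 : P.fusOk (dT H9.OutRu.T W) H9.OutRu.B fu 2 = true := by decide +kernel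
theorem fin0 : P.finRow lam (bs :: CV) MU 0 = true := by decide +kernel
theorem fin1 : P.finRow lam (bs :: CV) MU 1 = true := by decide +kernel
theorem fin2 : P.finRow lam (bs :: CV) MU 2 = true := by decide +kernel

theorem pm {G : Type*} [Group G] [Finite G] {A : RAct G 4060} {g : ℕ → G} (hb : A.IsBase H9.OutRu.B)
    (h : A.Tab g 37 H9.OutRu.T) (ho : Nat.card G = 145926144000) : PMult G 3 0 0 :=
  pmult_of_tab hb h ho P (show Nat.Prime 3 by norm_num) W fu 0 lam bs mo [cc0] CV MU lv 3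
    (by decide +kernel) (forall_lt_succ' (forall_lt_succ' (forall_lt_succ' forall_lt_zero' rel0) rel1) rel2) (by decide +kernel)
    (forall_lt_succ' (forall_lt_succ' (forall_lt_succ' forall_lt_zero' fus0) fus1) fus2)
    (by decide +kernel) (by decide +kernel) (by decide +kernel) (by decide +kernel)
    (List.forall_mem_cons.mpr ⟨con0, (by simp)⟩)
    (forall_lt_succ' (forall_lt_succ' (forall_lt_succ' forall_lt_zero' fin0) fin1) fin2) (by decide +kernel)

end Cfsg.Agent.L0.RuP3
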