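import Cfsg.Agent.L0.PcCert
import Cfsg.Agent.L0.Dw
import Cfsg.Agent.H9.OutSuz

/-! Generated certificate: the `3`-part of a Schur multiplier. -/

set_option autoImplicit false
set_option maxRecDepth 100000

namespace Cfsg.Agent.L0.SuzP3

noncomputable def W : List (List ℕ) := [
  dw (nat_lit 6) (nat_lit 63) (nat_lit 10) (nat_lit 0x5024860186565d9),
  dw (nat_lit 6) (nat_lit 63) (nat_lit 9) (nat_lit 0x2062080d6555d6),
  dw (nat_lit 6) (nat_lit 63) (nat_lit 7) (nat_lit 0x18118604618),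
  dw (nat_lit 6) (nat_lit 63) (nat_lit 11) (nat_lit 0x161f758216658558),
  dw (nat_lit 6) (nat_lit 63) (nat_lit 11) (nat_lit 0x192a6e2516458616),
  dw (nat_lit 6) (nat_lit 63) (nat_lit 6) (nat_lit 0x84c11f659),
  dw (nat_lit 6) (nat_lit 63) (nat_lit 10) (nat_lit 0x24a50444556657),
  dw (nat_lit 6) (nat_lit 63) (nat_lit 11) (nat_lit 0xd40f407215555655),
  dw (nat_lit 6) (nat_lit 63) (nat_lit 11) (nat_lit 0xa1cd742496495657),
  dw (nat_lit 6) (nat_lit 63) (nat_lit 11) (nat_lit 0x2794b07195658619)]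

noncomputable def P : PcP := ⟨nat_lit 3, nat_lit 2, nat_lit 6, nat_lit 0x10004001000400100040000010004001000400100000040010004801600000400128041000018104500001018000, nat_lit 14, nat_lit 16383, nat_lit 15, nat_lit 32767, nat_lit 9, nat_lit 49, nat_lit 8, nat_lit 8⟩

noncomputable def fu : Fus := ⟨[nat_lit 4096, nat_lit 1024, nat_lit 256, nat_lit 64, nat_lit 16, nat_lit 4, nat_lit 1, nat_lit 4096, nat_lit 1024, nat_lit 256, nat_lit 64, nat_lit 16, nat_lit 4, nat_lit 1, nat_lit 4096, nat_lit 1024, nat_lit 256, nat_lit 64, nat_lit 16, nat_lit 4, nat_lit 1],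
  [nat_lit 8201, nat_lit 2054, nat_lit 290, nat_lit 138, nat_lit 33, nat_lit 4, nat_lit 1, nat_lit 2065, nat_lit 4230, nat_lit 678, nat_lit 25, nat_lit 137, nat_lit 8, nat_lit 1, nat_lit 9348, nat_lit 4260, nat_lit 648, nat_lit 17, nat_lit 84, nat_lit 1, nat_lit 8],
  [nat_lit 7, nat_lit 7, nat_lit 7, nat_lit 7, nat_lit 7, nat_lit 7, nat_lit 7, nat_lit 8, nat_lit 8, nat_lit 8, nat_lit 8, nat_lit 8, nat_lit 8, nat_lit 8, nat_lit 9, nat_lit 9, nat_lit 9, nat_lit 9, nat_lit 9, nat_lit 9, nat_lit 9]⟩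

noncomputable def lam : List ℕ := [nat_lit 0x70000000000000000000001c0040008000000000000007001000000000000000000000000000000000000000000000000000038008,
  nat_lit 0x380000000000000000000000001c0000000000000000000007000000000000000000000000000000000000000000000000000200040000,
  nat_lit 0x38000000000000000000000000000000000000000200040000000e001c0000000000000200000007000000200040000000000000000007000000000040008000e00000038000,
  nat_lit 0x100000005000000000000000,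
  nat_lit 0x80000000000200000040000,
  nat_lit 0x1c0000000000000000008000,
  nat_lit 0x40000000000000000000000]

noncomputable def bs : List ℕ := [nat_lit 0x40000000000000000000000000000000040000]

noncomputable def mo : List ℕ := [nat_lit 0x29c39d02a4c9e6129fb6a]

noncomputable def cv0 : List ℕ := [nat_lit 0x600000000000000000000000000000000000000000000000000000000,
  nat_lit 0x18000000000000000000000000000000000000000000000000000000000000000000000000000000,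
  nat_lit 0x3000000000000000000000000000000000000000000000000000000000000,
  nat_lit 0xc0000000000000000000000000000000000000000000000000000000000000000000000000000000000,
  nat_lit 0x3000000000000000000000000000000,
  nat_lit 0x3000000000000000000000000000000000000000000000,
  nat_lit 0x18000000000000000000000000000000000000000000000000000000000000000,
  nat_lit 0x600000000000000000000000000000000000000000000000000000000000000000000000000000000000000,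
  nat_lit 0x18000000000000000000000000000000000000000000000000,
  nat_lit 0xc0000000000000000000000000000000000000000000000000000000000000000000,
  nat_lit 0x3000000000000000000000000000000000000000000000000000000000000000000000000000000000000000000,
  nat_lit 0x600000000000000000000000000000000000000000000000000000000000000000000000,
  nat_lit 0x18000000000000000000000000000000000000000000000000000000000000000000000000000000000000000000000,
  nat_lit 0xc0000000000000000000000000000000000000000000000000000000000000000000000000000000000000000000000000,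
  nat_lit 0x40000000000000000000000000000000000000000000000000000000000000000000000000000000000000000000000000,
  nat_lit 0x1000000000000000000000000000000000000000000000000000000000000000000000000,
  nat_lit 0x2000000000000000000000180000000000000000000000000000000000000000000000000000000c0000000000000000000000,
  nat_lit 0x200040000000000000000000000000000000000000000000000000000000000000000000000000000000000000000000000,
  nat_lit 0x7000000000000000000000000000000000000000000000000000000000000000000000000000000000000000000,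
  nat_lit 0x4000000000000000000c0000000000000000000000000000000000000000600000000000000000000000000000000000000000,
  nat_lit 0x400000000000000000000000000001c0000000000000000000000000000000000000000000000000000000000000000000,
  nat_lit 0x200040000001000000000000000000040000000000000000008000000000000000000000000000000000000000000000000,
  nat_lit 0x8000c00000030000000000200000006000000000000000000000000000000000c00000000000,
  nat_lit 0xe00180000000000000180000008000000000000006000000000000000000000000000000000000000000000000000000030000,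
  nat_lit 0x1c0038000000e00000000000000000000040000000000000000000000000000000000000000000000000000000000000000,
  nat_lit 0xe00180030000000000000000008000c00000000000000000000000000000000180000000000000000000000000000000000000,
  nat_lit 0x8005000e00000000000000000000000000000000000038000000000000000000000000000000000000000000000000,
  nat_lit 0x1000000000003000c00000000000000000000000000000000000000000000000000038006000000000000006000000000000000,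
  nat_lit 0x2000000200010000000000040000000000400000000000000000000000000000000000000000000000000000000,
  nat_lit 0x4001800000000000000c0000002000000000000003000000000000000000000000000000000600000000000000000000000000,
  nat_lit 0x2000100000000001c0010000000200000000008000000000000000000000000000000000000000000000000000000000000,
  nat_lit 0x4001000100000000000000100020008000000000000002000400000000000000c0000000000000000000000000600000000000,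
  nat_lit 0x600100000002000000040000002000000080000001000000000000000000000000010000000600000000003000000000000000,
  nat_lit 0x80008002000400000008000000200100008008000000000010000001000000000000000000080000000000000000000000,
  nat_lit 0x18000000000000000000000000000000000000000000000000000000000000000000000000000000000000000000000000000000000000000000000000000,
  nat_lit 0xc0000000000000000000000000000000000000000000000000000000000000000000000000000000000000000000000000000000000000000000000000000000,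
  nat_lit 0x3000000000000000000200000030000000000000000000000000000000000000000040000000000000000000000000000000000000000000000000000,
  nat_lit 0x38000000200000000000000000000000000000000000000001000000000000000000000000000000000000000000000,
  nat_lit 0xc0000000000400000030000000600000000000000000000000000000000080000003000000000000000000000000000000000000000000000,
  nat_lit 0x180000004000c0000000000000180000001000000000000006000000000000000000000000000000000000000000000000000040000000]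

noncomputable def cc0 : List Con := [
  ⟨nat_lit 1, nat_lit 0, nat_lit 0, [nat_lit 4], [], nthN cv0 (nat_lit 0)⟩,
  ⟨nat_lit 1, nat_lit 0, nat_lit 0, [nat_lit 1], [], nthN cv0 (nat_lit 1)⟩,
  ⟨nat_lit 1, nat_lit 1, nat_lit 1, [nat_lit 4], [], nthN cv0 (nat_lit 2)⟩,
  ⟨nat_lit 1, nat_lit 1, nat_lit 1, [nat_lit 1], [], nthN cv0 (nat_lit 3)⟩,
  ⟨nat_lit 1, nat_lit 2, nat_lit 2, [nat_lit 64], [], nthN cv0 (nat_lit 4)⟩,
  ⟨nat_lit 1, nat_lit 2, nat_lit 2, [nat_lit 16], [], nthN cv0 (nat_lit 5)⟩,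
  ⟨nat_lit 1, nat_lit 2, nat_lit 2, [nat_lit 4], [], nthN cv0 (nat_lit 6)⟩,
  ⟨nat_lit 1, nat_lit 2, nat_lit 2, [nat_lit 1], [], nthN cv0 (nat_lit 7)⟩,
  ⟨nat_lit 1, nat_lit 3, nat_lit 3, [nat_lit 16], [], nthN cv0 (nat_lit 8)⟩,
  ⟨nat_lit 1, nat_lit 3, nat_lit 3, [nat_lit 4], [], nthN cv0 (nat_lit 9)⟩,
  ⟨nat_lit 1, nat_lit 3, nat_lit 3, [nat_lit 1], [], nthN cv0 (nat_lit 10)⟩,
  ⟨nat_lit 1, nat_lit 4, nat_lit 4, [nat_lit 4], [], nthN cv0 (nat_lit 11)⟩,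
  ⟨nat_lit 1, nat_lit 4, nat_lit 4, [nat_lit 1], [], nthN cv0 (nat_lit 12)⟩,
  ⟨nat_lit 1, nat_lit 5, nat_lit 5, [nat_lit 1], [], nthN cv0 (nat_lit 13)⟩,
  ⟨nat_lit 0, nat_lit 0, nat_lit 3, [nat_lit 4], [], nthN cv0 (nat_lit 14)⟩,
  ⟨nat_lit 0, nat_lit 0, nat_lit 2, [nat_lit 4], [], nthN cv0 (nat_lit 15)⟩,
  ⟨nat_lit 1, nat_lit 0, nat_lit 0, [nat_lit 64], [], nthN cv0 (nat_lit 16)⟩,
  ⟨nat_lit 0, nat_lit 0, nat_lit 2, [nat_lit 1], [], nthN cv0 (nat_lit 17)⟩,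
  ⟨nat_lit 0, nat_lit 1, nat_lit 2, [nat_lit 1], [], nthN cv0 (nat_lit 18)⟩,
  ⟨nat_lit 1, nat_lit 1, nat_lit 1, [nat_lit 16], [], nthN cv0 (nat_lit 19)⟩,
  ⟨nat_lit 0, nat_lit 1, nat_lit 2, [nat_lit 4], [], nthN cv0 (nat_lit 20)⟩,
  ⟨nat_lit 0, nat_lit 0, nat_lit 2, [nat_lit 64], [], nthN cv0 (nat_lit 21)⟩,
  ⟨nat_lit 0, nat_lit 0, nat_lit 2, [nat_lit 256, nat_lit 256], [], nthN cv0 (nat_lit 22)⟩,
  ⟨nat_lit 0, nat_lit 0, nat_lit 1, [nat_lit 1024, nat_lit 1024], [], nthN cv0 (nat_lit 23)⟩,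
  ⟨nat_lit 0, nat_lit 0, nat_lit 2, [nat_lit 16], [], nthN cv0 (nat_lit 24)⟩,
  ⟨nat_lit 0, nat_lit 0, nat_lit 4, [nat_lit 16, nat_lit 16], [], nthN cv0 (nat_lit 25)⟩,
  ⟨nat_lit 0, nat_lit 1, nat_lit 2, [nat_lit 16], [], nthN cv0 (nat_lit 26)⟩,
  ⟨nat_lit 0, nat_lit 1, nat_lit 2, [nat_lit 256, nat_lit 256], [], nthN cv0 (nat_lit 27)⟩,
  ⟨nat_lit 0, nat_lit 0, nat_lit 1, [nat_lit 64], [], nthN cv0 (nat_lit 28)⟩,
  ⟨nat_lit 1, nat_lit 1, nat_lit 1, [nat_lit 64], [], nthN cv0 (nat_lit 29)⟩,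
  ⟨nat_lit 0, nat_lit 0, nat_lit 1, [nat_lit 16], [], nthN cv0 (nat_lit 30)⟩,
  ⟨nat_lit 1, nat_lit 0, nat_lit 0, [nat_lit 256], [], nthN cv0 (nat_lit 31)⟩,
  ⟨nat_lit 1, nat_lit 1, nat_lit 1, [nat_lit 256], [], nthN cv0 (nat_lit 32)⟩,
  ⟨nat_lit 0, nat_lit 0, nat_lit 1, [nat_lit 256], [], nthN cv0 (nat_lit 33)⟩,
  ⟨nat_lit 2, nat_lit 7, nat_lit 0, [nat_lit 5, nat_lit 5, nat_lit 5], [], nthN cv0 (nat_lit 34)⟩,
  ⟨nat_lit 2, nat_lit 7, nat_lit 0, [nat_lit 6, nat_lit 6, nat_lit 6], [], nthN cv0 (nat_lit 35)⟩,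
  ⟨nat_lit 2, nat_lit 7, nat_lit 0, [nat_lit 4, nat_lit 4, nat_lit 4], [], nthN cv0 (nat_lit 36)⟩,
  ⟨nat_lit 2, nat_lit 7, nat_lit 0, [nat_lit 4, nat_lit 2], [nat_lit 2, nat_lit 4], nthN cv0 (nat_lit 37)⟩,
  ⟨nat_lit 2, nat_lit 7, nat_lit 0, [nat_lit 2, nat_lit 2, nat_lit 2], [], nthN cv0 (nat_lit 38)⟩,
  ⟨nat_lit 2, nat_lit 7, nat_lit 0, [nat_lit 1, nat_lit 1, nat_lit 1], [], nthN cv0 (nat_lit 39)⟩]

theorem con0 : allL cc0 (P.conOk fu) = true := by decide +kernel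

noncomputable def cv1 : List ℕ := [nat_lit 0x3000200180000000000000000030002000000000000000000c00000000000000000000000000000000000000000000000000000001,
  nat_lit 0x600000000000000400180000006000000000000002000000180000000000000000000000000000000008000000000000000000000000000000000,
  nat_lit 0x1c00000000000000000000000004000000000000000000c0000000000e00000000000000000000000000000600000000000000000000000000000000000000000,
  nat_lit 0x140020005000400000000000000800000010000000000000028000000000000000001000000000000000000000000000000,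
  nat_lit 0x18000000000000000000000000000000000000000000000000000000000000000000000000000000000000000000000000000000000000000000000000000000000000000000000000000000000,
  nat_lit 0x3000000000000000000000000000000000000000000000000000000000000000000000000001000000000000000000000000000000000000000000000000000000000000000000000000000,
  nat_lit 0xc0000000000000000000000000000000000000000200180018000000000000000002000600000000000000000040000000000000000040000000000000000000000000000000000,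
  nat_lit 0x600000000000000000000000000000000000000000000200180000006000000000000002000000180000000000000200000000000000000010000000000000000000000000000000000,
  nat_lit 0x600000000000000000000000000000a00000040000000000080000000000000000000000000000040000000000c00000000000000000000000000000000080000008,
  nat_lit 0x40000000000000000000000000000000000000000000000000000200180008000000000040000000000400000000004000000000000000000400000000000000000200000000000000000000000,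
  nat_lit 0x30000000000000000000000000000000006001800000050000000000100010000001800000000006000000000000000000000100000000000c0000000000000200000001,
  nat_lit 0x38007000000000000000000000000000000000000000000000000000000038000000000000008008001000000000000000400000010000000000040000000001000000000000000000000000000,
  nat_lit 0x180000000000000000000000000000000000004000c0030006000c00000000001000c00180030000000000080030006000000000010006000000000008000000000000000000,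
  nat_lit 0x600000000000000000000000000000000000000000000000000000000000000000000000000200000000000000000000000008000000000000000000000000000000000000000000000000000000000000000000000000000,
  nat_lit 0x3000000000000000000000000000000000000000000000000000000000000000000000000000001000000000000000000000000002000000000000000000000000000000000000000000000000000000000000000000000000000,
  nat_lit 0x18000000000000000000000000000000000000000000000000000000000000000000200000018000000000000000000000000000000000000000040000000000000000040000000000000000000000000000000000,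
  nat_lit 0xc00000000000000000000000000000000000000000000000000000000000000000000000000000000000000000000000010006000c0000000000000000018000000000000008000000000000000000000000000000000,
  nat_lit 0x7000e00000000000000000000000000000000000000000000000000000000000000000000000000000000000000000000000008008000200080000000000000000010000000000040000000001000000000000000000000000000,
  nat_lit 0x3000000000000000000000000000000000000000000000000000000000000000000000000000000000000000002000000180030000000000000000000000000000010006000000000008000000000000000000,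
  nat_lit 0x70000000000000000000000000000000000000000000000000000000000000000000000000000002000400080000000000000000080006000c0000000000200000000000001000040000000000000040000000000000000000000,
  nat_lit 0x600000000000000000000000000000000000000000000000000000000000600100020001000000000000002000a001000000000004000800300000000000c00100000000000c0000000000000200000001,
  nat_lit 0x8000000000038000000000000000000000000000000000000000000000000000000000000000000000080018005000000000000000000600100040000000400000020006000000000000005000000080000008000400000000000,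
  nat_lit 0xc00000000000000000000000000000000000000000000000000000010002000000080000001c00180050000001c0000002000c00000000000000000000010000000600180000000000000040030001,
  nat_lit 0x7001000000000000000000000000000000000000000000000000000000000000000000000000000a00180028004000000000000001000000140000002000000000020000000400100000000000400080000000000000000038000]

noncomputable def cc1 : List Con := [
  ⟨nat_lit 2, nat_lit 7, nat_lit 0, [nat_lit 0, nat_lit 0, nat_lit 0], [], nthN cv1 (nat_lit 0)⟩,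
  ⟨nat_lit 2, nat_lit 7, nat_lit 0, [nat_lit 3, nat_lit 3, nat_lit 3], [], nthN cv1 (nat_lit 1)⟩,
  ⟨nat_lit 2, nat_lit 7, nat_lit 0, [nat_lit 4, nat_lit 1], [nat_lit 1, nat_lit 4, nat_lit 6, nat_lit 6], nthN cv1 (nat_lit 2)⟩,
  ⟨nat_lit 2, nat_lit 7, nat_lit 0, [nat_lit 3, nat_lit 2], [nat_lit 2, nat_lit 3], nthN cv1 (nat_lit 3)⟩,
  ⟨nat_lit 2, nat_lit 8, nat_lit 0, [nat_lit 13, nat_lit 13, nat_lit 13], [], nthN cv1 (nat_lit 4)⟩,
  ⟨nat_lit 2, nat_lit 8, nat_lit 0, [nat_lit 12, nat_lit 12, nat_lit 12], [], nthN cv1 (nat_lit 5)⟩,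
  ⟨nat_lit 2, nat_lit 8, nat_lit 0, [nat_lit 10, nat_lit 10, nat_lit 10], [], nthN cv1 (nat_lit 6)⟩,
  ⟨nat_lit 2, nat_lit 8, nat_lit 0, [nat_lit 11, nat_lit 11, nat_lit 11], [], nthN cv1 (nat_lit 7)⟩,
  ⟨nat_lit 2, nat_lit 8, nat_lit 0, [nat_lit 7, nat_lit 7, nat_lit 7], [], nthN cv1 (nat_lit 8)⟩,
  ⟨nat_lit 2, nat_lit 8, nat_lit 0, [nat_lit 10, nat_lit 7], [nat_lit 7, nat_lit 10, nat_lit 13], nthN cv1 (nat_lit 9)⟩,
  ⟨nat_lit 2, nat_lit 8, nat_lit 0, [nat_lit 8, nat_lit 8, nat_lit 8], [], nthN cv1 (nat_lit 10)⟩,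
  ⟨nat_lit 2, nat_lit 8, nat_lit 0, [nat_lit 10, nat_lit 8], [nat_lit 8, nat_lit 10, nat_lit 12, nat_lit 12, nat_lit 13, nat_lit 13], nthN cv1 (nat_lit 11)⟩,
  ⟨nat_lit 2, nat_lit 8, nat_lit 0, [nat_lit 9, nat_lit 9, nat_lit 9], [], nthN cv1 (nat_lit 12)⟩,
  ⟨nat_lit 2, nat_lit 9, nat_lit 0, [nat_lit 19, nat_lit 19, nat_lit 19], [], nthN cv1 (nat_lit 13)⟩,
  ⟨nat_lit 2, nat_lit 9, nat_lit 0, [nat_lit 20, nat_lit 20, nat_lit 20], [], nthN cv1 (nat_lit 14)⟩,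
  ⟨nat_lit 2, nat_lit 9, nat_lit 0, [nat_lit 17, nat_lit 17, nat_lit 17], [], nthN cv1 (nat_lit 15)⟩,
  ⟨nat_lit 2, nat_lit 9, nat_lit 0, [nat_lit 18, nat_lit 18, nat_lit 18], [], nthN cv1 (nat_lit 16)⟩,
  ⟨nat_lit 2, nat_lit 9, nat_lit 0, [nat_lit 17, nat_lit 15], [nat_lit 15, nat_lit 17, nat_lit 19, nat_lit 19, nat_lit 20, nat_lit 20], nthN cv1 (nat_lit 17)⟩,
  ⟨nat_lit 2, nat_lit 9, nat_lit 0, [nat_lit 16, nat_lit 16, nat_lit 16], [], nthN cv1 (nat_lit 18)⟩,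
  ⟨nat_lit 2, nat_lit 9, nat_lit 0, [nat_lit 18, nat_lit 15], [nat_lit 15, nat_lit 18, nat_lit 20, nat_lit 20], nthN cv1 (nat_lit 19)⟩,
  ⟨nat_lit 2, nat_lit 9, nat_lit 0, [nat_lit 15, nat_lit 15, nat_lit 15], [], nthN cv1 (nat_lit 20)⟩,
  ⟨nat_lit 2, nat_lit 9, nat_lit 0, [nat_lit 16, nat_lit 15], [nat_lit 15, nat_lit 16, nat_lit 17, nat_lit 17, nat_lit 20], nthN cv1 (nat_lit 21)⟩,
  ⟨nat_lit 2, nat_lit 9, nat_lit 0, [nat_lit 14, nat_lit 14, nat_lit 14], [], nthN cv1 (nat_lit 22)⟩,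
  ⟨nat_lit 2, nat_lit 9, nat_lit 0, [nat_lit 15, nat_lit 14], [nat_lit 14, nat_lit 15, nat_lit 19, nat_lit 20, nat_lit 20], nthN cv1 (nat_lit 23)⟩]

theorem con1 : allL cc1 (P.conOk fu) = true := by decide +kernel

noncomputable def CV : List (List ℕ) := [cv0, cv1]

noncomputable def MU : List (List ℕ) := [[nat_lit 0x7d19508090d15271bff42d68aaa5eab48],
  [nat_lit 0,
  nat_lit 0xde65ee164859c2170d5577671aa9aeae],
  [nat_lit 0,
  nat_lit 0,
  nat_lit 0x202248936bfd9903ce698cd9f8ca9a9877ff9e15ca2],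
  [nat_lit 0,
  nat_lit 0x24b000e367ee5cc5985cbf1533efc3e56368213b72571a411c2c,
  nat_lit 0x590f455461df143a96afaa019bc6dc098e78,
  nat_lit 0x42cb73ff49675756f7bdfa64443a204ce69c],
  [nat_lit 0x8,
  nat_lit 0x1603b947900ef4cd541f0f102f0b74870ec2720d5099837bd645,
  nat_lit 0xafb8cd54a29bf95d91fc31436f76cff,
  nat_lit 0x150b4aea27681b2147d43b9,
  nat_lit 0x41e54cffc3c6ba2823eaa84fe32369f],
  [nat_lit 0x1603b947900ef4cd541f0f101c628e843a8f17c9165e2d634d9c,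
  nat_lit 0x41e5582936c30b719b047f39416fe42,
  nat_lit 0xc100867746fa884487b825,
  nat_lit 0x1da87a9f7849c5b0b1,
  nat_lit 0x6954fe21e3e81,
  nat_lit 0x1243be5a7e7b52b44baaefe],
  [nat_lit 0x1603b947900ef4cd541f132e76d704bcddbec39493409f9d041d,
  nat_lit 0x1603b947900ef4cd541f174ccb5061632f4a1ea521ee21e2cc78,
  nat_lit 0x150b501ab465b92f3ab6189,
  nat_lit 0x5dbbf266889ff2bd,
  nat_lit 0x215f9884f5c3f8a,
  nat_lit 0x5da0e1e53c5c8,
  nat_lit 0x5a504153d8f39bd55deaf2352bb]]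

noncomputable def lv : List (List (List ℕ) × ℕ × List (ℕ × List ℕ)) := [
  ([[nat_lit 0], [nat_lit 1], [nat_lit 3], [nat_lit 4], [nat_lit 5], [nat_lit 6]], nat_lit 0, [(nat_lit 0, []), (nat_lit 3, [nat_lit 1, nat_lit 3, nat_lit 1]), (nat_lit 4, [nat_lit 1, nat_lit 3, nat_lit 2, nat_lit 2, nat_lit 1, nat_lit 0, nat_lit 0]), (nat_lit 6, [nat_lit 3, nat_lit 2, nat_lit 0, nat_lit 3, nat_lit 0, nat_lit 0]), (nat_lit 11, [nat_lit 0, nat_lit 2, nat_lit 0, nat_lit 3, nat_lit 2]), (nat_lit 12, [nat_lit 2, nat_lit 0]), (nat_lit 13, [nat_lit 4, nat_lit 1, nat_lit 3, nat_lit 1]), (nat_lit 14, [nat_lit 0, nat_lit 2, nat_lit 2]), (nat_lit 15, [nat_lit 3, nat_lit 3, nat_lit 2, nat_lit 2]), (nat_lit 16, [nat_lit 1, nat_lit 3, nat_lit 2]), (nat_lit 17, [nat_lit 0, nat_lit 2, nat_lit 0, nat_lit 3, nat_lit 2, nat_lit 0]), (nat_lit 19, [nat_lit 2, nat_lit 0, nat_lit 2, nat_lit 1, nat_lit 0]), (nat_lit 20,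 [nat_lit 5, nat_lit 4, nat_lit 3, nat_lit 3, nat_lit 2, nat_lit 2]), (nat_lit 22, [nat_lit 4, nat_lit 4, nat_lit 3, nat_lit 1]), (nat_lit 23, [nat_lit 3, nat_lit 2]), (nat_lit 29, [nat_lit 2, nat_lit 0, nat_lit 2, nat_lit 1]), (nat_lit 33, [nat_lit 4, nat_lit 3, nat_lit 1, nat_lit 2]), (nat_lit 36, [nat_lit 1, nat_lit 3, nat_lit 3, nat_lit 1, nat_lit 0, nat_lit 0]), (nat_lit 37, [nat_lit 1, nat_lit 3, nat_lit 3, nat_lit 2, nat_lit 1, nat_lit 0]), (nat_lit 38, [nat_lit 3, nat_lit 2, nat_lit 1, nat_lit 2, nat_lit 1]), (nat_lit 45, [nat_lit 1, nat_lit 2, nat_lit 1, nat_lit 3, nat_lit 2, nat_lit 0, nat_lit 0]), (nat_lit 50, [nat_lit 2, nat_lit 2, nat_lit 0, nat_lit 3, nat_lit 0, nat_lit 0]), (nat_lit 52, [nat_lit 3, nat_lit 2, nat_lit 2]), (nat_lit 53, [nat_lit 3, nat_lit 3, nat_lit 2, nat_lit 0, nat_lit 0]), (nat_lit 54, [nat_lit 5, nat_lit 3, nat_lit 2, nat_lit 0]), (nat_lit 56, [nat_lit 3,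 nat_lit 1, nat_lit 2, nat_lit 2, nat_lit 1, nat_lit 0]), (nat_lit 59, [nat_lit 1, nat_lit 1, nat_lit 3, nat_lit 2, nat_lit 2, nat_lit 0, nat_lit 0]), (nat_lit 60, [nat_lit 5, nat_lit 3, nat_lit 3]), (nat_lit 62, [nat_lit 5, nat_lit 4, nat_lit 3, nat_lit 3]), (nat_lit 63, [nat_lit 0, nat_lit 3, nat_lit 2, nat_lit 2, nat_lit 1, nat_lit 0]), (nat_lit 64, [nat_lit 1, nat_lit 2, nat_lit 2, nat_lit 1, nat_lit 1]), (nat_lit 67, [nat_lit 4, nat_lit 3, nat_lit 3, nat_lit 0, nat_lit 0]), (nat_lit 69, [nat_lit 2, nat_lit 1, nat_lit 3, nat_lit 1, nat_lit 0, nat_lit 0]), (nat_lit 70, [nat_lit 4, nat_lit 3, nat_lit 3, nat_lit 0]), (nat_lit 72, [nat_lit 2, nat_lit 0, nat_lit 3, nat_lit 2]), (nat_lit 74, [nat_lit 2, nat_lit 2, nat_lit 1, nat_lit 0, nat_lit 1]), (nat_lit 81, [nat_lit 5, nat_lit 5]), (nat_lit 82, [nat_lit 3, nat_lit 1, nat_lit 2]), (nat_lit 84, [nat_lit 5, nat_lit 1, nat_lit 3, nat_lit 0]),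 (nat_lit 87, [nat_lit 5, nat_lit 4, nat_lit 0]), (nat_lit 90, [nat_lit 3, nat_lit 0, nat_lit 3, nat_lit 1, nat_lit 0]), (nat_lit 95, [nat_lit 0, nat_lit 0, nat_lit 3, nat_lit 0]), (nat_lit 96, [nat_lit 5, nat_lit 5, nat_lit 3, nat_lit 3, nat_lit 2]), (nat_lit 97, [nat_lit 5, nat_lit 5, nat_lit 4, nat_lit 4, nat_lit 0, nat_lit 0]), (nat_lit 98, [nat_lit 5, nat_lit 3, nat_lit 3, nat_lit 2]), (nat_lit 102, [nat_lit 0, nat_lit 3, nat_lit 1]), (nat_lit 103, [nat_lit 1, nat_lit 3, nat_lit 0, nat_lit 0]), (nat_lit 105, [nat_lit 2, nat_lit 1, nat_lit 3, nat_lit 0]), (nat_lit 109, [nat_lit 3, nat_lit 2, nat_lit 1, nat_lit 2, nat_lit 0, nat_lit 0]), (nat_lit 110, [nat_lit 3, nat_lit 1, nat_lit 0, nat_lit 2]), (nat_lit 114, [nat_lit 5, nat_lit 3, nat_lit 0]), (nat_lit 115, [nat_lit 2, nat_lit 0, nat_lit 3, nat_lit 0, nat_lit 0]), (nat_lit 116, [nat_lit 2, nat_lit 0, nat_lit 0, nat_lit 3, nat_lit 2]),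 (nat_lit 122, [nat_lit 1, nat_lit 2, nat_lit 0]), (nat_lit 129, [nat_lit 4, nat_lit 4, nat_lit 2, nat_lit 2]), (nat_lit 130, [nat_lit 5, nat_lit 4, nat_lit 4, nat_lit 0]), (nat_lit 132, [nat_lit 3, nat_lit 3, nat_lit 1, nat_lit 1, nat_lit 2, nat_lit 0, nat_lit 0]), (nat_lit 135, [nat_lit 3, nat_lit 1, nat_lit 1, nat_lit 2]), (nat_lit 141, [nat_lit 3, nat_lit 3, nat_lit 0, nat_lit 1, nat_lit 1]), (nat_lit 142, [nat_lit 4, nat_lit 4, nat_lit 3, nat_lit 3, nat_lit 2, nat_lit 2]), (nat_lit 144, [nat_lit 3, nat_lit 3, nat_lit 0, nat_lit 2, nat_lit 1, nat_lit 0]), (nat_lit 145, [nat_lit 5, nat_lit 5, nat_lit 4, nat_lit 4]), (nat_lit 150, [nat_lit 3, nat_lit 2, nat_lit 1, nat_lit 1]), (nat_lit 151, [nat_lit 3, nat_lit 3, nat_lit 2, nat_lit 0, nat_lit 1]), (nat_lit 153, [nat_lit 1, nat_lit 2, nat_lit 2, nat_lit 0]), (nat_lit 154, [nat_lit 4, nat_lit 3, nat_lit 2, nat_lit 2]), (nat_lit 156, [nat_lit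 3, nat_lit 2, nat_lit 1, nat_lit 3, nat_lit 1, nat_lit 0]), (nat_lit 157, [nat_lit 5, nat_lit 5, nat_lit 1, nat_lit 1, nat_lit 0, nat_lit 0]), (nat_lit 158, [nat_lit 3, nat_lit 1, nat_lit 3, nat_lit 0, nat_lit 1]), (nat_lit 159, [nat_lit 0, nat_lit 3, nat_lit 2, nat_lit 2]), (nat_lit 160, [nat_lit 2, nat_lit 0, nat_lit 0, nat_lit 3, nat_lit 0]), (nat_lit 167, [nat_lit 5, nat_lit 5, nat_lit 1, nat_lit 1]), (nat_lit 174, [nat_lit 3, nat_lit 0, nat_lit 3, nat_lit 0, nat_lit 2]), (nat_lit 178, [nat_lit 4, nat_lit 4, nat_lit 1, nat_lit 0]), (nat_lit 182, [nat_lit 3, nat_lit 3, nat_lit 2]), (nat_lit 183, [nat_lit 1, nat_lit 3, nat_lit 2, nat_lit 2, nat_lit 0]), (nat_lit 184, [nat_lit 4, nat_lit 0, nat_lit 2, nat_lit 0]), (nat_lit 187, [nat_lit 3, nat_lit 3, nat_lit 1, nat_lit 2, nat_lit 2, nat_lit 1, nat_lit 0]), (nat_lit 190, [nat_lit 2, nat_lit 1, nat_lit 3, nat_lit 3, nat_lit 2, nat_lit 1,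 nat_lit 0, nat_lit 0]), (nat_lit 193, [nat_lit 1, nat_lit 0, nat_lit 2, nat_lit 0]), (nat_lit 197, [nat_lit 0, nat_lit 3, nat_lit 1, nat_lit 2, nat_lit 0]), (nat_lit 203, [nat_lit 3, nat_lit 2, nat_lit 2, nat_lit 0, nat_lit 1]), (nat_lit 209, [nat_lit 3, nat_lit 2, nat_lit 2, nat_lit 1, nat_lit 3]), (nat_lit 210, [nat_lit 5, nat_lit 5, nat_lit 3, nat_lit 2, nat_lit 2]), (nat_lit 211, [nat_lit 4, nat_lit 4, nat_lit 2, nat_lit 2, nat_lit 0]), (nat_lit 214, [nat_lit 5, nat_lit 2, nat_lit 0, nat_lit 3]), (nat_lit 215, [nat_lit 5, nat_lit 4, nat_lit 2]), (nat_lit 217, [nat_lit 4, nat_lit 2, nat_lit 0]), (nat_lit 218, [nat_lit 2, nat_lit 0, nat_lit 0]), (nat_lit 227, [nat_lit 0, nat_lit 3, nat_lit 3, nat_lit 0, nat_lit 2]), (nat_lit 231, [nat_lit 0, nat_lit 3, nat_lit 3, nat_lit 2, nat_lit 0]), (nat_lit 235, [nat_lit 4, nat_lit 2, nat_lit 0, nat_lit 2]), (nat_lit 236, [nat_lit 2, nat_lit 1, nat_lit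 3]), (nat_lit 239, [nat_lit 0, nat_lit 1, nat_lit 2, nat_lit 0, nat_lit 1]), (nat_lit 240, [nat_lit 4, nat_lit 2, nat_lit 1, nat_lit 1]), (nat_lit 241, [nat_lit 2, nat_lit 2]), (nat_lit 243, [nat_lit 2, nat_lit 0, nat_lit 3, nat_lit 3, nat_lit 0, nat_lit 0]), (nat_lit 245, [nat_lit 5, nat_lit 4, nat_lit 2, nat_lit 0]), (nat_lit 250, [nat_lit 4, nat_lit 3, nat_lit 1, nat_lit 3]), (nat_lit 258, [nat_lit 2, nat_lit 2, nat_lit 1, nat_lit 3, nat_lit 0, nat_lit 0]), (nat_lit 261, [nat_lit 4, nat_lit 2, nat_lit 2]), (nat_lit 263, [nat_lit 4, nat_lit 4, nat_lit 1, nat_lit 1, nat_lit 3]), (nat_lit 266, [nat_lit 1, nat_lit 2, nat_lit 1, nat_lit 3, nat_lit 2, nat_lit 0]), (nat_lit 271, [nat_lit 2, nat_lit 0, nat_lit 1, nat_lit 2]), (nat_lit 273, [nat_lit 1, nat_lit 0, nat_lit 3]), (nat_lit 276, [nat_lit 2, nat_lit 1, nat_lit 3, nat_lit 2, nat_lit 0]), (nat_lit 278, [nat_lit 3, nat_lit 2, nat_lit 2,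 nat_lit 1, nat_lit 3, nat_lit 1, nat_lit 0, nat_lit 0]), (nat_lit 282, [nat_lit 4, nat_lit 4, nat_lit 3, nat_lit 3]), (nat_lit 284, [nat_lit 5, nat_lit 5, nat_lit 3, nat_lit 0, nat_lit 0]), (nat_lit 286, [nat_lit 3, nat_lit 3, nat_lit 1, nat_lit 2, nat_lit 1, nat_lit 0, nat_lit 0]), (nat_lit 287, [nat_lit 3, nat_lit 0, nat_lit 0]), (nat_lit 294, [nat_lit 1, nat_lit 1, nat_lit 3]), (nat_lit 298, [nat_lit 1, nat_lit 3, nat_lit 2, nat_lit 2]), (nat_lit 300, [nat_lit 5, nat_lit 2, nat_lit 1, nat_lit 3]), (nat_lit 301, [nat_lit 3, nat_lit 2, nat_lit 2, nat_lit 0, nat_lit 3]), (nat_lit 302, [nat_lit 3, nat_lit 2, nat_lit 1, nat_lit 3, nat_lit 1, nat_lit 0, nat_lit 0]), (nat_lit 306, [nat_lit 3, nat_lit 3, nat_lit 2, nat_lit 1, nat_lit 0]), (nat_lit 308, [nat_lit 2, nat_lit 1, nat_lit 3, nat_lit 1]), (nat_lit 310, [nat_lit 3, nat_lit 3, nat_lit 2, nat_lit 2, nat_lit 0, nat_lit 0]), (nat_lit 311,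 [nat_lit 5, nat_lit 3]), (nat_lit 313, [nat_lit 1, nat_lit 1]), (nat_lit 316, [nat_lit 5, nat_lit 3, nat_lit 3, nat_lit 2, nat_lit 2]), (nat_lit 319, [nat_lit 2, nat_lit 0, nat_lit 2, nat_lit 0]), (nat_lit 320, [nat_lit 4, nat_lit 3, nat_lit 0]), (nat_lit 326, [nat_lit 2, nat_lit 2, nat_lit 0, nat_lit 3]), (nat_lit 328, [nat_lit 3, nat_lit 2, nat_lit 0, nat_lit 2]), (nat_lit 331, [nat_lit 2, nat_lit 0, nat_lit 0, nat_lit 3]), (nat_lit 332, [nat_lit 4, nat_lit 4, nat_lit 3, nat_lit 2, nat_lit 2]), (nat_lit 335, [nat_lit 5, nat_lit 1, nat_lit 0, nat_lit 3]), (nat_lit 336, [nat_lit 5, nat_lit 1, nat_lit 1, nat_lit 2, nat_lit 0]), (nat_lit 341, [nat_lit 1, nat_lit 3, nat_lit 3, nat_lit 2, nat_lit 2, nat_lit 0]), (nat_lit 344, [nat_lit 1, nat_lit 3, nat_lit 2, nat_lit 0]), (nat_lit 345, [nat_lit 2, nat_lit 1, nat_lit 1, nat_lit 3, nat_lit 0]), (nat_lit 346, [nat_lit 5, nat_lit 2, nat_lit 2]),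 (nat_lit 347, [nat_lit 0, nat_lit 1, nat_lit 2, nat_lit 0]), (nat_lit 356, [nat_lit 1, nat_lit 3, nat_lit 3, nat_lit 2, nat_lit 1]), (nat_lit 357, [nat_lit 3, nat_lit 2, nat_lit 1, nat_lit 2, nat_lit 1, nat_lit 0, nat_lit 0]), (nat_lit 359, [nat_lit 3, nat_lit 0, nat_lit 3, nat_lit 2, nat_lit 2, nat_lit 0]), (nat_lit 362, [nat_lit 0, nat_lit 2, nat_lit 1, nat_lit 0, nat_lit 2]), (nat_lit 365, [nat_lit 3, nat_lit 3, nat_lit 1, nat_lit 2, nat_lit 0]), (nat_lit 367, [nat_lit 5, nat_lit 4, nat_lit 4, nat_lit 2]), (nat_lit 375, [nat_lit 5, nat_lit 1, nat_lit 3]), (nat_lit 377, [nat_lit 3, nat_lit 3, nat_lit 2, nat_lit 1, nat_lit 1, nat_lit 0, nat_lit 0]), (nat_lit 378, [nat_lit 0, nat_lit 2, nat_lit 2, nat_lit 0]), (nat_lit 379, [nat_lit 1, nat_lit 0, nat_lit 1]), (nat_lit 380, [nat_lit 3, nat_lit 1, nat_lit 2, nat_lit 1, nat_lit 0]), (nat_lit 382, [nat_lit 2, nat_lit 2, nat_lit 1, nat_lit 3,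 nat_lit 1]), (nat_lit 385, [nat_lit 5, nat_lit 0, nat_lit 3, nat_lit 0, nat_lit 0]), (nat_lit 386, [nat_lit 4, nat_lit 1, nat_lit 2]), (nat_lit 390, [nat_lit 3, nat_lit 2, nat_lit 1]), (nat_lit 391, [nat_lit 3, nat_lit 1, nat_lit 3, nat_lit 2, nat_lit 2, nat_lit 1]), (nat_lit 392, [nat_lit 3, nat_lit 0, nat_lit 0, nat_lit 2]), (nat_lit 394, [nat_lit 5, nat_lit 0, nat_lit 1, nat_lit 2]), (nat_lit 395, [nat_lit 2, nat_lit 1, nat_lit 2, nat_lit 0, nat_lit 1, nat_lit 0]), (nat_lit 396, [nat_lit 2, nat_lit 2, nat_lit 0, nat_lit 3, nat_lit 3]), (nat_lit 397, [nat_lit 4, nat_lit 4, nat_lit 3]), (nat_lit 401, [nat_lit 5, nat_lit 1, nat_lit 0, nat_lit 1, nat_lit 0]), (nat_lit 402, [nat_lit 3, nat_lit 1, nat_lit 3, nat_lit 0]), (nat_lit 403, [nat_lit 3, nat_lit 2, nat_lit 2, nat_lit 1, nat_lit 0, nat_lit 0]), (nat_lit 405, [nat_lit 3, nat_lit 0, nat_lit 1, nat_lit 0]), (nat_lit 409, [nat_lit 5, nat_lit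 4, nat_lit 0, nat_lit 0]), (nat_lit 410, [nat_lit 5, nat_lit 4, nat_lit 1, nat_lit 1, nat_lit 0]), (nat_lit 412, [nat_lit 3, nat_lit 3, nat_lit 2, nat_lit 1, nat_lit 2, nat_lit 0]), (nat_lit 414, [nat_lit 4, nat_lit 3]), (nat_lit 416, [nat_lit 4, nat_lit 1, nat_lit 3, nat_lit 3, nat_lit 2]), (nat_lit 418, [nat_lit 3, nat_lit 3, nat_lit 0, nat_lit 2, nat_lit 1]), (nat_lit 419, [nat_lit 3, nat_lit 3, nat_lit 1, nat_lit 2, nat_lit 0, nat_lit 0]), (nat_lit 420, [nat_lit 5, nat_lit 1, nat_lit 1, nat_lit 0, nat_lit 0]), (nat_lit 423, [nat_lit 4, nat_lit 1, nat_lit 2, nat_lit 2]), (nat_lit 424, [nat_lit 1, nat_lit 3, nat_lit 2, nat_lit 1, nat_lit 0]), (nat_lit 425, [nat_lit 0, nat_lit 3, nat_lit 3, nat_lit 0, nat_lit 0]), (nat_lit 428, [nat_lit 1, nat_lit 3, nat_lit 0, nat_lit 1]), (nat_lit 430, [nat_lit 5, nat_lit 1, nat_lit 0, nat_lit 3, nat_lit 0]), (nat_lit 432, [nat_lit 3, nat_lit 3, nat_lit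 2, nat_lit 1, nat_lit 2, nat_lit 1, nat_lit 0, nat_lit 0]), (nat_lit 433, [nat_lit 1, nat_lit 3, nat_lit 0]), (nat_lit 436, [nat_lit 0, nat_lit 3, nat_lit 1, nat_lit 2]), (nat_lit 438, [nat_lit 5, nat_lit 2, nat_lit 1, nat_lit 2]), (nat_lit 443, [nat_lit 3, nat_lit 0, nat_lit 3, nat_lit 1]), (nat_lit 447, [nat_lit 3, nat_lit 0, nat_lit 2, nat_lit 1]), (nat_lit 449, [nat_lit 4]), (nat_lit 451, [nat_lit 1, nat_lit 2, nat_lit 2, nat_lit 0, nat_lit 1]), (nat_lit 452, [nat_lit 5, nat_lit 4, nat_lit 3, nat_lit 0]), (nat_lit 453, [nat_lit 4, nat_lit 4, nat_lit 2, nat_lit 0, nat_lit 2]), (nat_lit 454, [nat_lit 3, nat_lit 0, nat_lit 2, nat_lit 2]), (nat_lit 455, [nat_lit 5, nat_lit 4, nat_lit 1, nat_lit 1]), (nat_lit 460, [nat_lit 3, nat_lit 3, nat_lit 2, nat_lit 2, nat_lit 1, nat_lit 0]), (nat_lit 464, [nat_lit 0, nat_lit 2]), (nat_lit 465, [nat_lit 4, nat_lit 2, nat_lit 2, nat_lit 0]), (nat_lit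 466, [nat_lit 5, nat_lit 0, nat_lit 3, nat_lit 0]), (nat_lit 467, [nat_lit 3, nat_lit 1, nat_lit 0, nat_lit 1, nat_lit 0]), (nat_lit 468, [nat_lit 5, nat_lit 1, nat_lit 0, nat_lit 1]), (nat_lit 469, [nat_lit 0, nat_lit 3, nat_lit 1, nat_lit 2, nat_lit 2, nat_lit 0]), (nat_lit 471, [nat_lit 4, nat_lit 4, nat_lit 1, nat_lit 0, nat_lit 0]), (nat_lit 476, [nat_lit 2, nat_lit 1, nat_lit 1, nat_lit 0, nat_lit 0]), (nat_lit 479, [nat_lit 4, nat_lit 1, nat_lit 3, nat_lit 2]), (nat_lit 480, [nat_lit 2, nat_lit 1, nat_lit 1, nat_lit 3, nat_lit 2, nat_lit 0, nat_lit 0]), (nat_lit 481, [nat_lit 2, nat_lit 2, nat_lit 1, nat_lit 3, nat_lit 3, nat_lit 0, nat_lit 0]), (nat_lit 483, [nat_lit 5, nat_lit 5, nat_lit 4, nat_lit 2]), (nat_lit 484, [nat_lit 2, nat_lit 0, nat_lit 3, nat_lit 3, nat_lit 2]), (nat_lit 488, [nat_lit 2, nat_lit 1, nat_lit 3, nat_lit 3, nat_lit 2, nat_lit 1]), (nat_lit 489, [nat_lit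 2, nat_lit 1, nat_lit 3, nat_lit 0, nat_lit 0]), (nat_lit 491, [nat_lit 4, nat_lit 4, nat_lit 2, nat_lit 0]), (nat_lit 493, [nat_lit 2, nat_lit 1, nat_lit 0, nat_lit 1]), (nat_lit 494, [nat_lit 1, nat_lit 0, nat_lit 3, nat_lit 3, nat_lit 0]), (nat_lit 499, [nat_lit 1, nat_lit 3, nat_lit 1, nat_lit 0]), (nat_lit 501, [nat_lit 1, nat_lit 3, nat_lit 0, nat_lit 3, nat_lit 1, nat_lit 0]), (nat_lit 506, [nat_lit 4, nat_lit 3, nat_lit 2, nat_lit 2, nat_lit 1]), (nat_lit 507, [nat_lit 4, nat_lit 4, nat_lit 1, nat_lit 3, nat_lit 1]), (nat_lit 510, [nat_lit 3, nat_lit 0, nat_lit 3, nat_lit 1, nat_lit 2, nat_lit 0]), (nat_lit 511, [nat_lit 0, nat_lit 2, nat_lit 1, nat_lit 0]), (nat_lit 512, [nat_lit 3, nat_lit 3, nat_lit 2, nat_lit 1, nat_lit 1]), (nat_lit 514, [nat_lit 1, nat_lit 3, nat_lit 3, nat_lit 2, nat_lit 0]), (nat_lit 515, [nat_lit 1, nat_lit 3, nat_lit 3]), (nat_lit 516, [nat_lit 3, nat_lit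 1]), (nat_lit 517, [nat_lit 0, nat_lit 0, nat_lit 3]), (nat_lit 522, [nat_lit 1, nat_lit 3, nat_lit 2, nat_lit 2, nat_lit 1]), (nat_lit 523, [nat_lit 5, nat_lit 3, nat_lit 0, nat_lit 3]), (nat_lit 527, [nat_lit 5, nat_lit 3, nat_lit 2, nat_lit 2]), (nat_lit 532, [nat_lit 1, nat_lit 1, nat_lit 3, nat_lit 2]), (nat_lit 537, [nat_lit 1, nat_lit 3, nat_lit 3, nat_lit 2, nat_lit 2, nat_lit 1, nat_lit 0, nat_lit 0]), (nat_lit 538, [nat_lit 2, nat_lit 1, nat_lit 2, nat_lit 1, nat_lit 0, nat_lit 0]), (nat_lit 539, [nat_lit 3, nat_lit 1, nat_lit 2, nat_lit 2]), (nat_lit 545, [nat_lit 2, nat_lit 1, nat_lit 0, nat_lit 1, nat_lit 0]), (nat_lit 546, [nat_lit 3, nat_lit 2, nat_lit 1, nat_lit 2, nat_lit 1, nat_lit 0]), (nat_lit 547, [nat_lit 5, nat_lit 4, nat_lit 3, nat_lit 0, nat_lit 0]), (nat_lit 548, [nat_lit 2, nat_lit 2, nat_lit 1, nat_lit 0, nat_lit 1, nat_lit 0]), (nat_lit 549, [nat_lit 3, nat_lit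 1, nat_lit 0, nat_lit 1]), (nat_lit 551, [nat_lit 4, nat_lit 1, nat_lit 2, nat_lit 2, nat_lit 1]), (nat_lit 553, [nat_lit 2, nat_lit 1, nat_lit 3, nat_lit 2, nat_lit 1]), (nat_lit 554, [nat_lit 0, nat_lit 0, nat_lit 3, nat_lit 2]), (nat_lit 556, [nat_lit 3, nat_lit 2, nat_lit 1, nat_lit 3, nat_lit 0, nat_lit 0]), (nat_lit 559, [nat_lit 4, nat_lit 1, nat_lit 3, nat_lit 3]), (nat_lit 561, [nat_lit 1, nat_lit 1, nat_lit 0, nat_lit 0]), (nat_lit 562, [nat_lit 3]), (nat_lit 566, [nat_lit 3, nat_lit 2, nat_lit 1, nat_lit 1, nat_lit 0, nat_lit 0]), (nat_lit 569, [nat_lit 2, nat_lit 2, nat_lit 1, nat_lit 3, nat_lit 3, nat_lit 1, nat_lit 0, nat_lit 0]), (nat_lit 578, [nat_lit 3, nat_lit 3, nat_lit 0, nat_lit 2, nat_lit 0]), (nat_lit 581, [nat_lit 4, nat_lit 3, nat_lit 3, nat_lit 1]), (nat_lit 583, [nat_lit 0, nat_lit 0, nat_lit 1, nat_lit 0]), (nat_lit 585, [nat_lit 3, nat_lit 0]), (nat_lit 587,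 [nat_lit 5, nat_lit 4, nat_lit 1, nat_lit 2]), (nat_lit 589, [nat_lit 2, nat_lit 0, nat_lit 1, nat_lit 0]), (nat_lit 592, [nat_lit 5, nat_lit 4, nat_lit 3, nat_lit 3, nat_lit 2]), (nat_lit 597, [nat_lit 5, nat_lit 1, nat_lit 1]), (nat_lit 598, [nat_lit 3, nat_lit 1, nat_lit 2, nat_lit 2, nat_lit 0, nat_lit 0]), (nat_lit 599, [nat_lit 1, nat_lit 3, nat_lit 3, nat_lit 0, nat_lit 0]), (nat_lit 601, [nat_lit 1, nat_lit 1, nat_lit 2, nat_lit 0, nat_lit 0]), (nat_lit 605, [nat_lit 5, nat_lit 3, nat_lit 3, nat_lit 0]), (nat_lit 607, [nat_lit 4, nat_lit 3, nat_lit 2, nat_lit 1, nat_lit 2]), (nat_lit 608, [nat_lit 5, nat_lit 2, nat_lit 2, nat_lit 1, nat_lit 1]), (nat_lit 611, [nat_lit 4, nat_lit 2, nat_lit 1]), (nat_lit 612, [nat_lit 3, nat_lit 2, nat_lit 2, nat_lit 1, nat_lit 1, nat_lit 0]), (nat_lit 613, [nat_lit 2, nat_lit 1, nat_lit 1, nat_lit 3, nat_lit 0, nat_lit 0]), (nat_lit 614, [nat_lit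 3, nat_lit 1, nat_lit 2, nat_lit 2, nat_lit 0]), (nat_lit 615, [nat_lit 2, nat_lit 2, nat_lit 1, nat_lit 3, nat_lit 1, nat_lit 0]), (nat_lit 617, [nat_lit 0, nat_lit 3, nat_lit 3]), (nat_lit 619, [nat_lit 3, nat_lit 3, nat_lit 1, nat_lit 1]), (nat_lit 620, [nat_lit 3, nat_lit 1, nat_lit 3, nat_lit 2, nat_lit 1, nat_lit 0, nat_lit 0]), (nat_lit 621, [nat_lit 4, nat_lit 3, nat_lit 2, nat_lit 2, nat_lit 0]), (nat_lit 623, [nat_lit 1, nat_lit 2, nat_lit 2, nat_lit 1]), (nat_lit 624, [nat_lit 5, nat_lit 2, nat_lit 1, nat_lit 2, nat_lit 0]), (nat_lit 626, [nat_lit 4, nat_lit 4, nat_lit 1, nat_lit 3, nat_lit 3]), (nat_lit 627, [nat_lit 4, nat_lit 2, nat_lit 1, nat_lit 1, nat_lit 0]), (nat_lit 629, [nat_lit 0, nat_lit 3, nat_lit 0, nat_lit 0]), (nat_lit 635, [nat_lit 0, nat_lit 3, nat_lit 0, nat_lit 2, nat_lit 0]), (nat_lit 636, [nat_lit 2, nat_lit 2, nat_lit 1, nat_lit 1]), (nat_lit 637, [nat_lit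 2, nat_lit 0, nat_lit 1, nat_lit 1]), (nat_lit 638, [nat_lit 4, nat_lit 4, nat_lit 0, nat_lit 0, nat_lit 2]), (nat_lit 640, [nat_lit 1, nat_lit 3, nat_lit 2, nat_lit 1, nat_lit 0, nat_lit 0]), (nat_lit 642, [nat_lit 1, nat_lit 3, nat_lit 3, nat_lit 1, nat_lit 2, nat_lit 0, nat_lit 0]), (nat_lit 643, [nat_lit 3, nat_lit 3, nat_lit 1]), (nat_lit 644, [nat_lit 3, nat_lit 2, nat_lit 2, nat_lit 1, nat_lit 3, nat_lit 1]), (nat_lit 647, [nat_lit 4, nat_lit 1, nat_lit 3]), (nat_lit 649, [nat_lit 4, nat_lit 4, nat_lit 2]), (nat_lit 650, [nat_lit 5, nat_lit 5, nat_lit 4, nat_lit 2, nat_lit 2]), (nat_lit 661, [nat_lit 4, nat_lit 4]), (nat_lit 667, [nat_lit 0, nat_lit 1, nat_lit 1, nat_lit 0, nat_lit 0]), (nat_lit 668, [nat_lit 2, nat_lit 0, nat_lit 3, nat_lit 2, nat_lit 0]), (nat_lit 669, [nat_lit 1, nat_lit 0, nat_lit 1, nat_lit 0]), (nat_lit 670, [nat_lit 5, nat_lit 1, nat_lit 2, nat_lit 2]), (nat_lit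 674, [nat_lit 0, nat_lit 3, nat_lit 2]), (nat_lit 676, [nat_lit 4, nat_lit 0, nat_lit 0]), (nat_lit 677, [nat_lit 4, nat_lit 3, nat_lit 3, nat_lit 1, nat_lit 1]), (nat_lit 678, [nat_lit 4, nat_lit 3, nat_lit 2, nat_lit 0]), (nat_lit 679, [nat_lit 4, nat_lit 4, nat_lit 2, nat_lit 1]), (nat_lit 685, [nat_lit 5, nat_lit 5, nat_lit 3, nat_lit 2]), (nat_lit 689, [nat_lit 0, nat_lit 3, nat_lit 0]), (nat_lit 691, [nat_lit 1, nat_lit 3, nat_lit 3, nat_lit 2, nat_lit 2, nat_lit 0, nat_lit 0]), (nat_lit 693, [nat_lit 4, nat_lit 2, nat_lit 0, nat_lit 2, nat_lit 0]), (nat_lit 697, [nat_lit 0, nat_lit 3, nat_lit 0, nat_lit 2]), (nat_lit 699, [nat_lit 5, nat_lit 2, nat_lit 0, nat_lit 1]), (nat_lit 702, [nat_lit 3, nat_lit 0, nat_lit 1, nat_lit 1]), (nat_lit 704, [nat_lit 1, nat_lit 3, nat_lit 3, nat_lit 2, nat_lit 2, nat_lit 1, nat_lit 0]), (nat_lit 706, [nat_lit 4, nat_lit 0, nat_lit 2, nat_lit 2]),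 (nat_lit 707, [nat_lit 1, nat_lit 2, nat_lit 1, nat_lit 3]), (nat_lit 710, [nat_lit 3, nat_lit 2, nat_lit 1, nat_lit 3]), (nat_lit 711, [nat_lit 4, nat_lit 4, nat_lit 1]), (nat_lit 713, [nat_lit 3, nat_lit 3, nat_lit 0, nat_lit 2, nat_lit 2, nat_lit 0]), (nat_lit 717, [nat_lit 5, nat_lit 4, nat_lit 1, nat_lit 1, nat_lit 0, nat_lit 0]), (nat_lit 723, [nat_lit 1, nat_lit 0, nat_lit 3, nat_lit 2, nat_lit 0]), (nat_lit 725, [nat_lit 2, nat_lit 2, nat_lit 0, nat_lit 1]), (nat_lit 726, [nat_lit 3, nat_lit 2, nat_lit 0, nat_lit 0]), (nat_lit 728, [nat_lit 0, nat_lit 3, nat_lit 2, nat_lit 2, nat_lit 1]), (nat_lit 729, [nat_lit 3, nat_lit 3, nat_lit 1, nat_lit 0, nat_lit 1]), (nat_lit 734, [nat_lit 1, nat_lit 3, nat_lit 2, nat_lit 2, nat_lit 0, nat_lit 0]), (nat_lit 737, [nat_lit 1, nat_lit 3, nat_lit 1, nat_lit 2, nat_lit 0, nat_lit 0]), (nat_lit 738, [nat_lit 5, nat_lit 1]), (nat_lit 740, [nat_lit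 1, nat_lit 3, nat_lit 3, nat_lit 0]), (nat_lit 743, [nat_lit 2, nat_lit 1, nat_lit 1, nat_lit 0]), (nat_lit 748, [nat_lit 5, nat_lit 3, nat_lit 0, nat_lit 3, nat_lit 0]), (nat_lit 750, [nat_lit 1, nat_lit 2, nat_lit 0, nat_lit 1, nat_lit 2]), (nat_lit 751, [nat_lit 1, nat_lit 2, nat_lit 0, nat_lit 0, nat_lit 1]), (nat_lit 753, [nat_lit 2, nat_lit 1, nat_lit 3, nat_lit 3, nat_lit 1, nat_lit 0]), (nat_lit 756, [nat_lit 4, nat_lit 3, nat_lit 1, nat_lit 1]), (nat_lit 761, [nat_lit 5]), (nat_lit 762, [nat_lit 4, nat_lit 4, nat_lit 0, nat_lit 0]), (nat_lit 763, [nat_lit 5, nat_lit 3, nat_lit 3, nat_lit 2, nat_lit 0]), (nat_lit 765, [nat_lit 2, nat_lit 2, nat_lit 1, nat_lit 0]), (nat_lit 767, [nat_lit 2, nat_lit 1, nat_lit 0, nat_lit 2, nat_lit 0]), (nat_lit 768, [nat_lit 3, nat_lit 2, nat_lit 0, nat_lit 3, nat_lit 2]), (nat_lit 770, [nat_lit 4, nat_lit 2, nat_lit 2, nat_lit 1]), (nat_lit 773,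 [nat_lit 3, nat_lit 3, nat_lit 1, nat_lit 2, nat_lit 2, nat_lit 1]), (nat_lit 777, [nat_lit 2, nat_lit 1, nat_lit 2, nat_lit 1]), (nat_lit 782, [nat_lit 3, nat_lit 1, nat_lit 2, nat_lit 0, nat_lit 0]), (nat_lit 784, [nat_lit 0, nat_lit 0, nat_lit 1, nat_lit 0, nat_lit 0]), (nat_lit 787, [nat_lit 5, nat_lit 0, nat_lit 1, nat_lit 0]), (nat_lit 794, [nat_lit 3, nat_lit 1, nat_lit 1, nat_lit 0, nat_lit 0]), (nat_lit 797, [nat_lit 3, nat_lit 2, nat_lit 2, nat_lit 0, nat_lit 0]), (nat_lit 800, [nat_lit 3, nat_lit 3, nat_lit 0, nat_lit 2, nat_lit 2]), (nat_lit 802, [nat_lit 2, nat_lit 0, nat_lit 3]), (nat_lit 805, [nat_lit 3, nat_lit 1, nat_lit 0, nat_lit 2, nat_lit 0]), (nat_lit 806, [nat_lit 4, nat_lit 1]), (nat_lit 808, [nat_lit 4, nat_lit 4, nat_lit 3, nat_lit 3, nat_lit 1, nat_lit 1]), (nat_lit 810, [nat_lit 3, nat_lit 3, nat_lit 2, nat_lit 1]), (nat_lit 816, [nat_lit 5, nat_lit 5, nat_lit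 1, nat_lit 0, nat_lit 0]), (nat_lit 818, [nat_lit 4, nat_lit 3, nat_lit 3]), (nat_lit 820, [nat_lit 5, nat_lit 5, nat_lit 4, nat_lit 0]), (nat_lit 822, [nat_lit 5, nat_lit 4, nat_lit 4, nat_lit 2, nat_lit 2]), (nat_lit 823, [nat_lit 3, nat_lit 3, nat_lit 0, nat_lit 0, nat_lit 2]), (nat_lit 824, [nat_lit 2, nat_lit 1, nat_lit 3, nat_lit 3, nat_lit 2, nat_lit 0]), (nat_lit 825, [nat_lit 4, nat_lit 3, nat_lit 3, nat_lit 2]), (nat_lit 833, [nat_lit 5, nat_lit 4, nat_lit 3]), (nat_lit 834, [nat_lit 1, nat_lit 0, nat_lit 1, nat_lit 0, nat_lit 0]), (nat_lit 835, [nat_lit 4, nat_lit 4, nat_lit 1, nat_lit 1, nat_lit 0]), (nat_lit 836, [nat_lit 2, nat_lit 1, nat_lit 0, nat_lit 2]), (nat_lit 838, [nat_lit 2, nat_lit 1, nat_lit 3, nat_lit 3, nat_lit 0, nat_lit 0]), (nat_lit 842, [nat_lit 4, nat_lit 3, nat_lit 0, nat_lit 2]), (nat_lit 843, [nat_lit 4, nat_lit 4, nat_lit 0, nat_lit 2, nat_lit 2]), (nat_lit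 845, [nat_lit 2, nat_lit 1, nat_lit 2, nat_lit 0, nat_lit 1]), (nat_lit 847, [nat_lit 3, nat_lit 1, nat_lit 3, nat_lit 1]), (nat_lit 851, [nat_lit 3, nat_lit 2, nat_lit 1, nat_lit 3, nat_lit 1]), (nat_lit 852, [nat_lit 3, nat_lit 0, nat_lit 1, nat_lit 1, nat_lit 0]), (nat_lit 855, [nat_lit 3, nat_lit 0, nat_lit 3, nat_lit 2, nat_lit 0]), (nat_lit 857, [nat_lit 1, nat_lit 2, nat_lit 1, nat_lit 3, nat_lit 0]), (nat_lit 859, [nat_lit 0, nat_lit 2, nat_lit 0]), (nat_lit 860, [nat_lit 4, nat_lit 1, nat_lit 3, nat_lit 0, nat_lit 0]), (nat_lit 862, [nat_lit 1, nat_lit 2, nat_lit 1, nat_lit 3, nat_lit 2]), (nat_lit 864, [nat_lit 3, nat_lit 3, nat_lit 2, nat_lit 1, nat_lit 2]), (nat_lit 866, [nat_lit 4, nat_lit 4, nat_lit 3, nat_lit 3, nat_lit 0, nat_lit 0]), (nat_lit 867, [nat_lit 2, nat_lit 1, nat_lit 0, nat_lit 0]), (nat_lit 870, [nat_lit 2, nat_lit 2, nat_lit 1, nat_lit 3, nat_lit 3, nat_lit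 1]), (nat_lit 872, [nat_lit 1, nat_lit 3, nat_lit 3, nat_lit 1, nat_lit 2]), (nat_lit 873, [nat_lit 2, nat_lit 1, nat_lit 1, nat_lit 3, nat_lit 2]), (nat_lit 874, [nat_lit 4, nat_lit 4, nat_lit 0, nat_lit 2]), (nat_lit 876, [nat_lit 5, nat_lit 5, nat_lit 4]), (nat_lit 877, [nat_lit 4, nat_lit 2, nat_lit 0, nat_lit 0]), (nat_lit 879, [nat_lit 0, nat_lit 3, nat_lit 3, nat_lit 2]), (nat_lit 886, [nat_lit 4, nat_lit 3, nat_lit 2, nat_lit 0, nat_lit 2]), (nat_lit 887, [nat_lit 3, nat_lit 3, nat_lit 2, nat_lit 0, nat_lit 2]), (nat_lit 888, [nat_lit 5, nat_lit 4, nat_lit 3, nat_lit 2]), (nat_lit 889, [nat_lit 3, nat_lit 1, nat_lit 2, nat_lit 1, nat_lit 0, nat_lit 0]), (nat_lit 893, [nat_lit 5, nat_lit 5, nat_lit 1]), (nat_lit 898, [nat_lit 3, nat_lit 2, nat_lit 0, nat_lit 3, nat_lit 2, nat_lit 0]), (nat_lit 902, [nat_lit 3, nat_lit 3, nat_lit 2, nat_lit 0, nat_lit 1, nat_lit 0]), (nat_lit 903,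 [nat_lit 5, nat_lit 4, nat_lit 4, nat_lit 0, nat_lit 0]), (nat_lit 904, [nat_lit 5, nat_lit 1, nat_lit 0, nat_lit 0]), (nat_lit 909, [nat_lit 5, nat_lit 5, nat_lit 4, nat_lit 0, nat_lit 0]), (nat_lit 911, [nat_lit 2, nat_lit 2, nat_lit 0, nat_lit 1, nat_lit 1]), (nat_lit 912, [nat_lit 5, nat_lit 2]), (nat_lit 913, [nat_lit 5, nat_lit 5, nat_lit 1, nat_lit 0]), (nat_lit 918, [nat_lit 5, nat_lit 0, nat_lit 0]), (nat_lit 920, [nat_lit 2, nat_lit 2, nat_lit 0, nat_lit 3, nat_lit 3, nat_lit 0]), (nat_lit 921, [nat_lit 3, nat_lit 1, nat_lit 3, nat_lit 1, nat_lit 2]), (nat_lit 924, [nat_lit 5, nat_lit 5, nat_lit 3, nat_lit 0]), (nat_lit 925, [nat_lit 2, nat_lit 1, nat_lit 3, nat_lit 3, nat_lit 0]), (nat_lit 928, [nat_lit 1, nat_lit 1, nat_lit 2, nat_lit 0]), (nat_lit 929, [nat_lit 4, nat_lit 4, nat_lit 2, nat_lit 2, nat_lit 0, nat_lit 0]), (nat_lit 932, [nat_lit 4, nat_lit 3, nat_lit 3, nat_lit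 2, nat_lit 0]), (nat_lit 934, [nat_lit 5, nat_lit 4, nat_lit 1, nat_lit 0, nat_lit 0]), (nat_lit 935, [nat_lit 4, nat_lit 2, nat_lit 1, nat_lit 2, nat_lit 1]), (nat_lit 936, [nat_lit 3, nat_lit 3, nat_lit 1, nat_lit 1, nat_lit 2]), (nat_lit 938, [nat_lit 3, nat_lit 2, nat_lit 0, nat_lit 3]), (nat_lit 939, [nat_lit 2, nat_lit 1]), (nat_lit 941, [nat_lit 2, nat_lit 1, nat_lit 2, nat_lit 0, nat_lit 0]), (nat_lit 942, [nat_lit 4, nat_lit 4, nat_lit 3, nat_lit 2]), (nat_lit 943, [nat_lit 2, nat_lit 1, nat_lit 3, nat_lit 3, nat_lit 1, nat_lit 0, nat_lit 0]), (nat_lit 945, [nat_lit 2, nat_lit 2, nat_lit 1, nat_lit 3]), (nat_lit 947, [nat_lit 1, nat_lit 1, nat_lit 3, nat_lit 0]), (nat_lit 949, [nat_lit 3, nat_lit 3, nat_lit 1, nat_lit 1, nat_lit 2, nat_lit 0]), (nat_lit 950, [nat_lit 0, nat_lit 0, nat_lit 3, nat_lit 0, nat_lit 0]), (nat_lit 955, [nat_lit 1, nat_lit 0, nat_lit 3, nat_lit 0]), (nat_lit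 956, [nat_lit 4, nat_lit 0, nat_lit 2, nat_lit 2, nat_lit 0]), (nat_lit 957, [nat_lit 0, nat_lit 1, nat_lit 2]), (nat_lit 960, [nat_lit 1, nat_lit 2, nat_lit 0, nat_lit 0]), (nat_lit 963, [nat_lit 0, nat_lit 3, nat_lit 1, nat_lit 2, nat_lit 2]), (nat_lit 965, [nat_lit 5, nat_lit 3, nat_lit 0, nat_lit 3, nat_lit 0, nat_lit 0]), (nat_lit 971, [nat_lit 1, nat_lit 2, nat_lit 0, nat_lit 1]), (nat_lit 973, [nat_lit 2, nat_lit 1, nat_lit 0, nat_lit 2, nat_lit 1]), (nat_lit 975, [nat_lit 1, nat_lit 3, nat_lit 0, nat_lit 3, nat_lit 1]), (nat_lit 976, [nat_lit 3, nat_lit 3, nat_lit 1, nat_lit 0, nat_lit 1, nat_lit 0]), (nat_lit 978, [nat_lit 1, nat_lit 1, nat_lit 2, nat_lit 1]), (nat_lit 980, [nat_lit 2, nat_lit 2, nat_lit 1, nat_lit 1, nat_lit 0, nat_lit 0]), (nat_lit 984, [nat_lit 1, nat_lit 0, nat_lit 1, nat_lit 3, nat_lit 0]), (nat_lit 985, [nat_lit 3, nat_lit 3, nat_lit 1, nat_lit 2, nat_lit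 2, nat_lit 0]), (nat_lit 993, [nat_lit 4, nat_lit 4, nat_lit 3, nat_lit 3, nat_lit 0]), (nat_lit 994, [nat_lit 1, nat_lit 2, nat_lit 2, nat_lit 1, nat_lit 0, nat_lit 0]), (nat_lit 998, [nat_lit 2, nat_lit 1, nat_lit 3, nat_lit 1, nat_lit 0]), (nat_lit 999, [nat_lit 2, nat_lit 1, nat_lit 3, nat_lit 2, nat_lit 1, nat_lit 0]), (nat_lit 1002, [nat_lit 2, nat_lit 2, nat_lit 1, nat_lit 3, nat_lit 1, nat_lit 0, nat_lit 0]), (nat_lit 1003, [nat_lit 1, nat_lit 3, nat_lit 3, nat_lit 1, nat_lit 2, nat_lit 0]), (nat_lit 1004, [nat_lit 4, nat_lit 4, nat_lit 3, nat_lit 0]), (nat_lit 1010, [nat_lit 3, nat_lit 1, nat_lit 1, nat_lit 0]), (nat_lit 1011, [nat_lit 1, nat_lit 0, nat_lit 0]), (nat_lit 1013, [nat_lit 2, nat_lit 0, nat_lit 1, nat_lit 2, nat_lit 0]), (nat_lit 1014, [nat_lit 4, nat_lit 2]), (nat_lit 1015, [nat_lit 1, nat_lit 0, nat_lit 2]), (nat_lit 1017, [nat_lit 2, nat_lit 1, nat_lit 1, nat_lit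 3]), (nat_lit 1019, [nat_lit 3, nat_lit 3, nat_lit 2, nat_lit 1, nat_lit 2, nat_lit 0, nat_lit 0]), (nat_lit 1020, [nat_lit 4, nat_lit 1, nat_lit 1, nat_lit 0, nat_lit 0]), (nat_lit 1022, [nat_lit 3, nat_lit 3, nat_lit 2, nat_lit 2, nat_lit 1, nat_lit 1, nat_lit 0]), (nat_lit 1023, [nat_lit 1, nat_lit 1, nat_lit 3, nat_lit 2, nat_lit 2, nat_lit 0]), (nat_lit 1025, [nat_lit 5, nat_lit 5, nat_lit 1, nat_lit 1, nat_lit 0]), (nat_lit 1030, [nat_lit 3, nat_lit 1, nat_lit 3, nat_lit 1, nat_lit 0, nat_lit 0]), (nat_lit 1031, [nat_lit 3, nat_lit 1, nat_lit 3, nat_lit 2]), (nat_lit 1034, [nat_lit 4, nat_lit 0, nat_lit 2]), (nat_lit 1044, [nat_lit 3, nat_lit 3, nat_lit 1, nat_lit 2]), (nat_lit 1046, [nat_lit 4, nat_lit 4, nat_lit 0, nat_lit 2, nat_lit 2, nat_lit 0]), (nat_lit 1049, [nat_lit 1, nat_lit 2, nat_lit 2, nat_lit 0, nat_lit 0]), (nat_lit 1052, [nat_lit 1, nat_lit 2, nat_lit 1, nat_lit 0]),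 (nat_lit 1057, [nat_lit 3, nat_lit 3, nat_lit 1, nat_lit 1, nat_lit 0, nat_lit 0]), (nat_lit 1060, [nat_lit 1, nat_lit 1, nat_lit 2]), (nat_lit 1061, [nat_lit 1, nat_lit 0, nat_lit 3, nat_lit 0, nat_lit 0]), (nat_lit 1063, [nat_lit 2, nat_lit 1, nat_lit 3, nat_lit 3]), (nat_lit 1067, [nat_lit 5, nat_lit 2, nat_lit 1]), (nat_lit 1068, [nat_lit 4, nat_lit 4, nat_lit 0]), (nat_lit 1072, [nat_lit 3, nat_lit 2, nat_lit 1, nat_lit 0, nat_lit 0]), (nat_lit 1077, [nat_lit 3, nat_lit 3, nat_lit 2, nat_lit 0]), (nat_lit 1079, [nat_lit 3, nat_lit 2, nat_lit 2, nat_lit 1, nat_lit 3, nat_lit 1, nat_lit 0]), (nat_lit 1080, [nat_lit 3, nat_lit 3, nat_lit 2, nat_lit 2, nat_lit 0]), (nat_lit 1081, [nat_lit 3, nat_lit 1, nat_lit 1, nat_lit 2, nat_lit 0]), (nat_lit 1083, [nat_lit 3, nat_lit 3, nat_lit 2, nat_lit 2, nat_lit 1, nat_lit 1]), (nat_lit 1084, [nat_lit 4, nat_lit 3, nat_lit 2, nat_lit 1]), (nat_lit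 1085, [nat_lit 3, nat_lit 1, nat_lit 0, nat_lit 3, nat_lit 0]), (nat_lit 1086, [nat_lit 0, nat_lit 3, nat_lit 2, nat_lit 0]), (nat_lit 1087, [nat_lit 2, nat_lit 1, nat_lit 3, nat_lit 2, nat_lit 1, nat_lit 0, nat_lit 0]), (nat_lit 1095, [nat_lit 3, nat_lit 2, nat_lit 2, nat_lit 1, nat_lit 1, nat_lit 0, nat_lit 0]), (nat_lit 1100, [nat_lit 5, nat_lit 4, nat_lit 3, nat_lit 3, nat_lit 0]), (nat_lit 1102, [nat_lit 3, nat_lit 2, nat_lit 2, nat_lit 1, nat_lit 1]), (nat_lit 1103, [nat_lit 1, nat_lit 0]), (nat_lit 1105, [nat_lit 4, nat_lit 2, nat_lit 1, nat_lit 2]), (nat_lit 1107, [nat_lit 0, nat_lit 1, nat_lit 1]), (nat_lit 1109, [nat_lit 1, nat_lit 2, nat_lit 0, nat_lit 1, nat_lit 2, nat_lit 0]), (nat_lit 1110, [nat_lit 5, nat_lit 4, nat_lit 2, nat_lit 2]), (nat_lit 1113, [nat_lit 3, nat_lit 2, nat_lit 1, nat_lit 1, nat_lit 0]), (nat_lit 1119, [nat_lit 1, nat_lit 3]), (nat_lit 1121, [nat_lit 5,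 nat_lit 5, nat_lit 2]), (nat_lit 1126, [nat_lit 2, nat_lit 2, nat_lit 1]), (nat_lit 1128, [nat_lit 2, nat_lit 1, nat_lit 1]), (nat_lit 1132, [nat_lit 2, nat_lit 0, nat_lit 2]), (nat_lit 1135, [nat_lit 3, nat_lit 0, nat_lit 1, nat_lit 3]), (nat_lit 1139, [nat_lit 3, nat_lit 3, nat_lit 2, nat_lit 1, nat_lit 1, nat_lit 0]), (nat_lit 1150, [nat_lit 4, nat_lit 4, nat_lit 3, nat_lit 1, nat_lit 3]), (nat_lit 1151, [nat_lit 0, nat_lit 3, nat_lit 1, nat_lit 0]), (nat_lit 1153, [nat_lit 2, nat_lit 2, nat_lit 1, nat_lit 3, nat_lit 3, nat_lit 1, nat_lit 0]), (nat_lit 1155, [nat_lit 3, nat_lit 0, nat_lit 3, nat_lit 2]), (nat_lit 1157, [nat_lit 4, nat_lit 4, nat_lit 1, nat_lit 1]), (nat_lit 1160, [nat_lit 0, nat_lit 1, nat_lit 0]), (nat_lit 1163, [nat_lit 0, nat_lit 0]), (nat_lit 1164, [nat_lit 2, nat_lit 1, nat_lit 2, nat_lit 2, nat_lit 1]), (nat_lit 1167, [nat_lit 1, nat_lit 1, nat_lit 3, nat_lit 0,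 nat_lit 0]), (nat_lit 1169, [nat_lit 4, nat_lit 1, nat_lit 0, nat_lit 0]), (nat_lit 1171, [nat_lit 1, nat_lit 1, nat_lit 3, nat_lit 2, nat_lit 2]), (nat_lit 1172, [nat_lit 0, nat_lit 1, nat_lit 0, nat_lit 0]), (nat_lit 1174, [nat_lit 2, nat_lit 2, nat_lit 0, nat_lit 1, nat_lit 0]), (nat_lit 1175, [nat_lit 1, nat_lit 3, nat_lit 2, nat_lit 2, nat_lit 1, nat_lit 0]), (nat_lit 1176, [nat_lit 3, nat_lit 1, nat_lit 2, nat_lit 1]), (nat_lit 1177, [nat_lit 4, nat_lit 4, nat_lit 3, nat_lit 3, nat_lit 1]), (nat_lit 1178, [nat_lit 3, nat_lit 1, nat_lit 0]), (nat_lit 1181, [nat_lit 3, nat_lit 0, nat_lit 1]), (nat_lit 1186, [nat_lit 3, nat_lit 3, nat_lit 2, nat_lit 1, nat_lit 0, nat_lit 0]), (nat_lit 1188, [nat_lit 2, nat_lit 1, nat_lit 2]), (nat_lit 1189, [nat_lit 3, nat_lit 2, nat_lit 1, nat_lit 0]), (nat_lit 1190, [nat_lit 3, nat_lit 1, nat_lit 2, nat_lit 2, nat_lit 1]), (nat_lit 1192, [nat_lit 1,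 nat_lit 2, nat_lit 0, nat_lit 1, nat_lit 0]), (nat_lit 1194, [nat_lit 3, nat_lit 3, nat_lit 0]), (nat_lit 1197, [nat_lit 5, nat_lit 5, nat_lit 3]), (nat_lit 1201, [nat_lit 4, nat_lit 4, nat_lit 2, nat_lit 0, nat_lit 0]), (nat_lit 1202, [nat_lit 0, nat_lit 3]), (nat_lit 1204, [nat_lit 3, nat_lit 2, nat_lit 2, nat_lit 1, nat_lit 0]), (nat_lit 1206, [nat_lit 2, nat_lit 2, nat_lit 1, nat_lit 3, nat_lit 3, nat_lit 0]), (nat_lit 1207, [nat_lit 1, nat_lit 0, nat_lit 3, nat_lit 2]), (nat_lit 1209, [nat_lit 5, nat_lit 3, nat_lit 0, nat_lit 0]), (nat_lit 1213, [nat_lit 2, nat_lit 0, nat_lit 3, nat_lit 0]), (nat_lit 1214, [nat_lit 3, nat_lit 0, nat_lit 1, nat_lit 3, nat_lit 0]), (nat_lit 1215, [nat_lit 1]), (nat_lit 1220, [nat_lit 4, nat_lit 3, nat_lit 1, nat_lit 3, nat_lit 1]), (nat_lit 1221, [nat_lit 3, nat_lit 1, nat_lit 3, nat_lit 1, nat_lit 0]), (nat_lit 1223, [nat_lit 3, nat_lit 2, nat_lit 1,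 nat_lit 2, nat_lit 0]), (nat_lit 1232, [nat_lit 3, nat_lit 3, nat_lit 0, nat_lit 1, nat_lit 1, nat_lit 0]), (nat_lit 1234, [nat_lit 2, nat_lit 1, nat_lit 2, nat_lit 2]), (nat_lit 1236, [nat_lit 1, nat_lit 2, nat_lit 2, nat_lit 1, nat_lit 0]), (nat_lit 1240, [nat_lit 3, nat_lit 1, nat_lit 0, nat_lit 3, nat_lit 1, nat_lit 0]), (nat_lit 1241, [nat_lit 4, nat_lit 1, nat_lit 1, nat_lit 2]), (nat_lit 1242, [nat_lit 2]), (nat_lit 1244, [nat_lit 3, nat_lit 1, nat_lit 0, nat_lit 0]), (nat_lit 1246, [nat_lit 4, nat_lit 0]), (nat_lit 1247, [nat_lit 3, nat_lit 0, nat_lit 3]), (nat_lit 1248, [nat_lit 5, nat_lit 5, nat_lit 2, nat_lit 1]), (nat_lit 1249, [nat_lit 2, nat_lit 1, nat_lit 3, nat_lit 3, nat_lit 1]), (nat_lit 1250, [nat_lit 5, nat_lit 1, nat_lit 2]), (nat_lit 1251, [nat_lit 4, nat_lit 3, nat_lit 1, nat_lit 3, nat_lit 2]), (nat_lit 1254, [nat_lit 1, nat_lit 0, nat_lit 3, nat_lit 3]), (nat_lit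 1260, [nat_lit 2, nat_lit 1, nat_lit 3, nat_lit 3, nat_lit 2, nat_lit 0, nat_lit 0]), (nat_lit 1262, [nat_lit 4, nat_lit 4, nat_lit 3, nat_lit 1, nat_lit 1]), (nat_lit 1263, [nat_lit 3, nat_lit 1, nat_lit 2, nat_lit 0]), (nat_lit 1264, [nat_lit 4, nat_lit 2, nat_lit 2, nat_lit 1, nat_lit 1]), (nat_lit 1268, [nat_lit 5, nat_lit 1, nat_lit 1, nat_lit 2]), (nat_lit 1270, [nat_lit 1, nat_lit 0, nat_lit 1, nat_lit 3]), (nat_lit 1272, [nat_lit 4, nat_lit 1, nat_lit 0]), (nat_lit 1275, [nat_lit 4, nat_lit 1, nat_lit 3, nat_lit 0]), (nat_lit 1278, [nat_lit 3, nat_lit 0, nat_lit 3, nat_lit 1, nat_lit 2]), (nat_lit 1280, [nat_lit 2, nat_lit 0, nat_lit 0, nat_lit 1]), (nat_lit 1286, [nat_lit 3, nat_lit 1, nat_lit 3, nat_lit 0, nat_lit 0]), (nat_lit 1289, [nat_lit 0, nat_lit 3, nat_lit 3, nat_lit 2, nat_lit 2, nat_lit 0]), (nat_lit 1291, [nat_lit 2, nat_lit 2, nat_lit 0, nat_lit 3, nat_lit 0]), (nat_lit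 1293, [nat_lit 1, nat_lit 1, nat_lit 0, nat_lit 3]), (nat_lit 1296, [nat_lit 1, nat_lit 3, nat_lit 0, nat_lit 3]), (nat_lit 1299, [nat_lit 3, nat_lit 1, nat_lit 3, nat_lit 2, nat_lit 1, nat_lit 0]), (nat_lit 1301, [nat_lit 5, nat_lit 1, nat_lit 3, nat_lit 0, nat_lit 0]), (nat_lit 1305, [nat_lit 3, nat_lit 2, nat_lit 1, nat_lit 3, nat_lit 0]), (nat_lit 1309, [nat_lit 3, nat_lit 2, nat_lit 1, nat_lit 3, nat_lit 2, nat_lit 0]), (nat_lit 1312, [nat_lit 1, nat_lit 3, nat_lit 3, nat_lit 2, nat_lit 2, nat_lit 1]), (nat_lit 1313, [nat_lit 1, nat_lit 1, nat_lit 0, nat_lit 3, nat_lit 0]), (nat_lit 1314, [nat_lit 1, nat_lit 3, nat_lit 3, nat_lit 2]), (nat_lit 1317, [nat_lit 3, nat_lit 2, nat_lit 0, nat_lit 3, nat_lit 0]), (nat_lit 1318, [nat_lit 2, nat_lit 1, nat_lit 0, nat_lit 2, nat_lit 1, nat_lit 0]), (nat_lit 1321, [nat_lit 3, nat_lit 1, nat_lit 3, nat_lit 2, nat_lit 2, nat_lit 0]), (nat_lit 1325,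 [nat_lit 1, nat_lit 3, nat_lit 1, nat_lit 2, nat_lit 0]), (nat_lit 1328, [nat_lit 3, nat_lit 1, nat_lit 3, nat_lit 2, nat_lit 2]), (nat_lit 1331, [nat_lit 0, nat_lit 3, nat_lit 2, nat_lit 2, nat_lit 0, nat_lit 0]), (nat_lit 1332, [nat_lit 5, nat_lit 4, nat_lit 4, nat_lit 2, nat_lit 0]), (nat_lit 1340, [nat_lit 3, nat_lit 3, nat_lit 1, nat_lit 2, nat_lit 1, nat_lit 0]), (nat_lit 1342, [nat_lit 2, nat_lit 2, nat_lit 0, nat_lit 3, nat_lit 3, nat_lit 0, nat_lit 0]), (nat_lit 1344, [nat_lit 4, nat_lit 3, nat_lit 0, nat_lit 2, nat_lit 2]), (nat_lit 1349, [nat_lit 4, nat_lit 4, nat_lit 1, nat_lit 1, nat_lit 0, nat_lit 0]), (nat_lit 1351, [nat_lit 5, nat_lit 5, nat_lit 3, nat_lit 3, nat_lit 0, nat_lit 0]), (nat_lit 1352, [nat_lit 5, nat_lit 3, nat_lit 3, nat_lit 0, nat_lit 0]), (nat_lit 1354, [nat_lit 5, nat_lit 5, nat_lit 0]), (nat_lit 1355, [nat_lit 3, nat_lit 3, nat_lit 0, nat_lit 1, nat_lit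 0]), (nat_lit 1363, [nat_lit 5, nat_lit 0, nat_lit 3]), (nat_lit 1366, [nat_lit 1, nat_lit 3, nat_lit 3, nat_lit 2, nat_lit 2]), (nat_lit 1368, [nat_lit 3, nat_lit 3, nat_lit 0, nat_lit 0]), (nat_lit 1370, [nat_lit 2, nat_lit 0, nat_lit 1]), (nat_lit 1376, [nat_lit 2, nat_lit 1, nat_lit 3, nat_lit 2, nat_lit 0, nat_lit 0]), (nat_lit 1378, [nat_lit 1, nat_lit 1, nat_lit 0]), (nat_lit 1379, [nat_lit 3, nat_lit 2, nat_lit 2, nat_lit 0, nat_lit 1, nat_lit 0]), (nat_lit 1382, [nat_lit 3, nat_lit 3, nat_lit 1, nat_lit 2, nat_lit 1]), (nat_lit 1383, [nat_lit 4, nat_lit 4, nat_lit 0, nat_lit 2, nat_lit 0]), (nat_lit 1385, [nat_lit 3, nat_lit 1, nat_lit 1, nat_lit 2, nat_lit 0, nat_lit 0]), (nat_lit 1387, [nat_lit 3, nat_lit 1, nat_lit 3, nat_lit 2, nat_lit 0, nat_lit 0]), (nat_lit 1389, [nat_lit 5, nat_lit 4, nat_lit 1, nat_lit 3]), (nat_lit 1390, [nat_lit 2, nat_lit 2, nat_lit 1, nat_lit 3, nat_lit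 0]), (nat_lit 1393, [nat_lit 3, nat_lit 3, nat_lit 2, nat_lit 1, nat_lit 2, nat_lit 1]), (nat_lit 1398, [nat_lit 3, nat_lit 2, nat_lit 1, nat_lit 3, nat_lit 2, nat_lit 1]), (nat_lit 1402, [nat_lit 3, nat_lit 2, nat_lit 2, nat_lit 0, nat_lit 3, nat_lit 0]), (nat_lit 1403, [nat_lit 3, nat_lit 3, nat_lit 2, nat_lit 2, nat_lit 1, nat_lit 0, nat_lit 0]), (nat_lit 1404, [nat_lit 1, nat_lit 3, nat_lit 3, nat_lit 2, nat_lit 1, nat_lit 0, nat_lit 0]), (nat_lit 1408, [nat_lit 5, nat_lit 2, nat_lit 0]), (nat_lit 1409, [nat_lit 3, nat_lit 2, nat_lit 2, nat_lit 0, nat_lit 3, nat_lit 0, nat_lit 0]), (nat_lit 1411, [nat_lit 1, nat_lit 0, nat_lit 3, nat_lit 1]), (nat_lit 1412, [nat_lit 4, nat_lit 0, nat_lit 0, nat_lit 2]), (nat_lit 1413, [nat_lit 0, nat_lit 1]), (nat_lit 1415, [nat_lit 5, nat_lit 1, nat_lit 2, nat_lit 2, nat_lit 1]), (nat_lit 1416, [nat_lit 2, nat_lit 1, nat_lit 1, nat_lit 3, nat_lit 2,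 nat_lit 0]), (nat_lit 1418, [nat_lit 0, nat_lit 1, nat_lit 3]), (nat_lit 1419, [nat_lit 1, nat_lit 2, nat_lit 1, nat_lit 3, nat_lit 0, nat_lit 0]), (nat_lit 1421, [nat_lit 2, nat_lit 1, nat_lit 3, nat_lit 2]), (nat_lit 1422, [nat_lit 1, nat_lit 3, nat_lit 3, nat_lit 1, nat_lit 0]), (nat_lit 1424, [nat_lit 1, nat_lit 3, nat_lit 3, nat_lit 1]), (nat_lit 1426, [nat_lit 5, nat_lit 4, nat_lit 4]), (nat_lit 1433, [nat_lit 0, nat_lit 3, nat_lit 3, nat_lit 2, nat_lit 2]), (nat_lit 1434, [nat_lit 3, nat_lit 1, nat_lit 3, nat_lit 0, nat_lit 1, nat_lit 0]), (nat_lit 1435, [nat_lit 3, nat_lit 0, nat_lit 3, nat_lit 2, nat_lit 2, nat_lit 0, nat_lit 0]), (nat_lit 1437, [nat_lit 3, nat_lit 1, nat_lit 3]), (nat_lit 1438, [nat_lit 3, nat_lit 0, nat_lit 3, nat_lit 0]), (nat_lit 1440, [nat_lit 3, nat_lit 3, nat_lit 1, nat_lit 0, nat_lit 0]), (nat_lit 1445, [nat_lit 5, nat_lit 5, nat_lit 4, nat_lit 4, nat_lit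 0]), (nat_lit 1446, [nat_lit 1, nat_lit 1, nat_lit 3, nat_lit 2, nat_lit 0]), (nat_lit 1450, [nat_lit 2, nat_lit 1, nat_lit 0]), (nat_lit 1451, [nat_lit 1, nat_lit 0, nat_lit 2, nat_lit 1]), (nat_lit 1453, [nat_lit 2, nat_lit 2, nat_lit 0, nat_lit 0, nat_lit 1]), (nat_lit 1454, [nat_lit 1, nat_lit 2]), (nat_lit 1456, [nat_lit 1, nat_lit 3, nat_lit 2, nat_lit 0, nat_lit 0]), (nat_lit 1459, [nat_lit 5, nat_lit 5, nat_lit 3, nat_lit 3]), (nat_lit 1466, [nat_lit 3, nat_lit 2, nat_lit 0]), (nat_lit 1470, [nat_lit 2, nat_lit 0, nat_lit 3, nat_lit 3, nat_lit 2, nat_lit 0]), (nat_lit 1472, [nat_lit 2, nat_lit 1, nat_lit 2, nat_lit 1, nat_lit 0]), (nat_lit 1473, [nat_lit 5, nat_lit 3, nat_lit 2, nat_lit 0, nat_lit 3]), (nat_lit 1475, [nat_lit 2, nat_lit 2, nat_lit 1, nat_lit 0, nat_lit 0]), (nat_lit 1479, [nat_lit 3, nat_lit 3, nat_lit 0, nat_lit 2]), (nat_lit 1483, [nat_lit 3, nat_lit 3, nat_lit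 2, nat_lit 0, nat_lit 2, nat_lit 0]), (nat_lit 1484, [nat_lit 5, nat_lit 5, nat_lit 3, nat_lit 3, nat_lit 0]), (nat_lit 1485, [nat_lit 5, nat_lit 4]), (nat_lit 1486, [nat_lit 5, nat_lit 3, nat_lit 2]), (nat_lit 1490, [nat_lit 4, nat_lit 1, nat_lit 1]), (nat_lit 1491, [nat_lit 4, nat_lit 1, nat_lit 2, nat_lit 1]), (nat_lit 1493, [nat_lit 3, nat_lit 1, nat_lit 3, nat_lit 1, nat_lit 2, nat_lit 0]), (nat_lit 1494, [nat_lit 3, nat_lit 0, nat_lit 3, nat_lit 0, nat_lit 2, nat_lit 0]), (nat_lit 1495, [nat_lit 3, nat_lit 2, nat_lit 1, nat_lit 3, nat_lit 2, nat_lit 0, nat_lit 0]), (nat_lit 1498, [nat_lit 5, nat_lit 0, nat_lit 1]), (nat_lit 1500, [nat_lit 5, nat_lit 5, nat_lit 0, nat_lit 0]), (nat_lit 1501, [nat_lit 3, nat_lit 1, nat_lit 3, nat_lit 2, nat_lit 2, nat_lit 1, nat_lit 0, nat_lit 0]), (nat_lit 1502, [nat_lit 4, nat_lit 3, nat_lit 1]), (nat_lit 1504, [nat_lit 2, nat_lit 2, nat_lit 0, nat_lit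 1, nat_lit 1, nat_lit 0]), (nat_lit 1510, [nat_lit 5, nat_lit 1, nat_lit 1, nat_lit 0]), (nat_lit 1516, [nat_lit 0, nat_lit 0, nat_lit 3, nat_lit 2, nat_lit 2]), (nat_lit 1517, [nat_lit 4, nat_lit 1, nat_lit 3, nat_lit 3, nat_lit 1]), (nat_lit 1523, [nat_lit 0, nat_lit 1, nat_lit 1, nat_lit 0]), (nat_lit 1524, [nat_lit 1, nat_lit 2, nat_lit 2]), (nat_lit 1525, [nat_lit 4, nat_lit 4, nat_lit 1, nat_lit 3]), (nat_lit 1527, [nat_lit 5, nat_lit 4, nat_lit 1, nat_lit 0]), (nat_lit 1528, [nat_lit 3, nat_lit 1, nat_lit 3, nat_lit 1, nat_lit 2, nat_lit 0, nat_lit 0]), (nat_lit 1530, [nat_lit 0, nat_lit 2, nat_lit 0, nat_lit 3]), (nat_lit 1537, [nat_lit 3, nat_lit 2, nat_lit 1, nat_lit 3, nat_lit 2]), (nat_lit 1538, [nat_lit 3, nat_lit 3, nat_lit 1, nat_lit 2, nat_lit 2]), (nat_lit 1543, [nat_lit 0, nat_lit 3, nat_lit 2, nat_lit 2, nat_lit 0]), (nat_lit 1544, [nat_lit 3, nat_lit 3, nat_lit 0, nat_lit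 1]), (nat_lit 1547, [nat_lit 2, nat_lit 0, nat_lit 3, nat_lit 3, nat_lit 0]), (nat_lit 1548, [nat_lit 3, nat_lit 1, nat_lit 3, nat_lit 2, nat_lit 2, nat_lit 0, nat_lit 0]), (nat_lit 1551, [nat_lit 1, nat_lit 0, nat_lit 3, nat_lit 1, nat_lit 0]), (nat_lit 1553, [nat_lit 3, nat_lit 0, nat_lit 3, nat_lit 0, nat_lit 0]), (nat_lit 1556, [nat_lit 1, nat_lit 3, nat_lit 1, nat_lit 2]), (nat_lit 1559, [nat_lit 3, nat_lit 2, nat_lit 1, nat_lit 3, nat_lit 2, nat_lit 1, nat_lit 0, nat_lit 0]), (nat_lit 1561, [nat_lit 5, nat_lit 2, nat_lit 1, nat_lit 1]), (nat_lit 1562, [nat_lit 5, nat_lit 1, nat_lit 0]), (nat_lit 1563, [nat_lit 5, nat_lit 5, nat_lit 3, nat_lit 3, nat_lit 2, nat_lit 2]), (nat_lit 1564, [nat_lit 1, nat_lit 3, nat_lit 3, nat_lit 0, nat_lit 1]), (nat_lit 1570, [nat_lit 4, nat_lit 1, nat_lit 1, nat_lit 3]), (nat_lit 1572, [nat_lit 2, nat_lit 1, nat_lit 3, nat_lit 3, nat_lit 2]), (nat_lit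 1574, [nat_lit 3, nat_lit 0, nat_lit 2]), (nat_lit 1576, [nat_lit 1, nat_lit 1, nat_lit 3, nat_lit 2, nat_lit 0, nat_lit 0]), (nat_lit 1577, [nat_lit 0, nat_lit 0, nat_lit 1]), (nat_lit 1580, [nat_lit 2, nat_lit 2, nat_lit 1, nat_lit 3, nat_lit 3]), (nat_lit 1582, [nat_lit 5, nat_lit 0, nat_lit 1, nat_lit 2, nat_lit 0]), (nat_lit 1583, [nat_lit 3, nat_lit 3, nat_lit 2, nat_lit 2, nat_lit 1]), (nat_lit 1586, [nat_lit 3, nat_lit 3, nat_lit 1, nat_lit 0]), (nat_lit 1590, [nat_lit 4, nat_lit 1, nat_lit 1, nat_lit 0]), (nat_lit 1592, [nat_lit 3, nat_lit 3, nat_lit 1, nat_lit 1, nat_lit 0]), (nat_lit 1593, [nat_lit 2, nat_lit 1, nat_lit 3, nat_lit 3, nat_lit 2, nat_lit 1, nat_lit 0]), (nat_lit 1594, [nat_lit 1, nat_lit 3, nat_lit 3, nat_lit 2, nat_lit 0, nat_lit 0]), (nat_lit 1596, [nat_lit 3, nat_lit 0, nat_lit 2, nat_lit 0]), (nat_lit 1598, [nat_lit 3, nat_lit 2, nat_lit 2, nat_lit 1, nat_lit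 3, nat_lit 0, nat_lit 0]), (nat_lit 1599, [nat_lit 4, nat_lit 4, nat_lit 3, nat_lit 0, nat_lit 0]), (nat_lit 1604, [nat_lit 3, nat_lit 2, nat_lit 1, nat_lit 2]), (nat_lit 1606, [nat_lit 5, nat_lit 4, nat_lit 3, nat_lit 3, nat_lit 0, nat_lit 0]), (nat_lit 1607, [nat_lit 5, nat_lit 4, nat_lit 1]), (nat_lit 1608, [nat_lit 1, nat_lit 3, nat_lit 2, nat_lit 1]), (nat_lit 1609, [nat_lit 3, nat_lit 0, nat_lit 3, nat_lit 2, nat_lit 2]), (nat_lit 1611, [nat_lit 4, nat_lit 3, nat_lit 2]), (nat_lit 1612, [nat_lit 4, nat_lit 3, nat_lit 3, nat_lit 2, nat_lit 2]), (nat_lit 1615, [nat_lit 3, nat_lit 3, nat_lit 2, nat_lit 2, nat_lit 1, nat_lit 1, nat_lit 0, nat_lit 0]), (nat_lit 1623, [nat_lit 1, nat_lit 3, nat_lit 0, nat_lit 3, nat_lit 0]), (nat_lit 1628, [nat_lit 3, nat_lit 2, nat_lit 0, nat_lit 1, nat_lit 0]), (nat_lit 1629, [nat_lit 0, nat_lit 1, nat_lit 3, nat_lit 0]), (nat_lit 1630, [nat_lit 2, nat_lit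 2, nat_lit 0, nat_lit 0]), (nat_lit 1632, [nat_lit 3, nat_lit 2, nat_lit 2, nat_lit 1, nat_lit 3, nat_lit 0]), (nat_lit 1633, [nat_lit 3, nat_lit 2, nat_lit 2, nat_lit 0]), (nat_lit 1635, [nat_lit 0, nat_lit 2, nat_lit 1]), (nat_lit 1637, [nat_lit 3, nat_lit 0, nat_lit 2, nat_lit 2, nat_lit 0]), (nat_lit 1638, [nat_lit 5, nat_lit 2, nat_lit 0, nat_lit 1, nat_lit 0]), (nat_lit 1641, [nat_lit 2, nat_lit 2, nat_lit 0]), (nat_lit 1644, [nat_lit 4, nat_lit 4, nat_lit 1, nat_lit 3, nat_lit 3, nat_lit 1]), (nat_lit 1647, [nat_lit 3, nat_lit 3, nat_lit 1, nat_lit 2, nat_lit 2, nat_lit 1, nat_lit 0, nat_lit 0]), (nat_lit 1649, [nat_lit 1, nat_lit 3, nat_lit 1, nat_lit 0, nat_lit 0]), (nat_lit 1650, [nat_lit 3, nat_lit 2, nat_lit 0, nat_lit 2, nat_lit 0]), (nat_lit 1659, [nat_lit 0]), (nat_lit 1661, [nat_lit 4, nat_lit 1, nat_lit 2, nat_lit 2, nat_lit 0]), (nat_lit 1662, [nat_lit 3, nat_lit 1, nat_lit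 3, nat_lit 2, nat_lit 1]), (nat_lit 1665, [nat_lit 4, nat_lit 4, nat_lit 3, nat_lit 2, nat_lit 1]), (nat_lit 1671, [nat_lit 4, nat_lit 4, nat_lit 2, nat_lit 0, nat_lit 2, nat_lit 0]), (nat_lit 1676, [nat_lit 5, nat_lit 5, nat_lit 2, nat_lit 2]), (nat_lit 1677, [nat_lit 1, nat_lit 2, nat_lit 1]), (nat_lit 1682, [nat_lit 3, nat_lit 1, nat_lit 0, nat_lit 3, nat_lit 1]), (nat_lit 1687, [nat_lit 4, nat_lit 3, nat_lit 0, nat_lit 0]), (nat_lit 1688, [nat_lit 0, nat_lit 3, nat_lit 3, nat_lit 0]), (nat_lit 1690, [nat_lit 3, nat_lit 2, nat_lit 2, nat_lit 1]), (nat_lit 1693, [nat_lit 5, nat_lit 2, nat_lit 2, nat_lit 1]), (nat_lit 1694, [nat_lit 2, nat_lit 0, nat_lit 3, nat_lit 3]), (nat_lit 1695, [nat_lit 3, nat_lit 3]), (nat_lit 1705, [nat_lit 2, nat_lit 1, nat_lit 2, nat_lit 0]), (nat_lit 1709, [nat_lit 1, nat_lit 3, nat_lit 3, nat_lit 0, nat_lit 1, nat_lit 0]), (nat_lit 1712, [nat_lit 4, nat_lit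 4, nat_lit 3, nat_lit 1, nat_lit 3, nat_lit 1]), (nat_lit 1715, [nat_lit 5, nat_lit 1, nat_lit 2, nat_lit 1]), (nat_lit 1716, [nat_lit 4, nat_lit 3, nat_lit 1, nat_lit 2, nat_lit 2]), (nat_lit 1719, [nat_lit 5, nat_lit 4, nat_lit 3, nat_lit 2, nat_lit 2]), (nat_lit 1721, [nat_lit 5, nat_lit 4, nat_lit 3, nat_lit 2, nat_lit 0]), (nat_lit 1723, [nat_lit 1, nat_lit 2, nat_lit 2, nat_lit 0, nat_lit 1, nat_lit 0]), (nat_lit 1724, [nat_lit 3, nat_lit 1, nat_lit 2, nat_lit 2, nat_lit 1, nat_lit 0, nat_lit 0]), (nat_lit 1725, [nat_lit 3, nat_lit 1, nat_lit 3, nat_lit 2, nat_lit 0]), (nat_lit 1729, [nat_lit 5, nat_lit 0]), (nat_lit 1732, [nat_lit 3, nat_lit 2, nat_lit 0, nat_lit 1]), (nat_lit 1738, [nat_lit 0, nat_lit 0, nat_lit 2]), (nat_lit 1740, [nat_lit 1, nat_lit 3, nat_lit 0, nat_lit 1, nat_lit 0]), (nat_lit 1742, [nat_lit 3, nat_lit 1, nat_lit 1]), (nat_lit 1745, [nat_lit 4, nat_lit 3, nat_lit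 3, nat_lit 1, nat_lit 2]), (nat_lit 1753, [nat_lit 1, nat_lit 2, nat_lit 1, nat_lit 0, nat_lit 0]), (nat_lit 1754, [nat_lit 2, nat_lit 2, nat_lit 1, nat_lit 1, nat_lit 0]), (nat_lit 1755, [nat_lit 1, nat_lit 0, nat_lit 2, nat_lit 1, nat_lit 0]), (nat_lit 1757, [nat_lit 3, nat_lit 2, nat_lit 1, nat_lit 3, nat_lit 2, nat_lit 1, nat_lit 0]), (nat_lit 1758, [nat_lit 4, nat_lit 2, nat_lit 2, nat_lit 0, nat_lit 0]), (nat_lit 1759, [nat_lit 3, nat_lit 1, nat_lit 3, nat_lit 2, nat_lit 2, nat_lit 1, nat_lit 0]), (nat_lit 1763, [nat_lit 3, nat_lit 3, nat_lit 2, nat_lit 1, nat_lit 2, nat_lit 1, nat_lit 0]), (nat_lit 1766, [nat_lit 2, nat_lit 0, nat_lit 1, nat_lit 1, nat_lit 0]), (nat_lit 1768, [nat_lit 3, nat_lit 0, nat_lit 2, nat_lit 1, nat_lit 0]), (nat_lit 1774, [nat_lit 3, nat_lit 1, nat_lit 0, nat_lit 3]), (nat_lit 1776, [nat_lit 4, nat_lit 4, nat_lit 3, nat_lit 3, nat_lit 2]), (nat_lit 1777,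 [nat_lit 5, nat_lit 2, nat_lit 1, nat_lit 2, nat_lit 1]), (nat_lit 1779, [nat_lit 3, nat_lit 3, nat_lit 1, nat_lit 2, nat_lit 2, nat_lit 0, nat_lit 0]), (nat_lit 1780, [nat_lit 5, nat_lit 1, nat_lit 2, nat_lit 0])]),
  ([[nat_lit 2]], nat_lit 1, [(nat_lit 1, []), (nat_lit 229, [nat_lit 0]), (nat_lit 574, [nat_lit 0, nat_lit 0])])]

theorem rel0 : P.relRow (dT H9.OutSuz.T W) H9.OutSuz.B 0 = true := by decide +kernel
theorem rel1 : P.relRow (dT H9.OutSuz.T W) H9.OutSuz.B 1 = true := by decide +kernel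
theorem rel2 : P.relRow (dT H9.OutSuz.T W) H9.OutSuz.B 2 = true := by decide +kernel
theorem rel3 : P.relRow (dT H9.OutSuz.T W) H9.OutSuz.B 3 = true := by decide +kernel
theorem rel4 : P.relRow (dT H9.OutSuz.T W) H9.OutSuz.B 4 = true := by decide +kernel
theorem rel5 : P.relRow (dT H9.OutSuz.T W) H9.OutSuz.B 5 = true := by decide +kernel
theorem rel6 : P.relRow (dT H9.OutSuz.T W) H9.OutSuz.B 6 = true := by decide +kernel
theorem fus0 : P.fusOk (dT H9.OutSuz.T W) H9.OutSuz.B fu 0 = true := by decide +kernel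
theorem fus1 : P.fusOk (dT H9.OutSuz.T W) H9.OutSuz.B fu 1 = true := by decide +kernel
theorem fus2 : P.fusOk (dT H9.OutSuz.T W) H9.OutSuz.B fu 2 = true := by decide +kernel
theorem fus3 : P.fusOk (dT H9.OutSuz.T W) H9.OutSuz.B fu 3 = true := by decide +kernel
theorem fus4 : P.fusOk (dT H9.OutSuz.T W) H9.OutSuz.B fu 4 = true := by decide +kernel
theorem fus5 : P.fusOk (dT H9.OutSuz.T W) H9.OutSuz.B fu 5 = true := by decide +kernel
theorem fus6 : P.fusOk (dT H9.OutSuz.T W) H9.OutSuz.B fu 6 = true := by decide +kernel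
theorem fus7 : P.fusOk (dT H9.OutSuz.T W) H9.OutSuz.B fu 7 = true := by decide +kernel
theorem fus8 : P.fusOk (dT H9.OutSuz.T W) H9.OutSuz.B fu 8 = true := by decide +kernel
theorem fus9 : P.fusOk (dT H9.OutSuz.T W) H9.OutSuz.B fu 9 = true := by decide +kernel
theorem fus10 : P.fusOk (dT H9.OutSuz.T W) H9.OutSuz.B fu 10 = true := by decide +kernel
theorem fus11 : P.fusOk (dT H9.OutSuz.T W) H9.OutSuz.B fu 11 = true := by decide +kernel
theorem fus12 : P.fusOk (dT H9.OutSuz.T W) H9.OutSuz.B fu 12 = true := by decide +kernel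
theorem fus13 : P.fusOk (dT H9.OutSuz.T W) H9.OutSuz.B fu 13 = true := by decide +kernel
theorem fus14 : P.fusOk (dT H9.OutSuz.T W) H9.OutSuz.B fu 14 = true := by decide +kernel
theorem fus15 : P.fusOk (dT H9.OutSuz.T W) H9.OutSuz.B fu 15 = true := by decide +kernel
theorem fus16 : P.fusOk (dT H9.OutSuz.T W) H9.OutSuz.B fu 16 = true := by decide +kernel
theorem fus17 : P.fusOk (dT H9.OutSuz.T W) H9.OutSuz.B fu 17 = true := by decide +kernel
theorem fus18 : P.fusOk (dT H9.OutSuz.T W) H9.OutSuz.B fu 18 = true := by decide +kernel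
theorem fus19 : P.fusOk (dT H9.OutSuz.T W) H9.OutSuz.B fu 19 = true := by decide +kernel
theorem fus20 : P.fusOk (dT H9.OutSuz.T W) H9.OutSuz.B fu 20 = true := by decide +kernel
theorem fin0 : P.finRow lam (bs :: CV) MU 0 = true := by decide +kernel
theorem fin1 : P.finRow lam (bs :: CV) MU 1 = true := by decide +kernel
theorem fin2 : P.finRow lam (bs :: CV) MU 2 = true := by decide +kernel
theorem fin3 : P.finRow lam (bs :: CV) MU 3 = true := by decide +kernel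
theorem fin4 : P.finRow lam (bs :: CV) MU 4 = true := by decide +kernel
theorem fin5 : P.finRow lam (bs :: CV) MU 5 = true := by decide +kernel
theorem fin6 : P.finRow lam (bs :: CV) MU 6 = true := by decide +kernel

theorem pm {G : Type*} [Group G] [Finite G] {A : RAct G 1782} {g : ℕ → G} (hb : A.IsBase H9.OutSuz.B)
    (h : A.Tab g 47 H9.OutSuz.T) (ho : Nat.card G = 448345497600) : PMult G 3 1 1 :=
  pmult_of_tab hb h ho P (show Nat.Prime 3 by norm_num) W fu 1 lam bs mo [cc0, cc1] CV MU lv 21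
    (by decide +kernel) (forall_lt_succ' (forall_lt_succ' (forall_lt_succ' (forall_lt_succ' (forall_lt_succ' (forall_lt_succ' (forall_lt_succ' forall_lt_zero' rel0) rel1) rel2) rel3) rel4) rel5) rel6) (by decide +kernel)
    (forall_lt_succ' (forall_lt_succ' (forall_lt_succ' (forall_lt_succ' (forall_lt_succ' (forall_lt_succ' (forall_lt_succ' (forall_lt_succ' (forall_lt_succ' (forall_lt_succ' (forall_lt_succ' (forall_lt_succ' (forall_lt_succ' (forall_lt_succ' (forall_lt_succ' (forall_lt_succ' (forall_lt_succ' (forall_lt_succ' (forall_lt_succ' (forall_lt_succ' (forall_lt_succ' forall_lt_zero' fus0) fus1) fus2) fus3) fus4) fus5) fus6) fus7) fus8) fus9) fus10) fus11) fus12) fus13) fus14) fus15) fus16) fus17) fus18) fus19) fus20)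
    (by decide +kernel) (by decide +kernel) (by decide +kernel) (by decide +kernel)
    (List.forall_mem_cons.mpr ⟨con0, (List.forall_mem_cons.mpr ⟨con1, (by simp)⟩)⟩)
    (forall_lt_succ' (forall_lt_succ' (forall_lt_succ' (forall_lt_succ' (forall_lt_succ' (forall_lt_succ' (forall_lt_succ' forall_lt_zero' fin0) fin1) fin2) fin3) fin4) fin5) fin6) (by decide +kernel)

end Cfsg.Agent.L0.SuzP3
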